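import Cfsg.Prelude.Def_TwoFusion
import Cfsg.Prelude.Def_Involutions
import Cfsg.Agent.Lib.Cores
import Cfsg.Agent.S0660
import Cfsg.Agent.ThreePrime.AbelianBasic

/-!
# Simple groups with abelian Sylow 2-subgroups: `Ω₁(S)` is an irreducible `N(S)`-module

`ProductFusion` is the commutator part of the product fusion theorem
(`Cfsg.Agent.TwoFusion.ClosedCommutator.commutator_le`).
-/

set_option autoImplicit false

namespace Cfsg.Agent.Walter.Irreducible

open Subgroup Cfsg
open Cfsg.Agent.ThreePrime.AbelianBasic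

variable {G : Type*} [Group G]

/-- Complements in elementary abelian 2-groups. -/
theorem exists_compl_of_sq [Finite G] {V U : Subgroup G} (hV : ∀ x ∈ V, ∀ y ∈ V, x * y = y * x)
    (hV2 : ∀ x ∈ V, x * x = 1) (hUV : U ≤ V) :
    ∃ W : Subgroup G, W ≤ V ∧ U ⊓ W = ⊥ ∧ U ⊔ W = V := by
  obtain ⟨W, ⟨hWV, hUW⟩, hmax⟩ := (Set.toFinite {W : Subgroup G | W ≤ V ∧ U ⊓ W = ⊥}).exists_maximal
    ⟨⊥, bot_le, inf_bot_eq U⟩
  refine ⟨W, hWV, hUW, le_antisymm (sup_le hUV hWV) ?_⟩
  intro x hx
  by_contra hxn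
  -- the subgroup `W ∪ x W`
  let W' : Subgroup G :=
    { carrier := {y | y ∈ W ∨ x * y ∈ W}
      mul_mem' := by
        rintro a b ha hb
        have haV : a ∈ V := by
          rcases ha with ha | ha
          · exact hWV ha
          · exact (V.mul_mem_cancel_left hx).1 (hWV ha)
        rcases ha with ha | ha <;> rcases hb with hb | hb
        · exact Or.inl (W.mul_mem ha hb)
        · right
          have : x * (a * b) = a * (x * b) := by
            rw [← mul_assoc, hV x hx a haV, mul_assoc]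
          rw [this]
          exact W.mul_mem ha hb
        · right
          rw [← mul_assoc]
          exact W.mul_mem ha hb
        · left
          have : a * b = (x * a) * (x * b) := by
            calc a * b = (x * x) * (a * b) := by rw [hV2 x hx, one_mul]
              _ = x * (x * a) * b := by group
              _ = x * (a * x) * b := by rw [hV x hx a haV]
              _ = (x * a) * (x * b) := by group
          rw [this]
          exact W.mul_mem ha hb
      one_mem' := Or.inl W.one_mem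
      inv_mem' := by
        rintro a ha
        have haV : a ∈ V := by
          rcases ha with ha | ha
          · exact hWV ha
          · exact (V.mul_mem_cancel_left hx).1 (hWV ha)
        have : a⁻¹ = a := inv_eq_of_mul_eq_one_left (hV2 a haV)
        rw [this]
        exact ha }
  have hW'V : W' ≤ V := by
    rintro y (hy | hy)
    · exact hWV hy
    · exact (V.mul_mem_cancel_left hx).1 (hWV hy)
  have hWW' : W ≤ W' := fun y hy => Or.inl hy
  have hxW' : x ∈ W' := Or.inr (by rw [hV2 x hx]; exact W.one_mem)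
  have hxW : x ∉ W := fun h => hxn (mem_sup_right h)
  have hne : U ⊓ W' ≠ ⊥ := by
    intro h
    exact hxW (hmax (⟨hW'V, h⟩ : W' ∈ {W : Subgroup G | W ≤ V ∧ U ⊓ W = ⊥}) hWW' hxW')
  obtain ⟨u, hu1⟩ := Subgroup.ne_bot_iff_exists_ne_one.1 hne
  obtain ⟨huU, huW'⟩ : (u : G) ∈ U ∧ ((u : G) ∈ W ∨ x * u ∈ W) := u.2
  have hu1' : (u : G) ≠ 1 := fun h => hu1 (Subtype.ext h)
  rcases huW' with h | h
  · apply hu1'
    have : (u : G) ∈ U ⊓ W := ⟨huU, h⟩
    rwa [hUW, mem_bot] at this
  · apply hxn
    have : x = (x * u) * (u : G)⁻¹ := by group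
    rw [this]
    exact mul_mem (mem_sup_right h) (mem_sup_left (inv_mem huU))

theorem le_normalizer_of_comm {S U : Subgroup G} (hS : ∀ x ∈ S, ∀ y ∈ S, x * y = y * x)
    (hU : U ≤ S) : S ≤ normalizer (U : Set G) := by
  intro s hs
  rw [mem_normalizer_iff]
  intro x
  have key : ∀ y ∈ S, s * y * s⁻¹ = y := by
    intro y hy
    rw [hS s hs y hy]; group
  constructor
  · intro hx
    rw [key x (hU hx)]; exact hx
  · intro hx
    have h1 : s * x * s⁻¹ ∈ S := hU hx
    have h2 : x ∈ S := by
      have := S.mul_mem (S.mul_mem (S.inv_mem hs) h1) hs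
      have h3 : s⁻¹ * (s * x * s⁻¹) * s = x := by group
      rwa [h3] at this
    rwa [key x h2] at hx

/-- Invariant complements. -/
theorem exists_invariant_compl [Finite G] (S : Sylow 2 G)
    (hS : ∀ x ∈ (S : Subgroup G), ∀ y ∈ (S : Subgroup G), x * y = y * x) {U V : Subgroup G}
    (hVS : V ≤ (S : Subgroup G)) (hV2 : ∀ x ∈ V, x * x = 1) (hUV : U ≤ V)
    (hNV : normalizer ((S : Subgroup G) : Set G) ≤ normalizer (V : Set G))
    (hNU : normalizer ((S : Subgroup G) : Set G) ≤ normalizer (U : Set G)) :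
    ∃ W : Subgroup G, W ≤ V ∧ normalizer ((S : Subgroup G) : Set G) ≤ normalizer (W : Set G) ∧
      U ⊓ W = ⊥ ∧ U ⊔ W = V := by
  have h2 : Fact (Nat.Prime 2) := ⟨Nat.prime_two⟩
  have hVc : ∀ x ∈ V, ∀ y ∈ V, x * y = y * x := fun x hx y hy => hS x (hVS hx) y (hVS hy)
  obtain ⟨W, hWV, hUW, hsup⟩ := exists_compl_of_sq hVc hV2 hUV
  set N := normalizer ((S : Subgroup G) : Set G) with hN
  -- a complement of `S` in `N(S)`
  have hnorm : ((S : Subgroup G).subgroupOf N).Normal := by
    rw [normal_subgroupOf_iff_le_normalizer le_normalizer]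
  have hcop : (Nat.card ((S : Subgroup G).subgroupOf N)).Coprime
      ((S : Subgroup G).subgroupOf N).index := by
    rw [Nat.card_congr (subgroupOfEquivOfLe le_normalizer).toEquiv]
    obtain ⟨n, hn⟩ := IsPGroup.iff_card.1 S.isPGroup'
    have h3 : ¬ 2 ∣ ((S : Subgroup G).subgroupOf N).index := by
      intro h
      exact S.not_dvd_index (h.trans (relIndex_dvd_index_of_le (le_normalizer)))
    have h4 : (Nat.card (S : Subgroup G)) = 2 ^ n := hn
    rw [h4]
    exact Nat.Coprime.pow_left n ((Nat.Prime.coprime_iff_not_dvd Nat.prime_two).2 h3)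
  obtain ⟨A, hA⟩ := exists_right_complement'_of_coprime hcop
  set A' : Subgroup G := A.map N.subtype with hA'
  have hA'N : A' ≤ N := map_subtype_le A
  have hcardA : (Nat.card A').Coprime 2 := by
    rw [hA', card_map_of_injective N.subtype_injective, ← hA.symm.index_eq_card]
    rw [Nat.coprime_comm, Nat.Prime.coprime_iff_not_dvd Nat.prime_two]
    intro h
    exact S.not_dvd_index (h.trans (relIndex_dvd_index_of_le (le_normalizer)))
  have hNle : N ≤ (S : Subgroup G) ⊔ A' := by
    intro n hn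
    have h5 : (⟨n, hn⟩ : N) ∈ (S : Subgroup G).subgroupOf N ⊔ A := by
      rw [hA.sup_eq_top]; trivial
    rw [mem_sup_of_normal_left] at h5
    obtain ⟨s, hs, a, ha, hsa⟩ := h5
    have h6 : n = s * a := by
      have := congrArg Subtype.val hsa
      exact this.symm
    rw [h6]
    exact mul_mem (mem_sup_left hs) (mem_sup_right ⟨a, ha, rfl⟩)
  have hcop2 : (Nat.card A').Coprime (Nat.card V) := by
    obtain ⟨n, hn⟩ := IsPGroup.iff_card.1 (S.isPGroup'.to_le hVS)
    rw [hn]
    exact hcardA.pow_right n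
  obtain ⟨W', hW'V, hAW', h7, h8⟩ := S0660.result V A' U
    ⟨⟨fun a b => Subtype.ext (hVc a a.2 b b.2)⟩⟩ (hA'N.trans hNV) hcop2 hUV (hA'N.trans hNU) W hWV hUW
    hsup
  refine ⟨W', hW'V, ?_, h7, h8⟩
  refine hNle.trans (sup_le ?_ hAW')
  exact le_normalizer_of_comm hS (hW'V.trans hVS)

theorem isStronglyClosed_of_normalizer [Finite G] (S : Sylow 2 G)
    (hS : ∀ x ∈ (S : Subgroup G), ∀ y ∈ (S : Subgroup G), x * y = y * x) {A : Subgroup G}
    (hA : A ≤ (S : Subgroup G))
    (hN : normalizer ((S : Subgroup G) : Set G) ≤ normalizer (A : Set G)) :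
    IsStronglyClosed A (S : Subgroup G) := by
  have h2 : Fact (Nat.Prime 2) := ⟨Nat.prime_two⟩
  have hcomm : IsMulCommutative (S : Subgroup G) :=
    ⟨⟨fun a b => Subtype.ext (hS a a.2 b b.2)⟩⟩
  refine ⟨hA, ?_⟩
  intro x hx g hg
  obtain ⟨n, hn, hns⟩ := S.conj_eq_normalizer_conj_of_mem x g⁻¹ (hA hx) (by
    rw [inv_inv]; exact hg)
  rw [inv_inv] at hns
  rw [hns]
  have h3 := hN (inv_mem hn)
  have h4 := (mem_normalizer_iff.1 h3 x).1 hx
  simpa using h4

/-- The commutator part of the product fusion theorem for the Sylow subgroup `S`. -/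
def ProductFusion (S : Sylow 2 G) : Prop :=
  ∀ A B : Subgroup G, A ⊓ B = ⊥ → IsStronglyClosed A (S : Subgroup G) →
    IsStronglyClosed B (S : Subgroup G) →
    ⁅normalClosure (A : Set G), normalClosure (B : Set G)⁆ ≤ oddCore G

variable [Finite G] [IsSimpleGroup G] (hna : ∃ a b : G, a * b ≠ b * a) (S : Sylow 2 G)
  (hS : ∀ x ∈ (S : Subgroup G), ∀ y ∈ (S : Subgroup G), x * y = y * x)

include hna

omit [Finite G] in
theorem commutator_eq_top : ⁅(⊤ : Subgroup G), (⊤ : Subgroup G)⁆ = ⊤ := by
  rcases (commutator_normal (⊤ : Subgroup G) ⊤).eq_bot_or_eq_top with h | h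
  · exfalso
    obtain ⟨a, b, hab⟩ := hna
    rw [commutator_eq_bot_iff_le_centralizer] at h
    exact hab (mem_centralizer_iff.1 (h (mem_top b)) a (mem_top a))
  · exact h

omit hna in
theorem oddCore_eq_bot (heven : Even (Nat.card G)) : oddCore G = ⊥ := by
  rcases (Lib.Cores.pPrimeCore_normal (G := G) 2).eq_bot_or_eq_top with h | h
  · exact h
  · exfalso
    have h1 := (Lib.Cores.pPrimeCore_eq_top_iff (G := G) 2).1 h
    rw [Nat.coprime_comm, Nat.Prime.coprime_iff_not_dvd Nat.prime_two] at h1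
    exact h1 (even_iff_two_dvd.1 heven)

include hS

/-- Two `N(S)`-invariant subgroups of `S` with trivial intersection: one of them is trivial. -/
theorem eq_bot_or_eq_bot (hPF : ProductFusion S) {A B : Subgroup G} (hA : A ≤ (S : Subgroup G))
    (hB : B ≤ (S : Subgroup G))
    (hNA : normalizer ((S : Subgroup G) : Set G) ≤ normalizer (A : Set G))
    (hNB : normalizer ((S : Subgroup G) : Set G) ≤ normalizer (B : Set G)) (hAB : A ⊓ B = ⊥) :
    A = ⊥ ∨ B = ⊥ := by
  by_contra hcon
  push Not at hcon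
  obtain ⟨hA1, hB1⟩ := hcon
  have h1 := hPF A B hAB (isStronglyClosed_of_normalizer S hS hA hNA)
    (isStronglyClosed_of_normalizer S hS hB hNB)
  have htop : ∀ C : Subgroup G, C ≠ ⊥ → normalClosure (C : Set G) = ⊤ := by
    intro C hC
    rcases (normalClosure_normal (s := (C : Set G))).eq_bot_or_eq_top with h | h
    · exact absurd (le_bot_iff.1 (h ▸ subset_normalClosure)) hC
    · exact h
  rw [htop A hA1, htop B hB1, commutator_eq_top hna] at h1
  have heven : Even (Nat.card G) := by
    obtain ⟨n, hn⟩ := IsPGroup.iff_card.1 (S.isPGroup'.to_le hA)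
    have hn0 : n ≠ 0 := by
      rintro rfl
      rw [pow_zero] at hn
      exact hA1 (card_eq_one.1 hn)
    rw [even_iff_two_dvd]
    exact ((dvd_pow_self 2 hn0).trans hn.symm.dvd).trans (card_subgroup_dvd_card A)
  rw [oddCore_eq_bot heven, top_le_iff] at h1
  have : (1 : ℕ) < Nat.card G := Finite.one_lt_card
  rw [← Nat.card_congr (topEquiv (G := G)).toEquiv, ← h1, card_bot] at this
  omega

/-- `Ω₁(S)` is irreducible. -/
theorem eq_bot_or_eq (hPF : ProductFusion S) {U : Subgroup G} (hU : U ≤ om (S : Subgroup G) hS)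
    (hNU : normalizer ((S : Subgroup G) : Set G) ≤ normalizer (U : Set G)) :
    U = ⊥ ∨ U = om (S : Subgroup G) hS := by
  have homS : om (S : Subgroup G) hS ≤ (S : Subgroup G) := fun x hx => hx.1
  have hNom : normalizer ((S : Subgroup G) : Set G) ≤ normalizer (om (S : Subgroup G) hS : Set G) := by
    intro n hn
    rw [mem_normalizer_iff] at hn ⊢
    intro x
    change (x ∈ (S : Subgroup G) ∧ x * x = 1) ↔ (n * x * n⁻¹ ∈ (S : Subgroup G) ∧ _)
    have h3 := hn x
    have h4 : n * x * n⁻¹ * (n * x * n⁻¹) = 1 ↔ x * x = 1 := by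
      have : n * x * n⁻¹ * (n * x * n⁻¹) = n * (x * x) * n⁻¹ := by group
      rw [this, conj_eq_one_iff]
    rw [h4]
    exact and_congr_left' h3
  obtain ⟨W, hWV, hNW, h1, h2⟩ := exists_invariant_compl S hS homS (fun x hx => hx.2) hU hNom hNU
  rcases eq_bot_or_eq_bot hna S hS hPF (hU.trans homS) (hWV.trans homS) hNU hNW h1 with h | h
  · exact Or.inl h
  · right
    rw [h, sup_bot_eq] at h2
    exact h2

/-- Either `S` is elementary or all its involutions are squares in `S`. -/
theorem elementary_or_squares (hPF : ProductFusion S) :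
    (∀ x ∈ (S : Subgroup G), x * x = 1) ∨
      ∀ t ∈ (S : Subgroup G), t * t = 1 → ∃ u ∈ (S : Subgroup G), u * u = t := by
  classical
  -- the involutions which are squares
  let Q : Subgroup G :=
    { carrier := {t | t * t = 1 ∧ ∃ u ∈ (S : Subgroup G), u * u = t}
      mul_mem' := by
        rintro a b ⟨ha, u, hu, rfl⟩ ⟨hb, v, hv, rfl⟩
        have h1 : u * u * (v * v) = (u * v) * (u * v) := by
          calc u * u * (v * v) = u * (u * v) * v := by group
            _ = u * (v * u) * v := by rw [hS u hu v hv]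
            _ = _ := by group
        refine ⟨?_, u * v, mul_mem hu hv, h1.symm⟩
        have h2 := hS (u * u) (mul_mem hu hu) (v * v) (mul_mem hv hv)
        calc u * u * (v * v) * (u * u * (v * v)) = u * u * ((v * v) * (u * u)) * (v * v) := by group
          _ = u * u * ((u * u) * (v * v)) * (v * v) := by rw [h2]
          _ = (u * u * (u * u)) * (v * v * (v * v)) := by group
          _ = 1 := by rw [ha, hb, one_mul]
      one_mem' := ⟨by simp, 1, one_mem _, by simp⟩
      inv_mem' := by
        rintro a ⟨ha, u, hu, rfl⟩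
        refine ⟨?_, u⁻¹, inv_mem hu, by group⟩
        rw [← mul_inv_rev, ha, inv_one] }
  have hQom : Q ≤ om (S : Subgroup G) hS := by
    rintro t ⟨ht, u, hu, rfl⟩
    exact ⟨mul_mem hu hu, ht⟩
  have hNQ : normalizer ((S : Subgroup G) : Set G) ≤ normalizer (Q : Set G) := by
    have key : ∀ n ∈ normalizer ((S : Subgroup G) : Set G), ∀ t ∈ Q, n * t * n⁻¹ ∈ Q := by
      rintro n hn t ⟨ht, u, hu, rfl⟩
      refine ⟨?_, n * u * n⁻¹, (mem_normalizer_iff.1 hn u).1 hu, by group⟩
      calc n * (u * u) * n⁻¹ * (n * (u * u) * n⁻¹) = n * (u * u * (u * u)) * n⁻¹ := by group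
        _ = 1 := by rw [ht]; group
    intro n hn
    rw [mem_normalizer_iff]
    intro t
    refine ⟨key n hn t, fun h => ?_⟩
    have := key n⁻¹ (inv_mem hn) _ h
    have h3 : n⁻¹ * (n * t * n⁻¹) * n⁻¹⁻¹ = t := by group
    rwa [h3] at this
  rcases eq_bot_or_eq hna S hS hPF hQom hNQ with h | h
  · left
    intro x hx
    by_contra hx2
    -- the order of `x` is `2 ^ k`, `k ≥ 2`
    obtain ⟨k, hk⟩ := (IsPGroup.iff_orderOf.1 S.isPGroup') ⟨x, hx⟩
    rw [Subgroup.orderOf_mk] at hk
    have hk2 : 2 ≤ k := by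
      by_contra hlt
      have hk1 : k = 0 ∨ k = 1 := by omega
      apply hx2
      have h4 : orderOf x ∣ 2 := by
        rcases hk1 with rfl | rfl <;> rw [hk] <;> norm_num
      rw [← pow_two]
      exact orderOf_dvd_iff_pow_eq_one.1 h4
    have hmem : x ^ 2 ^ (k - 1) ∈ Q := by
      refine ⟨?_, x ^ 2 ^ (k - 2), pow_mem hx _, ?_⟩
      · rw [← pow_add, ← two_mul, ← pow_succ', show k - 1 + 1 = k by omega, ← hk]
        exact pow_orderOf_eq_one x
      · rw [← pow_add, ← two_mul, ← pow_succ', show k - 2 + 1 = k - 1 by omega]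
    rw [h, mem_bot] at hmem
    have h5 := orderOf_dvd_of_pow_eq_one hmem
    rw [hk] at h5
    have h6 := (Nat.pow_dvd_pow_iff_le_right (by norm_num : 1 < 2)).1 h5
    omega
  · right
    intro t ht ht2
    have h3 : t ∈ Q := by rw [h]; exact ⟨ht, ht2⟩
    exact h3.2

end Cfsg.Agent.Walter.Irreducible
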