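import Mathlib
import Cfsg.Prelude.Def_Local
import Cfsg.Agent.Lib.CoprimeAbelian
import Cfsg.Agent.Lib.Cores
import Cfsg.Agent.S0215

/-!
# Abelian Sylow 2-subgroups: 2-elements act as inner automorphisms on simple normal subgroups

`Y` is a finite group with abelian Sylow 2-subgroup `S`.
-/

set_option autoImplicit false

namespace Cfsg.Agent.Walter.AbInner

open Subgroup Cfsg
open scoped commutatorElement

/-- every element of an abelian Sylow 2-subgroup is the product of an element fixed by the normalizer and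
an element of the commutator subgroup. -/
theorem exists_fixed_mul {Y : Type*} [Group Y] [Finite Y] (S : Sylow 2 Y)
    (hS : ∀ a ∈ (S : Subgroup Y), ∀ b ∈ (S : Subgroup Y), a * b = b * a) {s : Y}
    (hs : s ∈ (S : Subgroup Y)) :
    ∃ u ∈ (S : Subgroup Y), (∀ n ∈ normalizer ((S : Subgroup Y) : Set Y), n * u * n⁻¹ = u) ∧
      ∃ w ∈ (S : Subgroup Y), w ∈ commutator Y ∧ s = u * w := by
  letI : CommGroup (S : Subgroup Y) := { (inferInstance : Group (S : Subgroup Y)) with
    mul_comm := fun x y => Subtype.ext (hS x x.2 y y.2) }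
  let ν := Subgroup.normalizerMonoidHom (S : Subgroup Y)
  have hcop : (Nat.card ν.range).Coprime (Nat.card (S : Subgroup Y)) := by
    have h1 : Nat.card ν.range = ν.ker.index := by
      rw [← Subgroup.index_ker]
    have h2 : (S : Subgroup Y).subgroupOf (normalizer ((S : Subgroup Y) : Set Y)) ≤ ν.ker := by
      intro x hx
      rw [MonoidHom.mem_ker]
      ext y
      change (x : Y) * y * (x : Y)⁻¹ = y
      rw [hS x (mem_subgroupOf.1 hx) y y.2, mul_inv_cancel_right]
    have h3 : ν.ker.index ∣ (S : Subgroup Y).index := by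
      refine (Subgroup.index_dvd_of_le h2).trans ?_
      exact Subgroup.relIndex_dvd_index_of_le Subgroup.le_normalizer
    have h4 : ¬ 2 ∣ Nat.card ν.range := by
      rw [h1]
      intro h
      exact S.not_dvd_index (h.trans h3)
    obtain ⟨k, hk⟩ := S.isPGroup'.exists_card_eq
    rw [hk]
    exact Nat.Coprime.pow_right k ((Nat.Prime.coprime_iff_not_dvd Nat.prime_two).2 h4).symm
  obtain ⟨c, w, hc, hw, hcw⟩ := Lib.CoprimeAbelian.exists_fixed_mul (V := (S : Subgroup Y))
    ν.range.subtype hcop ⟨s, hs⟩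
  refine ⟨c, c.2, ?_, w, w.2, ?_, ?_⟩
  · intro n hn
    exact congrArg Subtype.val (hc ⟨ν ⟨n, hn⟩, ⟨⟨n, hn⟩, rfl⟩⟩)
  · have h1 : Subgroup.closure {w : (S : Subgroup Y) | ∃ a u, w = ν.range.subtype a u * u⁻¹} ≤
        (commutator Y).comap (S : Subgroup Y).subtype := by
      rw [closure_le]
      rintro _ ⟨⟨_, ⟨n, rfl⟩⟩, u, rfl⟩
      change ((n : Y) * u * (n : Y)⁻¹) * (u : Y)⁻¹ ∈ commutator Y
      have : ((n : Y) * u * (n : Y)⁻¹) * (u : Y)⁻¹ = ⁅(n : Y), (u : Y)⁆ := by
        rw [commutatorElement_def]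
      rw [this]
      exact commutator_mem_commutator (mem_top _) (mem_top _)
    exact h1 hw
  · exact (congrArg Subtype.val hcw).symm

/-- an involution of an abelian Sylow 2-subgroup fixed by the normalizer is isolated. -/
theorem isolated {Y : Type*} [Group Y] [Finite Y] (S : Sylow 2 Y)
    (hS : ∀ a ∈ (S : Subgroup Y), ∀ b ∈ (S : Subgroup Y), a * b = b * a) {u : Y}
    (hu : u ∈ (S : Subgroup Y))
    (hfix : ∀ n ∈ normalizer ((S : Subgroup Y) : Set Y), n * u * n⁻¹ = u) (g : Y)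
    (hg : g * u * g⁻¹ ∈ (S : Subgroup Y)) : g * u * g⁻¹ = u := by
  haveI : IsMulCommutative (S : Subgroup Y) :=
    ⟨⟨fun x y => Subtype.ext (hS x x.2 y y.2)⟩⟩
  obtain ⟨n, hn, h⟩ := S.conj_eq_normalizer_conj_of_mem u g⁻¹ hu (by rwa [inv_inv])
  rw [inv_inv] at h
  rw [h]
  have := hfix n⁻¹ (inv_mem hn)
  rwa [inv_inv] at this

/-- the involutions of an abelian Sylow 2-subgroup `S` fixed by `N(S)` are central modulo the core. -/
theorem commutator_mem_core {Y : Type*} [Group Y] [Finite Y] (S : Sylow 2 Y)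
    (hS : ∀ a ∈ (S : Subgroup Y), ∀ b ∈ (S : Subgroup Y), a * b = b * a) {u : Y}
    (hu : u ∈ (S : Subgroup Y)) (hu2 : orderOf u = 2)
    (hfix : ∀ n ∈ normalizer ((S : Subgroup Y) : Set Y), n * u * n⁻¹ = u) (g : Y) :
    ⁅u, g⁆ ∈ pPrimeCore 2 Y := by
  obtain ⟨N, hN, hodd, hcomm⟩ := S0215.result S u hu2 hu (isolated S hS hu hfix)
  have h1 : N ≤ pPrimeCore 2 Y :=
    Lib.Cores.le_pPrimeCore hN (Nat.coprime_two_right.2 hodd)
  exact h1 (hcomm g)

/-- Main lemma: `K` simple normal with trivial centralizer, `Y = K S`: then `S ≤ K`. -/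
theorem le_of_centralizer_eq_bot {Y : Type*} [Group Y] [Finite Y] (K : Subgroup Y) [hKn : K.Normal]
    (hK : IsSimpleGroup K) (hC : centralizer (K : Set Y) = ⊥) (S : Sylow 2 Y)
    (hS : ∀ a ∈ (S : Subgroup Y), ∀ b ∈ (S : Subgroup Y), a * b = b * a)
    (hKS : K ⊔ (S : Subgroup Y) = ⊤) (h2 : 2 ∣ Nat.card K) : (S : Subgroup Y) ≤ K := by
  have hKc : commutator Y ≤ K := by
    refine Subgroup.Normal.commutator_le_of_self_sup_commutative_eq_top hKS ?_
    exact ⟨⟨fun x y => Subtype.ext (hS x x.2 y y.2)⟩⟩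
  have hO : pPrimeCore 2 Y = ⊥ := by
    have hn := Lib.Cores.pPrimeCore_normal (G := Y) 2
    have hcard := Lib.Cores.pPrimeCore_coprime (G := Y) 2
    have h3 : pPrimeCore 2 Y ⊓ K = ⊥ := by
      have h4 : ((pPrimeCore 2 Y).subgroupOf K).Normal := inferInstance
      rcases h4.eq_bot_or_eq_top with h | h
      · rwa [subgroupOf_eq_bot, disjoint_iff] at h
      · rw [subgroupOf_eq_top] at h
        exfalso
        have h5 := Subgroup.card_dvd_of_le h
        exact (Nat.Prime.coprime_iff_not_dvd Nat.prime_two).1 hcard.symm (h2.trans h5)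
    rw [← le_bot_iff, ← hC]
    rw [← Subgroup.commutator_eq_bot_iff_le_centralizer, ← le_bot_iff, ← h3]
    exact Subgroup.commutator_le_inf _ _
  intro s hs
  obtain ⟨u, hu, hfix, w, hw, hwc, rfl⟩ := exists_fixed_mul S hS hs
  refine K.mul_mem ?_ (hKc hwc)
  by_cases hu1 : u = 1
  · rw [hu1]; exact K.one_mem
  exfalso
  -- an involution among the powers of `u`
  obtain ⟨k, hk⟩ := S.isPGroup' ⟨u, hu⟩
  have hk' : u ^ 2 ^ k = 1 := congrArg Subtype.val hk
  have hord : orderOf u ∣ 2 ^ k := orderOf_dvd_of_pow_eq_one hk'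
  obtain ⟨j, -, hj⟩ := (Nat.dvd_prime_pow Nat.prime_two).1 hord
  have hj1 : j ≠ 0 := by
    rintro rfl
    rw [pow_zero, orderOf_eq_one_iff] at hj
    exact hu1 hj
  obtain ⟨i, rfl⟩ := Nat.exists_eq_succ_of_ne_zero hj1
  have hv2 : orderOf (u ^ 2 ^ i) = 2 := by
    rw [orderOf_pow' u (pow_ne_zero i two_ne_zero), hj, pow_succ, Nat.gcd_eq_right (Dvd.intro _ rfl),
      Nat.mul_div_cancel_left _ (by positivity)]
  have hvfix : ∀ n ∈ normalizer ((S : Subgroup Y) : Set Y), n * u ^ 2 ^ i * n⁻¹ = u ^ 2 ^ i := by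
    intro n hn
    rw [← conj_pow, hfix n hn]
  have h3 : u ^ 2 ^ i ∈ centralizer (K : Set Y) := by
    rw [mem_centralizer_iff]
    intro y _
    have h4 := commutator_mem_core S hS ((S : Subgroup Y).pow_mem hu _) hv2 hvfix y
    rw [hO, mem_bot, commutatorElement_eq_one_iff_mul_comm] at h4
    exact h4.symm
  rw [hC, mem_bot] at h3
  rw [h3, orderOf_one] at hv2
  omega

/-- `Y = K S`, `K` simple normal with `K ∩ C(K) = 1`: then `S ≤ K C(K)`. -/
theorem le_sup_centralizer {Y : Type*} [Group Y] [Finite Y] (K : Subgroup Y) [hKn : K.Normal]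
    (hK : IsSimpleGroup K) (hKC : K ⊓ centralizer (K : Set Y) = ⊥) (S : Sylow 2 Y)
    (hS : ∀ a ∈ (S : Subgroup Y), ∀ b ∈ (S : Subgroup Y), a * b = b * a)
    (hKS : K ⊔ (S : Subgroup Y) = ⊤) (h2 : 2 ∣ Nat.card K) :
    (S : Subgroup Y) ≤ K ⊔ centralizer (K : Set Y) := by
  have hCn : (centralizer (K : Set Y)).Normal := inferInstance
  set C : Subgroup Y := centralizer (K : Set Y) with hCdef
  let π : Y →* Y ⧸ C := QuotientGroup.mk' C
  have hπ : Function.Surjective π := QuotientGroup.mk'_surjective C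
  have hinj : Function.Injective (π.comp K.subtype) := by
    rw [injective_iff_map_eq_one]
    intro x hx
    have h1 : (x : Y) ∈ C := (QuotientGroup.eq_one_iff (x : Y)).1 hx
    have h3 : (x : Y) ∈ K ⊓ C := ⟨x.2, h1⟩
    rw [hKC, mem_bot] at h3
    exact Subtype.ext h3
  have hrange : (π.comp K.subtype).range = K.map π := by
    rw [MonoidHom.range_comp, range_subtype]
  let e : K ≃* K.map π := (MonoidHom.ofInjective hinj).trans (MulEquiv.subgroupCongr hrange)
  have hn : (K.map π).Normal := hKn.map π hπ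
  have hsimple : IsSimpleGroup (K.map π) := (MulEquiv.isSimpleGroup_congr e).1 hK
  have hcard : Nat.card (K.map π) = Nat.card K := (Nat.card_congr e.toEquiv).symm
  have hcen : centralizer ((K.map π : Subgroup (Y ⧸ C)) : Set (Y ⧸ C)) = ⊥ := by
    rw [eq_bot_iff]
    intro y hy
    obtain ⟨y, rfl⟩ := hπ y
    rw [mem_bot]
    refine (QuotientGroup.eq_one_iff y).2 ?_
    rw [hCdef, mem_centralizer_iff]
    intro k hk
    rw [mem_centralizer_iff] at hy
    have h1 := hy (π k) ⟨k, hk, rfl⟩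
    rw [← map_mul, ← map_mul] at h1
    have h3 : π ⁅k, y⁆ = 1 := by
      rw [map_commutatorElement, commutatorElement_eq_one_iff_mul_comm, ← map_mul, ← map_mul, h1]
    have h4 : ⁅k, y⁆ ∈ K ⊓ C := by
      refine ⟨?_, (QuotientGroup.eq_one_iff _).1 h3⟩
      rw [commutatorElement_def, mul_assoc, mul_assoc]
      refine K.mul_mem hk ?_
      rw [← mul_assoc]
      exact hKn.conj_mem _ (K.inv_mem hk) y
    rw [hKC, mem_bot, commutatorElement_eq_one_iff_mul_comm] at h4
    exact h4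
  have h5 := le_of_centralizer_eq_bot (K.map π) hsimple hcen (S.mapSurjective hπ) (by
      rintro _ ⟨a, ha, rfl⟩ _ ⟨b, hb, rfl⟩
      rw [← map_mul, hS a ha b hb, map_mul]) (by
      rw [Sylow.coe_mapSurjective, ← Subgroup.map_sup, hKS, ← MonoidHom.range_eq_map,
        MonoidHom.range_eq_top.2 hπ]) (by rw [hcard]; exact h2)
  rw [Sylow.coe_mapSurjective, map_le_iff_le_comap, comap_map_eq, QuotientGroup.ker_mk'] at h5
  exact h5

/-- a 2-element centralizing a Sylow 2-subgroup which contains its centralizing 2-elements -/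
theorem mem_sylow_of_commute {Y : Type*} [Group Y] [Finite Y] (S : Sylow 2 Y) {x : Y}
    (hx : ∃ k, x ^ 2 ^ k = 1) (hc : ∀ s ∈ (S : Subgroup Y), x * s = s * x) :
    x ∈ (S : Subgroup Y) := by
  obtain ⟨k, hk⟩ := hx
  have hz : IsPGroup 2 (zpowers x) := by
    rw [IsPGroup.iff_card]
    obtain ⟨j, -, hj⟩ := (Nat.dvd_prime_pow Nat.prime_two).1 (orderOf_dvd_of_pow_eq_one hk)
    exact ⟨j, by rw [Nat.card_zpowers, hj]⟩
  have hn : x ∈ normalizer ((S : Subgroup Y) : Set Y) := by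
    rw [mem_normalizer_iff]
    intro s
    constructor
    · intro hs
      rwa [hc s hs, mul_inv_cancel_right]
    · intro hs
      have h1 := hc _ hs
      have h2 : x * s * x⁻¹ = s := by
        have h3 : x * (x * s * x⁻¹) = x * s := by
          rw [h1]; group
        exact mul_left_cancel h3
      rwa [h2] at hs
  have h2 : x ∈ zpowers x ⊓ normalizer (S : Set Y) := ⟨mem_zpowers _, hn⟩
  rw [hz.inf_normalizer_sylow S] at h2
  exact h2.2

/-- in a group with abelian Sylow 2-subgroup `S ≤ K C(K)`, `K ∩ C(K) = 1`: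
`S = (S ∩ K) (S ∩ C(K))`. -/
theorem exists_mul_of_le {Y : Type*} [Group Y] [Finite Y] (K : Subgroup Y)
    (hKC : K ⊓ centralizer (K : Set Y) = ⊥) (S : Sylow 2 Y)
    (hS : ∀ a ∈ (S : Subgroup Y), ∀ b ∈ (S : Subgroup Y), a * b = b * a)
    (hle : ∀ s ∈ (S : Subgroup Y), ∃ k ∈ K, ∃ c ∈ centralizer (K : Set Y), s = k * c) {s : Y}
    (hs : s ∈ (S : Subgroup Y)) :
    ∃ k ∈ (S : Subgroup Y) ⊓ K, ∃ c ∈ (S : Subgroup Y) ⊓ centralizer (K : Set Y), s = k * c := by
  obtain ⟨k, hk, c, hc, rfl⟩ := hle s hs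
  have hcomm : ∀ a ∈ K, ∀ b ∈ centralizer (K : Set Y), a * b = b * a := fun a ha b hb =>
    mem_centralizer_iff.1 hb a ha
  have hkx : ∀ x ∈ (S : Subgroup Y), k * x = x * k := by
    intro x hx
    obtain ⟨k', hk', c', hc', rfl⟩ := hle x hx
    have h1 := hS _ hs _ hx
    -- (k k') (c c') = (k' k) (c' c)
    have h2 : (k' * k)⁻¹ * (k * k') = (c' * c) * (c * c')⁻¹ := by
      rw [eq_mul_inv_iff_mul_eq]
      have h3 : k * c * (k' * c') = (k * k') * (c * c') := by
        calc k * c * (k' * c') = k * (c * k') * c' := by group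
          _ = k * (k' * c) * c' := by rw [hcomm k' hk' c hc]
          _ = _ := by group
      have h4 : k' * c' * (k * c) = (k' * k) * (c' * c) := by
        calc k' * c' * (k * c) = k' * (c' * k) * c := by group
          _ = k' * (k * c') * c := by rw [hcomm k hk c' hc']
          _ = _ := by group
      rw [h3, h4] at h1
      rw [mul_assoc (k' * k)⁻¹, h1, inv_mul_cancel_left]
    have h5 : (k' * k)⁻¹ * (k * k') ∈ K ⊓ centralizer (K : Set Y) := by
      refine ⟨K.mul_mem (K.inv_mem (K.mul_mem hk' hk)) (K.mul_mem hk hk'), ?_⟩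
      rw [h2]
      exact Subgroup.mul_mem _ (Subgroup.mul_mem _ hc' hc) (Subgroup.inv_mem _ (Subgroup.mul_mem _ hc hc'))
    rw [hKC, mem_bot, inv_mul_eq_one] at h5
    calc k * (k' * c') = (k * k') * c' := by group
      _ = (k' * k) * c' := by rw [h5]
      _ = k' * (k * c') := by group
      _ = k' * (c' * k) := by rw [hcomm k hk c' hc']
      _ = k' * c' * k := by group
  obtain ⟨a, m, hm, ham⟩ := Nat.exists_eq_two_pow_mul_odd (Nat.card_pos (α := Y)).ne'
  have hcop : (2 ^ a).Coprime m := Nat.Coprime.pow_left a hm.coprime_two_left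
  obtain ⟨n, hn1, hn2⟩ := Nat.chineseRemainder hcop 1 0
  have hpow : ∀ x : Y, (x ^ n) ^ 2 ^ a = 1 := by
    intro x
    rw [← pow_mul]
    have h1 : m ∣ n := (Nat.modEq_zero_iff_dvd).1 hn2
    have h2 : Nat.card Y ∣ n * 2 ^ a := by
      rw [ham, mul_comm (2 ^ a)]
      exact Nat.mul_dvd_mul_right h1 _
    obtain ⟨q, hq⟩ := h2
    rw [hq, pow_mul, pow_card_eq_one', one_pow]
  have hsn : (k * c) ^ n = k * c := by
    obtain ⟨j, hj⟩ := S.isPGroup' ⟨k * c, hs⟩
    have hj' : (k * c) ^ 2 ^ j = 1 := congrArg Subtype.val hj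
    have h1 : orderOf (k * c) ∣ 2 ^ a := by
      have h2 : orderOf (k * c) ∣ 2 ^ a * m := ham ▸ orderOf_dvd_natCard _
      refine Nat.Coprime.dvd_of_dvd_mul_right ?_ h2
      obtain ⟨i, -, hi⟩ := (Nat.dvd_prime_pow Nat.prime_two).1 (orderOf_dvd_of_pow_eq_one hj')
      rw [hi]
      exact Nat.Coprime.pow_left i hm.coprime_two_left
    have h2 : n ≡ 1 [MOD orderOf (k * c)] := hn1.of_dvd h1
    have h3 := pow_eq_pow_iff_modEq.2 h2
    rw [h3, pow_one]
  have hkc : Commute k c := hcomm k hk c hc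
  have hkn : k ^ n ∈ (S : Subgroup Y) := by
    refine mem_sylow_of_commute S ⟨a, hpow k⟩ ?_
    intro x hx
    exact (Commute.pow_left (hkx x hx) n)
  refine ⟨k ^ n, ⟨hkn, K.pow_mem hk n⟩, c ^ n, ⟨?_, pow_mem hc n⟩, ?_⟩
  · have h1 : c ^ n = (k ^ n)⁻¹ * (k * c) := by
      rw [eq_inv_mul_iff_mul_eq, ← hkc.mul_pow, hsn]
    rw [h1]
    exact (S : Subgroup Y).mul_mem ((S : Subgroup Y).inv_mem hkn) hs
  · rw [← hkc.mul_pow, hsn]

end Cfsg.Agent.Walter.AbInner
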