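import Mathlib
import Cfsg.Prelude.Def_Local
import Cfsg.Agent.Walter.AbInner
import Cfsg.Agent.S0089
import Cfsg.Agent.SignalizersComponents.BalanceAux
import Cfsg.Agent.SignalizersComponents.CompBasic
import Cfsg.Agent.SignalizersComponents.Components
import Cfsg.Agent.SignalizersComponents.LayerBasic
import Cfsg.Agent.SignalizersComponents.PCompCore
import Cfsg.Agent.TwoFusion.FStarControl
import Cfsg.Agent.TwoFusion.SimpleOddIndex

/-!
# Structure of core-free groups with abelian Sylow 2-subgroups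

`X` is a finite group with `O(X) = 1` and abelian Sylow 2-subgroup `S`. The components of `X` are simple, `S`
normalises each component `K` and induces on it the automorphisms induced by `S ∩ K`;
`S ≤ O_2(X) E(X) = F*(X)`, so that `F*(X)` has odd index. The only deep input is the `Z*`-theorem.
-/

set_option autoImplicit false

namespace Cfsg.Agent.Walter.AbStruct

open Subgroup Cfsg
open scoped commutatorElement
open Cfsg.Agent.SignalizersComponents
open Cfsg.Agent.SignalizersComponents.Components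

variable {X : Type*} [Group X] [Finite X] {S : Sylow 2 X} {K L : Subgroup X}

/-- the elements of a subgroup that commute with the subgroup -/
theorem mem_inf_centralizer_iff {G : Type*} [Group G] {K : Subgroup G} {x : G} :
    x ∈ K ⊓ centralizer (K : Set G) ↔ ∃ h : x ∈ K, (⟨x, h⟩ : K) ∈ center K := by
  constructor
  · rintro ⟨h1, h2⟩
    refine ⟨h1, mem_center_iff.2 ?_⟩
    intro y
    exact Subtype.ext (mem_centralizer_iff.1 h2 y y.2)
  · rintro ⟨h1, h2⟩
    refine ⟨h1, mem_centralizer_iff.2 ?_⟩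
    intro y hy
    exact congrArg Subtype.val (mem_center_iff.1 h2 ⟨y, hy⟩)

/-- `S ∩ H` is a Sylow 2-subgroup of the subnormal subgroup `H` -/
theorem exists_sylow_of_subnormal (S : Sylow 2 X) (hK : K.IsSubnormal) :
    ∃ P : Sylow 2 K, (P : Subgroup K) = (S : Subgroup X).subgroupOf K := by
  have h1 : IsPGroup 2 ((S : Subgroup X).subgroupOf K) := S.2.comap_subtype
  have h2 : ¬ 2 ∣ ((S : Subgroup X).subgroupOf K).index := by
    intro h
    have h3 : (S : Subgroup X).relIndex K ∣ (S : Subgroup X).index :=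
      PCompCore.relIndex_dvd_index_of_subnormal (S : Subgroup X) hK
    exact S.not_dvd_index (h.trans h3)
  exact ⟨h1.toSylow h2, rfl⟩

theorem exists_sylow (S : Sylow 2 X) (hK : IsComponent K) :
    ∃ P : Sylow 2 K, (P : Subgroup K) = (S : Subgroup X).subgroupOf K :=
  exists_sylow_of_subnormal S hK.1

theorem comm_subgroupOf (hS : ∀ a ∈ (S : Subgroup X), ∀ b ∈ (S : Subgroup X), a * b = b * a) :
    ∀ a ∈ (S : Subgroup X).subgroupOf K, ∀ b ∈ (S : Subgroup X).subgroupOf K, a * b = b * a := by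
  intro a ha b hb
  exact Subtype.ext (hS a (mem_subgroupOf.1 ha) b (mem_subgroupOf.1 hb))

/-- a component of `X` meets its centralizer trivially -/
theorem inf_centralizer (hO : pPrimeCore 2 X = ⊥)
    (hS : ∀ a ∈ (S : Subgroup X), ∀ b ∈ (S : Subgroup X), a * b = b * a)
    (hK : IsComponent K) : K ⊓ centralizer (K : Set X) = ⊥ := by
  rw [eq_bot_iff]
  intro z hz
  have h2 : z ∈ pCore 2 X := BalanceAux.center_component_le_pCore 2 hO hK hz
  obtain ⟨k, hk⟩ := Lib.Cores.pCore_isPGroup (G := X) 2 ⟨z, h2⟩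
  have hk' : z ^ 2 ^ k = 1 := congrArg Subtype.val hk
  obtain ⟨hzK, hzc⟩ := mem_inf_centralizer_iff.1 hz
  obtain ⟨P, hP⟩ := exists_sylow S hK
  have hcomm : IsMulCommutative (P : Subgroup K) := by
    refine ⟨⟨fun x y => Subtype.ext ?_⟩⟩
    have hx : (x : K) ∈ (S : Subgroup X).subgroupOf K := hP ▸ x.2
    have hy : (y : K) ∈ (S : Subgroup X).subgroupOf K := hP ▸ y.2
    exact comm_subgroupOf hS (x : K) hx (y : K) hy
  have h3 := S0089.pow_index_eq_one_of_mem (P : Subgroup K) ⟨z, hzK⟩
    (by rw [hK.2.1.commutator_eq_top]; exact mem_top _) hzc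
  have h3' : z ^ (P : Subgroup K).index = 1 := congrArg Subtype.val h3
  have h4 : (2 ^ k).Coprime (P : Subgroup K).index :=
    Nat.Coprime.pow_left k ((Nat.Prime.coprime_iff_not_dvd Nat.prime_two).2 P.not_dvd_index)
  rw [mem_bot, ← orderOf_eq_one_iff]
  exact Nat.eq_one_of_dvd_coprimes h4 (orderOf_dvd_of_pow_eq_one hk')
    (orderOf_dvd_of_pow_eq_one h3')

theorem isSimpleGroup (hO : pPrimeCore 2 X = ⊥)
    (hS : ∀ a ∈ (S : Subgroup X), ∀ b ∈ (S : Subgroup X), a * b = b * a)
    (hK : IsComponent K) : IsSimpleGroup K := by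
  have hn := quasisimple_nontrivial hK.2
  have hz : center K = ⊥ := by
    rw [eq_bot_iff]
    intro x hx
    have h1 : (x : X) ∈ K ⊓ centralizer (K : Set X) := mem_inf_centralizer_iff.2 ⟨x.2, hx⟩
    rw [inf_centralizer hO hS hK] at h1
    exact Subtype.ext h1
  refine ⟨fun N hN => ?_⟩
  rcases quasisimple_normal hK.2 N hN with h | h
  · exact Or.inr h
  · rw [hz] at h
    exact Or.inl (le_bot_iff.mp h)

theorem not_comm (hK : IsComponent K) : ¬ IsMulCommutative K :=
  quasisimple_not_isMulCommutative hK.2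

theorem two_dvd_card (hO : pPrimeCore 2 X = ⊥) (hK : IsComponent K) : 2 ∣ Nat.card K :=
  BalanceAux.dvd_card_component 2 hO hK

theorem inf_ne_bot (hO : pPrimeCore 2 X = ⊥) (S : Sylow 2 X) (hK : IsComponent K) :
    (S : Subgroup X) ⊓ K ≠ ⊥ := by
  intro h
  obtain ⟨P, hP⟩ := exists_sylow S hK
  have h1 : (P : Subgroup K) = ⊥ := by
    rw [hP, subgroupOf_eq_bot, disjoint_iff, h]
  have h2 := P.not_dvd_index
  rw [h1, index_bot] at h2
  exact h2 (two_dvd_card hO hK)

/-- distinct components intersect trivially -/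
theorem inf_eq_bot_of_ne (hO : pPrimeCore 2 X = ⊥)
    (hS : ∀ a ∈ (S : Subgroup X), ∀ b ∈ (S : Subgroup X), a * b = b * a)
    (hK : IsComponent K) (hL : IsComponent L) (h : K ≠ L) : K ⊓ L = ⊥ := by
  have h1 := Cfsg.Agent.S1270.component_comm_of_ne hK hL h
  rw [commutator_eq_bot_iff_le_centralizer, le_centralizer_iff] at h1
  rw [← le_bot_iff, ← inf_centralizer hO hS hK]
  exact le_inf inf_le_left (inf_le_right.trans h1)

/-- `S` normalises every component -/
theorem le_normalizer (hO : pPrimeCore 2 X = ⊥)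
    (hS : ∀ a ∈ (S : Subgroup X), ∀ b ∈ (S : Subgroup X), a * b = b * a)
    (hK : IsComponent K) : (S : Subgroup X) ≤ normalizer (K : Set X) := by
  intro s hs
  by_contra hn
  have hL : IsComponent (K.map (MulAut.conj s).toMonoidHom) := isComponent_conj s hK
  have hne : K ≠ K.map (MulAut.conj s).toMonoidHom := by
    intro h
    exact hn (BalanceAux.mem_normalizer_of_map_conj_eq h.symm)
  have h1 := inf_eq_bot_of_ne hO hS hK hL hne
  apply inf_ne_bot hO S hK
  rw [eq_bot_iff]
  intro x hx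
  have h2 : x ∈ K ⊓ K.map (MulAut.conj s).toMonoidHom := by
    refine ⟨hx.2, x, hx.2, ?_⟩
    change s * x * s⁻¹ = x
    rw [hS s hs x hx.1, mul_inv_cancel_right]
  rw [h1] at h2
  exact h2

/-- every element of `S` acts on the component `K` as an element of `S ∩ K` -/
theorem exists_inner (hO : pPrimeCore 2 X = ⊥)
    (hS : ∀ a ∈ (S : Subgroup X), ∀ b ∈ (S : Subgroup X), a * b = b * a)
    (hK : IsComponent K) {s : X} (hs : s ∈ (S : Subgroup X)) :
    ∃ k ∈ (S : Subgroup X) ⊓ K, ∃ c ∈ (S : Subgroup X) ⊓ centralizer (K : Set X), s = k * c := by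
  set Y : Subgroup X := K ⊔ (S : Subgroup X) with hY
  have hKY : K ≤ Y := le_sup_left
  have hSY : (S : Subgroup X) ≤ Y := le_sup_right
  have hn : (K.subgroupOf Y).Normal := by
    rw [normal_subgroupOf_iff_le_normalizer hKY]
    exact sup_le Subgroup.le_normalizer (le_normalizer hO hS hK)
  have e : K.subgroupOf Y ≃* K := subgroupOfEquivOfLe hKY
  have hsimple : IsSimpleGroup (K.subgroupOf Y) :=
    (MulEquiv.isSimpleGroup_congr e).2 (isSimpleGroup hO hS hK)
  have hcen : ∀ y : Y, y ∈ centralizer ((K.subgroupOf Y : Subgroup Y) : Set Y) ↔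
      (y : X) ∈ centralizer (K : Set X) := by
    intro y
    rw [mem_centralizer_iff, mem_centralizer_iff]
    constructor
    · intro h k hk
      exact congrArg Subtype.val (h ⟨k, hKY hk⟩ (mem_subgroupOf.2 hk))
    · intro h k hk
      exact Subtype.ext (h k (mem_subgroupOf.1 hk))
  have hKC : K.subgroupOf Y ⊓ centralizer ((K.subgroupOf Y : Subgroup Y) : Set Y) = ⊥ := by
    rw [eq_bot_iff]
    rintro x ⟨hx1, hx2⟩
    have h1 : (x : X) ∈ K ⊓ centralizer (K : Set X) := ⟨mem_subgroupOf.1 hx1, (hcen x).1 hx2⟩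
    rw [inf_centralizer hO hS hK] at h1
    exact Subtype.ext h1
  have hS' : ∀ a ∈ ((S.subtype hSY : Sylow 2 Y) : Subgroup Y),
      ∀ b ∈ ((S.subtype hSY : Sylow 2 Y) : Subgroup Y), a * b = b * a := by
    intro a ha b hb
    rw [Sylow.coe_subtype] at ha hb
    exact Subtype.ext (hS a (mem_subgroupOf.1 ha) b (mem_subgroupOf.1 hb))
  have hKS : K.subgroupOf Y ⊔ ((S.subtype hSY : Sylow 2 Y) : Subgroup Y) = ⊤ := by
    rw [Sylow.coe_subtype, ← subgroupOf_sup hKY hSY, ← hY, subgroupOf_self]
  have h2 : 2 ∣ Nat.card (K.subgroupOf Y) := by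
    rw [Nat.card_congr e.toEquiv]
    exact two_dvd_card hO hK
  have h3 := AbInner.le_sup_centralizer (K.subgroupOf Y) hsimple hKC (S.subtype hSY) hS' hKS h2
  obtain ⟨k, hk, c, hc, hkc⟩ := AbInner.exists_mul_of_le (K.subgroupOf Y) hKC (S.subtype hSY) hS'
    (by
      intro s hs
      have h4 := h3 hs
      obtain ⟨a, ha, b, hb, hab⟩ := (mem_sup_of_normal_left (hs := hn)).1 h4
      exact ⟨a, ha, b, hb, hab.symm⟩) (s := ⟨s, hSY hs⟩) (by
      rw [Sylow.coe_subtype]
      exact mem_subgroupOf.2 hs)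
  rw [Sylow.coe_subtype] at hk hc
  refine ⟨k, ⟨mem_subgroupOf.1 hk.1, mem_subgroupOf.1 hk.2⟩, c,
    ⟨mem_subgroupOf.1 hc.1, (hcen c).1 hc.2⟩, congrArg Subtype.val hkc⟩

/-- decomposition along a finite set of components -/
theorem exists_inner_finset (hO : pPrimeCore 2 X = ⊥)
    (hS : ∀ a ∈ (S : Subgroup X), ∀ b ∈ (S : Subgroup X), a * b = b * a)
    (T : Finset {K : Subgroup X // IsComponent K}) {s : X} (hs : s ∈ (S : Subgroup X)) :
    ∃ e ∈ ⨆ K ∈ T, ((S : Subgroup X) ⊓ K.1), ∃ c ∈ (S : Subgroup X),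
      (∀ K ∈ T, c ∈ centralizer (K.1 : Set X)) ∧ s = e * c := by
  classical
  induction T using Finset.induction_on generalizing s with
  | empty => exact ⟨1, one_mem _, s, hs, by simp, by simp⟩
  | insert K T hKT ih =>
    obtain ⟨e, he, c, hc, hcc, rfl⟩ := ih hs
    obtain ⟨k, hk, c', hc', hkc⟩ := exists_inner hO hS K.2 hc
    refine ⟨e * k, ?_, c', hc'.1, ?_, ?_⟩
    · refine mul_mem ?_ ?_
      · have : ⨆ L ∈ T, ((S : Subgroup X) ⊓ L.1) ≤ ⨆ L ∈ insert K T, ((S : Subgroup X) ⊓ L.1) :=
          biSup_mono fun L hL => Finset.mem_insert_of_mem hL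
        exact this he
      · have : (S : Subgroup X) ⊓ K.1 ≤ ⨆ L ∈ insert K T, ((S : Subgroup X) ⊓ L.1) :=
          le_biSup (fun L : {K : Subgroup X // IsComponent K} => (S : Subgroup X) ⊓ L.1)
            (Finset.mem_insert_self K T)
        exact this hk
    · intro L hL
      rcases Finset.mem_insert.1 hL with rfl | hL
      · exact hc'.2
      · have hne : K.1 ≠ L.1 := by
          intro h
          exact hKT ((Subtype.ext h : K = L) ▸ hL)
        have h1 := Cfsg.Agent.S1270.component_comm_of_ne K.2 L.2 hne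
        rw [commutator_eq_bot_iff_le_centralizer] at h1
        have h2 : c' = k⁻¹ * c := by rw [hkc, inv_mul_cancel_left]
        rw [h2]
        exact Subgroup.mul_mem _ (Subgroup.inv_mem _ (h1 hk.2)) (hcc L hL)
    · rw [mul_assoc, ← hkc]

/-- `F*(X) = O_2(X) E(X)` -/
theorem genFitting_eq (hO : pPrimeCore 2 X = ⊥) :
    generalizedFittingSubgroup X = pCore 2 X ⊔ layer X := by
  change layer X ⊔ fittingSubgroup X = _
  rw [BalanceAux.fitting_eq_pCore 2 hO, sup_comm]

theorem pCore_le_centralizer_layer (hO : pPrimeCore 2 X = ⊥) :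
    pCore 2 X ≤ centralizer (layer X : Set X) := by
  have h := LayerBasic.fitting_le_centralizer_layer X
  rwa [BalanceAux.fitting_eq_pCore 2 hO] at h

/-- `S ∩ C(E(X)) = O_2(X)` -/
theorem inf_centralizer_layer (hO : pPrimeCore 2 X = ⊥)
    (hS : ∀ a ∈ (S : Subgroup X), ∀ b ∈ (S : Subgroup X), a * b = b * a) :
    (S : Subgroup X) ⊓ centralizer (layer X : Set X) = pCore 2 X := by
  apply le_antisymm
  · intro s hs
    have h1 : s ∈ centralizer (generalizedFittingSubgroup X : Set X) := by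
      rw [genFitting_eq hO]
      have h2 : (pCore 2 X ⊔ layer X) ≤ centralizer ({s} : Set X) := by
        refine sup_le ?_ ?_
        · intro x hx
          rw [mem_centralizer_singleton_iff]
          exact hS x (Lib.Cores.pCore_le_sylow S hx) s hs.1
        · intro x hx
          rw [mem_centralizer_singleton_iff]
          exact mem_centralizer_iff.1 hs.2 x hx
      rw [mem_centralizer_iff]
      intro x hx
      exact (mem_centralizer_singleton_iff.1 (h2 hx))
    have h3 := TwoFusion.FStarControl.centralizer_genFitting_le_fitting h1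
    rwa [BalanceAux.fitting_eq_pCore 2 hO] at h3
  · exact le_inf (Lib.Cores.pCore_le_sylow S) (pCore_le_centralizer_layer hO)

/-- every element of `S` is a product of an element of `⟨S ∩ K⟩_K` and an element of `O_2(X)`. -/
theorem exists_mul (hO : pPrimeCore 2 X = ⊥)
    (hS : ∀ a ∈ (S : Subgroup X), ∀ b ∈ (S : Subgroup X), a * b = b * a) {s : X}
    (hs : s ∈ (S : Subgroup X)) :
    ∃ e ∈ ⨆ K : {K : Subgroup X // IsComponent K}, ((S : Subgroup X) ⊓ K.1),
      ∃ c ∈ pCore 2 X, s = e * c := by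
  classical
  haveI : Finite {K : Subgroup X // IsComponent K} := inferInstance
  haveI := Fintype.ofFinite {K : Subgroup X // IsComponent K}
  obtain ⟨e, he, c, hc, hcc, h⟩ := exists_inner_finset hO hS Finset.univ hs
  refine ⟨e, ?_, c, ?_, h⟩
  · simpa using he
  · rw [← inf_centralizer_layer hO hS]
    refine ⟨hc, ?_⟩
    have h1 : layer X ≤ centralizer ({c} : Set X) := by
      rw [layer_le_iff]
      intro K hK x hx
      rw [mem_centralizer_singleton_iff]
      exact mem_centralizer_iff.1 (hcc ⟨K, hK⟩ (Finset.mem_univ _)) x hx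
    refine mem_centralizer_iff.2 ?_
    intro x hx
    exact mem_centralizer_singleton_iff.1 (h1 hx)

theorem sylow_eq (hO : pPrimeCore 2 X = ⊥)
    (hS : ∀ a ∈ (S : Subgroup X), ∀ b ∈ (S : Subgroup X), a * b = b * a) :
    (S : Subgroup X) =
      pCore 2 X ⊔ ⨆ K : {K : Subgroup X // IsComponent K}, ((S : Subgroup X) ⊓ K.1) := by
  apply le_antisymm
  · intro s hs
    obtain ⟨e, he, c, hc, rfl⟩ := exists_mul hO hS hs
    exact mul_mem (mem_sup_right he) (mem_sup_left hc)
  · refine sup_le (Lib.Cores.pCore_le_sylow S) (iSup_le fun K => inf_le_left)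

theorem sylow_le_sup (hO : pPrimeCore 2 X = ⊥)
    (hS : ∀ a ∈ (S : Subgroup X), ∀ b ∈ (S : Subgroup X), a * b = b * a) :
    (S : Subgroup X) ≤ pCore 2 X ⊔ layer X := by
  intro s hs
  obtain ⟨e, he, c, hc, rfl⟩ := exists_mul hO hS hs
  refine mul_mem (mem_sup_right ?_) (mem_sup_left hc)
  have h1 : ⨆ K : {K : Subgroup X // IsComponent K}, ((S : Subgroup X) ⊓ K.1) ≤ layer X :=
    iSup_le fun K => inf_le_right.trans (component_le_layer K.2)
  exact h1 he

theorem sylow_le (hO : pPrimeCore 2 X = ⊥)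
    (hS : ∀ a ∈ (S : Subgroup X), ∀ b ∈ (S : Subgroup X), a * b = b * a) :
    (S : Subgroup X) ≤ generalizedFittingSubgroup X := by
  rw [genFitting_eq hO]
  exact sylow_le_sup hO hS

theorem odd_index (hO : pPrimeCore 2 X = ⊥)
    (hS : ∀ a ∈ (S : Subgroup X), ∀ b ∈ (S : Subgroup X), a * b = b * a) :
    Odd (generalizedFittingSubgroup X).index := by
  rw [← Nat.not_even_iff_odd]
  intro h
  exact S.not_dvd_index (h.two_dvd.trans (index_dvd_of_le (sylow_le hO hS)))

end Cfsg.Agent.Walter.AbStruct
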