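import Mathlib
import Cfsg.Prelude.Def_Local
import Cfsg.Agent.Walter.AbStruct
import Cfsg.Agent.Walter.Types
import Cfsg.Agent.PLocal.ElemAbSup

/-!
# Core-free groups with abelian Sylow 2-subgroups: numbers of components, Frattini argument

Continuation of `AbStruct`.
-/

set_option autoImplicit false

namespace Cfsg.Agent.Walter.AbTypes

open Subgroup Cfsg
open scoped commutatorElement
open Cfsg.Agent.SignalizersComponents
open Cfsg.Agent.SignalizersComponents.Components
open Cfsg.Agent.Walter.AbStruct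

variable {X : Type*} [Group X] [Finite X] {S : Sylow 2 X} {K L : Subgroup X}

/-- Frattini: `X = E(X) N(S)`. -/
theorem layer_sup_normalizer (hO : pPrimeCore 2 X = ⊥)
    (hS : ∀ a ∈ (S : Subgroup X), ∀ b ∈ (S : Subgroup X), a * b = b * a) :
    layer X ⊔ normalizer ((S : Subgroup X) : Set X) = ⊤ := by
  haveI : (generalizedFittingSubgroup X).Normal := LayerBasic.generalizedFittingSubgroup_normal X
  have h1 := S.normalizer_sup_eq_top' (N := generalizedFittingSubgroup X) (sylow_le hO hS)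
  rw [genFitting_eq hO] at h1
  rw [eq_top_iff, ← h1]
  refine sup_le le_sup_right (sup_le ?_ le_sup_left)
  exact (Lib.Cores.pCore_le_sylow S).trans (Subgroup.le_normalizer.trans le_sup_right)

/-- `4` divides the order of a component. -/
theorem four_dvd (hO : pPrimeCore 2 X = ⊥)
    (hS : ∀ a ∈ (S : Subgroup X), ∀ b ∈ (S : Subgroup X), a * b = b * a)
    (hK : IsComponent K) : 4 ∣ Nat.card ((S : Subgroup X) ⊓ K : Subgroup X) := by
  have hsimple := isSimpleGroup hO hS hK
  obtain ⟨P, hP⟩ := exists_sylow S hK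
  have hcard : Nat.card ((S : Subgroup X) ⊓ K : Subgroup X) = Nat.card (P : Subgroup K) := by
    rw [hP, ← Subgroup.card_map_of_injective K.subtype_injective, subgroupOf_map_subtype]
  rw [hcard]
  obtain ⟨n, hn⟩ := IsPGroup.iff_card.1 P.isPGroup'
  have h0 : n ≠ 0 := by
    rintro rfl
    have h1 := P.not_dvd_index
    have h2 := (P : Subgroup K).card_mul_index
    rw [hn, pow_zero, one_mul] at h2
    rw [h2] at h1
    exact h1 (two_dvd_card hO hK)
  have h1 : n ≠ 1 := by
    rintro rfl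
    rw [pow_one] at hn
    have hc : IsCyclic (P : Subgroup K) := by
      haveI : Fact (Nat.Prime 2) := ⟨Nat.prime_two⟩
      exact isCyclic_of_prime_card hn
    obtain ⟨H, hH⟩ := TwoFusion.SimpleOddIndex.exists_index_two_of_cyclic P hc
      (two_dvd_card hO hK)
    have hHn : H.Normal := Subgroup.normal_of_index_eq_two hH
    rcases hHn.eq_bot_or_eq_top with h | h
    · rw [h, index_bot] at hH
      apply not_comm hK
      haveI : Fact (Nat.Prime 2) := ⟨Nat.prime_two⟩
      have : IsCyclic K := isCyclic_of_prime_card hH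
      exact ⟨⟨fun a b => (IsCyclic.commGroup (α := K)).mul_comm a b⟩⟩
    · rw [h, index_top] at hH
      exact absurd hH (by norm_num)
  rw [hn]
  obtain ⟨m, rfl⟩ : ∃ m, n = m + 2 := ⟨n - 2, by omega⟩
  rw [pow_add]
  exact Dvd.intro_left _ rfl

/-- product of the orders for subgroups of `S` that meet trivially -/
theorem card_mul_le (hS : ∀ a ∈ (S : Subgroup X), ∀ b ∈ (S : Subgroup X), a * b = b * a)
    {A B : Subgroup X} (hA : A ≤ (S : Subgroup X)) (hB : B ≤ (S : Subgroup X)) (h : A ⊓ B = ⊥) :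
    Nat.card A * Nat.card B ∣ Nat.card (S : Subgroup X) := by
  have hAB : B ≤ centralizer (A : Set X) := by
    intro b hb
    rw [mem_centralizer_iff]
    intro a ha
    exact hS a (hA ha) b (hB hb)
  have h1 := PLocal.ElemAbSup.card_sup_mul_card_inf hAB
  rw [h, Subgroup.card_bot, mul_one] at h1
  rw [← h1]
  exact card_dvd_of_le (sup_le hA hB)

/-- `S = (S ∩ K) × C_S(K)` for every component `K`. -/
theorem card_inf_mul (hO : pPrimeCore 2 X = ⊥)
    (hS : ∀ a ∈ (S : Subgroup X), ∀ b ∈ (S : Subgroup X), a * b = b * a)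
    (hK : IsComponent K) :
    Nat.card ((S : Subgroup X) ⊓ K : Subgroup X) *
      Nat.card ((S : Subgroup X) ⊓ centralizer (K : Set X) : Subgroup X) =
        Nat.card (S : Subgroup X) ∧
    ((S : Subgroup X) ⊓ K) ⊔ ((S : Subgroup X) ⊓ centralizer (K : Set X)) = S ∧
    ((S : Subgroup X) ⊓ K) ⊓ ((S : Subgroup X) ⊓ centralizer (K : Set X)) = ⊥ := by
  have h1 : ((S : Subgroup X) ⊓ K) ⊓ ((S : Subgroup X) ⊓ centralizer (K : Set X)) = ⊥ := by
    rw [← le_bot_iff, ← inf_centralizer hO hS hK]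
    exact le_inf (inf_le_left.trans inf_le_right) (inf_le_right.trans inf_le_right)
  have h2 : ((S : Subgroup X) ⊓ K) ⊔ ((S : Subgroup X) ⊓ centralizer (K : Set X)) = S := by
    apply le_antisymm (sup_le inf_le_left inf_le_left)
    intro s hs
    obtain ⟨k, hk, c, hc, rfl⟩ := exists_inner hO hS hK hs
    exact mul_mem (mem_sup_left hk) (mem_sup_right hc)
  refine ⟨?_, h2, h1⟩
  have h3 := PLocal.ElemAbSup.card_sup_mul_card_inf (A := (S : Subgroup X) ⊓ K)
    (B := (S : Subgroup X) ⊓ centralizer (K : Set X)) (by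
      intro b hb
      rw [mem_centralizer_iff]
      intro a ha
      exact hS a ha.1 b hb.1)
  rw [h1, Subgroup.card_bot, mul_one, h2] at h3
  exact h3.symm

/-- two distinct components need `|S| ≥ 16` -/
theorem eq_of_isComponent (hO : pPrimeCore 2 X = ⊥)
    (hS : ∀ a ∈ (S : Subgroup X), ∀ b ∈ (S : Subgroup X), a * b = b * a)
    (hcard : Nat.card (S : Subgroup X) < 16) (hK : IsComponent K) (hL : IsComponent L) :
    K = L := by
  by_contra hne
  have h1 := inf_eq_bot_of_ne hO hS hK hL hne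
  have h2 := card_mul_le hS (A := (S : Subgroup X) ⊓ K) (B := (S : Subgroup X) ⊓ L)
    inf_le_left inf_le_left (by
      rw [← le_bot_iff, ← h1]
      exact le_inf (inf_le_left.trans inf_le_right) (inf_le_right.trans inf_le_right))
  have h3 := mul_dvd_mul (four_dvd hO hS hK) (four_dvd hO hS hL)
  have h4 := Nat.le_of_dvd Nat.card_pos (h3.trans h2)
  omega

/-- if `|S| < 16` and there is a component `K`, then `E(X) = K` is normal and
`S = O_2(X) × (S ∩ K)`. -/
theorem of_isComponent (hO : pPrimeCore 2 X = ⊥)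
    (hS : ∀ a ∈ (S : Subgroup X), ∀ b ∈ (S : Subgroup X), a * b = b * a)
    (hcard : Nat.card (S : Subgroup X) < 16) (hK : IsComponent K) :
    layer X = K ∧ K.Normal ∧ pCore 2 X ⊔ ((S : Subgroup X) ⊓ K) = S ∧
      pCore 2 X ⊓ ((S : Subgroup X) ⊓ K) = ⊥ ∧
      Nat.card (pCore 2 X) * Nat.card ((S : Subgroup X) ⊓ K : Subgroup X) =
        Nat.card (S : Subgroup X) := by
  have h1 : layer X = K := by
    apply le_antisymm
    · rw [layer_le_iff]
      intro L hL
      rw [eq_of_isComponent hO hS hcard hL hK]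
    · exact component_le_layer hK
  have h2 : K.Normal := h1 ▸ LayerBasic.layer_normal X
  have h3 := inf_centralizer_layer hO hS
  obtain ⟨h4, h5, h6⟩ := card_inf_mul hO hS hK
  rw [h1] at h3
  rw [h3] at h4 h5 h6
  refine ⟨h1, h2, by rw [sup_comm]; exact h5, by rw [inf_comm]; exact h6, by rw [mul_comm]; exact h4⟩

/-- The case of `|S| = 8`: (A) `S = O_2(X)`; (B) one component `K`, `|S ∩ K| = 4`, `|O_2(X)| = 2`,
`S = O_2(X) × (S ∩ K)`; (C) one component `K`, `S ≤ K`, `O_2(X) = 1`. -/
theorem cases_of_card_eight (hO : pPrimeCore 2 X = ⊥)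
    (hS : ∀ a ∈ (S : Subgroup X), ∀ b ∈ (S : Subgroup X), a * b = b * a)
    (hcard : Nat.card (S : Subgroup X) = 8) :
    (pCore 2 X = S ∧ ∀ K : Subgroup X, ¬ IsComponent K) ∨
    (∃ K : Subgroup X, IsComponent K ∧ (∀ L, IsComponent L → L = K) ∧ layer X = K ∧ K.Normal ∧
      ((Nat.card ((S : Subgroup X) ⊓ K : Subgroup X) = 4 ∧ Nat.card (pCore 2 X) = 2 ∧
        pCore 2 X ⊔ ((S : Subgroup X) ⊓ K) = S ∧ pCore 2 X ⊓ ((S : Subgroup X) ⊓ K) = ⊥) ∨
       ((S : Subgroup X) ≤ K ∧ pCore 2 X = ⊥))) := by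
  by_cases hcomp : ∃ K : Subgroup X, IsComponent K
  · right
    obtain ⟨K, hK⟩ := hcomp
    obtain ⟨h1, h2, h3, h4, h5⟩ := of_isComponent hO hS (by omega) hK
    refine ⟨K, hK, fun L hL => eq_of_isComponent hO hS (by omega) hL hK, h1, h2, ?_⟩
    obtain ⟨m, hm⟩ := four_dvd hO hS hK
    have h6 : Nat.card (pCore 2 X) * m = 2 := by
      have : Nat.card (pCore 2 X) * (4 * m) = 8 := by rw [← hm, h5, hcard]
      nlinarith
    have h7 : Nat.card (pCore 2 X) ∣ 2 := ⟨m, h6.symm⟩
    rcases (Nat.dvd_prime Nat.prime_two).1 h7 with h8 | h8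
    · right
      have h9 : pCore 2 X = ⊥ := Subgroup.card_eq_one.1 h8
      refine ⟨?_, h9⟩
      rw [h9, bot_sup_eq] at h3
      rw [← h3]
      exact inf_le_right
    · left
      refine ⟨?_, h8, h3, h4⟩
      rw [h8] at h6
      omega
  · left
    push Not at hcomp
    refine ⟨?_, hcomp⟩
    have h1 := sylow_eq hO hS
    haveI : IsEmpty {K : Subgroup X // IsComponent K} := ⟨fun K => hcomp K.1 K.2⟩
    rw [iSup_of_empty, sup_bot_eq] at h1
    exact h1.symm

end Cfsg.Agent.Walter.AbTypes
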