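import Mathlib
import Cfsg.Agent.Walter.AbTypes
import Cfsg.Agent.ClassicalGeometry.PSL2Basic
import Cfsg.Agent.S0804

/-!
# Orders of the Sylow 2-subgroups of the known groups, and the induction hypothesis
-/

set_option autoImplicit false

namespace Cfsg.Agent.Walter.TypeSylow

open Subgroup Cfsg
open Cfsg.Agent.Walter.Types

theorem card_sylow_of {K : Type*} [Group K] [Finite K] {a m : ℕ} (h : Nat.card K = 2 ^ a * m)
    (hm : Odd m) (S : Sylow 2 K) : Nat.card (S : Subgroup K) = 2 ^ a := by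
  obtain ⟨n, hn⟩ := IsPGroup.iff_card.1 S.isPGroup'
  have h1 := (S : Subgroup K).card_mul_index
  have h2 := S.not_dvd_index
  rw [hn, h] at h1
  have h3 : (2 ^ n).Coprime m := Nat.Coprime.pow_left n hm.coprime_two_left
  have h4 : (2 ^ a).Coprime (S : Subgroup K).index :=
    Nat.Coprime.pow_left a ((Nat.Prime.coprime_iff_not_dvd Nat.prime_two).2 h2)
  rw [hn]
  apply Nat.dvd_antisymm
  · exact h3.dvd_of_dvd_mul_right (h1 ▸ Dvd.intro _ rfl)
  · exact h4.dvd_of_dvd_mul_right (h1.symm ▸ Dvd.intro _ rfl)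

theorem card_sylow_even {K : Type*} [Group K] [Finite K] {F : Type*} [Field F] [Fintype F] {n : ℕ}
    (hn : Fintype.card F = 2 ^ n) (e : K ≃* Matrix.ProjectiveSpecialLinearGroup (Fin 2) F)
    (S : Sylow 2 K) : Nat.card (S : Subgroup K) = 2 ^ n := by
  have hn0 : n ≠ 0 := by
    rintro rfl
    have := Fintype.one_lt_card (α := F)
    omega
  have h1 := ClassicalGeometry.PSL2Basic.card_PSL2_even F
    (by rw [hn]; exact (Nat.even_pow.2 ⟨even_two, hn0⟩))
  rw [← Nat.card_congr e.toEquiv, hn] at h1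
  refine card_sylow_of h1 ?_ S
  have h2 : 1 ≤ (2 ^ n) ^ 2 := Nat.one_le_pow _ _ (by positivity)
  obtain ⟨m, hm⟩ := Nat.exists_eq_succ_of_ne_zero hn0
  have h3 : (2 ^ n) ^ 2 = 2 * (2 ^ m * 2 ^ (m + 1)) := by
    rw [hm, Nat.succ_eq_add_one]; ring
  have h4 : 0 < 2 ^ m * 2 ^ (m + 1) := by positivity
  rw [h3]
  exact ⟨2 ^ m * 2 ^ (m + 1) - 1, by omega⟩

theorem card_sylow_odd {K : Type*} [Group K] [Finite K] {F : Type*} [Field F] [Fintype F]
    (hF : Fintype.card F % 8 = 3 ∨ Fintype.card F % 8 = 5)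
    (e : K ≃* Matrix.ProjectiveSpecialLinearGroup (Fin 2) F)
    (S : Sylow 2 K) : Nat.card (S : Subgroup K) = 4 := by
  have hodd : Odd (Fintype.card F) := by
    rw [Nat.odd_iff]; omega
  have h1 := ClassicalGeometry.PSL2Basic.card_PSL2_odd F hodd
  rw [← Nat.card_congr e.toEquiv] at h1
  set q := Fintype.card F with hq
  obtain ⟨m, hm, hqm⟩ : ∃ m, Odd m ∧ q ^ 2 - 1 = 8 * m := by
    rcases hF with h | h
    · obtain ⟨k, hk⟩ : ∃ k, q = 8 * k + 3 := ⟨q / 8, by omega⟩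
      refine ⟨8 * k ^ 2 + 6 * k + 1, ⟨4 * k ^ 2 + 3 * k, by ring⟩, ?_⟩
      rw [hk]
      have : (8 * k + 3) ^ 2 = 8 * (8 * k ^ 2 + 6 * k + 1) + 1 := by ring
      omega
    · obtain ⟨k, hk⟩ : ∃ k, q = 8 * k + 5 := ⟨q / 8, by omega⟩
      refine ⟨8 * k ^ 2 + 10 * k + 3, ⟨4 * k ^ 2 + 5 * k + 1, by ring⟩, ?_⟩
      rw [hk]
      have : (8 * k + 5) ^ 2 = 8 * (8 * k ^ 2 + 10 * k + 3) + 1 := by ring
      omega
  have h2 : Nat.card K = 2 ^ 2 * (q * m) := by
    rw [hqm] at h1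
    have : Nat.card K * 2 = (2 ^ 2 * (q * m)) * 2 := by rw [h1]; ring
    exact Nat.eq_of_mul_eq_mul_right two_pos this
  have h3 := card_sylow_of h2 (hodd.mul hm) S
  rw [h3]; norm_num

theorem equiv_alternating {F' : Type*} [Field F'] [Fintype F']
    (h5 : 5 ∣ Fintype.card F' * (Fintype.card F' ^ 2 - 1))
    (hcard : Nat.card (Matrix.ProjectiveSpecialLinearGroup (Fin 2) F') = 60) :
    Nonempty (Matrix.ProjectiveSpecialLinearGroup (Fin 2) F' ≃* alternatingGroup (Fin 5)) := by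
  obtain ⟨H, ⟨e⟩⟩ := (S0804.result (F := F') rfl).2 h5
  have h1 : Nat.card H = 60 := by
    rw [Nat.card_congr e.toEquiv, nat_card_alternatingGroup]
    norm_num [Nat.factorial]
  have h2 : H = ⊤ := Subgroup.eq_top_of_card_eq H (by rw [h1, hcard])
  exact ⟨Subgroup.topEquiv.symm.trans ((MulEquiv.subgroupCongr h2).symm.trans e)⟩

/-- `PSL(2,4) ≅ PSL(2,5)` -/
theorem psl_four_equiv {F : Type*} [Field F] [Fintype F] (hF : Fintype.card F = 4) :
    Nonempty (Matrix.ProjectiveSpecialLinearGroup (Fin 2) F ≃*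
      Matrix.ProjectiveSpecialLinearGroup (Fin 2) (ZMod 5)) := by
  haveI : Fact (Nat.Prime 5) := ⟨by norm_num⟩
  have c1 : Nat.card (Matrix.ProjectiveSpecialLinearGroup (Fin 2) F) = 60 := by
    rw [ClassicalGeometry.PSL2Basic.card_PSL2_even F (by rw [hF]; decide), hF]
    norm_num
  have c2 : Nat.card (Matrix.ProjectiveSpecialLinearGroup (Fin 2) (ZMod 5)) = 60 := by
    have h := ClassicalGeometry.PSL2Basic.card_PSL2_odd (ZMod 5) (by rw [ZMod.card]; decide)
    rw [ZMod.card] at h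
    omega
  obtain ⟨f⟩ := equiv_alternating (F' := F) (by rw [hF]; norm_num) c1
  obtain ⟨g⟩ := equiv_alternating (F' := ZMod 5) (by rw [ZMod.card]; norm_num) c2
  exact ⟨f.trans g.symm⟩

theorem card_sylow_JR {K : Type*} [Group K] [Finite K] (h : IsJR K) (S : Sylow 2 K) :
    Nat.card (S : Subgroup K) = 8 ∧ ∀ s ∈ (S : Subgroup K), s * s = 1 := by
  obtain ⟨⟨P, hP, hP2⟩, -⟩ := h
  haveI : Fact (Nat.Prime 2) := ⟨Nat.prime_two⟩
  constructor
  · rw [← hP]
    exact Nat.card_congr (S.equiv P).toEquiv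
  · intro s hs
    have h1 := hP2 (S.equiv P ⟨s, hs⟩) (S.equiv P ⟨s, hs⟩).2
    have h2 : S.equiv P (⟨s, hs⟩ * ⟨s, hs⟩) = 1 := by
      rw [map_mul]
      exact Subtype.ext h1
    rw [← map_one (S.equiv P)] at h2
    exact congrArg Subtype.val ((S.equiv P).injective h2)

/-- a known group with Sylow 2-subgroups of order 4 is `PSL(2,q)`, `q ≡ 3, 5 mod 8`. -/
theorem isOddType_of_card_four {K : Type*} [Group K] [Finite K] (h : WType K) (S : Sylow 2 K)
    (hS : Nat.card (S : Subgroup K) = 4) : IsOddType K := by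
  rcases h with ⟨F, i1, i2, n, hn, hF, ⟨e⟩⟩ | h | h
  · have h1 := card_sylow_even hF e S
    rw [hS] at h1
    have h2 : n = 2 := by
      have : (2 : ℕ) ^ 2 = 2 ^ n := by rw [← h1]; norm_num
      exact (Nat.pow_right_injective le_rfl this).symm
    subst h2
    obtain ⟨f⟩ := psl_four_equiv (F := F) (by rw [hF]; norm_num)
    haveI : Fact (Nat.Prime 5) := ⟨by norm_num⟩
    exact ⟨ZMod 5, inferInstance, inferInstance, by rw [ZMod.card]; norm_num,
      by rw [ZMod.card], ⟨e.trans f⟩⟩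
  · exact h
  · have h1 := (card_sylow_JR h S).1
    omega

/-- a known group with Sylow 2-subgroups of order 8 is `PSL(2,8)` or of Janko-Ree type. -/
theorem of_card_eight {K : Type*} [Group K] [Finite K] (h : WType K) (S : Sylow 2 K)
    (hS : Nat.card (S : Subgroup K) = 8) :
    (∃ (F : Type) (_ : Field F) (_ : Fintype F), Fintype.card F = 8 ∧
      Nonempty (K ≃* Matrix.ProjectiveSpecialLinearGroup (Fin 2) F)) ∨ IsJR K := by
  rcases h with ⟨F, i1, i2, n, hn, hF, ⟨e⟩⟩ | ⟨F, i1, i2, hF, -, ⟨e⟩⟩ | h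
  · left
    have h1 := card_sylow_even hF e S
    rw [hS] at h1
    have h2 : n = 3 := by
      have : (2 : ℕ) ^ 3 = 2 ^ n := by rw [← h1]; norm_num
      exact (Nat.pow_right_injective le_rfl this).symm
    subst h2
    exact ⟨F, i1, i2, by rw [hF]; norm_num, ⟨e⟩⟩
  · have h1 := card_sylow_odd hF e S
    omega
  · exact Or.inr h

universe u

/-- the induction hypothesis: all simple groups of order `< n` with abelian Sylow 2-subgroup are known. -/
def Ind (n : ℕ) : Prop :=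
  ∀ (K : Type u) [Group K] [Finite K], IsSimpleGroup K → ¬ IsMulCommutative K →
    ∀ S : Sylow 2 K, (∀ a ∈ (S : Subgroup K), ∀ b ∈ (S : Subgroup K), a * b = b * a) →
      Nat.card K < n → WType K

theorem ind_def (n : ℕ) : Ind.{u} n ↔
    ∀ (K : Type u) [Group K] [Finite K], IsSimpleGroup K → ¬ IsMulCommutative K →
    ∀ S : Sylow 2 K, (∀ a ∈ (S : Subgroup K), ∀ b ∈ (S : Subgroup K), a * b = b * a) →
      Nat.card K < n → WType K := Iff.rfl

/-- components of a core-free group of order `< n` are known -/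
theorem wType_of_isComponent {n : ℕ} (hind : Ind.{u} n) {X : Type u} [Group X] [Finite X]
    (hO : pPrimeCore 2 X = ⊥) {S : Sylow 2 X}
    (hS : ∀ a ∈ (S : Subgroup X), ∀ b ∈ (S : Subgroup X), a * b = b * a)
    (hX : Nat.card X < n) {K : Subgroup X} (hK : IsComponent K) : WType K := by
  obtain ⟨P, hP⟩ := AbStruct.exists_sylow S hK
  refine hind K (AbStruct.isSimpleGroup hO hS hK) (AbStruct.not_comm hK) P ?_ ?_
  · intro a ha b hb
    rw [hP] at ha hb
    exact AbStruct.comm_subgroupOf hS a ha b hb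
  · exact lt_of_le_of_lt (Subgroup.card_le_card_group K) hX

/-- abelian Sylow 2-subgroups pass to subgroups -/
theorem comm_of_subgroup {G : Type*} [Group G] [Finite G] {S : Sylow 2 G}
    (hS : ∀ a ∈ (S : Subgroup G), ∀ b ∈ (S : Subgroup G), a * b = b * a) (H : Subgroup G)
    (T : Sylow 2 H) : ∀ a ∈ (T : Subgroup H), ∀ b ∈ (T : Subgroup H), a * b = b * a := by
  have h1 : IsPGroup 2 ((T : Subgroup H).map H.subtype) := T.2.map _
  obtain ⟨Q, hQ⟩ := h1.exists_le_sylow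
  haveI : Fact (Nat.Prime 2) := ⟨Nat.prime_two⟩
  obtain ⟨g, hg⟩ := MulAction.exists_smul_eq G S Q
  intro a ha b hb
  have hmem : ∀ x ∈ (Q : Subgroup G), g⁻¹ * x * g ∈ (S : Subgroup G) := by
    intro x hx
    rw [← hg] at hx
    rw [Sylow.coe_subgroup_smul, mem_pointwise_smul_iff_inv_smul_mem] at hx
    simpa [MulAut.smul_def] using hx
  have h2 := hS _ (hmem a (hQ ⟨a, ha, rfl⟩)) _ (hmem b (hQ ⟨b, hb, rfl⟩))
  have h3 : (a : G) * b = b * a := by
    have h4 : g * ((g⁻¹ * a * g) * (g⁻¹ * b * g)) * g⁻¹ = (a : G) * b := by group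
    have h5 : g * ((g⁻¹ * b * g) * (g⁻¹ * a * g)) * g⁻¹ = (b : G) * a := by group
    rw [← h4, ← h5, h2]
  exact Subtype.ext h3

/-- abelian Sylow 2-subgroups pass to quotients -/
theorem comm_of_surjective {G Y : Type*} [Group G] [Finite G] [Group Y] [Finite Y] {S : Sylow 2 G}
    (hS : ∀ a ∈ (S : Subgroup G), ∀ b ∈ (S : Subgroup G), a * b = b * a) {f : G →* Y}
    (hf : Function.Surjective f) (T : Sylow 2 Y) :
    ∀ a ∈ (T : Subgroup Y), ∀ b ∈ (T : Subgroup Y), a * b = b * a := by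
  haveI : Fact (Nat.Prime 2) := ⟨Nat.prime_two⟩
  obtain ⟨g, hg⟩ := MulAction.exists_smul_eq Y (S.mapSurjective hf) T
  intro a ha b hb
  have hmem : ∀ x ∈ (T : Subgroup Y), g⁻¹ * x * g ∈ (S : Subgroup G).map f := by
    intro x hx
    rw [← hg] at hx
    rw [Sylow.coe_subgroup_smul, mem_pointwise_smul_iff_inv_smul_mem] at hx
    simpa [MulAut.smul_def] using hx
  obtain ⟨a', ha', hae⟩ := hmem a ha
  obtain ⟨b', hb', hbe⟩ := hmem b hb
  have h2 : (g⁻¹ * a * g) * (g⁻¹ * b * g) = (g⁻¹ * b * g) * (g⁻¹ * a * g) := by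
    rw [← hae, ← hbe, ← map_mul, hS a' ha' b' hb', map_mul]
  have h4 : g * ((g⁻¹ * a * g) * (g⁻¹ * b * g)) * g⁻¹ = a * b := by group
  have h5 : g * ((g⁻¹ * b * g) * (g⁻¹ * a * g)) * g⁻¹ = b * a := by group
  rw [← h4, ← h5, h2]

/-- abelian Sylow 2-subgroups pass to `H/O(H)` -/
theorem comm_of_quotient {G : Type*} [Group G] [Finite G] {S : Sylow 2 G}
    (hS : ∀ a ∈ (S : Subgroup G), ∀ b ∈ (S : Subgroup G), a * b = b * a) (H : Subgroup G)
    (T : Sylow 2 (H ⧸ pPrimeCore 2 H)) :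
    ∀ a ∈ (T : Subgroup (H ⧸ pPrimeCore 2 H)), ∀ b ∈ (T : Subgroup (H ⧸ pPrimeCore 2 H)),
      a * b = b * a := by
  obtain ⟨P⟩ : Nonempty (Sylow 2 H) := inferInstance
  exact comm_of_surjective (comm_of_subgroup hS H P)
    (QuotientGroup.mk'_surjective (pPrimeCore 2 H)) T

/-- components of `H/O(H)`, `|H| < n`, are known -/
theorem wType_of_isComponent_quotient {n : ℕ} (hind : Ind.{u} n) {G : Type u} [Group G] [Finite G]
    {S : Sylow 2 G} (hS : ∀ a ∈ (S : Subgroup G), ∀ b ∈ (S : Subgroup G), a * b = b * a)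
    (H : Subgroup G) (hH : Nat.card H < n) {K : Subgroup (H ⧸ pPrimeCore 2 H)}
    (hK : IsComponent K) : WType K := by
  obtain ⟨T⟩ : Nonempty (Sylow 2 (H ⧸ pPrimeCore 2 H)) := inferInstance
  refine wType_of_isComponent hind (Lib.Cores.pPrimeCore_quotient_pPrimeCore 2)
    (comm_of_quotient hS H T) ?_ hK
  refine lt_of_le_of_lt ?_ hH
  exact Nat.card_le_card_of_surjective _ (QuotientGroup.mk'_surjective (pPrimeCore 2 H))

end Cfsg.Agent.Walter.TypeSylow
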