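import Mathlib
import Cfsg.Prelude.Def_CaseTheorems
import Cfsg.Prelude.Def_LieExceptional
import Cfsg.Prelude.Def_Sporadic
import Cfsg.Agent.Walter.TypeSylow

/-!
# Simple groups with abelian Sylow 2-subgroups: the induction and the final assembly

`wType_of_step`: from the induction step to the theorem (centraliser form).
`final_of`: from the theorem (centraliser form) and the theorem on simple groups with an involution
centraliser `Z₂ × PSL(2, q)` to the conclusion in the list of known groups.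
-/

set_option autoImplicit false

namespace Cfsg.Agent.Walter.Main

open Subgroup Cfsg
open Cfsg.Agent.Walter.Types Cfsg.Agent.Walter.TypeSylow

universe u v

/-- The induction step: `G` simple, not abelian, with abelian Sylow 2-subgroup; all smaller ones known. -/
def Step : Prop :=
  ∀ (G : Type u) [Group G] [Finite G], IsSimpleGroup G → ¬ IsMulCommutative G →
    ∀ S : Sylow 2 G, (∀ a ∈ (S : Subgroup G), ∀ b ∈ (S : Subgroup G), a * b = b * a) →
      Ind.{u} (Nat.card G) → WType G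

theorem wType_of_step (hstep : Step.{u}) (G : Type u) [Group G] [Finite G] (hG : IsSimpleGroup G)
    (hna : ¬ IsMulCommutative G) (S : Sylow 2 G)
    (hS : ∀ a ∈ (S : Subgroup G), ∀ b ∈ (S : Subgroup G), a * b = b * a) : WType G := by
  have key : ∀ n : ℕ, Ind.{u} n := by
    intro n
    induction n with
    | zero => intro K _ _ _ _ _ _ h; omega
    | succ n ih =>
      intro K _ _ h1 h2 T h3 h4
      refine hstep K h1 h2 T h3 ?_
      intro L _ _ h5 h6 U h7 h8
      exact ih L h5 h6 U h7 (by omega)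
  exact hstep G hG hna S hS (key _)

/-- Abelianness of one Sylow 2-subgroup in the form used in the statements. -/
theorem comm_of_isMulCommutative {G : Type*} [Group G] {S : Sylow 2 G}
    (hS : IsMulCommutative (S : Subgroup G)) :
    ∀ a ∈ (S : Subgroup G), ∀ b ∈ (S : Subgroup G), a * b = b * a := by
  intro a ha b hb
  have := hS.is_comm.comm ⟨a, ha⟩ ⟨b, hb⟩
  exact congrArg Subtype.val this

/-- all Sylow 2-subgroups are abelian as soon as one is -/
theorem all_comm {G : Type*} [Group G] [Finite G] {S : Sylow 2 G}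
    (hS : ∀ a ∈ (S : Subgroup G), ∀ b ∈ (S : Subgroup G), a * b = b * a) (P : Sylow 2 G) :
    ∀ a b : P, a * b = b * a := by
  haveI : Fact (Nat.Prime 2) := ⟨Nat.prime_two⟩
  intro a b
  let e := P.equiv S
  apply e.injective
  rw [map_mul, map_mul]
  exact Subtype.ext (hS _ (e a).2 _ (e b).2)

/-- The theorem about involution centralisers `Z₂ × PSL(2, q)`, in the universe `u`. -/
def CentThm : Prop :=
  ∀ (G : Type u) [Group G] [Finite G] [IsSimpleGroup G],
    (∀ P : Sylow 2 G, ∀ a b : P, a * b = b * a) →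
    ∀ (F : Type) [Field F] [Fintype F], 3 ≤ Fintype.card F → ∀ t : G, orderOf t = 2 →
    Nonempty (Subgroup.centralizer ({t} : Set G) ≃*
      Multiplicative (ZMod 2) × Matrix.ProjectiveSpecialLinearGroup (Fin 2) F) →
    (∃ m : ℕ, 1 ≤ m ∧ Fintype.card F = 3 ^ (2 * m + 1) ∧
        Nat.card G = (3 ^ (2 * m + 1)) ^ 3 * ((3 ^ (2 * m + 1)) ^ 3 + 1) * (3 ^ (2 * m + 1) - 1)) ∨
      ((Fintype.card F = 4 ∨ Fintype.card F = 5) ∧ Cfsg.IsJ1 G)

/-- Janko-Ree type gives the groups in the list. -/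
theorem isRee_or_isJ1_of_isJR (hC : CentThm.{u}) {G : Type u} [Group G] [Finite G] [IsSimpleGroup G]
    {S : Sylow 2 G} (hS : ∀ a ∈ (S : Subgroup G), ∀ b ∈ (S : Subgroup G), a * b = b * a)
    (h : IsJR G) : Cfsg.IsRee G ∨ Cfsg.IsJ1 G := by
  have h8 := (card_sylow_JR h S).1
  obtain ⟨-, F, i1, i2, -, hq, hc⟩ := h
  obtain ⟨t, ht⟩ : ∃ t : G, orderOf t = 2 := by
    haveI : Fact (Nat.Prime 2) := ⟨Nat.prime_two⟩
    apply exists_prime_orderOf_dvd_card'
    have h1 : Nat.card (S : Subgroup G) ∣ Nat.card G := (S : Subgroup G).card_subgroup_dvd_card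
    rw [h8] at h1
    omega
  rcases hC G (all_comm hS) F (by omega) t ht (hc t ht) with ⟨m, hm, -, hcard⟩ | ⟨-, hJ⟩
  · exact Or.inl ⟨inferInstance, m, hm, hcard⟩
  · exact Or.inr hJ

theorem final_of (hC : CentThm.{u}) {G : Type u} [Group G] [Finite G] [IsSimpleGroup G]
    {S : Sylow 2 G} (hS : ∀ a ∈ (S : Subgroup G), ∀ b ∈ (S : Subgroup G), a * b = b * a)
    (h : WType G) :
    (∃ a : ℕ, 2 ≤ a ∧ ∃ (F : Type) (_ : Field F) (_ : Fintype F), Fintype.card F = 2 ^ a ∧
      Nonempty (G ≃* Matrix.ProjectiveSpecialLinearGroup (Fin 2) F)) ∨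
    (∃ (F : Type) (_ : Field F) (_ : Fintype F),
      (Fintype.card F % 8 = 3 ∨ Fintype.card F % 8 = 5) ∧
      Nonempty (G ≃* Matrix.ProjectiveSpecialLinearGroup (Fin 2) F)) ∨
    Cfsg.IsRee G ∨ Cfsg.IsJ1 G := by
  rcases h with ⟨F, i1, i2, n, hn, hF, he⟩ | ⟨F, i1, i2, hF, -, he⟩ | h
  · exact Or.inl ⟨n, hn, F, i1, i2, hF, he⟩
  · exact Or.inr (Or.inl ⟨F, i1, i2, hF, he⟩)
  · exact Or.inr (Or.inr (isRee_or_isJ1_of_isJR hC hS h))

/-- The final assembly. -/
theorem simple_of_abelian_sylow_two_of (hstep : Step.{u}) (hC : CentThm.{u}) {G : Type u} [Group G]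
    [Finite G] [IsSimpleGroup G] (hG : ¬ IsMulCommutative G) (S : Sylow 2 G)
    (hS : IsMulCommutative (S : Subgroup G)) :
    (∃ a : ℕ, 2 ≤ a ∧ ∃ (F : Type) (_ : Field F) (_ : Fintype F), Fintype.card F = 2 ^ a ∧
      Nonempty (G ≃* Matrix.ProjectiveSpecialLinearGroup (Fin 2) F)) ∨
    (∃ (F : Type) (_ : Field F) (_ : Fintype F),
      (Fintype.card F % 8 = 3 ∨ Fintype.card F % 8 = 5) ∧
      Nonempty (G ≃* Matrix.ProjectiveSpecialLinearGroup (Fin 2) F)) ∨
    Cfsg.IsRee G ∨ Cfsg.IsJ1 G :=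
  final_of hC (comm_of_isMulCommutative hS)
    (wType_of_step hstep G inferInstance hG S (comm_of_isMulCommutative hS))

/-- An involution centraliser in the Janko-Ree case (the form used for the isomorphism theorems). -/
theorem centralizer_of_wType {G : Type*} [Group G] [Finite G] (h : WType G) :
    (∃ a : ℕ, 2 ≤ a ∧ ∃ (F : Type) (_ : Field F) (_ : Fintype F), Fintype.card F = 2 ^ a ∧
      Nonempty (G ≃* Matrix.ProjectiveSpecialLinearGroup (Fin 2) F)) ∨
    (∃ (F : Type) (_ : Field F) (_ : Fintype F),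
      (Fintype.card F % 8 = 3 ∨ Fintype.card F % 8 = 5) ∧ 5 ≤ Fintype.card F ∧
      Nonempty (G ≃* Matrix.ProjectiveSpecialLinearGroup (Fin 2) F)) ∨
    ∃ (F : Type) (_ : Field F) (_ : Fintype F),
      (Fintype.card F % 8 = 3 ∨ Fintype.card F % 8 = 5) ∧ 5 ≤ Fintype.card F ∧
      (∃ t : G, orderOf t = 2) ∧
      ∀ t : G, orderOf t = 2 → Nonempty (Subgroup.centralizer ({t} : Set G) ≃*
        Multiplicative (ZMod 2) × Matrix.ProjectiveSpecialLinearGroup (Fin 2) F) := by
  rcases h with ⟨F, i1, i2, n, hn, hF, he⟩ | ⟨F, i1, i2, hF, h5, he⟩ | h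
  · exact Or.inl ⟨n, hn, F, i1, i2, hF, he⟩
  · exact Or.inr (Or.inl ⟨F, i1, i2, hF, h5, he⟩)
  · obtain ⟨S⟩ : Nonempty (Sylow 2 G) := inferInstance
    have h8 := (card_sylow_JR h S).1
    obtain ⟨-, F, i1, i2, h35, hq, hc⟩ := h
    refine Or.inr (Or.inr ⟨F, i1, i2, h35, hq, ?_, hc⟩)
    haveI : Fact (Nat.Prime 2) := ⟨Nat.prime_two⟩
    apply exists_prime_orderOf_dvd_card'
    have h1 : Nat.card (S : Subgroup G) ∣ Nat.card G := (S : Subgroup G).card_subgroup_dvd_card
    rw [h8] at h1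
    omega

end Cfsg.Agent.Walter.Main
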