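import Mathlib
import Cfsg.Agent.ClassicalGeometry.AutPSL.Main
import Cfsg.Agent.ClassicalGeometry.PSL2Basic

/-!
# Odd order automorphisms of `PSL(2,F)` centralizing a four-group

`F` a finite field of odd characteristic, `a² + b² = -1` in the prime field, `i, j` the standard generators of a
quaternion group in `SL(2,F)`. Automorphisms of odd order of `PSL(2,F)` that fix the images of `i` and `j` are field
automorphisms `σ`; the fixed points of a field automorphism `σ` of odd order form `PSL(2, F^σ)`.
-/

set_option autoImplicit false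

namespace Cfsg.Agent.Walter.FieldPSL

open Matrix
open Cfsg.Agent.ClassicalGeometry
open Cfsg.Agent.ClassicalGeometry.AutPSL.Root
open Cfsg.Agent.ClassicalGeometry.AutPSL.Auto

variable {F : Type*} [Field F]

/-- every finite field of odd characteristic contains natural numbers `a, b` with `a² + b² = -1`. -/
theorem exists_sq_add_sq (F : Type*) [Field F] [Finite F] : ∃ a b : ℕ, (a : F) ^ 2 + (b : F) ^ 2 = -1 := by
  obtain ⟨p, hp⟩ := CharP.exists F
  have hpp : Fact p.Prime := ⟨CharP.char_is_prime F p⟩
  obtain ⟨a, b, -, -, h⟩ := Nat.sq_add_sq_zmodEq p (-1)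
  refine ⟨a, b, ?_⟩
  have h1 : (((a : ℤ) ^ 2 + (b : ℤ) ^ 2 : ℤ) : F) = ((-1 : ℤ) : F) :=
    (CharP.intCast_eq_intCast F p).2 h
  push_cast at h1
  exact h1

/-- the matrix `i` -/
def I : Matrix.SpecialLinearGroup (Fin 2) F := ⟨!![0, 1; -1, 0], by simp [det_fin_two]⟩

/-- the matrix `j` -/
def J (a b : F) (h : a ^ 2 + b ^ 2 = -1) : Matrix.SpecialLinearGroup (Fin 2) F :=
  ⟨!![a, b; b, -a], by rw [det_fin_two_of]; linear_combination -h⟩

theorem I_sq : (I : Matrix.SpecialLinearGroup (Fin 2) F) * I = -1 := by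
  apply Subtype.ext
  rw [Matrix.SpecialLinearGroup.coe_mul, Matrix.SpecialLinearGroup.coe_neg, Matrix.SpecialLinearGroup.coe_one]
  ext r s
  fin_cases r <;> fin_cases s <;> simp [I, Matrix.mul_apply, Fin.sum_univ_two]

theorem J_sq {a b : F} (h : a ^ 2 + b ^ 2 = -1) : J a b h * J a b h = -1 := by
  apply Subtype.ext
  rw [Matrix.SpecialLinearGroup.coe_mul, Matrix.SpecialLinearGroup.coe_neg, Matrix.SpecialLinearGroup.coe_one]
  ext r s
  fin_cases r <;> fin_cases s <;> simp [J, Matrix.mul_apply, Fin.sum_univ_two]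
  · linear_combination h
  · ring
  · ring
  · linear_combination h

theorem IJ {a b : F} (h : a ^ 2 + b ^ 2 = -1) : I * J a b h = -(J a b h * I) := by
  apply Subtype.ext
  rw [Matrix.SpecialLinearGroup.coe_mul, Matrix.SpecialLinearGroup.coe_neg, Matrix.SpecialLinearGroup.coe_mul]
  ext r s
  fin_cases r <;> fin_cases s <;> simp [I, J, Matrix.mul_apply, Fin.sum_univ_two]

theorem pr_neg (x : Matrix.SpecialLinearGroup (Fin 2) F) : pr (-x) = pr x := by
  have h1 : -x = (-1) * x := by rw [neg_one_mul]
  rw [h1, map_mul]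
  have h2 : pr (-1 : Matrix.SpecialLinearGroup (Fin 2) F) = 1 :=
    (QuotientGroup.eq_one_iff _).2 (PSL2Basic.mem_center_SL2_iff.2 (Or.inr rfl))
  rw [h2, one_mul]

theorem pr_eq_iff {x y : Matrix.SpecialLinearGroup (Fin 2) F} : pr x = pr y ↔ x = y ∨ x = -y := by
  constructor
  · intro h
    have h1 : pr (x * y⁻¹) = 1 := by rw [map_mul, map_inv, h, mul_inv_cancel]
    rcases PSL2Basic.mem_center_SL2_iff.1 ((QuotientGroup.eq_one_iff _).1 h1) with h2 | h2
    · exact Or.inl (mul_inv_eq_one.1 h2)
    · right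
      rw [mul_inv_eq_iff_eq_mul, neg_one_mul] at h2
      exact h2
  · rintro (rfl | rfl)
    · rfl
    · exact pr_neg _

theorem pr_I_sq : pr (I : Matrix.SpecialLinearGroup (Fin 2) F) * pr I = 1 := by
  rw [← map_mul, I_sq, pr_neg, map_one]

theorem pr_J_sq {a b : F} (h : a ^ 2 + b ^ 2 = -1) : pr (J a b h) * pr (J a b h) = 1 := by
  rw [← map_mul, J_sq, pr_neg, map_one]

theorem pr_IJ {a b : F} (h : a ^ 2 + b ^ 2 = -1) : pr I * pr (J a b h) = pr (J a b h) * pr I := by
  rw [← map_mul, IJ, pr_neg, map_mul]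

theorem fld_I (σ : F ≃+* F) : fld σ I = I := by
  apply Subtype.ext
  ext r s
  rw [coe_fld_apply]
  fin_cases r <;> fin_cases s <;> simp [I]

theorem fld_J (σ : F ≃+* F) {a b : F} (h : a ^ 2 + b ^ 2 = -1) (ha : σ a = a) (hb : σ b = b) :
    fld σ (J a b h) = J a b h := by
  apply Subtype.ext
  ext r s
  rw [coe_fld_apply]
  fin_cases r <;> fin_cases s <;> simp [J, ha, hb]

/-- a matrix commuting up to sign with `i` and `j` is a multiple of `1, i, j` or `ij`. -/
theorem eq_smul (h2 : (2 : F) ≠ 0) {a b : F} (h : a ^ 2 + b ^ 2 = -1) {A : Matrix (Fin 2) (Fin 2) F}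
    (hI : A * (I : Matrix.SpecialLinearGroup (Fin 2) F).1 = I.1 * A ∨
      A * (I : Matrix.SpecialLinearGroup (Fin 2) F).1 = -(I.1 * A))
    (hJ : A * (J a b h).1 = (J a b h).1 * A ∨ A * (J a b h).1 = -((J a b h).1 * A)) :
    ∃ (c : F) (v : Matrix.SpecialLinearGroup (Fin 2) F),
      (v = 1 ∨ v = I ∨ v = J a b h ∨ v = I * J a b h) ∧ A = c • v.1 := by
  have e := Matrix.eta_fin_two A
  set p := A 0 0 with hp
  set q := A 0 1 with hq
  set r := A 1 0 with hr
  set s := A 1 1 with hs
  rw [e] at hI hJ ⊢
  have h2' : ∀ x : F, x + x = 0 → x = 0 := fun x hx => by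
    have : (2 : F) * x = 0 := by rw [two_mul]; exact hx
    exact (mul_eq_zero.1 this).resolve_left h2
  have hzero : ∀ x : F, a * x = 0 → b * x = 0 → x = 0 := fun x hx hy => by
    linear_combination x * h - a * hx - b * hy
  rcases hI with hI | hI
  · have e1 := congrFun (congrFun hI 0) 0
    have e2 := congrFun (congrFun hI 0) 1
    simp [I, Matrix.mul_apply, Fin.sum_univ_two] at e1 e2
    -- `r = -q`, `s = p`
    have hr' : r = -q := e1.symm
    have hs' : s = p := e2.symm
    rcases hJ with hJ | hJ
    · have f1 := congrFun (congrFun hJ 0) 0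
      have f2 := congrFun (congrFun hJ 0) 1
      simp [J, Matrix.mul_apply, Fin.sum_univ_two] at f1 f2
      rw [hr'] at f1
      rw [hs'] at f2
      have hq0 : q = 0 := by
        refine hzero q (h2' _ ?_) (h2' _ ?_)
        · linear_combination -f2
        · linear_combination f1
      refine ⟨p, 1, Or.inl rfl, ?_⟩
      rw [hr', hs', hq0]
      ext r s
      fin_cases r <;> fin_cases s <;> simp
    · have f1 := congrFun (congrFun hJ 0) 0
      have f2 := congrFun (congrFun hJ 0) 1
      simp [J, Matrix.mul_apply, Fin.sum_univ_two] at f1 f2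
      rw [hr'] at f1
      rw [hs'] at f2
      have hp0 : p = 0 := by
        refine hzero p (h2' _ ?_) (h2' _ ?_)
        · linear_combination f1
        · linear_combination f2
      refine ⟨q, I, Or.inr (Or.inl rfl), ?_⟩
      rw [hr', hs', hp0]
      ext r s
      fin_cases r <;> fin_cases s <;> simp [I]
  · have e1 := congrFun (congrFun hI 0) 0
    have e2 := congrFun (congrFun hI 0) 1
    simp [I, Matrix.mul_apply, Fin.sum_univ_two] at e1 e2
    have hr' : r = q := e1.symm
    have hs' : s = -p := by rw [e2, neg_neg]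
    rcases hJ with hJ | hJ
    · have f1 := congrFun (congrFun hJ 0) 0
      have f2 := congrFun (congrFun hJ 0) 1
      simp [J, Matrix.mul_apply, Fin.sum_univ_two] at f1 f2
      rw [hs'] at f2
      -- `p b = q a`
      have hpq : p * b = q * a := by
        have : (p * b - q * a) + (p * b - q * a) = 0 := by linear_combination f2
        exact sub_eq_zero.1 (h2' _ this)
      refine ⟨-(p * a + q * b), J a b h, Or.inr (Or.inr (Or.inl rfl)), ?_⟩
      rw [hr', hs']
      have g1 : p = -(p * a + q * b) * a := by linear_combination p * h - b * hpq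
      have g2 : q = -(p * a + q * b) * b := by linear_combination q * h + a * hpq
      ext r s
      fin_cases r <;> fin_cases s <;> simp [J]
      · linear_combination g1
      · linear_combination g2
      · linear_combination g2
      · linear_combination g1
    · have f1 := congrFun (congrFun hJ 0) 0
      simp [J, Matrix.mul_apply, Fin.sum_univ_two] at f1
      rw [hr'] at f1
      have hpq : p * a + q * b = 0 := by
        refine h2' _ ?_
        linear_combination f1
      refine ⟨q * a - p * b, I * J a b h, Or.inr (Or.inr (Or.inr rfl)), ?_⟩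
      rw [hr', hs']
      have g1 : p = (q * a - p * b) * b := by linear_combination p * h - a * hpq
      have g2 : q = -(q * a - p * b) * a := by linear_combination q * h - b * hpq
      rw [Matrix.SpecialLinearGroup.coe_mul]
      ext r s
      fin_cases r <;> fin_cases s <;> simp [I, J, Matrix.mul_apply, Fin.sum_univ_two]
      · linear_combination g1
      · linear_combination g2
      · linear_combination g2
      · linear_combination g1

/-- **Automorphisms of odd order fixing a four-group are field automorphisms.** -/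
theorem exists_fld [Fintype F] (h2 : (2 : F) ≠ 0) {a b : F} (h : a ^ 2 + b ^ 2 = -1)
    (hab : ∀ σ : F ≃+* F, σ a = a ∧ σ b = b)
    {α : MulAut (Matrix.ProjectiveSpecialLinearGroup (Fin 2) F)}
    (hI : α (pr I) = pr I) (hJ : α (pr (J a b h)) = pr (J a b h)) {m : ℕ} (hm : Odd m) (hα : α ^ m = 1) :
    ∃ σ : F ≃+* F, α = lift (fld σ) := by
  obtain ⟨p, hp⟩ := CharP.exists F
  have hpp : Fact p.Prime := ⟨CharP.char_is_prime F p⟩
  obtain ⟨A, σ, hA⟩ := AutPSL.Main.surj_two p α
  have hA' : ∀ x, α (pr x) = pr (cj A (fld σ x)) := by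
    intro x
    rw [hA, lift_pr]
    rfl
  rw [hA', fld_I, pr_eq_iff] at hI
  rw [hA', fld_J σ h (hab σ).1 (hab σ).2, pr_eq_iff] at hJ
  have hAA : ((A⁻¹ : GL (Fin 2) F) : Matrix (Fin 2) (Fin 2) F) * (A : Matrix (Fin 2) (Fin 2) F) = 1 := by
    rw [← Units.val_mul, inv_mul_cancel, Units.val_one]
  have key : ∀ x : Matrix.SpecialLinearGroup (Fin 2) F, (cj A x = x ∨ cj A x = -x) →
      ((A : Matrix (Fin 2) (Fin 2) F) * x.1 = x.1 * A ∨ (A : Matrix (Fin 2) (Fin 2) F) * x.1 = -(x.1 * A)) := by
    intro x hx
    rcases hx with hx | hx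
    · left
      have h1 := congrArg (fun g : Matrix.SpecialLinearGroup (Fin 2) F => g.1 * (A : Matrix (Fin 2) (Fin 2) F)) hx
      simp only [coe_cj] at h1
      rw [mul_assoc, hAA, mul_one] at h1
      exact h1
    · right
      have h1 := congrArg (fun g : Matrix.SpecialLinearGroup (Fin 2) F => g.1 * (A : Matrix (Fin 2) (Fin 2) F)) hx
      simp only [coe_cj] at h1
      rw [mul_assoc, hAA, mul_one, Matrix.SpecialLinearGroup.coe_neg, neg_mul] at h1
      exact h1
  obtain ⟨c, v, hv, hAv⟩ := eq_smul h2 h (key _ hI) (key _ hJ)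
  -- conjugation by `v`
  have hcj : ∀ x, pr (cj A x) = pr v * pr x * (pr v)⁻¹ := by
    intro x
    have h3 : cj A x * v = v * x := by
      apply Subtype.ext
      have hc0 : c ≠ 0 := by
        rintro rfl
        rw [zero_smul] at hAv
        have h4 := hAA
        rw [hAv, mul_zero] at h4
        exact zero_ne_one h4
      have h4 : c • ((cj A x * v).1) = c • ((v * x).1) := by
        rw [Matrix.SpecialLinearGroup.coe_mul, Matrix.SpecialLinearGroup.coe_mul, ← Matrix.mul_smul, ← hAv,
          ← Matrix.smul_mul, ← hAv, coe_cj, mul_assoc, hAA, mul_one]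
      exact (smul_right_injective _ hc0) h4
    rw [← map_mul, ← h3, map_mul, mul_inv_cancel_right]
  have hvv : pr v * pr v = 1 := by
    rcases hv with rfl | rfl | rfl | rfl
    · simp
    · exact pr_I_sq
    · exact pr_J_sq h
    · rw [map_mul]
      calc pr I * pr (J a b h) * (pr I * pr (J a b h))
          = pr I * (pr (J a b h) * pr I) * pr (J a b h) := by group
        _ = pr I * (pr I * pr (J a b h)) * pr (J a b h) := by rw [pr_IJ h]
        _ = (pr I * pr I) * (pr (J a b h) * pr (J a b h)) := by group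
        _ = 1 := by rw [pr_I_sq, pr_J_sq, one_mul]
  have hfv : fld σ v = v := by
    rcases hv with rfl | rfl | rfl | rfl
    · exact map_one _
    · exact fld_I σ
    · exact fld_J σ h (hab σ).1 (hab σ).2
    · rw [map_mul, fld_I, fld_J σ h (hab σ).1 (hab σ).2]
  -- `α² = σ²`
  have hα2 : α ^ 2 = lift (fld (σ ^ 2)) := by
    apply MulEquiv.ext
    intro x
    obtain ⟨x, rfl⟩ := pr_surjective x
    rw [pow_two, MulAut.mul_apply, hA', hcj, map_mul, map_mul, map_inv, hA', hA', hcj, hcj, hfv, pow_two,
      map_mul fld, map_mul lift, MulAut.mul_apply, lift_pr, lift_pr]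
    have hvi : (pr v)⁻¹ = pr v := inv_eq_of_mul_eq_one_left hvv
    rw [hvi]
    calc pr v * pr v * pr v * (pr v * pr (fld σ (fld σ x)) * pr v) * (pr v * pr v * pr v)⁻¹
        = (pr v * pr v) * (pr v * pr v) * pr (fld σ (fld σ x)) * pr v * (pr v * pr v * pr v)⁻¹ := by group
      _ = pr (fld σ (fld σ x)) := by rw [hvv, one_mul, one_mul, one_mul, mul_inv_cancel_right]
  obtain ⟨n, hn⟩ := hm
  refine ⟨(σ ^ 2) ^ (n + 1), ?_⟩
  have h5 : α = (α ^ 2) ^ (n + 1) := by
    rw [← pow_mul, show 2 * (n + 1) = m + 1 by omega, pow_succ, hα, one_mul]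
  rw [map_pow, map_pow, ← hα2]
  exact h5

theorem lift_fld_injective {σ τ : F ≃+* F}
    (h : lift (fld (ι := Fin 2) σ) = lift (fld τ)) : σ = τ := by
  refine (AutPSL.Main.injective_aux (C := (1 : GL (Fin 2) F)) (σ := σ) (τ := τ) ?_).2
  rw [map_one, one_mul]
  exact h

/-! ### Fixed points -/

/-- the fixed field of `σ` -/
noncomputable def Fix (σ : F ≃+* F) : Subfield F := FixedPoints.subfield (Subgroup.zpowers σ) F

theorem mem_Fix {σ : F ≃+* F} {x : F} : x ∈ Fix σ ↔ σ x = x := by
  constructor
  · intro h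
    exact h ⟨σ, Subgroup.mem_zpowers σ⟩
  · rintro h ⟨τ, hτ⟩
    change τ x = x
    obtain ⟨k, rfl⟩ := Subgroup.mem_zpowers_iff.1 hτ
    have h1 : σ ∈ MulAction.stabilizer (F ≃+* F) x := h
    exact (MulAction.stabilizer (F ≃+* F) x).zpow_mem h1 k

theorem card_eq_Fix_pow [Finite F] (σ : F ≃+* F) : Nat.card F = Nat.card (Fix σ) ^ orderOf σ := by
  classical
  have : Finite (F ≃+* F) :=
    Finite.of_injective (fun σ : F ≃+* F => (σ : F → F)) DFunLike.coe_injective
  have : Fintype (Subgroup.zpowers σ) := Fintype.ofFinite _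
  have h1 := FixedPoints.finrank_eq_card (Subgroup.zpowers σ) F
  rw [← Nat.card_eq_fintype_card, Nat.card_zpowers] at h1
  rw [← h1]
  exact Module.natCard_eq_pow_finrank (K := FixedPoints.subfield (Subgroup.zpowers σ) F) (V := F)

/-- The inclusion of `SL(2, F^σ)`. -/
noncomputable def incl (F₀ : Subfield F) :
    Matrix.SpecialLinearGroup (Fin 2) F₀ →* Matrix.SpecialLinearGroup (Fin 2) F :=
  Matrix.SpecialLinearGroup.map F₀.subtype

theorem coe_incl (F₀ : Subfield F) (g : Matrix.SpecialLinearGroup (Fin 2) F₀) (i j : Fin 2) :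
    (incl F₀ g).1 i j = ((g.1 i j : F₀) : F) := rfl

theorem incl_injective (F₀ : Subfield F) : Function.Injective (incl F₀) := by
  intro g h hgh
  apply Subtype.ext
  ext i j
  have := congrFun (congrFun (congrArg Subtype.val hgh) i) j
  rw [coe_incl, coe_incl] at this
  exact this

theorem incl_neg (F₀ : Subfield F) (g : Matrix.SpecialLinearGroup (Fin 2) F₀) : incl F₀ (-g) = -incl F₀ g := by
  apply Subtype.ext
  ext i j
  rw [coe_incl, Matrix.SpecialLinearGroup.coe_neg, Matrix.SpecialLinearGroup.coe_neg, Matrix.neg_apply,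
    Matrix.neg_apply, coe_incl]
  push_cast
  rfl

/-- The map `PSL(2, F^σ) → PSL(2, F)`. -/
noncomputable def pincl (F₀ : Subfield F) :
    Matrix.ProjectiveSpecialLinearGroup (Fin 2) F₀ →* Matrix.ProjectiveSpecialLinearGroup (Fin 2) F :=
  QuotientGroup.lift _ (pr.comp (incl F₀)) (by
    intro g hg
    rw [MonoidHom.mem_ker, MonoidHom.comp_apply]
    rcases PSL2Basic.mem_center_SL2_iff.1 hg with rfl | rfl
    · rw [map_one, map_one]
    · rw [incl_neg, map_one, pr_neg, map_one])

theorem pincl_pr (F₀ : Subfield F) (g : Matrix.SpecialLinearGroup (Fin 2) F₀) :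
    pincl F₀ (pr g) = pr (incl F₀ g) := rfl

theorem pincl_injective (F₀ : Subfield F) : Function.Injective (pincl F₀) := by
  intro x y hxy
  obtain ⟨x, rfl⟩ := pr_surjective x
  obtain ⟨y, rfl⟩ := pr_surjective y
  rw [pincl_pr, pincl_pr, pr_eq_iff, ← incl_neg] at hxy
  rw [pr_eq_iff]
  rcases hxy with h | h
  · exact Or.inl (incl_injective F₀ h)
  · exact Or.inr (incl_injective F₀ h)

/-- **The fixed points of a field automorphism of odd order.** -/
theorem mem_range_pincl_iff (h2 : (2 : F) ≠ 0) {σ : F ≃+* F} {m : ℕ} (hm : Odd m) (hσ : σ ^ m = 1)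
    (x : Matrix.ProjectiveSpecialLinearGroup (Fin 2) F) :
    x ∈ (pincl (Fix σ)).range ↔ lift (fld σ) x = x := by
  constructor
  · rintro ⟨y, rfl⟩
    obtain ⟨y, rfl⟩ := pr_surjective y
    rw [pincl_pr, lift_pr]
    congr 1
    apply Subtype.ext
    ext i j
    rw [coe_fld_apply, coe_incl]
    exact mem_Fix.1 (y.1 i j).2
  · intro h
    obtain ⟨x, rfl⟩ := pr_surjective x
    rw [lift_pr, pr_eq_iff] at h
    have h1 : fld σ x = x := by
      rcases h with h | h
      · exact h
      · exfalso
        have hodd : ∀ k : ℕ, (fld σ ^ (2 * k + 1)) x = -x := by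
          intro k
          have hneg : fld σ (-x) = x := by
            have e : fld σ (-x) = -(fld σ x) := by
              apply Subtype.ext
              ext i j
              rw [coe_fld_apply, Matrix.SpecialLinearGroup.coe_neg, Matrix.SpecialLinearGroup.coe_neg,
                Matrix.neg_apply, Matrix.neg_apply, coe_fld_apply, map_neg]
            rw [e, h, neg_neg]
          induction k with
          | zero => rw [mul_zero, zero_add, pow_one]; exact h
          | succ k ih =>
            rw [show 2 * (k + 1) + 1 = (2 * k + 1) + 1 + 1 by ring, pow_succ', pow_succ', MulAut.mul_apply,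
              MulAut.mul_apply, ih, hneg, h]
        obtain ⟨k, hk⟩ := hm
        have h3 := hodd k
        rw [← hk, ← map_pow, hσ, map_one] at h3
        have h4 : x = -x := h3
        have h5 : (2 : F) • x.1 = 0 := by
          have h6 := congrArg Subtype.val h4
          rw [Matrix.SpecialLinearGroup.coe_neg] at h6
          rw [two_smul]
          nth_rewrite 2 [h6]
          exact add_neg_cancel _
        have h6 : x.1 = 0 := (smul_eq_zero.1 h5).resolve_left h2
        have h7 := x.2
        rw [h6, det_zero] at h7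
        · exact zero_ne_one h7
    have h8 : ∀ i j, σ (x.1 i j) = x.1 i j := by
      intro i j
      have := congrFun (congrFun (congrArg Subtype.val h1) i) j
      rw [coe_fld_apply] at this
      exact this
    let y : Matrix.SpecialLinearGroup (Fin 2) (Fix σ) :=
      ⟨Matrix.of (fun i j => (⟨x.1 i j, mem_Fix.2 (h8 i j)⟩ : Fix σ)), by
        have e := x.2
        rw [det_fin_two] at e
        rw [det_fin_two]
        apply Subtype.ext
        exact e⟩
    refine ⟨pr y, ?_⟩
    rw [pincl_pr]
    congr 1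

end Cfsg.Agent.Walter.FieldPSL
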