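import Mathlib
import Cfsg.Prelude.Def_Local
import Cfsg.Agent.Walter.AbTypes
import Cfsg.Agent.Walter.PSLFacts
import Cfsg.Agent.Walter.TypeSylow
import Cfsg.Agent.Walter.OddCoreIn
import Cfsg.Agent.Walter.Cover
import Cfsg.Agent.PLocal.PConstrained
import Cfsg.Agent.TwoFusion.SLTwoFacts

/-!
# Local balance in rank 3

* `core_centralizer_eq_bot`: if `X` has trivial odd core, elementary abelian Sylow 2-subgroups of order 8 and known
  components, then `O(C_X(s)) = 1` for every involution `s` with non-solvable centraliser.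
* `bal`: `O(C_G(t)) ∩ H ≤ O(H)` for every proper subgroup `H` that covers `C(t)/O(C(t))`, if `C(t)` is not solvable.
-/

set_option autoImplicit false

namespace Cfsg.Agent.Walter.BalLocal

open Subgroup Cfsg
open Cfsg.Agent.Walter.Types
open Cfsg.Agent.SignalizersComponents Cfsg.Agent.SignalizersComponents.Components

universe u

/-- The odd order theorem, as a hypothesis. -/
def OddSolvable : Prop :=
  ∀ (Y : Type u) [Group Y] [Finite Y], ¬ 2 ∣ Nat.card Y → Group.IsSolvable Y

section Solvable

theorem isSolvable_of_normal {Y : Type*} [Group Y] (N : Subgroup Y) [N.Normal]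
    (h1 : Group.IsSolvable N) (h2 : Group.IsSolvable (Y ⧸ N)) : Group.IsSolvable Y :=
  (Group.isSolvable_iff_subgroup_quotient N).2 ⟨h1, h2⟩

theorem isSolvable_of_le {Y : Type*} [Group Y] {A B : Subgroup Y} (h : A ≤ B)
    (hB : Group.IsSolvable B) : Group.IsSolvable A :=
  Group.isSolvable_of_isSolvable_injective (f := Subgroup.inclusion h) (Subgroup.inclusion_injective h)

theorem isSolvable_of_not_four (hOS : OddSolvable.{u}) {Y : Type u} [Group Y] [Finite Y]
    (h : ¬ 4 ∣ Nat.card Y) :
    Group.IsSolvable Y := by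
  have hf : Fact (Nat.Prime 2) := ⟨Nat.prime_two⟩
  by_cases h2 : 2 ∣ Nat.card Y
  · obtain ⟨P⟩ : Nonempty (Sylow 2 Y) := inferInstance
    obtain ⟨n, hn⟩ := IsPGroup.iff_card.1 P.isPGroup'
    have hn1 : n ≤ 1 := by
      by_contra hlt
      apply h
      have h4 : 4 ∣ Nat.card (P : Subgroup Y) := by
        rw [hn]; exact pow_dvd_pow 2 (by omega : 2 ≤ n)
      exact h4.trans (Subgroup.card_subgroup_dvd_card _)
    have hP : IsCyclic (P : Subgroup Y) := by
      rcases Nat.le_one_iff_eq_zero_or_eq_one.1 hn1 with rfl | rfl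
      · rw [pow_zero] at hn
        have := (Nat.card_eq_one_iff_unique.1 hn).1
        exact isCyclic_of_subsingleton
      · rw [pow_one] at hn
        exact isCyclic_of_prime_card hn
    obtain ⟨H, hH⟩ := TwoFusion.SimpleOddIndex.exists_index_two_of_cyclic P hP h2
    have hHn : H.Normal := Subgroup.normal_of_index_eq_two hH
    have hcard := H.card_mul_index
    rw [hH] at hcard
    refine isSolvable_of_normal H (hOS _ ?_) ?_
    · rintro ⟨m, hm⟩
      exact h ⟨m, by rw [← hcard, hm]; ring⟩
    · have h3 : Nat.card (Y ⧸ H) = 2 := by rw [← Subgroup.index_eq_card, hH]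
      have : IsCyclic (Y ⧸ H) := isCyclic_of_prime_card h3
      exact Group.isSolvable_of_comm fun a b => (IsCyclic.commGroup (α := Y ⧸ H)).mul_comm a b
  · exact hOS _ h2

theorem isSolvable_of_center (hOS : OddSolvable.{u}) {Y : Type u} [Group Y] [Finite Y] {k : Y} (hk : k ∈ center Y)
    (hk2 : orderOf k = 2) (h8 : ¬ 8 ∣ Nat.card Y) : Group.IsSolvable Y := by
  have hn : (zpowers k).Normal := by
    refine ⟨fun x hx g => ?_⟩
    obtain ⟨n, rfl⟩ := mem_zpowers_iff.1 hx
    have h1 : g * k ^ n * g⁻¹ = k ^ n := by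
      have h2 : k ^ n ∈ center Y := zpow_mem hk n
      rw [mem_center_iff.1 h2 g, mul_inv_cancel_right]
    rw [h1]
    exact hx
  refine isSolvable_of_normal (zpowers k) ?_ (isSolvable_of_not_four hOS ?_)
  · have : IsCyclic (zpowers k) := inferInstance
    exact Group.isSolvable_of_comm fun a b => (IsCyclic.commGroup (α := zpowers k)).mul_comm a b
  · rw [← Subgroup.index_eq_card]
    rintro ⟨m, hm⟩
    have h1 := (zpowers k).card_mul_index
    rw [Nat.card_zpowers, hk2, hm] at h1
    exact h8 ⟨m, by rw [← h1]; ring⟩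

/-- `C_X(s)` is solvable if `C_K(s)` and `X/K` are. -/
theorem isSolvable_centralizer {X : Type*} [Group X] {K : Subgroup X} (hK : K.Normal) {s : X}
    (h1 : Group.IsSolvable (K ⊓ centralizer ({s} : Set X) : Subgroup X))
    (h2 : Group.IsSolvable (X ⧸ K)) : Group.IsSolvable (centralizer ({s} : Set X)) := by
  refine Group.isSolvable_of_ker_le_range (hG' := h1) (hG'' := h2)
    (Subgroup.inclusion (inf_le_right : K ⊓ centralizer ({s} : Set X) ≤ centralizer ({s} : Set X)))
    ((QuotientGroup.mk' K).comp (centralizer ({s} : Set X)).subtype) ?_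
  intro x hx
  have h3 : (x : X) ∈ K := by
    rw [MonoidHom.mem_ker, MonoidHom.comp_apply, QuotientGroup.mk'_apply, QuotientGroup.eq_one_iff] at hx
    exact hx
  exact ⟨⟨x, h3, x.2⟩, rfl⟩

end Solvable

section Product

/-- A normal subgroup of odd order of `Z₂ × L`, `L` simple of even order, is trivial. -/
theorem eq_bot_of_normal_prod {L : Type*} [Group L] [Finite L] [IsSimpleGroup L]
    (hL : 2 ∣ Nat.card L) {N : Subgroup (Multiplicative (ZMod 2) × L)} (hN : N.Normal)
    (hodd : ¬ 2 ∣ Nat.card N) : N = ⊥ := by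
  have hf : Fact (Nat.Prime 2) := ⟨Nat.prime_two⟩
  -- elements of `N` have trivial first component
  have h1 : ∀ x ∈ N, x.1 = 1 := by
    intro x hx
    by_contra hne
    apply hodd
    have h3 : orderOf x.1 = 2 := by
      apply orderOf_eq_prime _ hne
      rw [pow_two]
      exact PSLFacts.z2_sq x.1
    have h4 : orderOf x.1 ∣ orderOf x := orderOf_map_dvd (MonoidHom.fst _ _) x
    rw [h3] at h4
    refine h4.trans ?_
    rw [← Subgroup.orderOf_mk x hx]
    exact orderOf_dvd_natCard _
  have h2 : (N.map (MonoidHom.snd (Multiplicative (ZMod 2)) L)).Normal :=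
    hN.map _ Prod.snd_surjective
  rcases h2.eq_bot_or_eq_top with h | h
  · rw [eq_bot_iff]
    intro x hx
    have h3 : x.2 ∈ N.map (MonoidHom.snd (Multiplicative (ZMod 2)) L) := ⟨x, hx, rfl⟩
    rw [h, mem_bot] at h3
    exact Prod.ext (h1 x hx) h3
  · exfalso
    apply hodd
    have h3 : Nat.card (N.map (MonoidHom.snd (Multiplicative (ZMod 2)) L)) ∣ Nat.card N :=
      card_map_dvd _ _
    rw [h, Subgroup.card_top] at h3
    exact hL.trans h3

theorem two_dvd_card_psl {F : Type*} [Field F] [Fintype F]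
    (h8 : Fintype.card F % 8 = 3 ∨ Fintype.card F % 8 = 5) :
    2 ∣ Nat.card (Matrix.ProjectiveSpecialLinearGroup (Fin 2) F) := by
  have hf : Fact (Nat.Prime 2) := ⟨Nat.prime_two⟩
  obtain ⟨S⟩ : Nonempty (Sylow 2 (Matrix.ProjectiveSpecialLinearGroup (Fin 2) F)) := inferInstance
  have h1 := (PSLFacts.odd_facts h8 (MulEquiv.refl _) S).2.1
  have h2 := Subgroup.card_subgroup_dvd_card (S : Subgroup (Matrix.ProjectiveSpecialLinearGroup (Fin 2) F))
  rw [h1] at h2
  exact (by norm_num : 2 ∣ 4).trans h2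

/-- **TF2**: in Janko-Ree type, centralizers of involutions have no normal subgroups of odd order. -/
theorem eq_bot_of_isJR {K : Type*} [Group K] [Finite K] (h : IsJR K) {v : K} (hv : orderOf v = 2)
    {N : Subgroup (centralizer ({v} : Set K))} (hN : N.Normal) (hodd : ¬ 2 ∣ Nat.card N) : N = ⊥ := by
  obtain ⟨-, F, i1, i2, h8, h5, hC⟩ := h
  obtain ⟨e⟩ := hC v hv
  have := TwoFusion.SLTwoFacts.isSimpleGroup_psl (F := F) (by omega)
  have h1 : (N.map e.toMonoidHom).Normal := hN.map _ e.surjective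
  have h2 : N.map e.toMonoidHom = ⊥ := by
    refine eq_bot_of_normal_prod (two_dvd_card_psl h8) h1 ?_
    rwa [card_map_of_injective e.injective]
  exact (Subgroup.map_eq_bot_iff_of_injective N e.injective).1 h2

end Product

section Main

open AbStruct

/-- Bender's theorem, as a hypothesis. -/
def BenderThm : Prop :=
  ∀ (K : Type u) [Group K] [Finite K], IsSimpleGroup K → (∃ a b : K, a * b ≠ b * a) → AutFacts.Bender K

variable {X : Type u} [Group X] [Finite X]

theorem exists_noncomm {K : Subgroup X} (hK : IsComponent K) : ∃ a b : K, a * b ≠ b * a := by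
  by_contra h
  push Not at h
  exact not_comm hK ⟨⟨h⟩⟩

/-- the centralizer of a central element -/
theorem core_eq_bot_of_centralizer_eq_top (hO : pPrimeCore 2 X = ⊥) {s : X}
    (hs : centralizer ({s} : Set X) = ⊤) : centralizerPPrimeCore 2 s = ⊥ := by
  have h1 := OddCoreIn.le_normalizer_OO (centralizer ({s} : Set X))
  have h2 : (OddCoreIn.OO (centralizer ({s} : Set X))).Normal := by
    rw [← normalizer_eq_top_iff, eq_top_iff]
    rw [hs] at h1 ⊢
    exact h1
  have h3 := Lib.Cores.le_pPrimeCore (p := 2) h2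
    ((Nat.Prime.coprime_iff_not_dvd Nat.prime_two).2 (OddCoreIn.OO_odd _)).symm
  rw [hO] at h3
  exact le_bot_iff.1 h3

omit [Finite X] in
/-- an element of a normal subgroup of order 2 is central -/
theorem centralizer_eq_top_of_card_two {Z : Subgroup X} (hZ : Z.Normal) (h2 : Nat.card Z = 2) {s : X}
    (hs : s ∈ Z) (hs1 : s ≠ 1) : centralizer ({s} : Set X) = ⊤ := by
  rw [eq_top_iff]
  intro g _
  rw [mem_centralizer_singleton_iff]
  have h9 : g * s * g⁻¹ ∈ Z := hZ.conj_mem s hs g
  have h10 : g * s * g⁻¹ ≠ 1 := by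
    intro h
    apply hs1
    have h1 : g * s = g := mul_inv_eq_one.1 h
    exact mul_eq_left.1 h1
  obtain ⟨y, -, hy⟩ := (Nat.card_eq_two_iff' (1 : Z)).1 h2
  have e1 := hy ⟨s, hs⟩ (fun h => hs1 (congrArg Subtype.val h))
  have e2 := hy ⟨g * s * g⁻¹, h9⟩ (fun h => h10 (congrArg Subtype.val h))
  have e3 : g * s * g⁻¹ = s := congrArg Subtype.val (e2.trans e1.symm)
  exact mul_inv_eq_iff_eq_mul.1 e3

/-- **TF1**. -/
theorem core_centralizer_eq_bot (hOS : OddSolvable.{u}) (hO : pPrimeCore 2 X = ⊥) (S : Sylow 2 X)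
    (hsq : ∀ x ∈ (S : Subgroup X), x * x = 1) (hcard : Nat.card (S : Subgroup X) = 8)
    (hW : ∀ K : Subgroup X, IsComponent K → WType K)
    (hB : ∀ K : Subgroup X, IsComponent K → AutFacts.Bender K)
    {s : X} (hs : s ∈ (S : Subgroup X)) (hs1 : s ≠ 1)
    (hns : ¬ Group.IsSolvable (centralizer ({s} : Set X))) :
    centralizerPPrimeCore 2 s = ⊥ := by
  have hf : Fact (Nat.Prime 2) := ⟨Nat.prime_two⟩
  have hS : ∀ a ∈ (S : Subgroup X), ∀ b ∈ (S : Subgroup X), a * b = b * a :=
    AutFacts.comm_of_sq S hsq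
  have hs2 : orderOf s = 2 := orderOf_eq_prime (by rw [pow_two]; exact hsq s hs) hs1
  rcases AbTypes.cases_of_card_eight hO hS hcard with ⟨hA, -⟩ | ⟨K, hK, hKu, hlay, hKn, hcase⟩
  · exfalso
    apply hns
    have h1 : Group.IsSolvable X := by
      have : (pCore 2 X).Normal := Lib.Cores.pCore_normal 2
      refine isSolvable_of_normal (pCore 2 X) ?_ (hOS _ ?_)
      · refine Group.isSolvable_of_comm ?_
        intro a b
        have ha : (a : X) ∈ (S : Subgroup X) := hA ▸ a.2
        have hb : (b : X) ∈ (S : Subgroup X) := hA ▸ b.2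
        exact Subtype.ext (hS a ha b hb)
      · rw [← index_eq_card, hA]; exact S.not_dvd_index
    exact Group.isSolvable_of_isSolvable_injective (f := (centralizer ({s} : Set X)).subtype)
      (subtype_injective _)
  -- index of `K`
  have hKX : Group.IsSolvable (X ⧸ K) := by
    refine isSolvable_of_not_four hOS ?_
    rw [← index_eq_card]
    intro h4
    have h5 := K.card_mul_index
    have h6 : 4 ∣ Nat.card K := (AbTypes.four_dvd hO hS hK).trans (card_dvd_of_le inf_le_right)
    have h7 : 2 ^ 4 ∣ Nat.card X := by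
      rw [← h5]
      exact (by norm_num : (2 : ℕ) ^ 4 = 4 * 4) ▸ mul_dvd_mul h6 h4
    have h8 := S.pow_dvd_card_of_pow_dvd_card h7
    have h9 : 2 ^ 4 ∣ 8 := hcard ▸ h8
    norm_num at h9
  obtain ⟨P, hP⟩ := exists_sylow S hK
  have hPc : Nat.card (P : Subgroup K) = Nat.card ((S : Subgroup X) ⊓ K : Subgroup X) := by
    rw [hP, ← Subgroup.card_map_of_injective K.subtype_injective, subgroupOf_map_subtype]
  rcases hcase with ⟨h4, hp2, hsup, hinf⟩ | ⟨hSK, hp1⟩
  · -- type B
    obtain ⟨k, hk, c, hc, hkc⟩ := exists_inner hO hS hK hs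
    by_cases hk1 : k = 1
    · have hsO : s ∈ pCore 2 X := by
        rw [← inf_centralizer_layer hO hS, hlay, hkc, hk1, one_mul]
        exact hc
      exact core_eq_bot_of_centralizer_eq_top hO
        (centralizer_eq_top_of_card_two (Lib.Cores.pCore_normal 2) hp2 hsO hs1)
    · exfalso
      apply hns
      refine isSolvable_centralizer hKn ?_ hKX
      have hkC : k ∈ K ⊓ centralizer ({s} : Set X) :=
        ⟨hk.2, mem_centralizer_singleton_iff.2 (hS k hk.1 s hs)⟩
      refine isSolvable_of_center hOS (k := ⟨k, hkC⟩) ?_ ?_ ?_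
      · rw [mem_center_iff]
        rintro ⟨y, hyK, hys⟩
        apply Subtype.ext
        change y * k = k * y
        have h1 : y * c = c * y := mem_centralizer_iff.1 hc.2 y hyK
        have h2 : y * s = s * y := mem_centralizer_singleton_iff.1 hys
        have h3 : k = s * c⁻¹ := by rw [hkc, mul_inv_cancel_right]
        have h4 : y * c⁻¹ = c⁻¹ * y := (Commute.inv_right (h1 : Commute y c)).eq
        rw [h3, ← mul_assoc, h2, mul_assoc, h4, mul_assoc]
      · rw [Subgroup.orderOf_mk]
        exact orderOf_eq_prime (by rw [pow_two]; exact hsq k hk.1) hk1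
      · intro h8
        have h9 : 2 ^ 3 ∣ Nat.card K := h8.trans (card_dvd_of_le inf_le_left)
        have h10 := P.pow_dvd_card_of_pow_dvd_card h9
        have h11 : 2 ^ 3 ∣ 4 := by
          rw [← h4, ← hPc]; exact h10
        norm_num at h11
  · -- type C/D
    have hP8 : Nat.card (P : Subgroup K) = 8 := by
      rw [hPc, inf_eq_left.2 hSK, hcard]
    have hsP : (⟨s, hSK hs⟩ : K) ∈ (P : Subgroup K) := by
      rw [hP]; exact mem_subgroupOf.2 hs
    have hv1 : (⟨s, hSK hs⟩ : K) ≠ 1 := fun h => hs1 (congrArg Subtype.val h)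
    rcases TypeSylow.of_card_eight (hW K hK) P hP8 with ⟨F, i1, i2, hF, ⟨e⟩⟩ | hJR
    · exfalso
      apply hns
      refine isSolvable_centralizer hKn ?_ hKX
      have h1 := (PSLFacts.even_facts (n := 3) (by norm_num) (by rw [hF]; norm_num) e P).2.1
        ⟨s, hSK hs⟩ hsP hv1
      have hle : K ⊓ centralizer ({s} : Set X) ≤ (S : Subgroup X) := by
        rintro y ⟨hyK, hys⟩
        have h2 : (⟨y, hyK⟩ : K) ∈ centralizer ({(⟨s, hSK hs⟩ : K)} : Set K) := by
          rw [mem_centralizer_singleton_iff]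
          exact Subtype.ext (mem_centralizer_singleton_iff.1 hys)
        rw [h1, hP] at h2
        exact mem_subgroupOf.1 h2
      exact isSolvable_of_le hle (Group.isSolvable_of_comm fun a b => Subtype.ext (hS a a.2 b b.2))
    · have hOodd : ¬ 2 ∣ Nat.card (centralizerPPrimeCore 2 s) := OddCoreIn.OO_odd _
      have hOn : centralizer ({s} : Set X) ≤ normalizer (centralizerPPrimeCore 2 s : Set X) :=
        OddCoreIn.le_normalizer_OO _
      have hOC : centralizerPPrimeCore 2 s ≤ centralizer ({s} : Set X) := OddCoreIn.OO_le _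
      have hv : orderOf (⟨s, hSK hs⟩ : K) = 2 := by rw [Subgroup.orderOf_mk]; exact hs2
      -- `O ∩ K = 1`
      have hOK : centralizerPPrimeCore 2 s ⊓ K = ⊥ := by
        let ι : centralizer ({(⟨s, hSK hs⟩ : K)} : Set K) →* X :=
          K.subtype.comp (centralizer ({(⟨s, hSK hs⟩ : K)} : Set K)).subtype
        have hι : Function.Injective ι := K.subtype_injective.comp (subtype_injective _)
        have hιC : ∀ g, ι g ∈ centralizer ({s} : Set X) := by
          intro g
          rw [mem_centralizer_singleton_iff]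
          exact congrArg Subtype.val (mem_centralizer_singleton_iff.1 g.2)
        have hN : ((centralizerPPrimeCore 2 s).comap ι).Normal := by
          refine ⟨fun n hn g => ?_⟩
          rw [mem_comap] at hn ⊢
          rw [map_mul, map_mul, map_inv]
          exact OddCoreIn.conj_mem hOn (hιC g) hn
        have hNodd : ¬ 2 ∣ Nat.card ((centralizerPPrimeCore 2 s).comap ι) := by
          intro h
          apply hOodd
          rw [← card_map_of_injective hι] at h
          exact h.trans (card_dvd_of_le (map_comap_le _ _))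
        have hbot := eq_bot_of_isJR hJR hv hN hNodd
        rw [eq_bot_iff]
        rintro x ⟨hxO, hxK⟩
        have h5 : (⟨x, hxK⟩ : K) ∈ centralizer ({(⟨s, hSK hs⟩ : K)} : Set K) := by
          rw [mem_centralizer_singleton_iff]
          exact Subtype.ext (mem_centralizer_singleton_iff.1 (hOC hxO))
        have h6 : (⟨⟨x, hxK⟩, h5⟩ : centralizer ({(⟨s, hSK hs⟩ : K)} : Set K)) ∈
            (centralizerPPrimeCore 2 s).comap ι := hxO
        rw [hbot, mem_bot] at h6
        have h7 := congrArg ι h6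
        rw [map_one] at h7
        exact h7
      have hOcen : centralizerPPrimeCore 2 s ≤ centralizer (K : Set X) := by
        refine PSLFacts.WType.le_centralizer (isSimpleGroup hO hS hK) (hW K hK) (hB K hK)
          (exists_noncomm hK) P (by omega) ?_ (Nat.not_even_iff_odd.1 fun h => hOodd h.two_dvd)
          hsP hv1 ?_
        · rw [normalizer_eq_top_iff.2 hKn]; exact le_top
        · intro o ho x hx
          have hxs : (x : X) ∈ centralizer ({s} : Set X) := by
            rw [mem_centralizer_singleton_iff]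
            exact congrArg Subtype.val (mem_centralizer_singleton_iff.1 hx)
          have h8 : o * x * o⁻¹ * (x : X)⁻¹ ∈ centralizerPPrimeCore 2 s ⊓ K := by
            constructor
            · have h9 : (x : X) * o⁻¹ * (x : X)⁻¹ ∈ centralizerPPrimeCore 2 s :=
                OddCoreIn.conj_mem hOn hxs (inv_mem ho)
              have h10 : o * x * o⁻¹ * (x : X)⁻¹ = o * ((x : X) * o⁻¹ * (x : X)⁻¹) := by group
              rw [h10]
              exact mul_mem ho h9
            · exact K.mul_mem (hKn.conj_mem x x.2 o) (K.inv_mem x.2)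
          rw [hOK, mem_bot] at h8
          have h11 : o * x * o⁻¹ = (x : X) := mul_inv_eq_one.1 h8
          exact mul_inv_eq_iff_eq_mul.1 h11
      -- `C(K)` has odd order
      have := hKn
      have hCn : (centralizer (K : Set X)).Normal := inferInstance
      have hCodd : ¬ 2 ∣ Nat.card (centralizer (K : Set X)) := by
        obtain ⟨Q, hQ⟩ := exists_sylow_of_subnormal S (K := centralizer (K : Set X))
          hCn.isSubnormal
        have hQ1 : (Q : Subgroup (centralizer (K : Set X))) = ⊥ := by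
          rw [hQ, subgroupOf_eq_bot, disjoint_iff, ← le_bot_iff, ← inf_centralizer hO hS hK]
          exact inf_le_inf_right _ hSK
        have h2 := Q.not_dvd_index
        rwa [hQ1, index_bot] at h2
      have hC1 : centralizer (K : Set X) = ⊥ := by
        rw [← le_bot_iff, ← hO]
        exact Lib.Cores.le_pPrimeCore hCn ((Nat.Prime.coprime_iff_not_dvd Nat.prime_two).2 hCodd).symm
      rw [← le_bot_iff, ← hC1]
      exact hOcen

end Main

section Bal

open Cover OddCoreIn

variable {G : Type u} [Group G] [Finite G]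

theorem centralizer_zpowers {Y : Type*} [Group Y] (x : Y) :
    centralizer (zpowers x : Set Y) = centralizer ({x} : Set Y) := by
  rw [zpowers_eq_closure, centralizer_closure]

/-- a 2-subgroup has exponent 2 and order dividing `|S|` -/
theorem sq_of_isPGroup (S : Sylow 2 G) (hsq : ∀ x ∈ (S : Subgroup G), x * x = 1) {P : Subgroup G}
    (hP : IsPGroup 2 P) : (∀ x ∈ P, x * x = 1) ∧ Nat.card P ∣ Nat.card (S : Subgroup G) := by
  have hf : Fact (Nat.Prime 2) := ⟨Nat.prime_two⟩
  obtain ⟨Q, hQ⟩ := hP.exists_le_sylow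
  obtain ⟨g, hg⟩ := MulAction.exists_smul_eq G Q S
  constructor
  · intro x hx
    have h1 : g * x * g⁻¹ ∈ (S : Subgroup G) := by
      rw [← hg]
      exact ⟨x, hQ hx, rfl⟩
    have h2 := hsq _ h1
    have h3 : g * (x * x) * g⁻¹ = 1 := by
      rw [← h2]; group
    have h4 : g * (x * x) = g := mul_inv_eq_one.1 h3
    exact mul_eq_left.1 h4
  · have h1 : Nat.card (Q : Subgroup G) = Nat.card (S : Subgroup G) :=
      Nat.card_congr (Sylow.equiv Q S).toEquiv
    rw [← h1]
    exact card_dvd_of_le hQ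

/-- **H4** = the field `bal` of `Balance.Data`. -/
theorem bal (hOS : OddSolvable.{u}) (hBT : BenderThm.{u}) (hind : TypeSylow.Ind.{u} (Nat.card G))
    (S : Sylow 2 G) (hsq : ∀ x ∈ (S : Subgroup G), x * x = 1) (hcard : Nat.card (S : Subgroup G) = 8)
    {a : G} (ha : a ∈ (S : Subgroup G)) (ha1 : a ≠ 1) (hns : ¬ Group.IsSolvable (C a))
    {H : Subgroup G} (hH : H ≠ ⊤) (hcov : Cov a H) :
    centralizerPPrimeCore 2 a ⊓ H ≤ OO H := by
  have hf : Fact (Nat.Prime 2) := ⟨Nat.prime_two⟩
  have hS : ∀ a ∈ (S : Subgroup G), ∀ b ∈ (S : Subgroup G), a * b = b * a :=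
    AutFacts.comm_of_sq S hsq
  have ha2 : orderOf a = 2 := orderOf_eq_prime (by rw [pow_two]; exact hsq a ha) ha1
  obtain ⟨haH, hcov⟩ := hcov
  have hOodd : ¬ 2 ∣ Nat.card (centralizerPPrimeCore 2 a) := OO_odd _
  have hOn : C a ≤ normalizer (centralizerPPrimeCore 2 a : Set G) := le_normalizer_OO _
  have hOC : centralizerPPrimeCore 2 a ≤ C a := OO_le _
  set O := centralizerPPrimeCore 2 a with hOdef
  -- the map `C_H(a) → C(a)/O`
  have hOnorm : (O.subgroupOf (C a)).Normal := (normal_subgroupOf_iff_le_normalizer hOC).2 hOn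
  let φ : (H ⊓ C a : Subgroup G) →* (C a ⧸ O.subgroupOf (C a)) :=
    (QuotientGroup.mk' (O.subgroupOf (C a))).comp (Subgroup.inclusion inf_le_right)
  have hφ : Function.Surjective φ := by
    intro q
    obtain ⟨⟨c, hc⟩, rfl⟩ := QuotientGroup.mk_surjective q
    obtain ⟨x, hx, h, hh, rfl⟩ := hcov c hc
    refine ⟨⟨h, hh⟩, ?_⟩
    change QuotientGroup.mk _ = QuotientGroup.mk _
    rw [QuotientGroup.eq_iff_div_mem, mem_subgroupOf]
    change h / (x * h) ∈ O
    have e : h / (x * h) = x⁻¹ := by rw [div_eq_mul_inv, mul_inv_rev, mul_inv_cancel_left]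
    rw [e]
    exact inv_mem hx
  have hOcard : Nat.card (O.subgroupOf (C a)) = Nat.card O :=
    Nat.card_congr (subgroupOfEquivOfLe hOC).toEquiv
  -- order of `H`
  have h8H : 8 ∣ Nat.card H := by
    have h1 : 8 ∣ Nat.card (C a) := by
      rw [← hcard]
      refine card_dvd_of_le ?_
      intro s hs
      rw [mem_C]
      exact hS s hs a ha
    have h2 := (O.subgroupOf (C a)).card_mul_index
    rw [hOcard] at h2
    rw [← h2] at h1
    have h3 : Nat.Coprime 8 (Nat.card O) := by
      have : Nat.Coprime (2 ^ 3) (Nat.card O) :=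
        Nat.Coprime.pow_left 3 ((Nat.Prime.coprime_iff_not_dvd Nat.prime_two).2 hOodd)
      exact this
    have h4 := h3.dvd_of_dvd_mul_left h1
    rw [index_eq_card] at h4
    have h5 : Nat.card (C a ⧸ O.subgroupOf (C a)) ∣ Nat.card (H ⊓ C a : Subgroup G) :=
      card_dvd_of_surjective φ hφ
    exact (h4.trans h5).trans (card_dvd_of_le inf_le_left)
  -- a Sylow subgroup of `H` containing `a`
  have haP : IsPGroup 2 (zpowers (⟨a, haH⟩ : H)) := by
    refine IsPGroup.of_card (n := 1) ?_
    rw [Nat.card_zpowers, Subgroup.orderOf_mk, ha2, pow_one]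
  obtain ⟨T, hT⟩ := haP.exists_le_sylow
  have haT : (⟨a, haH⟩ : H) ∈ (T : Subgroup H) := hT (mem_zpowers _)
  obtain ⟨hTsq, hTcard⟩ := sq_of_isPGroup S hsq (T.isPGroup'.map H.subtype)
  rw [card_map_of_injective H.subtype_injective, hcard] at hTcard
  have hT8 : Nat.card (T : Subgroup H) = 8 := by
    refine Nat.dvd_antisymm hTcard ?_
    exact T.pow_dvd_card_of_pow_dvd_card (n := 3) h8H
  -- the quotient
  set D := pPrimeCore 2 H with hD
  have : D.Normal := Lib.Cores.pPrimeCore_normal 2
  have hDodd : ¬ 2 ∣ Nat.card D :=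
    (Nat.Prime.coprime_iff_not_dvd Nat.prime_two).1 (Lib.Cores.pPrimeCore_coprime 2).symm
  let f : H →* H ⧸ D := QuotientGroup.mk' D
  have hfs : Function.Surjective f := QuotientGroup.mk'_surjective D
  have hker : f.ker = D := QuotientGroup.ker_mk' D
  have hX : pPrimeCore 2 (H ⧸ D) = ⊥ := Lib.Cores.pPrimeCore_quotient_pPrimeCore 2
  let Tb : Sylow 2 (H ⧸ D) := T.mapSurjective hfs
  have hTb : (Tb : Subgroup (H ⧸ D)) = (T : Subgroup H).map f := Sylow.coe_mapSurjective hfs T
  have hTb8 : Nat.card (Tb : Subgroup (H ⧸ D)) = 8 := by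
    refine Nat.dvd_antisymm ?_ ?_
    · rw [hTb, ← hT8]
      exact card_map_dvd _ _
    · refine Tb.pow_dvd_card_of_pow_dvd_card (n := 3) ?_
      have h1 := D.card_mul_index
      rw [index_eq_card] at h1
      have h2 : 2 ^ 3 ∣ Nat.card D * Nat.card (H ⧸ D) := by rw [h1]; exact h8H
      exact (Nat.Coprime.pow_left 3 ((Nat.Prime.coprime_iff_not_dvd Nat.prime_two).2
        hDodd)).dvd_of_dvd_mul_left h2
  have hTbsq : ∀ x ∈ (Tb : Subgroup (H ⧸ D)), x * x = 1 := by
    intro x hx
    rw [hTb] at hx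
    obtain ⟨y, hy, rfl⟩ := hx
    rw [← map_mul]
    have h1 : (y : G) * y = 1 := hTsq y ⟨y, hy, rfl⟩
    have h2 : y * y = 1 := Subtype.ext h1
    rw [h2, map_one]
  set s : H ⧸ D := f ⟨a, haH⟩ with hsdef
  have hsT : s ∈ (Tb : Subgroup (H ⧸ D)) := by
    rw [hTb]; exact ⟨_, haT, rfl⟩
  have hs1 : s ≠ 1 := by
    intro h
    have h1 : (⟨a, haH⟩ : H) ∈ D := by
      rw [← hker]; exact h
    apply hDodd
    rw [← ha2, ← Subgroup.orderOf_mk a haH, ← Subgroup.orderOf_mk _ h1]
    exact orderOf_dvd_natCard _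
  -- the centralizer in the quotient
  have hcen : (centralizer ({(⟨a, haH⟩ : H)} : Set H)).map f = centralizer ({s} : Set (H ⧸ D)) := by
    have h1 := PLocal.PConstrained.map_centralizer_eq (p := 2) f hfs (by
      rw [hker]; exact Lib.Cores.pPrimeCore_coprime 2) haP
    rw [centralizer_zpowers, MonoidHom.map_zpowers, centralizer_zpowers] at h1
    exact h1
  -- non-solvability
  have hns' : ¬ Group.IsSolvable (centralizer ({s} : Set (H ⧸ D))) := by
    intro hsol
    apply hns
    -- `C_H(a)` is solvable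
    have h1 : Group.IsSolvable (centralizer ({(⟨a, haH⟩ : H)} : Set H)) := by
      have hDs : Group.IsSolvable D := hOS _ hDodd
      have : Group.IsSolvable (D ⊓ centralizer ({(⟨a, haH⟩ : H)} : Set H) : Subgroup H) :=
        isSolvable_of_le inf_le_left hDs
      have : Group.IsSolvable ((centralizer ({(⟨a, haH⟩ : H)} : Set H)).map f) := by
        rw [hcen]; exact hsol
      refine Group.isSolvable_of_ker_le_range
        (Subgroup.inclusion (inf_le_right : D ⊓ centralizer ({(⟨a, haH⟩ : H)} : Set H) ≤ _))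
        (f.subgroupMap (centralizer ({(⟨a, haH⟩ : H)} : Set H))) ?_
      intro x hx
      have h3 : f x = 1 := congrArg Subtype.val (MonoidHom.mem_ker.1 hx)
      have h4 : (x : H) ∈ D := by rw [← hker]; exact h3
      exact ⟨⟨x, h4, x.2⟩, rfl⟩
    have h2 : Group.IsSolvable (H ⊓ C a : Subgroup G) := by
      let ψ : (H ⊓ C a : Subgroup G) →* centralizer ({(⟨a, haH⟩ : H)} : Set H) :=
        { toFun := fun x => ⟨⟨x, x.2.1⟩, by
            rw [mem_centralizer_singleton_iff]
            exact Subtype.ext (mem_C.1 x.2.2)⟩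
          map_one' := rfl
          map_mul' := fun _ _ => rfl }
      refine Group.isSolvable_of_isSolvable_injective (f := ψ) ?_
      intro x y hxy
      have h3 := congrArg (fun z : centralizer ({(⟨a, haH⟩ : H)} : Set H) => ((z : H) : G)) hxy
      exact Subtype.ext h3
    have h3 : Group.IsSolvable (C a ⧸ O.subgroupOf (C a)) := Group.isSolvable_of_surjective hφ
    refine isSolvable_of_normal (O.subgroupOf (C a)) ?_ h3
    refine hOS _ ?_
    rw [hOcard]
    exact hOodd
  have hHlt : Nat.card H < Nat.card G := by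
    refine lt_of_le_of_ne (Nat.le_of_dvd Nat.card_pos (card_subgroup_dvd_card H)) ?_
    intro h
    exact hH ((card_eq_iff_eq_top H).1 h)
  have hW : ∀ K : Subgroup (H ⧸ D), IsComponent K → WType K := fun K hK =>
    TypeSylow.wType_of_isComponent_quotient hind hS H hHlt hK
  have hTbc : ∀ a ∈ (Tb : Subgroup (H ⧸ D)), ∀ b ∈ (Tb : Subgroup (H ⧸ D)), a * b = b * a :=
    AutFacts.comm_of_sq Tb hTbsq
  have hB : ∀ K : Subgroup (H ⧸ D), IsComponent K → AutFacts.Bender K := fun K hK =>
    hBT K (AbStruct.isSimpleGroup hX hTbc hK) (exists_noncomm hK)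
  have hbot := core_centralizer_eq_bot hOS hX Tb hTbsq hTb8 hW hB hsT hs1 hns'
  -- the image of `O ∩ H`
  have hN : ((O ⊓ H).subgroupOf H).map f ≤ OO (centralizer ({s} : Set (H ⧸ D))) := by
    refine le_OO ?_ ?_ ?_
    · rw [← hcen]
      refine map_mono ?_
      intro x hx
      rw [mem_centralizer_singleton_iff]
      exact Subtype.ext (mem_C.1 (hOC (mem_subgroupOf.1 hx).1))
    · rw [le_normalizer_iff']
      intro c hc x hx
      rw [← hcen] at hc
      obtain ⟨c, hc, rfl⟩ := hc
      obtain ⟨x, hx, rfl⟩ := hx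
      refine ⟨c * x * c⁻¹, ?_, by rw [map_mul, map_mul, map_inv]⟩
      have hcC : (c : G) ∈ C a := by
        rw [mem_C]
        exact congrArg Subtype.val (mem_centralizer_singleton_iff.1 hc)
      have hx' := mem_subgroupOf.1 hx
      exact mem_subgroupOf.2 ⟨conj_mem hOn hcC hx'.1, (c * x * c⁻¹).2⟩
    · intro h
      apply hOodd
      refine (h.trans (card_map_dvd _ _)).trans ?_
      rw [Nat.card_congr (subgroupOfEquivOfLe (inf_le_right : O ⊓ H ≤ H)).toEquiv]
      exact card_dvd_of_le inf_le_left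
  have hN2 : ((O ⊓ H).subgroupOf H).map f = ⊥ := by
    rw [← le_bot_iff, ← hbot]
    exact hN
  rw [Subgroup.map_eq_bot_iff, hker] at hN2
  intro x hx
  have h5 : (⟨x, hx.2⟩ : H) ∈ (O ⊓ H).subgroupOf H := mem_subgroupOf.2 hx
  exact ⟨⟨x, hx.2⟩, hN2 h5, rfl⟩

end Bal

end Cfsg.Agent.Walter.BalLocal
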