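import Mathlib
import Cfsg.Prelude.Def_Local
import Cfsg.Agent.Lib.Cores
import Cfsg.Agent.Lib.PGroupCoprimeAction
import Cfsg.Agent.PLocal.ThompsonJA
import Cfsg.Agent.Walter.SylowIn
import Cfsg.Agent.Walter.OddCoreIn
import Cfsg.Agent.Walter.Cover
import Cfsg.Agent.Walter.ZJFusion
import Cfsg.Agent.Walter.QdAbelian

/-!
# The ZJ step

`G` has abelian Sylow 2-subgroups, `H` covers `C(a)/O(C(a))` and `P` is an `a`-invariant Sylow `p`-subgroup of
`O(H)` whose centralizer in `H ∩ C(a)` is contained in `O(C(a)) ⟨a⟩`. Then `H` has a Sylow `p`-subgroup `T`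
containing `P`, with `N_H(P) ≤ N_G(Z(J(T)))`.
-/

set_option autoImplicit false

namespace Cfsg.Agent.Walter.ZJStep

open Subgroup Cfsg
open Cfsg.Agent.Walter.SylowIn Cfsg.Agent.Walter.OddCoreIn Cfsg.Agent.Walter.Cover
open Cfsg.Agent.Lib.Involves (Involves)
open Cfsg.Agent.Walter.QdAbelian (AbTwo)
open Cfsg.Agent.PLocal

variable {G : Type*} [Group G] [Finite G]

/-- `O(N) ≤ O(H)` if `H = O(H) N`. -/
theorem OO_le_of_factor {H N : Subgroup G} (hNH : N ≤ H)
    (hf : ∀ x ∈ H, ∃ o ∈ OO H, ∃ n ∈ N, x = o * n) : OO N ≤ OO H := by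
  have hn : OO N ≤ normalizer (OO H : Set G) :=
    ((OO_le N).trans hNH).trans (le_normalizer_OO H)
  have h1 : OO N ⊔ OO H ≤ OO H := by
    refine le_OO (sup_le ((OO_le N).trans hNH) (OO_le H)) ?_
      (not_dvd_sup Nat.prime_two hn (OO_odd N) (OO_odd H))
    rw [le_normalizer_iff']
    intro x hx z hz
    obtain ⟨o, ho, n, hnN, rfl⟩ := hf x hx
    obtain ⟨m, hm, y, hy, rfl⟩ := (mem_sup_iff_mul hn).1 hz
    have e1 : n * (m * y) * n⁻¹ = (n * m * n⁻¹) * (n * y * n⁻¹) := by group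
    have h2 : n * (m * y) * n⁻¹ ∈ OO N ⊔ OO H := by
      rw [e1]
      exact mul_mem (mem_sup_left (conj_mem (le_normalizer_OO N) hnN hm))
        (mem_sup_right (conj_mem (le_normalizer_OO H) (hNH hnN) hy))
    have e2 : o * n * (m * y) * (o * n)⁻¹ = o * (n * (m * y) * n⁻¹) * o⁻¹ := by group
    rw [e2]
    exact mul_mem (mul_mem (mem_sup_right ho) h2) (inv_mem (mem_sup_right ho))
  exact le_sup_left.trans h1

omit [Finite G] in
theorem card_zpowers_dvd {a : G} (ha : a * a = 1) : Nat.card (zpowers a) ∣ 2 := by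
  rw [Nat.card_zpowers]
  exact orderOf_dvd_of_pow_eq_one (by rw [pow_two]; exact ha)

/-- the order of `O(C(a)) ⟨a⟩` is not divisible by 4. -/
theorem not_four_core_sup {a : G} (ha : a * a = 1) :
    ¬ 4 ∣ Nat.card (centralizerPPrimeCore 2 a ⊔ zpowers a : Subgroup G) := by
  intro h
  have hn : zpowers a ≤ normalizer (centralizerPPrimeCore 2 a : Set G) := by
    rw [zpowers_le]
    exact C_le_normalizer_core a (self_mem_C a)
  have h1 := card_sup_dvd hn
  rw [sup_comm] at h1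
  have h2 : Nat.card (centralizerPPrimeCore 2 a ⊔ zpowers a : Subgroup G) ∣
      2 * Nat.card (centralizerPPrimeCore 2 a) :=
    h1.trans (Nat.mul_dvd_mul_right (card_zpowers_dvd ha) _)
  have h3 : 2 * 2 ∣ 2 * Nat.card (centralizerPPrimeCore 2 a) := by
    exact h.trans h2
  exact core_odd a (Nat.dvd_of_mul_dvd_mul_left (by norm_num) h3)

/-- A subgroup `R` normalised by a subgroup `N ∋ a` with `R ∩ C(a) ≤ O(C(a)) ⟨a⟩` has order not divisible by 4. -/
theorem not_four_of_inf {a : G} (ha : a * a = 1) (hab : AbTwo G) {N R : Subgroup G} (hRN : R ≤ N)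
    (hn : N ≤ normalizer (R : Set G)) (haN : a ∈ N)
    (hR : R ⊓ C a ≤ centralizerPPrimeCore 2 a ⊔ zpowers a) : ¬ 4 ∣ Nat.card R := by
  intro h4
  have : Fact (Nat.Prime 2) := ⟨Nat.prime_two⟩
  have hz : IsPGroup 2 (zpowers a) := by
    obtain ⟨k, -, hk⟩ := (Nat.dvd_prime_pow Nat.prime_two).1
      (by simpa using card_zpowers_dvd ha : Nat.card (zpowers a) ∣ 2 ^ 1)
    exact IsPGroup.of_card hk
  obtain ⟨T, hT, haT⟩ := exists_sylIn_ge (p := 2) ((zpowers_le).2 haN) hz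
  have haT' : a ∈ T := haT (mem_zpowers a)
  have hTC : T ≤ C a := fun t ht => mem_C.2 (hab T hT.isPGroup t ht a haT')
  have h1 : SylIn 2 (T ⊓ R) R := hT.inf hRN hn
  have h2 : T ⊓ R ≤ centralizerPPrimeCore 2 a ⊔ zpowers a :=
    le_trans (le_inf inf_le_right (inf_le_left.trans hTC)) hR
  have h3 : ¬ 4 ∣ Nat.card (T ⊓ R : Subgroup G) := not_dvd_of_le h2 (not_four_core_sup ha)
  apply h3
  have h5 : Nat.card (T ⊓ R : Subgroup G) * (T ⊓ R).relIndex R = Nat.card R := by
    have := Subgroup.card_mul_index ((T ⊓ R).subgroupOf R)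
    rwa [Nat.card_congr (Subgroup.subgroupOfEquivOfLe (inf_le_right : T ⊓ R ≤ R)).toEquiv] at this
  have h6 : Nat.Coprime 4 ((T ⊓ R).relIndex R) := by
    have := (Nat.Prime.coprime_iff_not_dvd Nat.prime_two).2 h1.not_dvd
    exact Nat.Coprime.pow_left 2 this
  rw [← h5] at h4
  exact h6.dvd_of_dvd_mul_right h4

variable {p : ℕ} [hpf : Fact p.Prime]

omit [Finite G] in
theorem not_two_dvd_orderOf (hp : p ≠ 2) {P : Subgroup G} (hP : IsPGroup p P) {x : G} (hx : x ∈ P) :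
    ¬ 2 ∣ orderOf x := by
  obtain ⟨k, hk⟩ := hP ⟨x, hx⟩
  have h1 : x ^ p ^ k = 1 := congrArg Subtype.val hk
  intro h
  have h2 : 2 ∣ p ^ k := h.trans (orderOf_dvd_of_pow_eq_one h1)
  exact hp ((Nat.prime_dvd_prime_iff_eq Nat.prime_two hpf.out).1
    (Nat.prime_two.dvd_of_dvd_pow h2)).symm

/-- **The ZJ step.** -/
theorem zj_step (hp : p ≠ 2) (hab : AbTwo G) (hfree : ¬ Involves G ↥(Cfsg.qd p)) {a : G}
    (ha : a * a = 1) {H P : Subgroup G} (hcov : Cov a H) (hP : SylIn p P (OO H))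
    (haP : a ∈ normalizer (P : Set G))
    (hnt : centralizer (P : Set G) ⊓ H ⊓ C a ≤ centralizerPPrimeCore 2 a ⊔ zpowers a) :
    ∃ T : Subgroup G, SylIn p T H ∧ P ≤ T ∧ T ≤ normalizer (P : Set G) ∧
      H ⊓ normalizer (P : Set G) ≤ normalizer (centerThompsonAOf T : Set G) ∧
      Cov a (H ⊓ normalizer (P : Set G)) := by
  set N : Subgroup G := H ⊓ normalizer (P : Set G) with hN
  have hNH : N ≤ H := inf_le_left
  have hPH : P ≤ H := hP.le.trans (OO_le H)
  have hPN : P ≤ N := le_inf hPH le_normalizer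
  have haN : a ∈ N := mem_inf.2 ⟨hcov.1, haP⟩
  have hf : ∀ x ∈ H, ∃ o ∈ OO H, ∃ n ∈ N, x = o * n := fun x hx =>
    hP.frattini (OO_le H) (le_normalizer_OO H) hx
  have hcovN : Cov a N := hcov.of_factor ha hNH haN hf
  have hON : OO N ≤ OO H := OO_le_of_factor hNH hf
  -- the centralizer of `P` in `N`
  set R : Subgroup G := centralizer (P : Set G) ⊓ N with hR
  have hRN : R ≤ N := inf_le_right
  have hRn : N ≤ normalizer (R : Set G) := by
    rw [le_normalizer_iff']
    rintro n hn x ⟨hx1, hx2⟩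
    refine mem_inf.2 ⟨?_, mul_mem (mul_mem hn hx2) (inv_mem hn)⟩
    rw [mem_centralizer_iff]
    intro y hy
    have h1 : n⁻¹ * y * n ∈ P := by
      have := conj_mem (inf_le_right : N ≤ normalizer (P : Set G)) (inv_mem hn) hy
      simpa using this
    have h2 : (n⁻¹ * y * n) * x = x * (n⁻¹ * y * n) := mem_centralizer_iff.1 hx1 _ h1
    calc y * (n * x * n⁻¹) = n * ((n⁻¹ * y * n) * x) * n⁻¹ := by group
      _ = n * (x * (n⁻¹ * y * n)) * n⁻¹ := by rw [h2]
      _ = n * x * n⁻¹ * y := by group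
  have hR4 : ¬ 4 ∣ Nat.card R := by
    refine not_four_of_inf ha hab hRN hRn haN ?_
    refine le_trans ?_ hnt
    exact le_inf (le_inf (inf_le_left.trans inf_le_left) ((inf_le_left.trans hRN).trans hNH))
      inf_le_right
  -- a Sylow `p`-subgroup
  obtain ⟨T, hT, hPT⟩ := exists_sylIn_ge (p := p) hPH hP.isPGroup
  have hTO : T ⊓ OO H = P :=
    hP.eq_of_le (le_inf hPT hP.le) inf_le_right (hT.isPGroup.to_le inf_le_left)
  have hTn : T ≤ normalizer (P : Set G) := by
    rw [le_normalizer_iff']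
    intro t ht x hx
    have h1 : x ∈ T ⊓ OO H := by rw [hTO]; exact hx
    rw [← hTO]
    exact mem_inf.2 ⟨mul_mem (mul_mem ht h1.1) (inv_mem ht),
      conj_mem (le_normalizer_OO H) (hT.le ht) h1.2⟩
  have hTN : T ≤ N := le_inf hT.le hTn
  have hTN' : SylIn p T N := hT.of_le hTN hNH
  -- elements of odd order of normal subgroups of `N` of order not divisible by 4
  have hkey : ∀ Y : Subgroup G, Y ≤ N → N ≤ normalizer (Y : Set G) → ¬ 4 ∣ Nat.card Y →
      ∀ x ∈ Y, x ∈ T → x ∈ P := by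
    intro Y hYN hYn hY4 x hx hxT
    have h1 : x ∈ OO Y := mem_OO_of_not_four hY4 hx (not_two_dvd_orderOf hp hT.isPGroup hxT)
    have h2 : x ∈ OO H := hON (OO_le_OO_of_normal hYN hYn h1)
    rw [← hTO]
    exact mem_inf.2 ⟨hxT, h2⟩
  have hC : centralizer (P : Set G) ⊓ T ≤ P := fun x hx =>
    hkey R hRN hRn hR4 x (mem_inf.2 ⟨hx.1, hTN hx.2⟩) hx.2
  obtain ⟨h1, h2, -⟩ := ZJFusion.centric_factor_in hp hfree hTN hT.isPGroup hTN'.not_dvd hPT
    (inf_le_right : N ≤ normalizer (P : Set G)) hC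
  set K : Subgroup G := (pPrimeCore p N).map N.subtype with hK
  have hKN : K ≤ N := map_subtype_le _
  have hKR : K ≤ R := le_inf h1 hKN
  have hKp : (Nat.card K).Coprime p := by
    rw [hK, card_map_of_injective N.subtype_injective]
    exact Lib.Cores.pPrimeCore_coprime p
  have hZT : centerThompsonAOf T ≤ T := ThompsonJA.centerThompsonAOf_le _
  have hKn : N ≤ normalizer (K : Set G) := by
    have h3 : K.subgroupOf N = pPrimeCore p N := by
      rw [Subgroup.subgroupOf, comap_map_eq_self_of_injective N.subtype_injective]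
    have h4 := Lib.Cores.pPrimeCore_normal (G := N) p
    rw [← h3] at h4
    exact (normal_subgroupOf_iff_le_normalizer hKN).1 h4
  set Y : Subgroup G := centerThompsonAOf T ⊔ K with hY
  have hYN : Y ≤ N := sup_le (hZT.trans hTN) hKN
  have hY4 : ¬ 4 ∣ Nat.card Y := by
    intro h
    have h3 : 4 ∣ Nat.card (centerThompsonAOf T) * Nat.card K :=
      h.trans (card_sup_dvd ((hZT.trans hTN).trans hKn))
    have h4 : Nat.Coprime 4 (Nat.card (centerThompsonAOf T)) := by
      obtain ⟨k, hk⟩ := IsPGroup.iff_card.1 (hT.isPGroup.to_le hZT)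
      rw [hk]
      have : Nat.Coprime 2 p := (Nat.coprime_primes Nat.prime_two hpf.out).2 hp.symm
      exact Nat.Coprime.pow_left 2 (Nat.Coprime.pow_right k this)
    exact hR4 ((h4.dvd_of_dvd_mul_left h3).trans (card_dvd_of_le hKR))
  have hZP : centerThompsonAOf T ≤ P := fun x hx =>
    hkey Y hYN h2 hY4 x (mem_sup_left hx) (hZT hx)
  refine ⟨T, hT, hPT, hTn, ?_, hcovN⟩
  rw [le_normalizer_iff']
  intro n hn x hx
  have h3 : n * x * n⁻¹ ∈ Y := conj_mem h2 hn (mem_sup_left hx)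
  obtain ⟨z, hz, k, hk, e⟩ := (mem_sup_iff_mul ((hZT.trans hTN).trans hKn)).1 h3
  have h4 : n * x * n⁻¹ ∈ P := conj_mem (inf_le_right : N ≤ normalizer (P : Set G)) hn (hZP hx)
  have h5 : k ∈ P := by
    have : k = z⁻¹ * (n * x * n⁻¹) := by rw [e]; group
    rw [this]
    exact mul_mem (inv_mem (hZP hz)) h4
  have h6 : k = 1 := by
    have h7 : orderOf k ∣ Nat.card K := Subgroup.orderOf_dvd_natCard _ hk
    obtain ⟨m, hm⟩ := hP.isPGroup ⟨k, h5⟩
    have h8 : k ^ p ^ m = 1 := congrArg Subtype.val hm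
    have h9 : orderOf k ∣ p ^ m := orderOf_dvd_of_pow_eq_one h8
    have h10 : Nat.Coprime (Nat.card K) (p ^ m) := Nat.Coprime.pow_right m hKp
    exact orderOf_eq_one_iff.1 (Nat.eq_one_of_dvd_coprimes h10 h7 h9)
  rw [e, h6, mul_one]
  exact hz

end Cfsg.Agent.Walter.ZJStep
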