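import Mathlib
import Cfsg.Prelude.Def_Local
import Cfsg.Agent.Lib.Cores
import Cfsg.Agent.Lib.PGroupCoprimeAction
import Cfsg.Agent.PLocal.ThompsonJA
import Cfsg.Agent.Walter.SylowIn
import Cfsg.Agent.Walter.OddCoreIn
import Cfsg.Agent.Walter.Cover
import Cfsg.Agent.Walter.ZJStep
import Cfsg.Agent.Walter.ZJFusion
import Cfsg.Agent.Walter.GlaubermanFusion
import Cfsg.Agent.Walter.QdAbelian

/-!
# Elements of core type

`G` has abelian Sylow 2-subgroups, `a` is an involution and `L` a subgroup of `C(a)` such that every normal subgroup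
of `C(a)/O(C(a))` contains the image of `L` or is contained in the image of `⟨a⟩`. Let `p` be an odd prime such
that no Sylow `p`-subgroup of `O(C(a))` is centralized by `L` modulo `O(C(a))`. Then there is a Sylow `p`-subgroup `T`
of `G` whose `N_G(Z(J(T)))` covers `C(a)/O(C(a))`, and the `p`-elements of `O(C(a))` are the `p`-elements of `C(a)`
which are conjugate to elements of `T ∩ O(N_G(Z(J(T))))`. In particular, `p`-elements of `O(C(a)) ∩ C(b)` lie in
`O(C(b))` for conjugates `b` of `a`.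
-/

set_option autoImplicit false

namespace Cfsg.Agent.Walter.CoreType

open Subgroup Cfsg
open Cfsg.Agent.Walter.SylowIn Cfsg.Agent.Walter.OddCoreIn Cfsg.Agent.Walter.Cover
open Cfsg.Agent.Walter.ZJStep
open Cfsg.Agent.Lib.Involves (Involves)
open Cfsg.Agent.Walter.QdAbelian (AbTwo)
open Cfsg.Agent.PLocal

variable {G : Type*} [Group G] [Finite G]

/-- The hypotheses on the involution `a`, the subgroup `L` of `C(a)` and the prime `p`. -/
structure Hyp (p : ℕ) (a : G) (L : Subgroup G) : Prop where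
  abTwo : AbTwo G
  inv : orderOf a = 2
  le_C : L ≤ C a
  /-- normal subgroups of `C(a)` modulo the core -/
  dich : ∀ D : Subgroup G, D ≤ C a → centralizerPPrimeCore 2 a ≤ D → C a ≤ normalizer (D : Set G) →
    L ≤ D ∨ D ≤ centralizerPPrimeCore 2 a ⊔ zpowers a
  /-- balance for the covering subgroups -/
  bal : ∀ H : Subgroup G, H ≠ ⊤ → Cov a H → centralizerPPrimeCore 2 a ⊓ H ≤ OO H
  C_ne : C a ≠ ⊤
  local_ne : ∀ Z : Subgroup G, IsPGroup p Z → Z ≠ ⊥ → normalizer (Z : Set G) ≠ ⊤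
  /-- `L` acts nontrivially on the Sylow `p`-subgroups of the core -/
  nontriv : ∀ P : Subgroup G, SylIn p P (centralizerPPrimeCore 2 a) →
    ¬ L ≤ (centralizer (P : Set G) ⊓ C a) ⊔ centralizerPPrimeCore 2 a

section

variable {p : ℕ} [hpf : Fact p.Prime] {a : G} {L : Subgroup G}

omit [Finite G] hpf in
theorem Hyp.mul_self (h : Hyp p a L) : a * a = 1 := by
  have := pow_orderOf_eq_one a
  rwa [h.inv, pow_two] at this

/-- one step: from a proper subgroup covering `C(a)/O(C(a))` to `N_G(Z(J(T)))`. -/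
theorem Hyp.step (h : Hyp p a L) (hp : p ≠ 2) {H P₀ : Subgroup G} (hH : H ≠ ⊤) (hcov : Cov a H)
    (hP₀ : SylIn p P₀ (centralizerPPrimeCore 2 a)) (hP₀H : P₀ ≤ H) :
    ∃ T : Subgroup G, SylIn p T H ∧ P₀ ≤ normalizer (centerThompsonAOf T : Set G) ∧
      Cov a (normalizer (centerThompsonAOf T : Set G)) ∧
      normalizer (centerThompsonAOf T : Set G) ≠ ⊤ := by
  have ha := h.mul_self
  have h1 : P₀ ≤ OO H := (le_inf hP₀.le hP₀H).trans (h.bal H hH hcov)
  -- an `a`-invariant Sylow subgroup of the core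
  have hz : IsPGroup 2 (zpowers a) := by
    refine IsPGroup.of_card (n := 1) ?_
    rw [Nat.card_zpowers, h.inv, pow_one]
  have : Fact (Nat.Prime 2) := ⟨Nat.prime_two⟩
  have hza : ∀ b ∈ zpowers a, ∀ u ∈ OO H, b * u * b⁻¹ ∈ OO H := fun b hb u hu =>
    conj_mem (le_normalizer_OO H) ((zpowers_le.2 hcov.1) hb) hu
  have hzP : ∀ b ∈ zpowers a, ∀ u ∈ P₀, b * u * b⁻¹ ∈ P₀ := by
    intro b hb u hu
    have hu1 : u ∈ C a := core_le_C a (hP₀.le hu)
    have hu2 : b * u = u * b := by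
      obtain ⟨n, rfl⟩ := mem_zpowers_iff.1 hb
      have : Commute a u := (mem_C.1 hu1).symm
      exact this.zpow_left n
    rw [hu2, mul_inv_cancel_right]
    exact hu
  obtain ⟨P, hP, hPa, hP₀P⟩ := Lib.PGroupCoprimeAction.exists_invariant_sylow_ge hz (OO_odd H) hza
    h1 hP₀.isPGroup hzP
  have hP' : SylIn p P (OO H) := hP
  have haP : a ∈ normalizer (P : Set G) :=
    (le_normalizer_iff'.2 hPa) (mem_zpowers a)
  set N : Subgroup G := H ⊓ normalizer (P : Set G) with hN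
  have hcovN : Cov a N := by
    refine hcov.of_factor ha inf_le_left (mem_inf.2 ⟨hcov.1, haP⟩) fun x hx => ?_
    exact hP'.frattini (OO_le H) (le_normalizer_OO H) hx
  have hnt : centralizer (P : Set G) ⊓ H ⊓ C a ≤ centralizerPPrimeCore 2 a ⊔ zpowers a := by
    set D : Subgroup G := centralizer (P : Set G) ⊓ H ⊓ C a with hD
    have hDC : D ≤ C a := inf_le_right
    have hDn : N ⊓ C a ≤ normalizer (D : Set G) := by
      rw [le_normalizer_iff']
      rintro n ⟨hn1, hn2⟩ x ⟨⟨hx1, hx2⟩, hx3⟩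
      have hnN : n ∈ N := hn1
      have hnC : n ∈ C a := hn2
      have hxH : x ∈ H := hx2
      have hxC : x ∈ C a := hx3
      have hnH : n ∈ H := hnN.1
      have h5 : n * x * n⁻¹ ∈ centralizer (P : Set G) := by
        rw [mem_centralizer_iff]
        intro y hy
        have h6 : n⁻¹ * y * n ∈ P := by
          have := conj_mem (inf_le_right : N ≤ normalizer (P : Set G)) (inv_mem hnN) hy
          simpa using this
        have h7 : (n⁻¹ * y * n) * x = x * (n⁻¹ * y * n) := mem_centralizer_iff.1 hx1 _ h6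
        calc y * (n * x * n⁻¹) = n * ((n⁻¹ * y * n) * x) * n⁻¹ := by group
          _ = n * (x * (n⁻¹ * y * n)) * n⁻¹ := by rw [h7]
          _ = n * x * n⁻¹ * y := by group
      exact mem_inf.2 ⟨mem_inf.2 ⟨h5, mul_mem (mul_mem hnH hxH) (inv_mem hnH)⟩,
        mul_mem (mul_mem hnC hxC) (inv_mem hnC)⟩
    have h4 := hcovN.sup_normal hDC hDn
    rcases h.dich _ (sup_le hDC (core_le_C a)) le_sup_right h4 with h5 | h5
    · exfalso
      refine h.nontriv P₀ hP₀ (h5.trans (sup_le_sup_right ?_ _))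
      refine le_inf ?_ inf_le_right
      refine (inf_le_left.trans inf_le_left).trans (centralizer_le ?_)
      exact hP₀P
    · exact le_sup_left.trans h5
  obtain ⟨T, hT, hPT, hTn, hNZ, -⟩ := zj_step hp h.abTwo (QdAbelian.not_involves_qd h.abTwo hp) ha
    hcov hP' haP hnt
  have hcovZ : Cov a (normalizer (centerThompsonAOf T : Set G)) := hcovN.mono hNZ
  have hPH : P ≤ H := hP'.le.trans (OO_le H)
  refine ⟨T, hT, hP₀P.trans ((le_inf hPH le_normalizer).trans hNZ), hcovZ, ?_⟩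
  refine h.local_ne _ (hT.isPGroup.to_le (ThompsonJA.centerThompsonAOf_le T)) ?_
  refine ThompsonJA.centerThompsonAOf_ne_bot T hT.isPGroup ?_
  rintro rfl
  have h6 : P₀ = ⊥ := le_bot_iff.1 (hP₀P.trans hPT)
  refine h.nontriv P₀ hP₀ (le_trans ?_ le_sup_left)
  rw [h6]
  refine le_inf ?_ h.le_C
  intro x _
  rw [mem_centralizer_iff]
  intro y hy
  have : y = 1 := by simpa using hy
  rw [this]; simp

/-- **Main step** (W4.7). -/
theorem Hyp.exists_sylow (h : Hyp p a L) (hp : p ≠ 2) :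
    ∃ T : Sylow p G, Cov a (normalizer (centerThompsonAOf (T : Subgroup G) : Set G)) ∧
      normalizer (centerThompsonAOf (T : Subgroup G) : Set G) ≠ ⊤ ∧
      ∃ P₀ : Subgroup G, SylIn p P₀ (centralizerPPrimeCore 2 a) ∧
        P₀ ≤ normalizer (centerThompsonAOf (T : Subgroup G) : Set G) := by
  let 𝒯 : Set (Subgroup G) := {T | ∃ H : Subgroup G, H ≠ ⊤ ∧ Cov a H ∧ SylIn p T H ∧
    ∃ P₀ : Subgroup G, SylIn p P₀ (centralizerPPrimeCore 2 a) ∧ P₀ ≤ H}
  have hne : 𝒯.Nonempty := by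
    obtain ⟨T, hT⟩ := exists_sylIn p (C a)
    obtain ⟨P₀, hP₀⟩ := exists_sylIn p (centralizerPPrimeCore 2 a)
    exact ⟨T, C a, h.C_ne, cov_C a, hT, P₀, hP₀, hP₀.le.trans (core_le_C a)⟩
  obtain ⟨T, ⟨H, hH, hcov, hT, P₀, hP₀, hP₀H⟩, hmax⟩ :=
    Set.exists_max_image 𝒯 (fun T => Nat.card T) (Set.toFinite _) hne
  obtain ⟨T₁, hT₁, hP₀N, hcovN, hNne⟩ := h.step hp hH hcov hP₀ hP₀H
  set N : Subgroup G := normalizer (centerThompsonAOf T₁ : Set G) with hN
  have hT₁N : T₁ ≤ N :=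
    le_normalizer.trans (ThompsonJA.normalizer_le_normalizer_centerThompsonAOf T₁)
  obtain ⟨T₂, hT₂, hT₁₂⟩ := exists_sylIn_ge (p := p) hT₁N hT₁.isPGroup
  have h1 : Nat.card T₂ ≤ Nat.card T := hmax T₂ ⟨N, hNne, hcovN, hT₂, P₀, hP₀, hP₀N⟩
  have h2 : T₁ = T₂ := by
    refine eq_of_le_of_card_ge hT₁₂ ?_
    rw [hT₁.card_eq hT]
    exact h1
  rw [← h2] at hT₂
  obtain ⟨Q, hQ⟩ := hT₂.toSylow (ThompsonJA.normalizer_le_normalizer_centerThompsonAOf T₁)
  refine ⟨Q, ?_⟩
  rw [hQ]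
  exact ⟨hcovN, hNne, P₀, hP₀, hP₀N⟩

end

/-- `|C(a) : N ∩ C(a)|` is prime to `p` if `N` covers `C(a)` and contains a Sylow `p`-subgroup of the core. -/
theorem not_dvd_of_cov {p : ℕ} [hpf : Fact p.Prime] {a : G} {N P₀ : Subgroup G} (h : Cov a N)
    (hP₀ : SylIn p P₀ (centralizerPPrimeCore 2 a)) (hP₀N : P₀ ≤ N) :
    ¬ p ∣ (N ⊓ C a).relIndex (C a) := by
  set X := centralizerPPrimeCore 2 a with hX
  set K := N ⊓ C a with hK
  have hXC : X ≤ C a := core_le_C a
  have hKC : K ≤ C a := inf_le_right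
  have hXn : (X.subgroupOf (C a)).Normal :=
    (normal_subgroupOf_iff_le_normalizer hXC).2 (C_le_normalizer_core a)
  have hsup : K ⊔ X = C a := by
    apply le_antisymm (sup_le hKC hXC)
    intro c hc
    obtain ⟨x, hx, k, hk, rfl⟩ := h.2 c hc
    exact mul_mem (mem_sup_right hx) (mem_sup_left hk)
  have h2 : X.relIndex (C a) = X.relIndex K := by
    have h3 := Subgroup.relIndex_sup_right (K := X.subgroupOf (C a)) (H := K.subgroupOf (C a))
    rw [← subgroupOf_sup hKC hXC, hsup, subgroupOf_self, relIndex_top_right] at h3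
    rw [relIndex, h3, relIndex_subgroupOf hKC]
  have hcard : ∀ A B : Subgroup G, A ≤ B → Nat.card A * A.relIndex B = Nat.card B := by
    intro A B hAB
    have := Subgroup.card_mul_index (A.subgroupOf B)
    rwa [Nat.card_congr (Subgroup.subgroupOfEquivOfLe hAB).toEquiv] at this
  have h3 := hcard X (C a) hXC
  have h4 := hcard K (C a) hKC
  have h5 := hcard (X ⊓ K) K inf_le_right
  have h6 := hcard (X ⊓ K) X inf_le_left
  rw [inf_relIndex_right] at h5
  have h7 : 0 < X.relIndex K := by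
    refine Nat.pos_of_ne_zero fun h0 => ?_
    rw [h0, mul_zero] at h5
    exact (Nat.card_pos (α := K)).ne h5
  have h8 : 0 < Nat.card (X ⊓ K : Subgroup G) := Nat.card_pos
  have h9 : K.relIndex (C a) = (X ⊓ K).relIndex X := by
    rw [h2, ← h6] at h3
    rw [← h5, ← h3] at h4
    have h10 : (Nat.card (X ⊓ K : Subgroup G) * X.relIndex K) * K.relIndex (C a) =
        (Nat.card (X ⊓ K : Subgroup G) * X.relIndex K) * (X ⊓ K).relIndex X := by
      rw [h4]; ring
    exact Nat.eq_of_mul_eq_mul_left (Nat.mul_pos h8 h7) h10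
  rw [h9]
  intro hd
  refine hP₀.not_dvd (hd.trans ?_)
  refine ⟨P₀.relIndex (X ⊓ K), ?_⟩
  rw [mul_comm]
  exact (relIndex_mul_relIndex P₀ (X ⊓ K) X
    (le_inf hP₀.le (le_inf hP₀N (hP₀.le.trans hXC))) inf_le_left).symm

section

variable {p : ℕ} [hpf : Fact p.Prime] {a : G} {L : Subgroup G}

omit [Finite G] hpf in
theorem isPGroup_zpowers {x : G} (hx : ∃ k : ℕ, x ^ p ^ k = 1) : IsPGroup p (zpowers x) := by
  obtain ⟨k, hk⟩ := hx
  intro y
  refine ⟨k, Subtype.ext ?_⟩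
  obtain ⟨n, hn⟩ := mem_zpowers_iff.1 y.2
  change (y : G) ^ p ^ k = 1
  rw [← hn, ← zpow_natCast, zpow_comm, zpow_natCast, hk, one_zpow]

/-- **Core type** (W4.8). -/
theorem Hyp.mem_core_iff (h : Hyp p a L) (hp : p ≠ 2) {T : Sylow p G}
    (hcov : Cov a (normalizer (centerThompsonAOf (T : Subgroup G) : Set G)))
    (hne : normalizer (centerThompsonAOf (T : Subgroup G) : Set G) ≠ ⊤) {P₀ : Subgroup G}
    (hP₀ : SylIn p P₀ (centralizerPPrimeCore 2 a))
    (hP₀N : P₀ ≤ normalizer (centerThompsonAOf (T : Subgroup G) : Set G)) {x : G}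
    (hx : x ∈ C a) (hxp : ∃ k : ℕ, x ^ p ^ k = 1) :
    x ∈ centralizerPPrimeCore 2 a ↔
      ∃ g : G, g * x * g⁻¹ ∈ (T : Subgroup G) ⊓
        OO (normalizer (centerThompsonAOf (T : Subgroup G) : Set G)) := by
  set N : Subgroup G := normalizer (centerThompsonAOf (T : Subgroup G) : Set G) with hN
  have hTN : (T : Subgroup G) ≤ N :=
    le_normalizer.trans (ThompsonJA.normalizer_le_normalizer_centerThompsonAOf _)
  have hTN' : SylIn p (T : Subgroup G) N := sylIn_of_sylow T hTN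
  have hzx := isPGroup_zpowers hxp
  constructor
  · intro hxX
    obtain ⟨y, hy, h1⟩ := hP₀.conj_le (zpowers_le.2 hxX) hzx
    have h2 : y * x * y⁻¹ ∈ P₀ := h1 x (mem_zpowers x)
    have h3 : y * x * y⁻¹ ∈ OO N := h.bal N hne hcov (mem_inf.2 ⟨hP₀.le h2, hP₀N h2⟩)
    have h4 : SylIn p ((T : Subgroup G) ⊓ OO N) (OO N) := hTN'.inf (OO_le N) (le_normalizer_OO N)
    obtain ⟨z, hz, h5⟩ := h4.conj_le (zpowers_le.2 h3)
      (hP₀.isPGroup.to_le (zpowers_le.2 h2))
    refine ⟨z * y, ?_⟩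
    have h6 := h5 _ (mem_zpowers _)
    have e : z * y * x * (z * y)⁻¹ = z * (y * x * y⁻¹) * z⁻¹ := by group
    rw [e]
    exact h6
  · rintro ⟨g, hg⟩
    -- a Sylow `p`-subgroup of `C(a)` inside `N`
    obtain ⟨Q, hQ, -⟩ := exists_sylIn_ge (p := p) (le_inf hP₀N (hP₀.le.trans (core_le_C a)))
      hP₀.isPGroup
    have hQC : SylIn p Q (C a) := by
      refine sylIn_of (hQ.le.trans inf_le_right) hQ.isPGroup ?_
      rw [← relIndex_mul_relIndex Q (N ⊓ C a) (C a) hQ.le inf_le_right]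
      intro hd
      rcases (Nat.Prime.dvd_mul hpf.out).1 hd with h1 | h1
      · exact hQ.not_dvd h1
      · exact not_dvd_of_cov hcov hP₀ hP₀N h1
    obtain ⟨c, hc, h1⟩ := hQC.conj_le (zpowers_le.2 hx) hzx
    have h2 : c * x * c⁻¹ ∈ N := (hQ.le (h1 x (mem_zpowers x))).1
    have h3 : IsPGroup p (zpowers (c * x * c⁻¹)) :=
      hQ.isPGroup.to_le (zpowers_le.2 (h1 x (mem_zpowers x)))
    obtain ⟨n, hn, h4⟩ := hTN'.conj_le (zpowers_le.2 h2) h3
    have h5 : n * (c * x * c⁻¹) * n⁻¹ ∈ (T : Subgroup G) := h4 _ (mem_zpowers _)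
    -- fusion
    have e1 : (n * c * g⁻¹) * (g * x * g⁻¹) * (n * c * g⁻¹)⁻¹ = n * (c * x * c⁻¹) * n⁻¹ := by group
    obtain ⟨m, hm, h6⟩ := GlaubermanFusion.fusion_elem hp
      (QdAbelian.not_involves_qd h.abTwo hp) T hg.1 (g := n * c * g⁻¹) (by rw [e1]; exact h5)
    rw [e1] at h6
    have h7 : n * (c * x * c⁻¹) * n⁻¹ ∈ OO N := by
      rw [h6]
      exact conj_mem (le_normalizer_OO N) hm hg.2
    have h8 : c * x * c⁻¹ ∈ OO N := by
      have := conj_mem (le_normalizer_OO N) (inv_mem hn) h7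
      have e2 : n⁻¹ * (n * (c * x * c⁻¹) * n⁻¹) * n⁻¹⁻¹ = c * x * c⁻¹ := by group
      rwa [e2] at this
    have h9 : c * x * c⁻¹ ∈ centralizerPPrimeCore 2 a :=
      hcov.OO_inf_le (mem_inf.2 ⟨h8, mul_mem (mul_mem hc hx) (inv_mem hc)⟩)
    have := conj_mem (C_le_normalizer_core a) (inv_mem hc) h9
    have e3 : c⁻¹ * (c * x * c⁻¹) * c⁻¹⁻¹ = x := by group
    rwa [e3] at this

omit [Finite G] in
theorem conj_mem_C {a x : G} (k : G) (h : x ∈ C a) : k * x * k⁻¹ ∈ C (k * a * k⁻¹) := by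
  rw [mem_C] at h ⊢
  calc k * x * k⁻¹ * (k * a * k⁻¹) = k * (x * a) * k⁻¹ := by group
    _ = k * (a * x) * k⁻¹ := by rw [h]
    _ = k * a * k⁻¹ * (k * x * k⁻¹) := by group

theorem conj_mem_core {a x : G} (k : G) (h : x ∈ centralizerPPrimeCore 2 a) :
    k * x * k⁻¹ ∈ centralizerPPrimeCore 2 (k * a * k⁻¹) := by
  have h1 : (centralizerPPrimeCore 2 a).map (MulAut.conj k).toMonoidHom ≤
      centralizerPPrimeCore 2 (k * a * k⁻¹) := by
    refine le_core ?_ ?_ ?_
    · rintro _ ⟨y, hy, rfl⟩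
      exact conj_mem_C k (core_le_C a hy)
    · rw [le_normalizer_iff']
      rintro c hc _ ⟨y, hy, rfl⟩
      have h2 : k⁻¹ * c * k ∈ C a := by
        have := conj_mem_C k⁻¹ hc
        have e : k⁻¹ * (k * a * k⁻¹) * k⁻¹⁻¹ = a := by group
        rw [e] at this
        simpa using this
      refine ⟨(k⁻¹ * c * k) * y * (k⁻¹ * c * k)⁻¹, conj_mem (C_le_normalizer_core a) h2 hy, ?_⟩
      simp [mul_assoc]
    · rw [card_map_of_injective (MulAut.conj k).injective]
      exact core_odd a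
  exact h1 ⟨x, h, rfl⟩

/-- **Balance** for the `p`-elements, `p` a prime for which the action of `L` is nontrivial. -/
theorem Hyp.balance (h : Hyp p a L) (hp : p ≠ 2) {b : G} (hb : ∃ k : G, k * a * k⁻¹ = b) {x : G}
    (hx : x ∈ centralizerPPrimeCore 2 a) (hxb : x ∈ C b) (hxp : ∃ k : ℕ, x ^ p ^ k = 1) :
    x ∈ centralizerPPrimeCore 2 b := by
  obtain ⟨k, rfl⟩ := hb
  obtain ⟨T, hcov, hne, P₀, hP₀, hP₀N⟩ := h.exists_sylow hp
  obtain ⟨g, hg⟩ := (h.mem_core_iff hp hcov hne hP₀ hP₀N (core_le_C a hx) hxp).1 hx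
  have h1 : k⁻¹ * x * k ∈ C a := by
    have := conj_mem_C k⁻¹ hxb
    have e : k⁻¹ * (k * a * k⁻¹) * k⁻¹⁻¹ = a := by group
    rw [e] at this
    simpa using this
  have h2 : k⁻¹ * x * k ∈ centralizerPPrimeCore 2 a := by
    refine (h.mem_core_iff hp hcov hne hP₀ hP₀N h1 ?_).2 ⟨g * k, ?_⟩
    · obtain ⟨n, hn⟩ := hxp
      refine ⟨n, ?_⟩
      have e : k⁻¹ * x * k = k⁻¹ * x * (k⁻¹)⁻¹ := by simp
      rw [e, conj_pow, hn]; simp
    · have e : g * k * (k⁻¹ * x * k) * (g * k)⁻¹ = g * x * g⁻¹ := by group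
      rw [e]
      exact hg
  have := conj_mem_core k h2
  have e : k * (k⁻¹ * x * k) * k⁻¹ = x := by group
  rwa [e] at this

end

end Cfsg.Agent.Walter.CoreType
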