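import Mathlib
import Cfsg.Prelude.Def_Local
import Cfsg.Agent.Lib.PGroupCoprimeAction
import Cfsg.Agent.Walter.SylowIn
import Cfsg.Agent.Walter.OddCoreIn
import Cfsg.Agent.Walter.Cover
import Cfsg.Agent.Walter.ZJStep
import Cfsg.Agent.Walter.CoreType
import Cfsg.Agent.Walter.QdAbelian

/-!
# Balance in rank 3

`G` has an elementary abelian Sylow 2-subgroup `S` all of whose involutions are conjugate, `L a` is the preimage in
`C(a)` of the component of `C(a)/O(C(a))`. Then `O(C(a)) ∩ C(b) ≤ O(C(b))` for all commuting involutions.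
-/

set_option autoImplicit false

namespace Cfsg.Agent.Walter.Balance

open Subgroup Cfsg
open Cfsg.Agent.Walter.SylowIn Cfsg.Agent.Walter.OddCoreIn Cfsg.Agent.Walter.Cover
open Cfsg.Agent.Walter.ZJStep Cfsg.Agent.Walter.CoreType
open Cfsg.Agent.Walter.QdAbelian (AbTwo)

variable {G : Type*} [Group G] [Finite G]

/-- The data for the balance theorem. `L a` is the preimage in `C(a)` of the component of `C(a)/O(C(a))`. -/
structure Data (S : Sylow 2 G) (L : G → Subgroup G) : Prop where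
  abTwo : AbTwo G
  sq : ∀ a ∈ (S : Subgroup G), a * a = 1
  conj : ∀ a ∈ (S : Subgroup G), ∀ b ∈ (S : Subgroup G), a ≠ 1 → b ≠ 1 → ∃ k : G, k * a * k⁻¹ = b
  le_C : ∀ a ∈ (S : Subgroup G), a ≠ 1 → L a ≤ C a
  normal : ∀ a ∈ (S : Subgroup G), a ≠ 1 → C a ≤ normalizer (L a : Set G)
  le_sup : ∀ a ∈ (S : Subgroup G), a ≠ 1 → (S : Subgroup G) ≤ L a ⊔ zpowers a
  dich : ∀ a ∈ (S : Subgroup G), a ≠ 1 → ∀ D : Subgroup G, D ≤ C a →
    centralizerPPrimeCore 2 a ≤ D → C a ≤ normalizer (D : Set G) →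
    L a ≤ D ∨ D ≤ centralizerPPrimeCore 2 a ⊔ zpowers a
  bal : ∀ a ∈ (S : Subgroup G), a ≠ 1 → ∀ H : Subgroup G, H ≠ ⊤ → Cov a H →
    centralizerPPrimeCore 2 a ⊓ H ≤ OO H
  C_ne : ∀ a ∈ (S : Subgroup G), a ≠ 1 → C a ≠ ⊤
  local_ne : ∀ p : ℕ, p.Prime → ∀ Z : Subgroup G, IsPGroup p Z → Z ≠ ⊥ → normalizer (Z : Set G) ≠ ⊤
  /-- odd order elements of `L b` centralizing `S` modulo the core lie in the core -/
  cent : ∀ b ∈ (S : Subgroup G), b ≠ 1 → ∀ v ∈ L b, ¬ 2 ∣ orderOf v →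
    (∀ s ∈ (S : Subgroup G), s * v * s⁻¹ * v⁻¹ ∈ centralizerPPrimeCore 2 b) →
    v ∈ centralizerPPrimeCore 2 b
  /-- odd order elements of `C(b)` centralizing `C_L(a)` modulo the core lie in the core -/
  aut : ∀ a ∈ (S : Subgroup G), ∀ b ∈ (S : Subgroup G), a ≠ 1 → b ≠ 1 → a ≠ b → ∀ w ∈ C b,
    ¬ 2 ∣ orderOf w → (∀ l ∈ L b ⊓ C a, l * w * l⁻¹ * w⁻¹ ∈ centralizerPPrimeCore 2 b) →
    w ∈ centralizerPPrimeCore 2 b

omit [Finite G] in
theorem card_mul_relIndex {A B : Subgroup G} (hAB : A ≤ B) :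
    Nat.card A * A.relIndex B = Nat.card B := by
  have := Subgroup.card_mul_index (A.subgroupOf B)
  rwa [Nat.card_congr (Subgroup.subgroupOfEquivOfLe hAB).toEquiv] at this

/-- `|K X : K| = |X : X ∩ K|`. -/
theorem relIndex_sup_eq {K X : Subgroup G} (h : K ≤ normalizer (X : Set G)) :
    K.relIndex (K ⊔ X) = (X ⊓ K).relIndex X := by
  have hsup : K ⊔ X ≤ normalizer (X : Set G) := sup_le h le_normalizer
  have hXn : (X.subgroupOf (K ⊔ X)).Normal := by
    rw [normal_subgroupOf_iff_le_normalizer le_sup_right]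
    exact hsup
  have h2 : X.relIndex (K ⊔ X) = X.relIndex K := by
    have h3 := Subgroup.relIndex_sup_right (K := X.subgroupOf (K ⊔ X)) (H := K.subgroupOf (K ⊔ X))
    rw [← subgroupOf_sup le_sup_left le_sup_right, subgroupOf_self, relIndex_top_right] at h3
    rw [relIndex, h3, relIndex_subgroupOf le_sup_left]
  have h3 := card_mul_relIndex (le_sup_right : X ≤ K ⊔ X)
  have h4 := card_mul_relIndex (le_sup_left : K ≤ K ⊔ X)
  have h5 := card_mul_relIndex (inf_le_right : X ⊓ K ≤ K)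
  have h6 := card_mul_relIndex (inf_le_left : X ⊓ K ≤ X)
  rw [inf_relIndex_right] at h5
  have h7 : 0 < X.relIndex K := by
    refine Nat.pos_of_ne_zero fun h0 => ?_
    rw [h0, mul_zero] at h5
    exact (Nat.card_pos (α := K)).ne h5
  have h8 : 0 < Nat.card (X ⊓ K : Subgroup G) := Nat.card_pos
  rw [h2, ← h6] at h3
  rw [← h5, ← h3] at h4
  have h10 : (Nat.card (X ⊓ K : Subgroup G) * X.relIndex K) * K.relIndex (K ⊔ X) =
      (Nat.card (X ⊓ K : Subgroup G) * X.relIndex K) * (X ⊓ K).relIndex X := by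
    rw [h4]; ring
  exact Nat.eq_of_mul_eq_mul_left (Nat.mul_pos h8 h7) h10

/-- In the trivial case, `S` centralizes its invariant `p`-subgroups of the core. -/
theorem centralizes_of_trivial {p : ℕ} [hpf : Fact p.Prime] {S : Sylow 2 G} {a : G} {L P₀ : Subgroup G}
    (hSa : (S : Subgroup G) ≤ C a) (hSL : (S : Subgroup G) ≤ L ⊔ zpowers a)
    (hP₀ : SylIn p P₀ (centralizerPPrimeCore 2 a))
    (hL : L ≤ (centralizer (P₀ : Set G) ⊓ C a) ⊔ centralizerPPrimeCore 2 a)
    {R : Subgroup G} (hR : R ≤ centralizerPPrimeCore 2 a) (hRp : IsPGroup p R)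
    (hRS : ∀ s ∈ (S : Subgroup G), ∀ x ∈ R, s * x * s⁻¹ ∈ R) :
    R ≤ centralizer ((S : Subgroup G) : Set G) := by
  have h2f : Fact (Nat.Prime 2) := ⟨Nat.prime_two⟩
  set X := centralizerPPrimeCore 2 a with hX
  set M := centralizer (P₀ : Set G) ⊓ C a with hM
  have hMX : M ≤ normalizer (X : Set G) := (inf_le_right : M ≤ C a).trans (C_le_normalizer_core a)
  have haM : a ∈ M := by
    refine mem_inf.2 ⟨?_, self_mem_C a⟩
    rw [mem_centralizer_iff]
    intro y hy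
    exact mem_C.1 (core_le_C a (hP₀.le hy))
  have hSM : (S : Subgroup G) ≤ M ⊔ X :=
    hSL.trans (sup_le hL (zpowers_le.2 (mem_sup_left haM)))
  -- a conjugate of `S` lies in `M`
  have hidx : ¬ 2 ∣ M.relIndex (M ⊔ X) := by
    rw [relIndex_sup_eq hMX]
    intro h
    refine core_odd a (h.trans ?_)
    exact Subgroup.relIndex_dvd_card _ _
  obtain ⟨Q, hQ⟩ := exists_sylIn 2 M
  have hQ' : SylIn 2 Q (M ⊔ X) := by
    refine sylIn_of (hQ.le.trans le_sup_left) hQ.isPGroup ?_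
    rw [← relIndex_mul_relIndex Q M (M ⊔ X) hQ.le le_sup_left]
    intro hd
    rcases (Nat.Prime.dvd_mul Nat.prime_two).1 hd with h1 | h1
    · exact hQ.not_dvd h1
    · exact hidx h1
  obtain ⟨g, hg, h1⟩ := hQ'.conj_le hSM S.isPGroup'
  obtain ⟨m, hm, x, hx, rfl⟩ := (mem_sup_iff_mul hMX).1 hg
  have h2 : ∀ s ∈ (S : Subgroup G), x * s * x⁻¹ ∈ M := by
    intro s hs
    have h3 := hQ.le (h1 s hs)
    have h4 := mul_mem (mul_mem (inv_mem hm) h3) hm
    have e : m⁻¹ * (m * x * s * (m * x)⁻¹) * m = x * s * x⁻¹ := by group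
    rwa [e] at h4
  -- the corresponding Sylow subgroup is centralized by `S`
  set P₁ : Subgroup G := P₀.map (MulAut.conj x⁻¹).toMonoidHom with hP₁
  have hP₁S : ∀ s ∈ (S : Subgroup G), ∀ u ∈ P₁, s * u * s⁻¹ = u := by
    rintro s hs _ ⟨y, hy, rfl⟩
    have h3 := (h2 s hs).1
    have h4 : y * (x * s * x⁻¹) = (x * s * x⁻¹) * y := mem_centralizer_iff.1 h3 y hy
    change s * (x⁻¹ * y * x⁻¹⁻¹) * s⁻¹ = x⁻¹ * y * x⁻¹⁻¹
    have e : s * (x⁻¹ * y * x⁻¹⁻¹) * s⁻¹ = x⁻¹ * ((x * s * x⁻¹) * y) * x * s⁻¹ := by group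
    rw [e, ← h4]
    group
  have hP₁X : SylIn p P₁ X := by
    have h3 := hP₀.map_conj x⁻¹
    have h4 : X.map (MulAut.conj x⁻¹).toMonoidHom = X := by
      ext z
      constructor
      · rintro ⟨y, hy, rfl⟩
        exact mul_mem (mul_mem (inv_mem hx) hy) (inv_mem (inv_mem hx))
      · intro hz
        refine ⟨x * z * x⁻¹, mul_mem (mul_mem hx hz) (inv_mem hx), ?_⟩
        change x⁻¹ * (x * z * x⁻¹) * x⁻¹⁻¹ = z
        group
    rwa [h4] at h3
  have hSX : ∀ b ∈ (S : Subgroup G), ∀ u ∈ X, b * u * b⁻¹ ∈ X := fun b hb u hu =>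
    conj_mem (C_le_normalizer_core a) (hSa hb) hu
  obtain ⟨P₂, hP₂, hSP₂, hRP₂⟩ := Lib.PGroupCoprimeAction.exists_invariant_sylow_ge S.isPGroup'
    (core_odd a) hSX hR hRp hRS
  obtain ⟨c, hc, h3⟩ := Lib.PGroupCoprimeAction.exists_centralizer_conj S.isPGroup' (core_odd a) hSX
    hP₁X hP₂ (fun b hb u hu => by rw [hP₁S b hb u hu]; exact hu) hSP₂
  intro r hr
  rw [mem_centralizer_iff]
  intro s hs
  have h4 := hRP₂ hr
  rw [← h3] at h4
  obtain ⟨u, hu, rfl⟩ := h4
  have h5 : s * c = c * s := mem_centralizer_iff.1 hc.2 s hs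
  have h6 := hP₁S s hs u hu
  change s * (c * u * c⁻¹) = c * u * c⁻¹ * s
  have h7 : s * u = u * s := by rwa [mul_inv_eq_iff_eq_mul] at h6
  have h8 : c⁻¹ * s = s * c⁻¹ := by
    rw [inv_mul_eq_iff_eq_mul, ← mul_assoc, ← h5, mul_inv_cancel_right]
  calc s * (c * u * c⁻¹) = (s * c) * u * c⁻¹ := by group
    _ = c * (s * u) * c⁻¹ := by rw [h5]; group
    _ = c * u * (s * c⁻¹) := by rw [h7]; group
    _ = c * u * c⁻¹ * s := by rw [← h8]; group

/-- the elements of `C(b)` centralizing `S` modulo `O(C(b))`. -/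
def centMod (S : Subgroup G) (b : G) : Subgroup G where
  carrier := {w | w ∈ C b ∧ ∀ s ∈ S, s * w * s⁻¹ * w⁻¹ ∈ centralizerPPrimeCore 2 b}
  one_mem' := ⟨one_mem _, fun s _ => by simp [one_mem]⟩
  mul_mem' := by
    rintro w w' ⟨hw, h1⟩ ⟨hw', h2⟩
    refine ⟨mul_mem hw hw', fun s hs => ?_⟩
    have e : s * (w * w') * s⁻¹ * (w * w')⁻¹ =
        (s * w * s⁻¹ * w⁻¹) * (w * (s * w' * s⁻¹ * w'⁻¹) * w⁻¹) := by group
    rw [e]
    exact mul_mem (h1 s hs) (conj_mem (C_le_normalizer_core b) hw (h2 s hs))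
  inv_mem' := by
    rintro w ⟨hw, h1⟩
    refine ⟨inv_mem hw, fun s hs => ?_⟩
    have e3 : s * w⁻¹ * s⁻¹ * w⁻¹⁻¹ = w⁻¹ * (w * s * w⁻¹ * s⁻¹) * w⁻¹⁻¹ := by group
    have e4 : w * s * w⁻¹ * s⁻¹ = (s * w * s⁻¹ * w⁻¹)⁻¹ := by group
    rw [e3, e4]
    exact conj_mem (C_le_normalizer_core b) (inv_mem hw) (inv_mem (h1 s hs))

variable {S : Sylow 2 G} {L : G → Subgroup G}

omit [Finite G] in
theorem Data.hyp (h : Data S L) {a : G} (haS : a ∈ (S : Subgroup G)) (ha : a ≠ 1) {p : ℕ}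
    (hp : p.Prime)
    (hnt : ∀ P : Subgroup G, SylIn p P (centralizerPPrimeCore 2 a) →
      ¬ L a ≤ (centralizer (P : Set G) ⊓ C a) ⊔ centralizerPPrimeCore 2 a) : Hyp p a (L a) where
  abTwo := h.abTwo
  inv := orderOf_eq_prime (by rw [pow_two]; exact h.sq a haS) ha
  le_C := h.le_C a haS ha
  dich := h.dich a haS ha
  bal := h.bal a haS ha
  C_ne := h.C_ne a haS ha
  local_ne := h.local_ne p hp
  nontriv := hnt

omit [Finite G] in
theorem Data.S_le (h : Data S L) {a : G} (haS : a ∈ (S : Subgroup G)) : (S : Subgroup G) ≤ C a :=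
  fun s hs => mem_C.2 (h.abTwo _ S.isPGroup' s hs a haS)

/-- **Balance** (W4.9) in `S`. -/
theorem Data.balance (h : Data S L) {a b : G} (haS : a ∈ (S : Subgroup G)) (ha : a ≠ 1)
    (hbS : b ∈ (S : Subgroup G)) (hb : b ≠ 1) :
    centralizerPPrimeCore 2 a ⊓ C b ≤ centralizerPPrimeCore 2 b := by
  by_cases hab : a = b
  · rw [hab]; exact inf_le_left
  have h2f : Fact (Nat.Prime 2) := ⟨Nat.prime_two⟩
  set W : Subgroup G := centralizerPPrimeCore 2 a ⊓ C b with hW
  have hWodd : ¬ 2 ∣ Nat.card W := not_dvd_of_le inf_le_left (core_odd a)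
  have hWn : C a ⊓ C b ≤ normalizer (W : Set G) := by
    rw [le_normalizer_iff']
    rintro c ⟨hc1, hc2⟩ x ⟨hx1, hx2⟩
    exact mem_inf.2 ⟨conj_mem (C_le_normalizer_core a) hc1 hx1, mul_mem (mul_mem hc2 hx2) (inv_mem hc2)⟩
  have hSW : ∀ s ∈ (S : Subgroup G), ∀ x ∈ W, s * x * s⁻¹ ∈ W := fun s hs x hx =>
    conj_mem hWn (mem_inf.2 ⟨h.S_le haS hs, h.S_le hbS hs⟩) hx
  have key : W ≤ centMod (S : Subgroup G) b := by
    set W₁ : Subgroup G := W ⊓ centMod (S : Subgroup G) b with hW₁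
    have h1 : W₁.relIndex W = 1 := by
      by_contra hne
      obtain ⟨r, hr, hrd⟩ := Nat.exists_prime_and_dvd hne
      have hrf : Fact r.Prime := ⟨hr⟩
      have hr2 : r ≠ 2 := by
        rintro rfl
        exact hWodd (hrd.trans (Subgroup.relIndex_dvd_card _ _))
      obtain ⟨R, hR, hRS⟩ := Lib.PGroupCoprimeAction.exists_invariant_sylow S.isPGroup' hWodd hSW r
      have hR' : SylIn r R W := hR
      have hRX : R ≤ centralizerPPrimeCore 2 a := hR'.le.trans inf_le_left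
      have hRC : R ≤ C b := hR'.le.trans inf_le_right
      have h2 : R ≤ centMod (S : Subgroup G) b := by
        by_cases hnt : ∀ P : Subgroup G, SylIn r P (centralizerPPrimeCore 2 a) →
          ¬ L a ≤ (centralizer (P : Set G) ⊓ C a) ⊔ centralizerPPrimeCore 2 a
        · intro x hx
          have h3 : x ∈ centralizerPPrimeCore 2 b := by
            refine (h.hyp haS ha hr hnt).balance hr2 (h.conj a haS b hbS ha hb) (hRX hx) (hRC hx) ?_
            obtain ⟨k, hk⟩ := hR'.isPGroup ⟨x, hx⟩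
            exact ⟨k, congrArg Subtype.val hk⟩
          exact ⟨hRC hx, fun s hs => mul_mem (conj_mem (C_le_normalizer_core b) (h.S_le hbS hs) h3)
            (inv_mem h3)⟩
        · push Not at hnt
          obtain ⟨P, hP, hLP⟩ := hnt
          have h3 := centralizes_of_trivial (h.S_le haS) (h.le_sup a haS ha) hP hLP hRX hR'.isPGroup hRS
          intro x hx
          refine ⟨hRC hx, fun s hs => ?_⟩
          have h4 : s * x = x * s := mem_centralizer_iff.1 (h3 hx) s hs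
          rw [h4]
          simp [one_mem]
      have h3 : R ≤ W₁ := le_inf hR'.le h2
      apply hR'.not_dvd
      rw [← relIndex_mul_relIndex R W₁ W h3 inf_le_left]
      exact hrd.mul_left _
    exact (relIndex_eq_one.1 h1).trans inf_le_right
  intro w hw
  have hwC : w ∈ C b := hw.2
  have hwodd : ¬ 2 ∣ orderOf w := fun hd => hWodd (hd.trans (Subgroup.orderOf_dvd_natCard _ hw))
  refine h.aut a haS b hbS ha hb hab w hwC hwodd ?_
  rintro l ⟨hl1, hl2⟩
  have hlb : l ∈ C b := h.le_C b hbS hb hl1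
  have hv : l * w * l⁻¹ * w⁻¹ ∈ W :=
    mul_mem (conj_mem hWn (mem_inf.2 ⟨hl2, hlb⟩) hw) (inv_mem hw)
  refine h.cent b hbS hb _ ?_ ?_ (key hv).2
  · have e : l * w * l⁻¹ * w⁻¹ = l * (w * l⁻¹ * w⁻¹) := by group
    rw [e]
    exact mul_mem hl1 (conj_mem (h.normal b hbS hb) hwC (inv_mem hl1))
  · exact fun hd => hWodd (hd.trans (Subgroup.orderOf_dvd_natCard _ hv))

/-- **Balance** for all pairs of commuting involutions. -/
theorem Data.balance_all (h : Data S L) {x y : G} (hx : orderOf x = 2) (hy : orderOf y = 2)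
    (hxy : x * y = y * x) :
    centralizerPPrimeCore 2 x ⊓ C y ≤ centralizerPPrimeCore 2 y := by
  have h2f : Fact (Nat.Prime 2) := ⟨Nat.prime_two⟩
  have hx2 : x * x = 1 := by rw [← pow_two, ← hx]; exact pow_orderOf_eq_one x
  have hy2 : y * y = 1 := by rw [← pow_two, ← hy]; exact pow_orderOf_eq_one y
  -- the group generated by `x` and `y`
  have hzx : IsPGroup 2 (zpowers x) := IsPGroup.of_card (n := 1) (by rw [Nat.card_zpowers, hx, pow_one])
  have hzy : IsPGroup 2 (zpowers y) := IsPGroup.of_card (n := 1) (by rw [Nat.card_zpowers, hy, pow_one])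
  have hn : zpowers x ≤ normalizer (zpowers y : Set G) := by
    rw [zpowers_le, mem_normalizer_iff]
    intro z
    have : ∀ z ∈ zpowers y, x * z * x⁻¹ = z := by
      intro z hz
      obtain ⟨n, rfl⟩ := mem_zpowers_iff.1 hz
      have h1 : Commute x y := hxy
      rw [(h1.zpow_right n).eq, mul_inv_cancel_right]
    constructor
    · intro hz
      rw [this z hz]; exact hz
    · intro hz
      have h2 := this _ hz
      have h3 : x * z * x⁻¹ = z := by
        have : x * (x * z * x⁻¹) * x⁻¹ = (x * x) * z * (x * x)⁻¹ := by group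
        rw [this, hx2] at h2
        simpa using h2.symm
      rwa [h3] at hz
  have hT : IsPGroup 2 (zpowers x ⊔ zpowers y : Subgroup G) := hzx.to_sup_of_normal_right' hzy hn
  obtain ⟨Q, hQ⟩ := hT.exists_le_sylow
  obtain ⟨g, hg⟩ := MulAction.exists_smul_eq G Q S
  have hgS : ∀ z ∈ (Q : Subgroup G), g * z * g⁻¹ ∈ (S : Subgroup G) := by
    intro z hz
    rw [← hg]
    exact Subgroup.smul_mem_pointwise_smul _ (MulAut.conj g) _ hz
  have hxS := hgS x (hQ (mem_sup_left (mem_zpowers x)))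
  have hyS := hgS y (hQ (mem_sup_right (mem_zpowers y)))
  have hx1 : g * x * g⁻¹ ≠ 1 := by
    intro h0
    have : x = 1 := by
      have h1 : g * x = g := by rw [mul_inv_eq_one] at h0; exact h0
      simpa using h1
    rw [this, orderOf_one] at hx
    norm_num at hx
  have hy1 : g * y * g⁻¹ ≠ 1 := by
    intro h0
    have : y = 1 := by
      have h1 : g * y = g := by rw [mul_inv_eq_one] at h0; exact h0
      simpa using h1
    rw [this, orderOf_one] at hy
    norm_num at hy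
  intro z hz
  have h1 := conj_mem_core g hz.1
  have h2 := conj_mem_C g hz.2
  have h3 := h.balance hxS hx1 hyS hy1 (mem_inf.2 ⟨h1, h2⟩)
  have h4 := conj_mem_core g⁻¹ h3
  have e1 : g⁻¹ * (g * z * g⁻¹) * g⁻¹⁻¹ = z := by group
  have e2 : g⁻¹ * (g * y * g⁻¹) * g⁻¹⁻¹ = y := by group
  rwa [e1, e2] at h4

end Cfsg.Agent.Walter.Balance
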