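import Mathlib
import Cfsg.Prelude.Def_Local
import Cfsg.Agent.Lib.Cores
import Cfsg.Agent.S0215
import Cfsg.Agent.Dichotomy.CoreTools
import Cfsg.Agent.Dichotomy.Functor
import Cfsg.Agent.SignalizersComponents.CoprimeBasic

/-!
# Elementary abelian Sylow 2-subgroups of order 8: the set-up for killing the cores

`S` is an elementary abelian Sylow 2-subgroup of order 8 of the simple group `G`, `N_G(S)` is transitive on
the involutions of `S`, and no proper subgroup contains both `N_G(S)` and the centralizer of an involution of `S`.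
-/

set_option autoImplicit false

namespace Cfsg.Agent.Walter.Setup

open Subgroup Cfsg

/-- the set-up. -/
structure Data {G : Type*} [Group G] (S : Sylow 2 G) (t : G) : Prop where
  comm : ∀ a ∈ (S : Subgroup G), ∀ b ∈ (S : Subgroup G), a * b = b * a
  sq : ∀ a ∈ (S : Subgroup G), a * a = 1
  card : Nat.card (S : Subgroup G) = 8
  mem : t ∈ (S : Subgroup G)
  ne : t ≠ 1
  trans : ∀ s ∈ (S : Subgroup G), s ≠ 1 →
    ∃ n ∈ normalizer ((S : Subgroup G) : Set G), n * t * n⁻¹ = s
  nose : ∀ X : Subgroup G, normalizer ((S : Subgroup G) : Set G) ≤ X →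
    centralizer ({t} : Set G) ≤ X → X = ⊤

/-- the odd core of a subgroup, as a subgroup of `G` -/
def OO {G : Type*} [Group G] (M : Subgroup G) : Subgroup G := (pPrimeCore 2 M).map M.subtype

section basic

variable {G : Type*} [Group G]

theorem OO_centralizer (s : G) : OO (centralizer ({s} : Set G)) = centralizerPPrimeCore 2 s := rfl

theorem OO_le (M : Subgroup G) : OO M ≤ M := map_subtype_le _

variable [Finite G]

theorem OO_odd (M : Subgroup G) : ¬ 2 ∣ Nat.card (OO M) := by
  unfold OO
  rw [Subgroup.card_map_of_injective (Subgroup.subtype_injective _)]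
  exact (Nat.Prime.coprime_iff_not_dvd Nat.prime_two).1 (Lib.Cores.pPrimeCore_coprime 2).symm

omit [Finite G] in
theorem le_normalizer_OO (M : Subgroup G) : M ≤ normalizer (OO M : Set G) := by
  have h1 : (OO M).subgroupOf M = pPrimeCore 2 M := by
    unfold OO
    rw [Subgroup.subgroupOf, Subgroup.comap_map_eq_self_of_injective (Subgroup.subtype_injective _)]
  have := Lib.Cores.pPrimeCore_normal (G := M) 2
  rw [← h1] at this
  exact (normal_subgroupOf_iff_le_normalizer (OO_le M)).1 this

omit [Finite G] in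
/-- `O(M)` contains every odd order subgroup of `M` normalised by `M`. -/
theorem le_OO {M N : Subgroup G} (hN : N ≤ M) (hnorm : M ≤ normalizer (N : Set G))
    (hcard : ¬ 2 ∣ Nat.card N) : N ≤ OO M := by
  have h1 : (N.subgroupOf M).Normal := (normal_subgroupOf_iff_le_normalizer hN).2 hnorm
  have h2 : N.subgroupOf M ≤ pPrimeCore 2 M := by
    refine Lib.Cores.le_pPrimeCore h1 ?_
    rw [Nat.card_congr (Subgroup.subgroupOfEquivOfLe hN).toEquiv]
    exact ((Nat.Prime.coprime_iff_not_dvd Nat.prime_two).2 hcard).symm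
  intro x hx
  exact ⟨⟨x, hN hx⟩, h2 (Subgroup.mem_subgroupOf.2 hx), rfl⟩

end basic

section

variable {G : Type*} [Group G] [Finite G] {S : Sylow 2 G} {t : G}

theorem Data.order_two (h : Data S t) {s : G} (hs : s ∈ (S : Subgroup G)) (hs1 : s ≠ 1) :
    orderOf s = 2 :=
  orderOf_eq_prime (by rw [pow_two]; exact h.sq s hs) hs1

theorem Data.le_centralizer (h : Data S t) {s : G} (hs : s ∈ (S : Subgroup G)) :
    (S : Subgroup G) ≤ centralizer ({s} : Set G) := fun a ha =>
  mem_centralizer_singleton_iff.2 (h.comm a ha s hs)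

theorem Data.card_involutions (h : Data S t) :
    Nat.card {s : G // s ∈ (S : Subgroup G) ∧ s ≠ 1} = 7 := by
  have h1 : Nat.card {s : G // s ∈ (S : Subgroup G) ∧ s ≠ 1} =
      Nat.card {s : (S : Subgroup G) // s ≠ 1} := by
    refine Nat.card_congr ⟨fun s => ⟨⟨s.1, s.2.1⟩, fun hh => s.2.2 (by
      simpa using congrArg Subtype.val hh)⟩, fun s => ⟨s.1.1, s.1.2, fun hh => s.2 (by
      ext; simpa using hh)⟩, fun _ => rfl, fun _ => rfl⟩
  rw [h1]
  classical
  have := Fintype.ofFinite (S : Subgroup G)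
  rw [Nat.card_eq_fintype_card]
  have h3 : Fintype.card {s : (S : Subgroup G) // s ≠ 1} = 7 := by
    rw [Fintype.card_subtype_compl, Fintype.card_subtype_eq, ← Nat.card_eq_fintype_card, h.card]
  convert h3

/-- conjugation action of the normalizer -/
theorem Data.index_seven (h : Data S t) :
    ((normalizer ((S : Subgroup G) : Set G) ⊓ centralizer ({t} : Set G)).relIndex
      (normalizer ((S : Subgroup G) : Set G))) = 7 := by
  set N := normalizer ((S : Subgroup G) : Set G) with hN
  let act : MulAction N G := MulAction.compHom G ((MulAut.conj (G := G)).comp N.subtype)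
  have hact : ∀ (n : N) (x : G), n • x = (n : G) * x * (n : G)⁻¹ := fun n x => rfl
  have h1 : MulAction.stabilizer N t = (N ⊓ centralizer ({t} : Set G)).subgroupOf N := by
    ext n
    rw [MulAction.mem_stabilizer_iff, hact, mem_subgroupOf, mem_inf,
      mem_centralizer_singleton_iff, mul_inv_eq_iff_eq_mul]
    exact ⟨fun hh => ⟨n.2, hh⟩, fun hh => hh.2⟩
  have h2 : MulAction.orbit N t = {s : G | s ∈ (S : Subgroup G) ∧ s ≠ 1} := by
    ext s
    constructor
    · rintro ⟨n, rfl⟩
      refine ⟨?_, ?_⟩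
      · exact (mem_normalizer_iff.1 n.2 t).1 h.mem
      · intro hh
        have : (n : G) * t * (n : G)⁻¹ = 1 := hh
        apply h.ne
        simpa [mul_inv_eq_iff_eq_mul] using this
    · rintro ⟨hs, hs1⟩
      obtain ⟨n, hn, hns⟩ := h.trans s hs hs1
      exact ⟨⟨n, hn⟩, hns⟩
  rw [relIndex, ← h1, MulAction.index_stabilizer, h2]
  exact h.card_involutions

/-- a subgroup of index 7 with an outer element: everything. -/
theorem Data.normalizer_le (h : Data S t) {X : Subgroup G}
    (hX : normalizer ((S : Subgroup G) : Set G) ⊓ centralizer ({t} : Set G) ≤ X) {n : G}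
    (hn : n ∈ normalizer ((S : Subgroup G) : Set G)) (hnX : n ∈ X) (hnt : n * t * n⁻¹ ≠ t) :
    normalizer ((S : Subgroup G) : Set G) ≤ X := by
  set N := normalizer ((S : Subgroup G) : Set G) with hN
  have h7 := h.index_seven
  have h1 : (N ⊓ centralizer ({t} : Set G)).relIndex (X ⊓ N) * (X ⊓ N).relIndex N = 7 := by
    rw [relIndex_mul_relIndex _ _ _ (le_inf hX inf_le_left) inf_le_right]
    exact h7
  have hp : Nat.Prime 7 := by norm_num
  have h2 : (X ⊓ N).relIndex N ∣ 7 := ⟨_, by rw [← h1, mul_comm]⟩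
  rcases (Nat.dvd_prime hp).1 h2 with h3 | h3
  · have := relIndex_eq_one.1 h3
    exact le_trans this inf_le_left
  · exfalso
    rw [h3] at h1
    have h4 : (N ⊓ centralizer ({t} : Set G)).relIndex (X ⊓ N) = 1 := by omega
    have h5 := relIndex_eq_one.1 h4 ⟨hnX, hn⟩
    exact hnt (by rw [mul_inv_eq_iff_eq_mul]; exact mem_centralizer_singleton_iff.1 h5.2)

/-- If `O(C(s)) = O(C(t))` for some `s ≠ t` in `S` then the core is trivial. -/
theorem Data.core_eq_bot [IsSimpleGroup G] (h : Data S t) {s : G} (hs : s ∈ (S : Subgroup G))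
    (hs1 : s ≠ 1) (hst : s ≠ t) (hK : centralizerPPrimeCore 2 s = centralizerPPrimeCore 2 t) :
    centralizerPPrimeCore 2 t = ⊥ := by
  obtain ⟨n, hn, hns⟩ := h.trans s hs hs1
  have h1 : centralizer ({t} : Set G) ≤ normalizer (centralizerPPrimeCore 2 t : Set G) :=
    Dichotomy.CoreTools.core_normalized 2 t
  have h2 : n ∈ normalizer (centralizerPPrimeCore 2 t : Set G) := by
    refine Dichotomy.Functor.mem_normalizer_of_map_eq ?_
    rw [← Dichotomy.CoreTools.core_conj 2 t n, hns, hK]
  have h3 := h.normalizer_le (le_trans inf_le_right h1) hn h2 (by rw [hns]; exact hst)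
  have h4 := h.nose _ h3 h1
  have h5 : (centralizerPPrimeCore 2 t).Normal := normalizer_eq_top_iff.1 h4
  rcases h5.eq_bot_or_eq_top with h6 | h6
  · exact h6
  · exfalso
    have h7 := Dichotomy.CoreTools.core_card 2 t
    rw [h6, Subgroup.card_top] at h7
    exact h7 (dvd_trans ⟨4, h.card⟩ (Subgroup.card_subgroup_dvd_card (S : Subgroup G)))

end

section isolation

variable {G : Type*} [Group G] [Finite G] {S : Sylow 2 G} {t : G}

theorem Data.sylow_le (h : Data S t) {M : Subgroup G} (hM : centralizer ({t} : Set G) ≤ M) :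
    (S : Subgroup G) ≤ M := le_trans (h.le_centralizer h.mem) hM

/-- `t` is isolated in every proper overgroup of its centralizer. -/
theorem Data.isolated (h : Data S t) {M : Subgroup G} (hM : centralizer ({t} : Set G) ≤ M)
    (hMt : M ≠ ⊤) {m : G} (hm : m ∈ M) (hmS : m * t * m⁻¹ ∈ (S : Subgroup G)) :
    m * t * m⁻¹ = t := by
  have hSM := h.sylow_le hM
  set P : Sylow 2 M := S.subtype hSM with hP
  have hPc : IsMulCommutative (P : Subgroup M) := by
    refine ⟨⟨fun a b => ?_⟩⟩
    have := h.comm _ a.2 _ b.2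
    ext
    exact this
  have hPc' : IsMulCommutative P := hPc
  have ht : (⟨t, hSM h.mem⟩ : M) ∈ P := h.mem
  have hy : (⟨m, hm⟩ : M)⁻¹⁻¹ * ⟨t, hSM h.mem⟩ * (⟨m, hm⟩ : M)⁻¹ ∈ P := by
    rw [inv_inv]; exact hmS
  obtain ⟨n, hn, hne⟩ := P.conj_eq_normalizer_conj_of_mem ⟨t, hSM h.mem⟩ (⟨m, hm⟩ : M)⁻¹ ht hy
  have hne' : m * t * m⁻¹ = (n : G)⁻¹ * t * n := by
    have := congrArg Subtype.val hne
    simpa using this
  by_contra hcon
  have hnN : (n : G)⁻¹ ∈ normalizer ((S : Subgroup G) : Set G) := by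
    refine inv_mem ?_
    rw [mem_normalizer_iff]
    intro x
    have h1 := mem_normalizer_iff.1 hn
    constructor
    · intro hx
      exact (h1 ⟨x, hSM hx⟩).1 hx
    · intro hx
      have hxM : x ∈ M := by
        have := M.mul_mem (M.mul_mem (M.inv_mem n.2) (hSM hx)) n.2
        simpa [mul_assoc] using this
      exact (h1 ⟨x, hxM⟩).2 hx
  refine hMt (h.nose M (h.normalizer_le (le_trans inf_le_right hM) hnN (M.inv_mem n.2) ?_) hM)
  rw [inv_inv, ← hne']
  exact hcon

/-- `M = O(M) C(t)` for every proper overgroup `M` of `C(t)`. -/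
theorem Data.exists_factor (h : Data S t) {M : Subgroup G} (hM : centralizer ({t} : Set G) ≤ M)
    (hMt : M ≠ ⊤) {m : G} (hm : m ∈ M) :
    ∃ k ∈ OO M, ∃ c ∈ centralizer ({t} : Set G), m = k * c := by
  have hSM := h.sylow_le hM
  set P : Sylow 2 M := S.subtype hSM with hP
  have htM : t ∈ M := hSM h.mem
  obtain ⟨N, hN, hNodd, hNc⟩ := S0215.result P (⟨t, htM⟩ : M)
    (by rw [← Subgroup.orderOf_coe]; exact h.order_two h.mem h.ne) h.mem (by
      intro g hg
      have := h.isolated hM hMt g.2 hg
      ext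
      exact this)
  have hNO : N.map M.subtype ≤ OO M := Subgroup.map_mono (Lib.Cores.le_pPrimeCore hN
    (Nat.coprime_two_right.2 hNodd))
  -- the commutator
  have htt : t * t = 1 := h.sq t h.mem
  have hti : t⁻¹ = t := inv_eq_of_mul_eq_one_left htt
  set x : G := (m * t * m⁻¹) * t with hx
  have hxO : x ∈ OO M := by
    apply hNO
    have h1 := hNc (⟨m, hm⟩ : M)
    refine ⟨_, N.inv_mem h1, ?_⟩
    simp [hx, mul_assoc, hti]
  have hodd : Odd (orderOf x) := by
    rw [← Nat.not_even_iff_odd, even_iff_two_dvd]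
    intro h2
    exact OO_odd M (h2.trans (Subgroup.orderOf_dvd_natCard (OO M) hxO))
  obtain ⟨k, hk⟩ := hodd
  have htx : t * x * t = x⁻¹ := by
    simp only [hx, mul_inv_rev, inv_inv, hti]
    simp only [mul_assoc, htt, mul_one]
  set y : G := x ^ (k + 1) with hy
  have hyy : y * y = x := by
    rw [hy, ← pow_add, show k + 1 + (k + 1) = orderOf x + 1 by omega, pow_succ,
      pow_orderOf_eq_one, one_mul]
  have hty : t * y⁻¹ * t = y := by
    have h1 : t * x⁻¹ * t = x := by
      have := congrArg (fun z => z⁻¹) htx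
      simpa [mul_assoc, hti] using this
    have h2 : ∀ n : ℕ, t * (x⁻¹) ^ n * t = x ^ n := by
      intro n
      induction n with
      | zero => simp [htt]
      | succ n ih =>
        calc t * x⁻¹ ^ (n + 1) * t = (t * x⁻¹ ^ n * t) * (t⁻¹ * t⁻¹) * (t * x⁻¹ * t) * 1 := by
              rw [pow_succ]
              simp [mul_assoc]
          _ = x ^ (n + 1) := by
              rw [ih, h1, hti, htt, mul_one, mul_one, pow_succ]
    rw [hy, ← inv_pow]
    exact h2 (k + 1)
  have hconj : y * t * y⁻¹ = m * t * m⁻¹ := by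
    calc y * t * y⁻¹ = y * (t * y⁻¹ * t) * t⁻¹ := by simp [mul_assoc]
      _ = m * t * m⁻¹ := by rw [hty, hyy, hti, hx, mul_assoc, htt, mul_one]
  refine ⟨y, pow_mem hxO _, y⁻¹ * m, ?_, by simp⟩
  rw [mem_centralizer_singleton_iff]
  have h3 : y⁻¹ * m * t * m⁻¹ * y = t := by
    have := congrArg (fun z => y⁻¹ * z * y) hconj
    simpa [mul_assoc] using this.symm
  calc y⁻¹ * m * t = (y⁻¹ * m * t * m⁻¹ * y) * (y⁻¹ * m) := by simp [mul_assoc]
    _ = t * (y⁻¹ * m) := by rw [h3]

theorem Data.core_le_OO (h : Data S t) {M : Subgroup G} (hM : centralizer ({t} : Set G) ≤ M)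
    (hMt : M ≠ ⊤) : centralizerPPrimeCore 2 t ≤ OO M := by
  have hKM : centralizerPPrimeCore 2 t ≤ M := le_trans (Dichotomy.CoreTools.core_le 2 t) hM
  have hn : centralizerPPrimeCore 2 t ≤ normalizer (OO M : Set G) :=
    le_trans hKM (le_normalizer_OO M)
  have h1 : OO M ⊔ centralizerPPrimeCore 2 t ≤ OO M := by
    refine le_OO (sup_le (OO_le M) hKM) ?_ ?_
    · intro m hm
      obtain ⟨k, hk, c, hc, rfl⟩ := h.exists_factor hM hMt hm
      refine mul_mem (le_normalizer (mem_sup_left hk)) ?_
      have h2 := Dichotomy.Functor.map_eq_of_mem_normalizer (le_normalizer_OO M (hM hc))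
      have h3 := Dichotomy.Functor.map_eq_of_mem_normalizer (Dichotomy.CoreTools.core_normalized 2 t hc)
      refine Dichotomy.Functor.mem_normalizer_of_map_eq ?_
      rw [Subgroup.map_sup, h2, h3]
    · intro h2
      rcases Nat.prime_two.dvd_mul.1 (h2.trans
        (SignalizersComponents.CoprimeBasic.card_sup_dvd hn)) with h3 | h3
      · exact OO_odd M h3
      · exact Dichotomy.CoreTools.core_card 2 t h3
  exact le_trans le_sup_right h1

/-- the part of `O(M)` centralizing `t` -/
theorem Data.OO_inf (h : Data S t) {M : Subgroup G} (hM : centralizer ({t} : Set G) ≤ M)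
    (hMt : M ≠ ⊤) : OO M ⊓ centralizer ({t} : Set G) = centralizerPPrimeCore 2 t := by
  apply le_antisymm
  · refine Dichotomy.CoreTools.le_core 2 t inf_le_right ?_ ?_
    · intro c hc
      have h2 := Dichotomy.Functor.map_eq_of_mem_normalizer (le_normalizer_OO M (hM hc))
      have h3 := Dichotomy.Functor.map_eq_of_mem_normalizer (le_normalizer hc)
      refine Dichotomy.Functor.mem_normalizer_of_map_eq ?_
      rw [Subgroup.map_inf _ _ _ (MulAut.conj c).injective, h2, h3]
    · intro h2
      exact OO_odd M (h2.trans (Subgroup.card_dvd_of_le inf_le_left))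
  · exact le_inf (h.core_le_OO hM hMt) (Dichotomy.CoreTools.core_le 2 t)

end isolation

end Cfsg.Agent.Walter.Setup
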