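import Mathlib
import Cfsg.Prelude.Def_Local
import Cfsg.Agent.Lib.Cores
import Cfsg.Agent.Lib.GenFitting
import Cfsg.Agent.Lib.ComponentSolvable
import Cfsg.Agent.SignalizersComponents.LocalLayer
import Cfsg.Agent.SignalizersComponents.Components
import Cfsg.Agent.SignalizersComponents.PCompCore
import Cfsg.Agent.SignalizersComponents.CoprimeBasic
import Cfsg.Agent.TwoFusion.FStarControl
import Cfsg.Agent.Dichotomy.Functor
import Cfsg.Agent.S1458
import Cfsg.Agent.SignalizersComponents.QsBasic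
import Cfsg.Agent.OddOrderLocal.FittingHall
import Cfsg.Agent.PLocal.ZJElem
import Cfsg.Agent.Walter.Setup

/-!
# Normal subgroups of a subgroup `X`, viewed in `G`
-/

set_option autoImplicit false

namespace Cfsg.Agent.Walter.Local

open Subgroup Cfsg
open Cfsg.Agent.Walter.Setup (OO OO_le OO_odd le_normalizer_OO le_OO)

variable {G : Type*} [Group G]

/-- the layer `E(X)` as a subgroup of `G` -/
def EE (X : Subgroup G) : Subgroup G := (layer X).map X.subtype
/-- `O_p(X)` as a subgroup of `G` -/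
def PC (p : ℕ) (X : Subgroup G) : Subgroup G := (pCore p X).map X.subtype
/-- the Fitting subgroup `F(X)` as a subgroup of `G` -/
def FF (X : Subgroup G) : Subgroup G := (fittingSubgroup X).map X.subtype
/-- `F*(X)` as a subgroup of `G` -/
def GF (X : Subgroup G) : Subgroup G := (generalizedFittingSubgroup X).map X.subtype

theorem EE_le (X : Subgroup G) : EE X ≤ X := map_subtype_le _
theorem PC_le (p : ℕ) (X : Subgroup G) : PC p X ≤ X := map_subtype_le _
theorem FF_le (X : Subgroup G) : FF X ≤ X := map_subtype_le _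
theorem GF_le (X : Subgroup G) : GF X ≤ X := map_subtype_le _

theorem le_normalizer_map {X : Subgroup G} (N : Subgroup X) (hN : N.Normal) :
    X ≤ normalizer ((N.map X.subtype : Subgroup G) : Set G) := by
  have h1 : (N.map X.subtype).subgroupOf X = N := by
    rw [Subgroup.subgroupOf, Subgroup.comap_map_eq_self_of_injective (Subgroup.subtype_injective _)]
  rw [← h1] at hN
  exact (normal_subgroupOf_iff_le_normalizer (map_subtype_le N)).1 hN

theorem normal_subgroupOf {X N : Subgroup G} (h : X ≤ normalizer (N : Set G)) (hN : N ≤ X) :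
    (N.subgroupOf X).Normal := (normal_subgroupOf_iff_le_normalizer hN).2 h

theorem le_normalizer_EE (X : Subgroup G) : X ≤ normalizer (EE X : Set G) :=
  le_normalizer_map _ (SignalizersComponents.Components.layer_normal X)

theorem le_normalizer_PC (p : ℕ) (X : Subgroup G) : X ≤ normalizer (PC p X : Set G) :=
  le_normalizer_map _ (Lib.Cores.pCore_normal p)

theorem le_normalizer_FF (X : Subgroup G) : X ≤ normalizer (FF X : Set G) :=
  le_normalizer_map _ Lib.Cores.fittingSubgroup_normal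

theorem le_normalizer_GF (X : Subgroup G) : X ≤ normalizer (GF X : Set G) :=
  le_normalizer_map _ Lib.GenFitting.genFitting_normal

theorem PC_isPGroup (p : ℕ) (X : Subgroup G) : IsPGroup p (PC p X) :=
  (Lib.Cores.pCore_isPGroup p).map _

theorem EE_eq_bot {X : Subgroup G} : EE X = ⊥ ↔ layer X = ⊥ :=
  Subgroup.map_eq_bot_iff_of_injective _ (Subgroup.subtype_injective _)

theorem PC_eq_bot {p : ℕ} {X : Subgroup G} : PC p X = ⊥ ↔ pCore p X = ⊥ :=
  Subgroup.map_eq_bot_iff_of_injective _ (Subgroup.subtype_injective _)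

theorem GF_eq (X : Subgroup G) : GF X = EE X ⊔ FF X := by
  unfold GF EE FF
  rw [Lib.GenFitting.genFitting_def, Subgroup.map_sup]

theorem PC_le_FF (p : ℕ) [Fact p.Prime] (X : Subgroup G) [Finite G] : PC p X ≤ FF X :=
  Subgroup.map_mono (Lib.Cores.pCore_le_fittingSubgroup p)

variable [Finite G]

theorem FF_eq_iSup (X : Subgroup G) : ∀ Y : Subgroup G,
    (∀ p : ℕ, p.Prime → PC p X ≤ Y) → FF X ≤ Y := by
  intro Y hY
  unfold FF
  rw [Lib.Cores.fittingSubgroup_eq_iSup_pCore, Subgroup.map_iSup]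
  exact iSup_le fun p => hY p p.2

/-- `C_X(F*(X)) ≤ F*(X)` -/
theorem centralizer_GF_le (X : Subgroup G) {x : G} (hx : x ∈ X)
    (hc : ∀ y ∈ GF X, y * x = x * y) : x ∈ GF X := by
  have h := Lib.GenFitting.centralizer_genFitting_le (G := X) (x := ⟨x, hx⟩) (by
    rw [mem_centralizer_iff]
    intro y hy
    ext
    exact hc y ⟨y, hy, rfl⟩)
  exact ⟨_, h, rfl⟩

/-- the trace of a Sylow subgroup on a subgroup it normalises is a Sylow subgroup -/
theorem exists_sylow_subgroupOf {p : ℕ} [Fact p.Prime] (S : Sylow p G) {N : Subgroup G}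
    (hSN : (S : Subgroup G) ≤ normalizer (N : Set G)) :
    ∃ P : Sylow p N, (P : Subgroup N) = (S : Subgroup G).subgroupOf N := by
  set X := (S : Subgroup G) ⊔ N with hX
  have h1 : (N.subgroupOf X).Normal :=
    normal_subgroupOf (sup_le hSN le_normalizer) le_sup_right
  set P := S.subtype (le_sup_left : (S : Subgroup G) ≤ X) with hP
  have h2 := SignalizersComponents.PCompCore.relIndex_dvd_index_of_normal_right
    (P : Subgroup X) (N.subgroupOf X)
  have h3 : (P : Subgroup X) = (S : Subgroup G).subgroupOf X := rfl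
  rw [h3, relIndex_subgroupOf (le_sup_right : N ≤ X)] at h2
  have h4 : ¬ p ∣ ((S : Subgroup G).subgroupOf N).index := by
    intro h5
    exact P.not_dvd_index (h5.trans h2)
  have h5 : IsPGroup p ((S : Subgroup G).subgroupOf N) := S.isPGroup'.comap_subtype
  exact ⟨h5.toSylow h4, rfl⟩

/-- a `2`-group normalising `N` of even order meets it if it is a Sylow subgroup -/
theorem exists_mem_of_dvd {p : ℕ} [Fact p.Prime] (S : Sylow p G) {N : Subgroup G}
    (hSN : (S : Subgroup G) ≤ normalizer (N : Set G)) (hN : p ∣ Nat.card N) :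
    ∃ s ∈ (S : Subgroup G), s ≠ 1 ∧ s ∈ N := by
  by_contra hcon
  push Not at hcon
  have hbot : (S : Subgroup G) ⊓ N = ⊥ := by
    rw [eq_bot_iff]
    rintro x ⟨hx1, hx2⟩
    by_contra hx
    exact hcon x hx1 (fun h => hx (by rw [h]; exact one_mem _)) hx2
  set X := (S : Subgroup G) ⊔ N with hX
  have h1 : (N.subgroupOf X).Normal :=
    normal_subgroupOf (sup_le hSN le_normalizer) le_sup_right
  set P := S.subtype (le_sup_left : (S : Subgroup G) ≤ X) with hP
  have h2 := SignalizersComponents.PCompCore.relIndex_dvd_index_of_normal_right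
    (P : Subgroup X) (N.subgroupOf X)
  have h3 : (P : Subgroup X) = (S : Subgroup G).subgroupOf X := rfl
  rw [h3, relIndex_subgroupOf (le_sup_right : N ≤ X)] at h2
  have h4 : (S : Subgroup G).relIndex N = Nat.card N := by
    rw [← inf_relIndex_right, hbot, relIndex_bot_left]
  rw [h4, ← h3] at h2
  exact P.not_dvd_index (hN.trans h2)

omit [Finite G] in
/-- the layer has even order if it is not trivial -/
theorem two_dvd_EE (hFT : ∀ Y : Subgroup G, ¬ 2 ∣ Nat.card Y → Group.IsSolvable Y)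
    {X : Subgroup G} (h : EE X ≠ ⊥) : 2 ∣ Nat.card (EE X) := by
  by_contra hcon
  have h1 := hFT _ hcon
  have h2 : ⁅EE X, EE X⁆ = EE X := by
    unfold EE
    rw [← Subgroup.map_commutator, SignalizersComponents.LocalLayer.layer_perfect]
  apply h
  have h3 : ∀ Y : Subgroup G, Group.IsSolvable Y → ⁅Y, Y⁆ = Y → Y = ⊥ := by
    intro Y hY hYY
    by_contra hne
    have : Nontrivial Y := (Subgroup.nontrivial_iff_ne_bot Y).2 hne
    have h4 := Group.IsSolvable.commutator_lt_top_of_nontrivial Y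
    apply h4.ne
    rw [commutator_def]
    apply Subgroup.map_injective Y.subtype_injective
    rw [Subgroup.map_commutator]
    simpa [← MonoidHom.range_eq_map] using hYY
  exact h3 _ h1 h2

/-- the layer centralizes the odd core -/
theorem EE_le_centralizer_OO (hFT : ∀ Y : Subgroup G, ¬ 2 ∣ Nat.card Y → Group.IsSolvable Y)
    (X : Subgroup G) : ∀ x ∈ EE X, ∀ y ∈ OO X, y * x = x * y := by
  have h1 : Group.IsSolvable (pPrimeCore 2 X) := by
    have h2 : Group.IsSolvable ↥((pPrimeCore 2 X).map X.subtype) := hFT (OO X) (OO_odd X)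
    have e := (pPrimeCore 2 X).equivMapOfInjective X.subtype X.subtype_injective
    exact Group.isSolvable_of_surjective (f := e.symm.toMonoidHom) e.symm.surjective
  have h3 := Lib.ComponentSolvable.layer_le_centralizer_of_normal_solvable
    (Lib.Cores.pPrimeCore_normal (G := X) 2) h1
  rintro _ ⟨x, hx, rfl⟩ _ ⟨y, hy, rfl⟩
  have h4 := mem_centralizer_iff.1 (h3 hx) y hy
  exact congrArg Subtype.val h4

/-- `O_2(X)` centralizes the odd core -/
theorem PC_two_le_centralizer_OO (X : Subgroup G) :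
    ∀ x ∈ PC 2 X, ∀ y ∈ OO X, y * x = x * y := by
  intro x hx y hy
  have h0 : Fact (Nat.Prime 2) := ⟨Nat.prime_two⟩
  have hxX := PC_le 2 X hx
  have hyX := OO_le X hy
  have h1 : y * x * y⁻¹ * x⁻¹ ∈ PC 2 X :=
    mul_mem ((mem_normalizer_iff.1 (le_normalizer_PC 2 X hyX) x).1 hx) (inv_mem hx)
  have h2 : y * x * y⁻¹ * x⁻¹ ∈ OO X := by
    have : y * (x * y⁻¹ * x⁻¹) ∈ OO X :=
      mul_mem hy ((mem_normalizer_iff.1 (le_normalizer_OO X hxX) y⁻¹).1 (inv_mem hy))
    simpa [mul_assoc] using this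
  have h3 : y * x * y⁻¹ * x⁻¹ = 1 := by
    have h4 : orderOf (y * x * y⁻¹ * x⁻¹) ∣ Nat.card (OO X) :=
      Subgroup.orderOf_dvd_natCard _ h2
    obtain ⟨k, hk⟩ := (IsPGroup.iff_orderOf.1 (PC_isPGroup 2 X)) ⟨_, h1⟩
    rw [← Subgroup.orderOf_coe] at hk
    change orderOf (y * x * y⁻¹ * x⁻¹) = 2 ^ k at hk
    rcases Nat.eq_zero_or_pos k with h5 | h5
    · rw [h5, pow_zero] at hk
      exact orderOf_eq_one_iff.1 hk
    · exfalso
      rw [hk] at h4
      exact OO_odd X ((dvd_pow_self 2 h5.ne').trans h4)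
  rw [mul_inv_eq_one, mul_inv_eq_iff_eq_mul] at h3
  exact h3

/-- the layer, as a subgroup of `G`, is perfect -/
theorem EE_perfect (X : Subgroup G) : Group.IsPerfect (EE X) := by
  rw [Subgroup.isPerfect_iff]
  unfold EE
  rw [← Subgroup.map_commutator, SignalizersComponents.LocalLayer.layer_perfect]

/-- if the layer has even order then it contains at least two involutions of `S` -/
theorem exists_two_mem (S : Sylow 2 G) {X : Subgroup G}
    (hSX : (S : Subgroup G) ≤ X) (hE : 2 ∣ Nat.card (EE X)) (t : G) :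
    ∃ s ∈ (S : Subgroup G), s ≠ 1 ∧ s ≠ t ∧ s ∈ EE X := by
  by_contra hcon
  push Not at hcon
  have hSN := le_trans hSX (le_normalizer_EE X)
  obtain ⟨P, hP⟩ := exists_sylow_subgroupOf S hSN
  have hperf := EE_perfect X
  apply SignalizersComponents.QsBasic.not_isCyclic_sylow (even_iff_two_dvd.2 hE) P
  obtain ⟨s, hs, hs1, hsE⟩ := exists_mem_of_dvd S hSN hE
  have hst : s = t := by
    by_contra h
    exact hcon s hs hs1 h hsE
  have hmem : ∀ y : EE X, y ∈ (P : Subgroup (EE X)) ↔ (y : G) ∈ (S : Subgroup G) := by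
    intro y
    rw [hP, mem_subgroupOf]
  have hsP : (⟨s, hsE⟩ : EE X) ∈ (P : Subgroup (EE X)) := (hmem _).2 hs
  refine ⟨⟨⟨⟨s, hsE⟩, hsP⟩, fun x => ?_⟩⟩
  have hx : ((x : EE X) : G) ∈ (S : Subgroup G) := (hmem _).1 x.2
  by_cases hx1 : ((x : EE X) : G) = 1
  · have : x = 1 := by ext; exact hx1
    rw [this]; exact one_mem (zpowers _)
  · have hxt : ((x : EE X) : G) = t := by
      by_contra h
      exact hcon _ hx hx1 h x.1.2
    have : x = ⟨⟨s, hsE⟩, hsP⟩ := by
      ext
      exact hxt.trans hst.symm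
    rw [this]
    exact mem_zpowers _

omit [Finite G] in
theorem normalizer_le_PC (q : ℕ) (N : Subgroup G) :
    normalizer (N : Set G) ≤ normalizer (PC q N : Set G) :=
  OddOrderLocal.FittingHall.normalizer_le_normalizer_map N _ (Lib.Cores.pCore_characteristic q)

omit [Finite G] in
theorem le_PC {q : ℕ} {X R : Subgroup G} (hR : R ≤ X) (hn : X ≤ normalizer (R : Set G))
    (hq : IsPGroup q R) : R ≤ PC q X := by
  have h1 : (R.subgroupOf X).Normal := normal_subgroupOf hn hR
  have h2 : R.subgroupOf X ≤ pCore q X :=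
    Lib.Cores.le_pCore h1 (hq.of_equiv (Subgroup.subgroupOfEquivOfLe hR).symm)
  intro x hx
  exact ⟨⟨x, hR hx⟩, h2 (Subgroup.mem_subgroupOf.2 hx), rfl⟩

/-- the generalized Fitting subgroup of a nontrivial subgroup is not trivial -/
theorem GF_ne_bot {X : Subgroup G} (hX : X ≠ ⊥) : GF X ≠ ⊥ := by
  intro h
  apply hX
  rw [eq_bot_iff]
  intro x hx
  rw [← h]
  refine centralizer_GF_le X hx ?_
  intro y hy
  rw [h, mem_bot] at hy
  rw [hy, one_mul, mul_one]

/-- if the layer is trivial then some `O_p` is not -/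
theorem exists_PC_ne_bot {X : Subgroup G} (hX : X ≠ ⊥) (hE : EE X = ⊥) :
    ∃ p : ℕ, p.Prime ∧ PC p X ≠ ⊥ := by
  by_contra hcon
  push Not at hcon
  apply GF_ne_bot hX
  rw [GF_eq, hE, bot_sup_eq, eq_bot_iff]
  exact FF_eq_iSup X ⊥ fun p hp => (hcon p hp).le

omit [Finite G] in
theorem not_two_dvd_of_le [Finite G] {X Y : Subgroup G} (h : X ≤ Y) (hY : ¬ 2 ∣ Nat.card Y) :
    ¬ 2 ∣ Nat.card X := fun h2 => hY (h2.trans (Subgroup.card_dvd_of_le h))

theorem EE_eq_bot_of_odd (hFT : ∀ Y : Subgroup G, ¬ 2 ∣ Nat.card Y → Group.IsSolvable Y)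
    {X : Subgroup G} (hX : ¬ 2 ∣ Nat.card X) : EE X = ⊥ := by
  by_contra h
  exact not_two_dvd_of_le (EE_le X) hX (two_dvd_EE hFT h)

/-- `O_{p'}(O(X)) = 1` if the only nontrivial `O_q(X)` is `O_p(X)` -/
theorem pPrimeCore_OO_eq_bot (hFT : ∀ Y : Subgroup G, ¬ 2 ∣ Nat.card Y → Group.IsSolvable Y)
    {X : Subgroup G} {p : ℕ} [hp : Fact p.Prime] (hX : ∀ q : ℕ, q.Prime → q ≠ p → PC q X = ⊥) :
    pPrimeCore p (OO X) = ⊥ := by
  by_contra hne
  set Q : Subgroup G := (pPrimeCore p (OO X)).map (OO X).subtype with hQ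
  have hQle : Q ≤ OO X := map_subtype_le _
  have hQne : Q ≠ ⊥ := fun h => hne ((Subgroup.map_eq_bot_iff_of_injective _
    (Subgroup.subtype_injective _)).1 h)
  have hQodd : ¬ 2 ∣ Nat.card Q := not_two_dvd_of_le hQle (OO_odd X)
  obtain ⟨q, hq, hqne⟩ := exists_PC_ne_bot hQne (EE_eq_bot_of_odd hFT hQodd)
  have h1 : normalizer (OO X : Set G) ≤ normalizer (Q : Set G) :=
    OddOrderLocal.FittingHall.normalizer_le_normalizer_map (OO X) _ (Lib.Cores.pPrimeCore_characteristic p)
  have h2 : PC q Q ≤ PC q X := le_PC ((PC_le q Q).trans (hQle.trans (OO_le X)))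
    ((le_normalizer_OO X).trans (h1.trans (normalizer_le_PC q Q))) (PC_isPGroup q Q)
  by_cases hqp : q = p
  · subst hqp
    have h3 : (Nat.card Q).Coprime q := by
      rw [hQ, Subgroup.card_map_of_injective (Subgroup.subtype_injective _)]
      exact Lib.Cores.pPrimeCore_coprime q
    apply hqne
    rw [← Subgroup.card_eq_one]
    obtain ⟨k, hk⟩ := IsPGroup.iff_card.1 (PC_isPGroup q Q)
    have h4 : Nat.card (PC q Q) ∣ Nat.card Q := Subgroup.card_dvd_of_le (PC_le q Q)
    have h5 : (Nat.card (PC q Q)).Coprime (Nat.card (PC q Q)) := by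
      refine Nat.Coprime.coprime_dvd_left h4 ?_
      rw [hk]
      exact Nat.Coprime.pow_right k h3
    exact (Nat.coprime_self _).1 h5
  · exact hqne (by rw [eq_bot_iff, ← hX q hq hqp]; exact h2)

/-- the `ZJ` theorem for odd order groups, ambient form -/
theorem le_normalizer_ZJ (hFT : ∀ Y : Subgroup G, ¬ 2 ∣ Nat.card Y → Group.IsSolvable Y)
    {D : Subgroup G} (hD : ¬ 2 ∣ Nat.card D) {p : ℕ} [hp : Fact p.Prime]
    (hcore : pPrimeCore p D = ⊥) (P : Sylow p D) :
    D ≤ normalizer (centerThompsonOf p ((P : Subgroup D).map D.subtype) : Set G) := by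
  have hsol := hFT D hD
  have h1 := S1458.result (G := D) (Nat.odd_iff.2 (by omega)) p P
  rw [hcore, sup_bot_eq] at h1
  rw [PLocal.ZJElem.centerThompsonOf_map p D.subtype_injective]
  exact le_normalizer_map _ h1

/-- Frattini argument, ambient form. -/
theorem frattini {p : ℕ} [Fact p.Prime] {D : Subgroup G} (P : Sylow p D) {m : G}
    (hm : m ∈ normalizer (D : Set G)) :
    ∃ d ∈ D, d * m ∈ normalizer (((P : Subgroup D).map D.subtype : Subgroup G) : Set G) := by
  set T : Subgroup G := (P : Subgroup D).map D.subtype with hT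
  have hTD : T ≤ D := map_subtype_le _
  have hTp : IsPGroup p T := P.2.map _
  have hX : T.map (MulAut.conj m).toMonoidHom ≤ D := by
    rintro _ ⟨s, hs, rfl⟩
    exact (mem_normalizer_iff.1 hm s).1 (hTD hs)
  have hXp : IsPGroup p ((T.map (MulAut.conj m).toMonoidHom).subgroupOf D) :=
    (hTp.map _).of_equiv (Subgroup.subgroupOfEquivOfLe hX).symm
  obtain ⟨Q, hQ⟩ := hXp.exists_le_sylow
  obtain ⟨d, hd⟩ := MulAction.exists_smul_eq D Q P
  refine ⟨d, d.2, ?_⟩
  rw [mem_normalizer_iff_map_conj_eq]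
  have h1 : T.map (MulAut.conj ((d : G) * m)).toMonoidHom ≤ T := by
    rintro _ ⟨s, hs, rfl⟩
    have h2 : (⟨m * s * m⁻¹, hX ⟨s, hs, rfl⟩⟩ : D) ∈ Q := hQ (by
      rw [mem_subgroupOf]; exact ⟨s, hs, rfl⟩)
    have h3 : d * (⟨m * s * m⁻¹, hX ⟨s, hs, rfl⟩⟩ : D) * d⁻¹ ∈ d • Q := by
      rw [← SetLike.mem_coe, Sylow.coe_smul]
      exact ⟨_, h2, rfl⟩
    rw [hd] at h3
    refine ⟨_, h3, ?_⟩
    simp [mul_assoc]
  exact Subgroup.eq_of_le_of_card_ge h1
    (le_of_eq (Subgroup.card_map_of_injective (MulAut.conj ((d : G) * m)).injective).symm)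

end Cfsg.Agent.Walter.Local
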