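import Mathlib
import Cfsg.Prelude.Def_Local
import Cfsg.Agent.Walter.Setup
import Cfsg.Agent.Walter.Local
import Cfsg.Agent.S0058

/-!
# Killing the cores when they are balanced (Walter, rank 3)

`Data S t` (elementary abelian Sylow 2-subgroup `S` of order 8, ...), `K s = O(C(s))`.
-/

set_option autoImplicit false

namespace Cfsg.Agent.Walter.Endgame

open Subgroup Cfsg
open Cfsg.Agent.Walter.Setup Cfsg.Agent.Walter.Local
open Cfsg.Agent.Dichotomy.Functor (W Fun mem_normalizer_of_map_eq map_eq_of_mem_normalizer)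

variable {G : Type*} [Group G] [Finite G] {S : Sylow 2 G} {t : G}

theorem big (h : Data S t) : Dichotomy.Elem.Big (S : Subgroup G) :=
  ⟨Dichotomy.Elem.isElementaryAbelian_of h.comm h.sq, by rw [h.card]; norm_num⟩

theorem not_isCyclic (h : Data S t) : ¬ IsCyclic (S : Subgroup G) := by
  intro hc
  obtain ⟨g, hg⟩ := IsCyclic.exists_generator (α := (S : Subgroup G))
  have h3 : orderOf g = Nat.card (S : Subgroup G) := orderOf_eq_card_of_forall_mem_zpowers hg
  rw [h.card] at h3
  have h4 : g ^ 2 = 1 := by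
    ext
    rw [pow_two]
    exact h.sq g g.2
  have := orderOf_dvd_of_pow_eq_one h4
  rw [h3] at this
  norm_num at this

/-- coprime generation -/
theorem eq_iSup (h : Data S t) {X : Subgroup G} (hSX : (S : Subgroup G) ≤ normalizer (X : Set G))
    (hX : ¬ 2 ∣ Nat.card X) {Y : Subgroup G}
    (hY : ∀ s ∈ (S : Subgroup G), s ≠ 1 → X ⊓ centralizer ({s} : Set G) ≤ Y) : X ≤ Y := by
  have hc : IsMulCommutative (S : Subgroup G) := (big h).1.1
  have hcop : (Nat.card (S : Subgroup G)).Coprime (Nat.card X) := by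
    rw [h.card, show (8 : ℕ) = 2 ^ 3 by norm_num]
    exact Nat.Coprime.pow_left 3 ((Nat.Prime.coprime_iff_not_dvd Nat.prime_two).2 hX)
  rw [← S0058.result (S : Subgroup G) X (not_isCyclic h) hSX hcop]
  refine iSup₂_le ?_
  rintro a ⟨ha, ha1⟩
  exact hY a ha ha1

/-- conjugation by elements of the normalizer of `S` -/
theorem transport {n : G} {X : Subgroup G} (hn : n ∈ normalizer (X : Set G)) (s : G) :
    (X ⊓ centralizer ({s} : Set G)).map (MulAut.conj n).toMonoidHom =
      X ⊓ centralizer ({n * s * n⁻¹} : Set G) := by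
  rw [Subgroup.map_inf _ _ _ (MulAut.conj n).injective, map_eq_of_mem_normalizer hn,
    Dichotomy.CoreTools.centralizer_conj]

theorem inf_eq_bot_of_trans (h : Data S t) {X : Subgroup G}
    (hNX : normalizer ((S : Subgroup G) : Set G) ≤ normalizer (X : Set G))
    (ht : X ⊓ centralizer ({t} : Set G) = ⊥) {s : G} (hs : s ∈ (S : Subgroup G)) (hs1 : s ≠ 1) :
    X ⊓ centralizer ({s} : Set G) = ⊥ := by
  obtain ⟨n, hn, rfl⟩ := h.trans s hs hs1
  rw [← transport (hNX hn), ht, Subgroup.map_bot]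

/-- an odd order subgroup normalised by `N(S)` and meeting `C(t)` trivially is trivial -/
theorem eq_bot_of_inf (h : Data S t) {X : Subgroup G}
    (hNX : normalizer ((S : Subgroup G) : Set G) ≤ normalizer (X : Set G))
    (hX : ¬ 2 ∣ Nat.card X) (ht : X ⊓ centralizer ({t} : Set G) = ⊥) : X = ⊥ := by
  rw [eq_bot_iff]
  refine eq_iSup h (le_trans le_normalizer hNX) hX ?_
  intro s hs hs1
  rw [inf_eq_bot_of_trans h hNX ht hs hs1]

/-- a subgroup normalised by `N(S)` containing an involution of `S` contains `S` -/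
theorem sylow_le_of_mem (h : Data S t) {X : Subgroup G}
    (hNX : normalizer ((S : Subgroup G) : Set G) ≤ normalizer (X : Set G)) {s : G}
    (hs : s ∈ (S : Subgroup G)) (hs1 : s ≠ 1) (hsX : s ∈ X) : (S : Subgroup G) ≤ X := by
  obtain ⟨n, hn, rfl⟩ := h.trans s hs hs1
  have htX : t ∈ X := (mem_normalizer_iff.1 (hNX hn) t).2 hsX
  intro u hu
  by_cases hu1 : u = 1
  · rw [hu1]; exact one_mem _
  obtain ⟨m, hm, rfl⟩ := h.trans u hu hu1
  exact (mem_normalizer_iff.1 (hNX hm) t).1 htX

theorem core_card_eq (h : Data S t) {s : G} (hs : s ∈ (S : Subgroup G)) (hs1 : s ≠ 1) :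
    Nat.card (centralizerPPrimeCore 2 s) = Nat.card (centralizerPPrimeCore 2 t) := by
  obtain ⟨n, hn, rfl⟩ := h.trans s hs hs1
  rw [Dichotomy.CoreTools.core_conj, Subgroup.card_map_of_injective (MulAut.conj n).injective]

/-- another involution of `S` -/
theorem exists_ne (h : Data S t) : ∃ s ∈ (S : Subgroup G), s ≠ 1 ∧ s ≠ t := by
  classical
  by_contra hcon
  push Not at hcon
  have h1 : (Nat.card (S : Subgroup G)) ≤ Nat.card (Fin 2) := by
    refine Nat.card_le_card_of_injective
      (fun s : (S : Subgroup G) => if (s : G) = 1 then (0 : Fin 2) else 1) ?_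
    intro a b hab
    ext
    by_cases ha : (a : G) = 1 <;> by_cases hb : (b : G) = 1
    · rw [ha, hb]
    · simp [ha, hb] at hab
    · simp [ha, hb] at hab
    · rw [hcon a a.2 ha, hcon b b.2 hb]
  rw [h.card, Nat.card_eq_fintype_card, Fintype.card_fin] at h1
  omega

/-- if `K t` centralizes some other involution of `S` then it is trivial -/
theorem core_eq_bot_of_commute [IsSimpleGroup G] (h : Data S t)
    (hbal : ∀ s ∈ (S : Subgroup G), s ≠ 1 →
      centralizerPPrimeCore 2 t ⊓ centralizer ({s} : Set G) ≤ centralizerPPrimeCore 2 s)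
    {s : G} (hs : s ∈ (S : Subgroup G)) (hs1 : s ≠ 1) (hst : s ≠ t)
    (hc : ∀ x ∈ centralizerPPrimeCore 2 t, x * s = s * x) : centralizerPPrimeCore 2 t = ⊥ := by
  have h1 : centralizerPPrimeCore 2 t ≤ centralizerPPrimeCore 2 s := by
    intro x hx
    exact hbal s hs hs1 ⟨hx, mem_centralizer_singleton_iff.2 (hc x hx)⟩
  have h2 : centralizerPPrimeCore 2 t = centralizerPPrimeCore 2 s :=
    Subgroup.eq_of_le_of_card_ge h1 (core_card_eq h hs hs1).le
  exact h.core_eq_bot hs hs1 hst h2.symm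

/-- a nontrivial odd order subgroup is not normal -/
theorem normalizer_ne_top [IsSimpleGroup G] (h : Data S t) {X : Subgroup G} (hX : X ≠ ⊥)
    (hodd : ¬ 2 ∣ Nat.card X) : normalizer (X : Set G) ≠ ⊤ := by
  intro hN
  have h5 : X.Normal := normalizer_eq_top_iff.1 hN
  rcases h5.eq_bot_or_eq_top with h6 | h6
  · exact hX h6
  · rw [h6, Subgroup.card_top] at hodd
    exact hodd (dvd_trans ⟨4, h.card⟩ (Subgroup.card_subgroup_dvd_card (S : Subgroup G)))

theorem core_le_W (h : Data S t) : centralizerPPrimeCore 2 t ≤ W (S : Subgroup G) :=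
  Dichotomy.Functor.le_W _ h.mem h.ne

/-- normalizers of subgroups of order at least 4 of `S` normalize `W S` -/
theorem normalizer_le_W (h : Data S t) (hF : Fun G) {V : Subgroup G}
    (hVS : V ≤ (S : Subgroup G)) (hV : 4 ≤ Nat.card V) :
    normalizer (V : Set G) ≤ normalizer (W (S : Subgroup G) : Set G) := by
  rw [← Dichotomy.Functor.W_eq_of_le hF (big h) hVS hV]
  intro g hg
  refine mem_normalizer_of_map_eq ?_
  rw [Dichotomy.Functor.W_conj, map_eq_of_mem_normalizer hg]

theorem sylow_normalizer_le_W (h : Data S t) (hF : Fun G) :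
    normalizer ((S : Subgroup G) : Set G) ≤ normalizer (W (S : Subgroup G) : Set G) :=
  normalizer_le_W h hF le_rfl (by rw [h.card]; norm_num)

/-- **Balanced case.** If the cores are balanced and the centralizer of `t` is generated by its core
and the normalizers of the four-subgroups of `S`, the core is trivial. -/
theorem core_eq_bot_of_gen [IsSimpleGroup G] (h : Data S t) (hF : Fun G)
    (hgen : ∀ X : Subgroup G, centralizerPPrimeCore 2 t ≤ X →
      (∀ V : Subgroup G, V ≤ (S : Subgroup G) → 4 ≤ Nat.card V → normalizer (V : Set G) ≤ X) →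
      centralizer ({t} : Set G) ≤ X) :
    centralizerPPrimeCore 2 t = ⊥ := by
  by_contra hne
  have hW : W (S : Subgroup G) ≠ ⊥ := by
    intro h1
    apply hne
    rw [eq_bot_iff, ← h1]
    exact core_le_W h
  apply normalizer_ne_top h hW (Dichotomy.Functor.complete hF (big h)).1
  apply h.nose
  · exact sylow_normalizer_le_W h hF
  · apply hgen
    · exact le_trans (core_le_W h) le_normalizer
    · intro V hVS hV
      exact normalizer_le_W h hF hVS hV

/-! ### From `S` to all pairs of commuting involutions -/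

omit [Finite G] in
theorem exists_conj_mem [Finite G] (S : Sylow 2 G) {a b : G} (ha : orderOf a = 2)
    (hb : orderOf b = 2) (hab : a * b = b * a) :
    ∃ g : G, g * a * g⁻¹ ∈ (S : Subgroup G) ∧ g * b * g⁻¹ ∈ (S : Subgroup G) := by
  have h1 := Dichotomy.Elem.elem_four (Dichotomy.Elem.sq_of_orderOf ha)
    (Dichotomy.Elem.sq_of_orderOf hb) hab
  obtain ⟨Q, hQ⟩ := (Dichotomy.Elem.isPGroup_of_elem h1).exists_le_sylow
  obtain ⟨g, hg⟩ := MulAction.exists_smul_eq G Q S
  have h2 : ∀ x ∈ (Q : Subgroup G), g * x * g⁻¹ ∈ (S : Subgroup G) := by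
    intro x hx
    have h3 : g * x * g⁻¹ ∈ g • Q := by
      rw [← SetLike.mem_coe, Sylow.coe_smul]
      exact ⟨x, hx, rfl⟩
    rw [hg] at h3
    exact h3
  exact ⟨g, h2 a (hQ (Dichotomy.Elem.left_mem_four a b)),
    h2 b (hQ (Dichotomy.Elem.right_mem_four a b))⟩

omit [Finite G] in
theorem conj_ne_one {g a : G} (ha : a ≠ 1) : g * a * g⁻¹ ≠ 1 := by
  intro h
  apply ha
  have := congrArg (fun x => g⁻¹ * x * g) h
  simpa [mul_assoc] using this

theorem fun_of_bal (hFT : ∀ Y : Subgroup G, ¬ 2 ∣ Nat.card Y → Group.IsSolvable Y)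
    (hbal : ∀ s ∈ (S : Subgroup G), s ≠ 1 → ∀ u ∈ (S : Subgroup G), u ≠ 1 →
      centralizerPPrimeCore 2 s ⊓ centralizer ({u} : Set G) ≤ centralizerPPrimeCore 2 u) :
    Fun G where
  solv := fun a _ => hFT _ (Dichotomy.CoreTools.core_card 2 a)
  bal := by
    intro a b ha hb hab x hx
    obtain ⟨g, hga, hgb⟩ := exists_conj_mem S ha hb hab
    have h1 : g * x * g⁻¹ ∈ centralizerPPrimeCore 2 (g * b * g⁻¹) := by
      refine hbal _ hga (conj_ne_one (Dichotomy.Elem.ne_one_of_orderOf ha)) _ hgb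
        (conj_ne_one (Dichotomy.Elem.ne_one_of_orderOf hb)) ⟨?_, ?_⟩
      · rw [Dichotomy.CoreTools.core_conj]
        exact ⟨x, hx.1, rfl⟩
      · rw [← Dichotomy.CoreTools.centralizer_conj]
        exact ⟨x, hx.2, rfl⟩
    rw [Dichotomy.CoreTools.core_conj] at h1
    obtain ⟨y, hy, hyx⟩ := h1
    have h2 : g * y * g⁻¹ = g * x * g⁻¹ := hyx
    have h3 : y = x := by simpa using h2
    rwa [← h3]

end Cfsg.Agent.Walter.Endgame
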