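import Mathlib
import Cfsg.Prelude.Def_Local
import Cfsg.Agent.Walter.Setup
import Cfsg.Agent.Walter.Local
import Cfsg.Agent.Walter.Endgame
import Cfsg.Agent.S1247
import Cfsg.Agent.S1312
import Cfsg.Agent.S0118
import Cfsg.Agent.SmallSimple.SylowMaxInter

/-!
# Killing the cores when `C(t)/O(C(t))` has no nontrivial `S`-invariant odd order subgroup

This is the case `C(t)/O(C(t)) = <t> × A5` (and `<t> × A4`) of Walter's theorem.
-/

set_option autoImplicit false

namespace Cfsg.Agent.Walter.EndgameFive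

open Subgroup Cfsg
open Cfsg.Agent.Walter.Setup Cfsg.Agent.Walter.Local Cfsg.Agent.Walter.Endgame
open Cfsg.Agent.Dichotomy.Functor (W Fun mem_normalizer_of_map_eq map_eq_of_mem_normalizer)

variable {G : Type*} [Group G] [Finite G] {S : Sylow 2 G} {t : G}

/-- the hypotheses -/
structure Hyp (S : Sylow 2 G) (t : G) : Prop extends Data S t where
  ft : ∀ Y : Subgroup G, ¬ 2 ∣ Nat.card Y → Group.IsSolvable Y
  inv : ∀ Y : Subgroup G, Y ≤ centralizer ({t} : Set G) →
    (S : Subgroup G) ≤ normalizer (Y : Set G) → ¬ 2 ∣ Nat.card Y → Y ≤ centralizerPPrimeCore 2 t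
  si : ∀ X : Subgroup G, X ≠ ⊤ → normalizer ((S : Subgroup G) : Set G) ≤ X →
    (S : Subgroup G) ≤ EE X → ∀ Y : Subgroup G, Y ≤ EE X ⊓ centralizer ({t} : Set G) →
      EE X ⊓ centralizer ({t} : Set G) ≤ normalizer (Y : Set G) → ¬ 2 ∣ Nat.card Y →
        Y ≤ centralizer (EE X : Set G)

theorem Hyp.inv_all (h : Hyp S t) {s : G} (hs : s ∈ (S : Subgroup G)) (hs1 : s ≠ 1)
    {Y : Subgroup G} (hY : Y ≤ centralizer ({s} : Set G))
    (hSY : (S : Subgroup G) ≤ normalizer (Y : Set G)) (hodd : ¬ 2 ∣ Nat.card Y) :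
    Y ≤ centralizerPPrimeCore 2 s := by
  obtain ⟨n, hn, rfl⟩ := h.trans s hs hs1
  have h1 : Y.map (MulAut.conj n⁻¹).toMonoidHom ≤ centralizerPPrimeCore 2 t := by
    apply h.inv
    · have h2 := Dichotomy.CoreTools.centralizer_conj (n * t * n⁻¹) n⁻¹
      have h3 : n⁻¹ * (n * t * n⁻¹) * n⁻¹⁻¹ = t := by group
      rw [h3] at h2
      rw [← h2]
      exact Subgroup.map_mono hY
    · intro a ha
      have h4 : n * a * n⁻¹ ∈ normalizer (Y : Set G) := hSY ((mem_normalizer_iff.1 hn a).1 ha)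
      refine mem_normalizer_of_map_eq ?_
      have h5 := map_eq_of_mem_normalizer h4
      have h6 : (MulAut.conj a).toMonoidHom.comp (MulAut.conj n⁻¹).toMonoidHom =
          (MulAut.conj n⁻¹).toMonoidHom.comp (MulAut.conj (n * a * n⁻¹)).toMonoidHom := by
        ext x
        simp [mul_assoc]
      rw [Subgroup.map_map, h6, ← Subgroup.map_map, h5]
    · rw [Subgroup.card_map_of_injective (MulAut.conj n⁻¹).injective]
      exact hodd
  rw [Dichotomy.CoreTools.core_conj]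
  intro y hy
  refine ⟨n⁻¹ * y * n, h1 ⟨y, hy, by simp⟩, by simp [mul_assoc]⟩

theorem Hyp.inf_normalizer (h : Hyp S t) {s : G} (hs : s ∈ (S : Subgroup G))
    {Y : Subgroup G} (hSY : (S : Subgroup G) ≤ normalizer (Y : Set G)) :
    (S : Subgroup G) ≤ normalizer ((Y ⊓ centralizer ({s} : Set G) : Subgroup G) : Set G) := by
  intro a ha
  refine mem_normalizer_of_map_eq ?_
  rw [transport (hSY ha)]
  have : a * s * a⁻¹ = s := by rw [h.comm a ha s hs, mul_inv_cancel_right]
  rw [this]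

theorem Hyp.bal (h : Hyp S t) {s : G} (hs : s ∈ (S : Subgroup G)) {u : G}
    (hu : u ∈ (S : Subgroup G)) (hu1 : u ≠ 1) :
    centralizerPPrimeCore 2 s ⊓ centralizer ({u} : Set G) ≤ centralizerPPrimeCore 2 u := by
  apply h.inv_all hu hu1 inf_le_right
  · exact h.inf_normalizer hu (le_trans (h.le_centralizer hs) (Dichotomy.CoreTools.core_normalized 2 s))
  · exact not_two_dvd_of_le inf_le_left (Dichotomy.CoreTools.core_card 2 s)

theorem Hyp.func (h : Hyp S t) : Fun G :=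
  fun_of_bal h.ft (fun _ hs _ _ hu hu1 => h.bal hs hu hu1)

theorem Hyp.W_odd (h : Hyp S t) : ¬ 2 ∣ Nat.card (W (S : Subgroup G)) :=
  (Dichotomy.Functor.complete h.func (big h.toData)).1

theorem Hyp.W_inf (h : Hyp S t) {s : G} (hs : s ∈ (S : Subgroup G)) (hs1 : s ≠ 1) :
    W (S : Subgroup G) ⊓ centralizer ({s} : Set G) = centralizerPPrimeCore 2 s :=
  (Dichotomy.Functor.complete h.func (big h.toData)).2 s hs hs1

/-- `W` is the unique maximal `S`-invariant subgroup of odd order. -/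
theorem Hyp.le_W (h : Hyp S t) {Y : Subgroup G} (hSY : (S : Subgroup G) ≤ normalizer (Y : Set G))
    (hodd : ¬ 2 ∣ Nat.card Y) : Y ≤ W (S : Subgroup G) := by
  refine eq_iSup h.toData hSY hodd ?_
  intro s hs hs1
  refine le_trans (h.inv_all hs hs1 inf_le_right (h.inf_normalizer hs hSY)
    (not_two_dvd_of_le inf_le_left hodd)) ?_
  rw [← h.W_inf hs hs1]
  exact inf_le_left

theorem Hyp.sylow_normalizer_le (h : Hyp S t) :
    normalizer ((S : Subgroup G) : Set G) ≤ normalizer (W (S : Subgroup G) : Set G) :=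
  sylow_normalizer_le_W h.toData h.func

section main

variable [IsSimpleGroup G]

theorem Hyp.not_commute (h : Hyp S t) (hne : centralizerPPrimeCore 2 t ≠ ⊥)
    (hc : ∀ s ∈ (S : Subgroup G), ∀ w ∈ W (S : Subgroup G), w * s = s * w) : False := by
  obtain ⟨s, hs, hs1, hst⟩ := exists_ne h.toData
  apply hne
  exact core_eq_bot_of_commute h.toData (fun u hu hu1 => h.bal h.mem hu hu1) hs hs1 hst
    (fun x hx => hc s hs x (core_le_W h.toData hx))

/-- a subgroup `N` containing `S`, normalised by `W`, and meeting `W` in `C(S)` -/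
theorem Hyp.false_of_inf (h : Hyp S t) (hne : centralizerPPrimeCore 2 t ≠ ⊥) {N : Subgroup G}
    (hSN : (S : Subgroup G) ≤ N) (hWN : W (S : Subgroup G) ≤ normalizer (N : Set G))
    (hinf : W (S : Subgroup G) ⊓ N ≤ centralizer ((S : Subgroup G) : Set G)) : False := by
  apply h.not_commute hne
  intro s hs w hw
  have h1 : w * s * w⁻¹ * s⁻¹ ∈ N :=
    mul_mem ((mem_normalizer_iff.1 (hWN hw) s).1 (hSN hs)) (inv_mem (hSN hs))
  have h2 : w * s * w⁻¹ * s⁻¹ ∈ W (S : Subgroup G) := by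
    have h3 : s ∈ normalizer (W (S : Subgroup G) : Set G) :=
      h.sylow_normalizer_le (le_normalizer hs)
    have h4 : w * (s * w⁻¹ * s⁻¹) ∈ W (S : Subgroup G) :=
      mul_mem hw ((mem_normalizer_iff.1 h3 w⁻¹).1 (inv_mem hw))
    simpa [mul_assoc] using h4
  have h5 : w * s * w⁻¹ * s⁻¹ = 1 := by
    have h6 := mem_centralizer_iff.1 (hinf (mem_inf.2 ⟨h2, h1⟩)) s hs
    have hss := h.sq s hs
    -- `z = [w, s]` commutes with `s` and `(z s)² = 1`, so `z² = 1`
    have h7 : (w * s * w⁻¹ * s⁻¹) * (w * s * w⁻¹ * s⁻¹) = 1 := by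
      have e1 : (w * s * w⁻¹ * s⁻¹) * (w * s * w⁻¹ * s⁻¹) =
          (w * s * w⁻¹ * s⁻¹) * s * (w * s * w⁻¹ * s⁻¹) * s⁻¹ := by
        rw [mul_assoc (w * s * w⁻¹ * s⁻¹) s, h6]
        group
      have e2 : (w * s * w⁻¹ * s⁻¹) * s * (w * s * w⁻¹ * s⁻¹) * s⁻¹ =
          w * (s * s) * w⁻¹ * (s * s)⁻¹ := by group
      rw [e1, e2, hss]
      group
    have h8 : orderOf (w * s * w⁻¹ * s⁻¹) ∣ 2 := by
      apply orderOf_dvd_of_pow_eq_one
      rw [pow_two]; exact h7
    have h9 : orderOf (w * s * w⁻¹ * s⁻¹) ∣ Nat.card (W (S : Subgroup G)) := by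
      have := orderOf_dvd_natCard (⟨_, h2⟩ : W (S : Subgroup G))
      rwa [Subgroup.orderOf_mk] at this
    rcases (Nat.dvd_prime Nat.prime_two).1 h8 with h10 | h10
    · exact orderOf_eq_one_iff.1 h10
    · rw [h10] at h9
      exact absurd h9 h.W_odd
  rw [mul_inv_eq_one, mul_inv_eq_iff_eq_mul] at h5
  exact h5

/-- `E(X) = 1` and `O_2(X) = 1` for every proper `X ≥ N(W)`. -/
theorem Hyp.EE_eq_bot (h : Hyp S t) (hne : centralizerPPrimeCore 2 t ≠ ⊥) {X : Subgroup G}
    (hX : normalizer (W (S : Subgroup G) : Set G) ≤ X) (hXt : X ≠ ⊤) : EE X = ⊥ := by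
  by_contra hE
  have hNX := le_trans h.sylow_normalizer_le hX
  have hNE := le_trans hNX (le_normalizer_EE X)
  obtain ⟨s, hs, hs1, hsE⟩ := exists_mem_of_dvd S (le_trans le_normalizer hNE)
    (two_dvd_EE h.ft hE)
  have hSE := sylow_le_of_mem h.toData hNE hs hs1 hsE
  refine h.false_of_inf hne hSE (le_trans (le_trans le_normalizer hX) (le_normalizer_EE X)) ?_
  have hNW : normalizer ((S : Subgroup G) : Set G) ≤
      normalizer ((W (S : Subgroup G) ⊓ EE X : Subgroup G) : Set G) := by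
    intro n hn
    refine mem_normalizer_of_map_eq ?_
    rw [Subgroup.map_inf _ _ _ (MulAut.conj n).injective,
      map_eq_of_mem_normalizer (h.sylow_normalizer_le hn), map_eq_of_mem_normalizer (hNE hn)]
  suffices hsuf : W (S : Subgroup G) ⊓ EE X ≤ centralizer (EE X : Set G) from
    hsuf.trans (centralizer_le (by exact_mod_cast hSE))
  refine eq_iSup h.toData (le_trans le_normalizer hNW)
    (not_two_dvd_of_le inf_le_left h.W_odd) ?_
  intro s hs hs1
  obtain ⟨n, hn, rfl⟩ := h.trans s hs hs1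
  rw [← transport (hNW hn)]
  have hcn : (centralizer (EE X : Set G)).map (MulAut.conj n).toMonoidHom =
      centralizer (EE X : Set G) := by
    have h1 := map_eq_of_mem_normalizer (hNE hn)
    have h2 : ∀ m ∈ normalizer (EE X : Set G), ∀ x ∈ centralizer (EE X : Set G),
        m * x * m⁻¹ ∈ centralizer (EE X : Set G) := by
      intro m hm x hx
      rw [mem_centralizer_iff] at hx ⊢
      intro y hy
      have h3 : m⁻¹ * y * m ∈ EE X := by
        have := (mem_normalizer_iff.1 (inv_mem hm) y).1 hy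
        simpa using this
      have h4 := hx _ h3
      calc y * (m * x * m⁻¹) = m * ((m⁻¹ * y * m) * x) * m⁻¹ := by group
        _ = m * (x * (m⁻¹ * y * m)) * m⁻¹ := by rw [h4]
        _ = m * x * m⁻¹ * y := by group
    apply map_eq_of_mem_normalizer
    rw [mem_normalizer_iff]
    intro x
    refine ⟨h2 n (hNE hn) x, fun hx => ?_⟩
    have h5 := h2 n⁻¹ (inv_mem (hNE hn)) _ hx
    simpa [mul_assoc] using h5
  rw [← hcn]
  apply Subgroup.map_mono
  apply h.si X hXt hNX hSE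
  · exact le_inf (inf_le_left.trans inf_le_right) inf_le_right
  · intro c hc
    refine mem_normalizer_of_map_eq ?_
    have h1 : (W (S : Subgroup G) ⊓ EE X) ⊓ centralizer ({t} : Set G) =
        centralizerPPrimeCore 2 t ⊓ EE X := by
      rw [inf_assoc, inf_comm (EE X), ← inf_assoc, h.W_inf h.mem h.ne]
    rw [h1, Subgroup.map_inf _ _ _ (MulAut.conj c).injective,
      map_eq_of_mem_normalizer (Dichotomy.CoreTools.core_normalized 2 t hc.2),
      map_eq_of_mem_normalizer (le_normalizer hc.1)]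
  · exact not_two_dvd_of_le (inf_le_left.trans inf_le_left) h.W_odd

theorem PC_two_le (S : Sylow 2 G) {X : Subgroup G} (hSX : (S : Subgroup G) ≤ X) :
    PC 2 X ≤ (S : Subgroup G) := by
  rintro _ ⟨x, hx, rfl⟩
  exact Lib.Cores.pCore_le_sylow (S.subtype hSX) hx

theorem Hyp.PC_two_eq_bot (h : Hyp S t) (hne : centralizerPPrimeCore 2 t ≠ ⊥) {X : Subgroup G}
    (hX : normalizer (W (S : Subgroup G) : Set G) ≤ X) : PC 2 X = ⊥ := by
  by_contra hE
  have hNX := le_trans h.sylow_normalizer_le hX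
  have hNE := le_trans hNX (le_normalizer_PC 2 X)
  have hle := PC_two_le S (le_trans le_normalizer hNX)
  obtain ⟨s, hs1⟩ := (PC 2 X).ne_bot_iff_exists_ne_one.1 hE
  have hSE := sylow_le_of_mem h.toData hNE (hle s.2) (fun hh => hs1 (by ext; exact hh)) s.2
  refine h.false_of_inf hne hSE (le_trans (le_trans le_normalizer hX) (le_normalizer_PC 2 X)) ?_
  suffices hsuf : W (S : Subgroup G) ⊓ PC 2 X = ⊥ by rw [hsuf]; exact bot_le
  rw [← Subgroup.card_eq_one]
  obtain ⟨k, hk⟩ := IsPGroup.iff_card.1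
    ((PC_isPGroup 2 X).to_le (inf_le_right : W (S : Subgroup G) ⊓ PC 2 X ≤ PC 2 X))
  rcases Nat.eq_zero_or_pos k with h0 | h0
  · rw [hk, h0, pow_zero]
  · exact absurd ((hk ▸ dvd_pow_self 2 h0.ne' : 2 ∣ Nat.card ↥(W (S : Subgroup G) ⊓ PC 2 X)).trans
      (Subgroup.card_dvd_of_le inf_le_left)) h.W_odd

/-- if `E(X) = 1` and `O_2(X) = 1` then `F*(X) ≤ O(X)` -/
theorem GF_le_OO {X : Subgroup G} (hE : EE X = ⊥) (h2 : PC 2 X = ⊥) : GF X ≤ OO X := by
  rw [GF_eq, hE, bot_sup_eq]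
  refine FF_eq_iSup X _ ?_
  intro p hp
  by_cases hp2 : p = 2
  · rw [hp2, h2]; exact bot_le
  · refine le_OO (PC_le p X) (le_normalizer_PC p X) ?_
    intro h3
    have : Fact p.Prime := ⟨hp⟩
    obtain ⟨k, hk⟩ := IsPGroup.iff_card.1 (PC_isPGroup p X)
    rw [hk] at h3
    exact hp2 ((Nat.prime_dvd_prime_iff_eq Nat.prime_two hp).1
      (Nat.prime_two.dvd_of_dvd_pow h3)).symm

/-! ### A maximal subgroup containing `C(t)` -/

section maximal

variable {M : Subgroup G}

theorem Hyp.OO_le_W (h : Hyp S t) (hCM : centralizer ({t} : Set G) ≤ M) :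
    OO M ≤ W (S : Subgroup G) :=
  h.le_W (le_trans (h.sylow_le hCM) (le_normalizer_OO M)) (OO_odd M)

theorem Hyp.EE_M (h : Hyp S t) (hne : centralizerPPrimeCore 2 t ≠ ⊥)
    (hCM : centralizer ({t} : Set G) ≤ M) (hM : M ≠ ⊤) : EE M = ⊥ := by
  by_contra hE
  obtain ⟨s, hs, hs1, hst, hsE⟩ := exists_two_mem S (h.sylow_le hCM) (two_dvd_EE h.ft hE) t
  apply hne
  refine core_eq_bot_of_commute h.toData (fun u hu hu1 => h.bal h.mem hu hu1) hs hs1 hst ?_
  intro x hx
  exact EE_le_centralizer_OO h.ft M s hsE x (h.core_le_OO hCM hM hx)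

theorem Hyp.PC_two_M (h : Hyp S t) (hne : centralizerPPrimeCore 2 t ≠ ⊥)
    (hCM : centralizer ({t} : Set G) ≤ M) (hM : M ≠ ⊤) {x : G} (hx : x ∈ PC 2 M)
    (hx1 : x ≠ 1) : x = t := by
  by_contra hxt
  apply hne
  refine core_eq_bot_of_commute h.toData (fun u hu hu1 => h.bal h.mem hu hu1)
    (PC_two_le S (h.sylow_le hCM) hx) hx1 hxt ?_
  intro y hy
  exact PC_two_le_centralizer_OO M x hx y (h.core_le_OO hCM hM hy)

theorem Hyp.PC_le_normalizer_W (h : Hyp S t) (hne : centralizerPPrimeCore 2 t ≠ ⊥)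
    (hCM : centralizer ({t} : Set G) ≤ M) (hM : M ≠ ⊤) {p : ℕ} (hp : p.Prime) :
    PC p M ≤ normalizer (W (S : Subgroup G) : Set G) := by
  by_cases hp2 : p = 2
  · subst hp2
    intro x hx
    by_cases hx1 : x = 1
    · rw [hx1]; exact one_mem _
    · rw [h.PC_two_M hne hCM hM hx hx1]
      exact h.sylow_normalizer_le (le_normalizer h.mem)
  · refine le_trans (le_trans ?_ (h.OO_le_W hCM)) le_normalizer
    refine le_OO (PC_le p M) (le_normalizer_PC p M) ?_
    intro h3
    have : Fact p.Prime := ⟨hp⟩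
    obtain ⟨k, hk⟩ := IsPGroup.iff_card.1 (PC_isPGroup p M)
    rw [hk] at h3
    exact hp2 ((Nat.prime_dvd_prime_iff_eq Nat.prime_two hp).1
      (Nat.prime_two.dvd_of_dvd_pow h3)).symm

theorem Hyp.GF_le_normalizer_W (h : Hyp S t) (hne : centralizerPPrimeCore 2 t ≠ ⊥)
    (hCM : centralizer ({t} : Set G) ≤ M) (hM : M ≠ ⊤) :
    GF M ≤ normalizer (W (S : Subgroup G) : Set G) := by
  rw [GF_eq, h.EE_M hne hCM hM, bot_sup_eq]
  exact FF_eq_iSup M _ fun p hp => h.PC_le_normalizer_W hne hCM hM hp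

omit [IsSimpleGroup G] in
theorem not_comm (h : Data S t) : ¬ IsMulCommutative G := by
  intro hc
  obtain ⟨s, hs, hs1, hst⟩ := exists_ne h
  obtain ⟨n, -, hn⟩ := h.trans s hs hs1
  apply hst
  rw [← hn, mul_comm' n t, mul_inv_cancel_right]

/-- Bender's lemma for `M` -/
theorem Hyp.bender (h : Hyp S t) (hne : centralizerPPrimeCore 2 t ≠ ⊥)
    (hCM : centralizer ({t} : Set G) ≤ M) (hM : IsCoatom M) {X : Subgroup G}
    (hX : normalizer (W (S : Subgroup G) : Set G) ≤ X) :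
    (∀ q : ℕ, q.Prime → ¬ q ∣ Nat.card (fittingSubgroup M) → PC q X ⊓ M = ⊥) ∧
    (∀ p : ℕ, p.Prime → p ∣ Nat.card (fittingSubgroup M) → ∀ x ∈ PC p X, ∀ y ∈ GF M,
      (orderOf y).Coprime p → x * y = y * x) := by
  have hGF := le_trans (h.GF_le_normalizer_W hne hCM hM.1) hX
  have h1 := S1247.result (not_comm h.toData) M hM (GF M) le_rfl
    (by
      have h0 : (GF M).subgroupOf (GF M) = ⊤ := subgroupOf_self _
      change ((GF M).subgroupOf (GF M)).IsSubnormal
      rw [h0]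
      exact Subgroup.IsSubnormal.top) inf_le_left X hGF
  refine ⟨h1.1, ?_⟩
  intro p hp hpd x hx y hy hcop
  obtain ⟨y', hy', rfl⟩ := hy
  refine h1.2 p hp hpd x hx y' ⟨⟨y', hy'⟩, ?_, rfl⟩
  refine subset_closure ?_
  have h2 : orderOf (⟨y', hy'⟩ : generalizedFittingSubgroup M) = orderOf (M.subtype y') := by
    rw [← Subgroup.orderOf_coe, ← Subgroup.orderOf_coe]
    rfl
  rw [Set.mem_ofPred_eq, h2]
  exact hcop

/-- `O_q(X) = 1` for `q` not dividing `|F(M)|` -/
theorem Hyp.PC_eq_bot_of_not_dvd (h : Hyp S t) (hne : centralizerPPrimeCore 2 t ≠ ⊥)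
    (hCM : centralizer ({t} : Set G) ≤ M) (hM : IsCoatom M) {X : Subgroup G}
    (hX : normalizer (W (S : Subgroup G) : Set G) ≤ X) {q : ℕ} (hq : q.Prime)
    (hqd : ¬ q ∣ Nat.card (fittingSubgroup M)) : PC q X = ⊥ := by
  by_cases hq2 : q = 2
  · rw [hq2]; exact h.PC_two_eq_bot hne hX
  · have h1 := (h.bender hne hCM hM hX).1 q hq hqd
    refine eq_bot_of_inf h.toData
      (le_trans h.sylow_normalizer_le (le_trans hX (le_normalizer_PC q X))) ?_ ?_
    · intro h3
      have : Fact q.Prime := ⟨hq⟩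
      obtain ⟨k, hk⟩ := IsPGroup.iff_card.1 (PC_isPGroup q X)
      rw [hk] at h3
      exact hq2 ((Nat.prime_dvd_prime_iff_eq Nat.prime_two hq).1
        (Nat.prime_two.dvd_of_dvd_pow h3)).symm
    · rw [eq_bot_iff, ← h1]
      exact inf_le_inf_left _ hCM

omit [IsSimpleGroup G] in
theorem exists_maximal (h : Data S t) :
    ∃ M : Subgroup G, centralizer ({t} : Set G) ≤ M ∧ IsCoatom M := by
  rcases eq_top_or_exists_le_coatom (centralizer ({t} : Set G)) with h1 | ⟨M, hM, hle⟩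
  · exfalso
    obtain ⟨s, hs, hs1, hst⟩ := exists_ne h
    obtain ⟨n, -, hn⟩ := h.trans s hs hs1
    have h2 : n ∈ centralizer ({t} : Set G) := by rw [h1]; exact mem_top n
    apply hst
    rw [← hn, mem_centralizer_singleton_iff.1 h2, mul_inv_cancel_right]
  · exact ⟨M, hle, hM⟩

omit [IsSimpleGroup G] in
theorem dvd_PC {p : ℕ} (hp : p.Prime) {X : Subgroup G} (hd : p ∣ Nat.card (fittingSubgroup X)) :
    PC p X ≠ ⊥ := by
  have : Fact p.Prime := ⟨hp⟩
  obtain ⟨z, hz⟩ := exists_prime_orderOf_dvd_card' p hd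
  intro hbot
  have h1 : (z : X) ∈ pCore p X := by
    refine Lib.GenFitting.mem_pCore_of_mem_fitting z.2 (k := 1) ?_
    rw [pow_one]
    have := pow_orderOf_eq_one z
    rw [hz] at this
    exact congrArg Subtype.val this
  rw [PC_eq_bot.1 hbot, mem_bot] at h1
  have h2 : z = 1 := by ext; rw [h1]; rfl
  rw [h2, orderOf_one] at hz
  exact hp.one_lt.ne hz

omit [IsSimpleGroup G] in
theorem dvd_of_PC {p : ℕ} (hp : p.Prime) {X : Subgroup G} (hd : PC p X ≠ ⊥) :
    p ∣ Nat.card (fittingSubgroup X) := by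
  have : Fact p.Prime := ⟨hp⟩
  have h1 : pCore p X ≠ ⊥ := fun h => hd (PC_eq_bot.2 h)
  obtain ⟨k, hk⟩ := IsPGroup.iff_card.1 (Lib.Cores.pCore_isPGroup (G := X) p)
  have h2 : k ≠ 0 := by
    rintro rfl
    rw [pow_zero] at hk
    exact h1 (Subgroup.eq_bot_of_card_eq _ hk)
  exact ((dvd_pow_self p h2).trans hk.symm.dvd).trans
    (Subgroup.card_dvd_of_le (Lib.Cores.pCore_le_fittingSubgroup p))

omit [IsSimpleGroup G] in
theorem odd_PC {p : ℕ} (hp : p.Prime) (hp2 : p ≠ 2) (X : Subgroup G) : ¬ 2 ∣ Nat.card (PC p X) := by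
  intro h3
  have : Fact p.Prime := ⟨hp⟩
  obtain ⟨k, hk⟩ := IsPGroup.iff_card.1 (PC_isPGroup p X)
  rw [hk] at h3
  exact hp2 ((Nat.prime_dvd_prime_iff_eq Nat.prime_two hp).1
    (Nat.prime_two.dvd_of_dvd_pow h3)).symm

theorem Hyp.W_ne_bot (h : Hyp S t) (hne : centralizerPPrimeCore 2 t ≠ ⊥) :
    W (S : Subgroup G) ≠ ⊥ := by
  intro h1
  apply hne
  rw [eq_bot_iff, ← h1]
  exact core_le_W h.toData

/-- the case `t ∈ F*(M)` -/
theorem Hyp.not_two_dvd (h : Hyp S t) (hne : centralizerPPrimeCore 2 t ≠ ⊥)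
    (hCM : centralizer ({t} : Set G) ≤ M) (hM : IsCoatom M) :
    ¬ 2 ∣ Nat.card (fittingSubgroup M) := by
  intro h2
  have h2' : Fact (Nat.Prime 2) := ⟨Nat.prime_two⟩
  have hPC := dvd_PC Nat.prime_two h2
  obtain ⟨x, hx1⟩ := (PC 2 M).ne_bot_iff_exists_ne_one.1 hPC
  have hxt := h.PC_two_M hne hCM hM.1 x.2 (fun hh => hx1 (by ext; exact hh))
  have htG : t ∈ GF M := by
    rw [GF_eq, ← hxt]
    exact mem_sup_right (PC_le_FF 2 M x.2)
  set H := normalizer (W (S : Subgroup G) : Set G) with hH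
  have hHt : H ≠ ⊤ := normalizer_ne_top h.toData (h.W_ne_bot hne) h.W_odd
  have hEE := h.EE_eq_bot hne le_rfl hHt
  have hP2 := h.PC_two_eq_bot hne (X := H) le_rfl
  have key : GF H ≤ centralizer ({t} : Set G) := by
    rw [GF_eq, hEE, bot_sup_eq]
    refine FF_eq_iSup H _ ?_
    intro p hp
    by_cases hpd : p ∣ Nat.card (fittingSubgroup M)
    · by_cases hp2 : p = 2
      · rw [hp2, hP2]; exact bot_le
      · intro y hy
        rw [mem_centralizer_singleton_iff]
        refine (h.bender hne hCM hM (X := H) le_rfl).2 p hp hpd y hy t htG ?_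
        rw [h.order_two h.mem h.ne]
        exact (Nat.coprime_primes Nat.prime_two hp).2 (Ne.symm hp2)
    · rw [h.PC_eq_bot_of_not_dvd hne hCM hM (X := H) le_rfl hp hpd]
      exact bot_le
  have htH : t ∈ H := h.sylow_normalizer_le (le_normalizer h.mem)
  have h3 : t ∈ GF H := centralizer_GF_le H htH fun y hy =>
    mem_centralizer_singleton_iff.1 (key hy)
  have h4 := GF_le_OO hEE hP2 h3
  have h5 := Subgroup.orderOf_dvd_natCard _ h4
  rw [h.order_two h.mem h.ne] at h5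
  exact OO_odd H h5

/-- there are not two primes dividing `|F(M)|` -/
theorem Hyp.not_two_primes (h : Hyp S t) (hne : centralizerPPrimeCore 2 t ≠ ⊥)
    (hCM : centralizer ({t} : Set G) ≤ M) (hM : IsCoatom M) {p q : ℕ} (hp : p.Prime)
    (hq : q.Prime) (hpq : p ≠ q) (hpd : p ∣ Nat.card (fittingSubgroup M))
    (hqd : q ∣ Nat.card (fittingSubgroup M)) : False := by
  have hHt : normalizer (W (S : Subgroup G) : Set G) ≠ ⊤ :=
    normalizer_ne_top h.toData (h.W_ne_bot hne) h.W_odd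
  obtain ⟨N, hN, hHN⟩ := (eq_top_or_exists_le_coatom
    (normalizer (W (S : Subgroup G) : Set G))).resolve_left hHt
  have h2 := h.not_two_dvd hne hCM hM
  -- the normalizer of `O_r(M)`
  have hnorm : ∀ r : ℕ, r.Prime → r ∣ Nat.card (fittingSubgroup M) →
      normalizer (PC r M : Set G) = M := by
    intro r hr hrd
    have hr2 : r ≠ 2 := by rintro rfl; exact h2 hrd
    have h3 := normalizer_ne_top h.toData (dvd_PC hr hrd) (odd_PC hr hr2 M)
    by_contra hcon
    exact h3 (hM.2 _ (lt_of_le_of_ne (le_normalizer_PC r M) (Ne.symm hcon)))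
  -- `O_r(N) ≤ M`
  have hle : ∀ r : ℕ, r.Prime → PC r N ≤ M := by
    intro r hr
    by_cases hrd : r ∣ Nat.card (fittingSubgroup M)
    · obtain ⟨r', hr', hrd', hne'⟩ : ∃ r' : ℕ, r'.Prime ∧
          r' ∣ Nat.card (fittingSubgroup M) ∧ r' ≠ r := by
        by_cases hrp : r = p
        · exact ⟨q, hq, hqd, by rw [hrp]; exact hpq.symm⟩
        · exact ⟨p, hp, hpd, fun hh => hrp hh.symm⟩
      have hfr : Fact r'.Prime := ⟨hr'⟩
      rw [← hnorm r' hr' hrd']
      refine le_trans ?_ (Subgroup.centralizer_le_normalizer (PC r' M : Set G))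
      intro x hx
      rw [mem_centralizer_iff]
      intro y hy
      refine ((h.bender hne hCM hM hHN).2 r hr hrd x hx y ?_ ?_).symm
      · rw [GF_eq]
        exact mem_sup_right (PC_le_FF r' M hy)
      · obtain ⟨k, hk⟩ := (IsPGroup.iff_orderOf.1 (PC_isPGroup r' M)) ⟨y, hy⟩
        rw [← Subgroup.orderOf_coe] at hk
        change orderOf y = r' ^ k at hk
        rw [hk]
        exact Nat.Coprime.pow_left k ((Nat.coprime_primes hr' hr).2 hne')
    · rw [h.PC_eq_bot_of_not_dvd hne hCM hM hHN hr hrd]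
      exact bot_le
  have hEE := h.EE_eq_bot hne hHN hN.1
  have hGN : GF N ≤ M := by
    rw [GF_eq, hEE, bot_sup_eq]
    exact FF_eq_iSup N _ hle
  have hMN : M ≠ N := by
    rintro rfl
    exact hM.1 (h.nose M (le_trans h.sylow_normalizer_le hHN) hCM)
  obtain ⟨r, hr, hr1, -⟩ := S1312.result (not_comm h.toData) M N hM hN hMN
    (le_trans (h.GF_le_normalizer_W hne hCM hM.1) hHN) hGN
  have h5 : ∀ s : ℕ, s.Prime → s ∣ Nat.card (fittingSubgroup M) → s = r := by
    intro s hs hsd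
    have hfr : Fact r.Prime := ⟨hr⟩
    obtain ⟨k, hk⟩ := IsPGroup.iff_card.1 hr1
    have h6 := hsd.trans (Subgroup.card_dvd_of_le
      (Lib.GenFitting.fitting_le_genFitting (G := M)))
    rw [hk] at h6
    exact (Nat.prime_dvd_prime_iff_eq hs hr).1 (hs.dvd_of_dvd_pow h6)
  exact hpq ((h5 p hp hpd).trans (h5 q hq hqd).symm)

/-- `W ∩ M ≤ O(M)` -/
theorem Hyp.W_inf_M (h : Hyp S t) (hCM : centralizer ({t} : Set G) ≤ M) (hM : M ≠ ⊤) :
    W (S : Subgroup G) ⊓ M ≤ OO M := by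
  rintro x ⟨hxW, hxM⟩
  obtain ⟨k, hk, c, hc, rfl⟩ := h.exists_factor hCM hM hxM
  have hcW : c ∈ W (S : Subgroup G) := by
    have := mul_mem (inv_mem (h.OO_le_W hCM hk)) hxW
    simpa using this
  have hcK : c ∈ centralizerPPrimeCore 2 t := by
    rw [← h.W_inf h.mem h.ne]
    exact ⟨hcW, hc⟩
  exact mul_mem hk (h.core_le_OO hCM hM hcK)

/-- **Cores are trivial when `C(t)/O(C(t))` has no nontrivial `S`-invariant odd order subgroup.** -/
theorem Hyp.core_eq_bot (h : Hyp S t) : centralizerPPrimeCore 2 t = ⊥ := by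
  by_contra hne
  obtain ⟨M, hCM, hM⟩ := exists_maximal h.toData
  set H := normalizer (W (S : Subgroup G) : Set G) with hH
  have hHt : H ≠ ⊤ := normalizer_ne_top h.toData (h.W_ne_bot hne) h.W_odd
  have hMne : M ≠ ⊥ := by
    rintro rfl
    have : t ∈ (⊥ : Subgroup G) := hCM (mem_centralizer_singleton_iff.2 rfl)
    exact h.ne (mem_bot.1 this)
  have h2 := h.not_two_dvd hne hCM hM
  obtain ⟨p, hp, hpM⟩ := exists_PC_ne_bot hMne (h.EE_M hne hCM hM.1)
  have hpd := dvd_of_PC hp hpM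
  have hp2 : p ≠ 2 := by rintro rfl; exact h2 hpd
  have hfp : Fact p.Prime := ⟨hp⟩
  have honly : ∀ q : ℕ, q.Prime → q ≠ p → ¬ q ∣ Nat.card (fittingSubgroup M) := by
    intro q hq hqp hqd
    exact h.not_two_primes hne hCM hM hq hp hqp hqd hpd
  have hPCM : ∀ q : ℕ, q.Prime → q ≠ p → PC q M = ⊥ := by
    intro q hq hqp
    by_contra hcon
    exact honly q hq hqp (dvd_of_PC hq hcon)
  have hPCH : ∀ q : ℕ, q.Prime → q ≠ p → PC q H = ⊥ := by
    intro q hq hqp
    exact h.PC_eq_bot_of_not_dvd hne hCM hM (X := H) le_rfl hq (honly q hq hqp)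
  have hHW : OO H = W (S : Subgroup G) := by
    apply le_antisymm
    · exact h.le_W (le_trans (le_trans le_normalizer h.sylow_normalizer_le) (le_normalizer_OO H))
        (OO_odd H)
    · exact le_OO le_normalizer le_rfl h.W_odd
  have hcoreM := pPrimeCore_OO_eq_bot h.ft hPCM
  have hcoreH := pPrimeCore_OO_eq_bot h.ft hPCH
  rw [hHW] at hcoreH
  -- the Sylow subgroup of `O(M)`
  obtain ⟨P0⟩ : Nonempty (Sylow p (OO M)) := inferInstance
  set T0 : Subgroup G := (P0 : Subgroup (OO M)).map (OO M).subtype with hT0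
  have hT0O : T0 ≤ OO M := map_subtype_le _
  have hT0p : IsPGroup p T0 := P0.2.map _
  have hT0ne : T0 ≠ ⊥ := by
    intro hbot
    have h3 : PC p M ≤ OO M := le_OO (PC_le p M) (le_normalizer_PC p M) (odd_PC hp hp2 M)
    have h4 : p ∣ Nat.card (OO M) := by
      obtain ⟨k, hk⟩ := IsPGroup.iff_card.1 (PC_isPGroup p M)
      have hk0 : k ≠ 0 := by
        rintro rfl
        rw [pow_zero] at hk
        exact hpM (Subgroup.eq_bot_of_card_eq _ hk)
      exact ((dvd_pow_self p hk0).trans hk.symm.dvd).trans (Subgroup.card_dvd_of_le h3)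
    have h5 := P0.dvd_card_of_dvd_card h4
    have h6 : Nat.card T0 = Nat.card P0 :=
      Subgroup.card_map_of_injective (Subgroup.subtype_injective _)
    rw [← h6, hbot, Subgroup.card_bot] at h5
    exact hp.one_lt.ne' (Nat.dvd_one.1 h5)
  set Z0 := centerThompsonOf p T0 with hZ0
  have hZ0ne : Z0 ≠ ⊥ := S0118.centerThompsonOf_ne_bot hT0p hT0ne
  have hZ0odd : ¬ 2 ∣ Nat.card Z0 := not_two_dvd_of_le
    ((PLocal.ZJElem.centerThompsonOf_le p T0).trans hT0O) (OO_odd M)
  have hMZ : M ≤ normalizer (Z0 : Set G) := by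
    have hO := le_normalizer_ZJ h.ft (OO_odd M) hcoreM P0
    intro m hm
    obtain ⟨d, hd, hdm⟩ := frattini P0 (le_normalizer_OO M hm)
    have h3 := PLocal.ZJElem.normalizer_le_normalizer_centerThompsonOf p _ hdm
    have h4 := mul_mem (inv_mem (hO hd)) h3
    simpa using h4
  have hNZ : normalizer (Z0 : Set G) = M := by
    by_contra hcon
    exact normalizer_ne_top h.toData hZ0ne hZ0odd
      (hM.2 _ (lt_of_le_of_ne hMZ (Ne.symm hcon)))
  -- the Sylow subgroup of `W`
  have hT0W : T0 ≤ W (S : Subgroup G) := hT0O.trans (h.OO_le_W hCM)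
  have hT0W' : IsPGroup p (T0.subgroupOf (W (S : Subgroup G))) :=
    hT0p.of_equiv (Subgroup.subgroupOfEquivOfLe hT0W).symm
  obtain ⟨P, hP⟩ := hT0W'.exists_le_sylow
  set T : Subgroup G := (P : Subgroup (W (S : Subgroup G))).map (W (S : Subgroup G)).subtype with hT
  have hTp : IsPGroup p T := P.2.map _
  have hT0T : T0 ≤ T := by
    intro x hx
    exact ⟨⟨x, hT0W hx⟩, hP (by rw [mem_subgroupOf]; exact hx), rfl⟩
  have hTW : T ≤ W (S : Subgroup G) := map_subtype_le _
  have hle : T ⊓ normalizer (T0 : Set G) ≤ T0 := by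
    have h3 : T ⊓ normalizer (T0 : Set G) ≤ OO M := by
      refine le_trans ?_ (h.W_inf_M hCM hM.1)
      refine inf_le_inf hTW ?_
      rw [← hNZ]
      exact PLocal.ZJElem.normalizer_le_normalizer_centerThompsonOf p T0
    have h4 : IsPGroup p ((T ⊓ normalizer (T0 : Set G)).subgroupOf (OO M)) :=
      (hTp.to_le inf_le_left).of_equiv (Subgroup.subgroupOfEquivOfLe h3).symm
    have h5 : (P0 : Subgroup (OO M)) ≤ (T ⊓ normalizer (T0 : Set G)).subgroupOf (OO M) := by
      intro x hx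
      rw [mem_subgroupOf]
      have hx' : (x : G) ∈ T0 := ⟨x, hx, rfl⟩
      exact ⟨hT0T hx', le_normalizer hx'⟩
    have h6 := P0.is_maximal' h4 h5
    intro x hx
    refine ⟨⟨x, h3 hx⟩, ?_, rfl⟩
    rw [← h6]
    exact mem_subgroupOf.2 hx
  have hTT : T0 = T := by
    by_contra hcon
    exact absurd hle (not_le_of_gt
      (SmallSimple.SylowMaxInter.lt_inf_normalizer hTp (lt_of_le_of_ne hT0T hcon)))
  have hHM : H ≤ M := by
    have hO := le_normalizer_ZJ h.ft h.W_odd hcoreH P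
    rw [← hT, ← hTT, ← hZ0, hNZ] at hO
    intro m hm
    obtain ⟨d, hd, hdm⟩ := frattini P hm
    rw [← hT, ← hTT] at hdm
    have h3 := PLocal.ZJElem.normalizer_le_normalizer_centerThompsonOf p _ hdm
    rw [← hZ0, hNZ] at h3
    have h4 := mul_mem (inv_mem (hO hd)) h3
    simpa using h4
  exact hM.1 (h.nose M (le_trans h.sylow_normalizer_le hHM) hCM)

end maximal

end main

end Cfsg.Agent.Walter.EndgameFive
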