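import Mathlib
import Cfsg.Prelude.Def_Local
import Cfsg.Agent.Walter.AutFacts
import Cfsg.Agent.Walter.AbStruct
import Cfsg.Agent.Walter.Local
import Cfsg.Agent.Walter.Endgame
import Cfsg.Agent.Walter.EndgameFive
import Cfsg.Agent.PLocal.PConstrained

/-!
# Groups with `O(Y) = 1`, one component and Sylow 2-subgroup elementary of order 8 (type B)

`Y = C(t)/O(C(t))`: generation and odd order subgroups normalised by a Sylow 2-subgroup.
-/

set_option autoImplicit false

namespace Cfsg.Agent.Walter.CentB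

open Subgroup Cfsg
open Cfsg.Agent.Walter.Local Cfsg.Agent.Walter.Setup

section Y

variable {Y : Type*} [Group Y] [Finite Y] {S : Sylow 2 Y} {K : Subgroup Y}

/-- One component `K` with Sylow 2-subgroup of order 4, `O(Y) = 1`, `O_2(Y)` central. -/
structure TypeB (S : Sylow 2 Y) (K : Subgroup Y) : Prop where
  core : pPrimeCore 2 Y = ⊥
  comm : ∀ a ∈ (S : Subgroup Y), ∀ b ∈ (S : Subgroup Y), a * b = b * a
  sq : ∀ a ∈ (S : Subgroup Y), a * a = 1
  comp : IsComponent K
  layer : Cfsg.layer Y = K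
  card : Nat.card ↥((S : Subgroup Y) ⊓ K) = 4
  central : pCore 2 Y ≤ center Y
  bender : AutFacts.Bender K

theorem TypeB.simple (h : TypeB S K) : IsSimpleGroup K := AbStruct.isSimpleGroup h.core h.comm h.comp

theorem TypeB.hna (h : TypeB S K) : ∃ a b : K, a * b ≠ b * a := by
  by_contra hcon
  push Not at hcon
  exact AbStruct.not_comm h.comp ⟨⟨hcon⟩⟩

theorem TypeB.normal (h : TypeB S K) : K.Normal := by
  rw [← h.layer]; exact SignalizersComponents.Components.layer_normal Y

theorem TypeB.exists_sylow (h : TypeB S K) :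
    ∃ P : Sylow 2 K, (P : Subgroup K) = (S : Subgroup Y).subgroupOf K ∧
      (∀ x ∈ (P : Subgroup K), x * x = 1) ∧ Nat.card (P : Subgroup K) = 4 := by
  obtain ⟨P, hP⟩ := AbStruct.exists_sylow (S := S) h.comp
  refine ⟨P, hP, ?_, ?_⟩
  · intro x hx
    rw [hP, mem_subgroupOf] at hx
    ext
    exact h.sq x hx
  · rw [hP, ← h.card]
    have h1 : ((S : Subgroup Y).subgroupOf K).map K.subtype = (S : Subgroup Y) ⊓ K :=
      subgroupOf_map_subtype _ _
    rw [← h1, Subgroup.card_map_of_injective K.subtype_injective]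

/-- **Generation.** -/
theorem TypeB.eq_top (h : TypeB S K) (hK : Nat.card K ≠ 60) {v : Y} (hv : v ∈ (S : Subgroup Y))
    (hvK : v ∈ K) (hv1 : v ≠ 1) {M : Subgroup Y}
    (hN : normalizer ((S : Subgroup Y) : Set Y) ≤ M) (hC : centralizer ({v} : Set Y) ≤ M) :
    M = ⊤ := by
  obtain ⟨P, hP, hPsq, hPcard⟩ := h.exists_sylow
  have hs := h.simple
  have hKM : K ≤ M := by
    have h1 : M.subgroupOf K = ⊤ := by
      refine AutFacts.eq_top_of_le (v := ⟨v, hvK⟩) h.bender h.hna P hPsq (by omega) (by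
        rw [hPcard]; exact hK) (by rw [hP, mem_subgroupOf]; exact hv)
        (fun hh => hv1 (congrArg Subtype.val hh)) ?_ ?_
      · intro n hn
        rw [mem_subgroupOf]
        apply hN
        rw [mem_normalizer_iff]
        -- `n` normalises `S = (S ∩ K) (S ∩ C(K))`
        have key : ∀ m : K, m ∈ normalizer ((P : Subgroup K) : Set K) →
            ∀ s ∈ (S : Subgroup Y), (m : Y) * s * (m : Y)⁻¹ ∈ (S : Subgroup Y) := by
          intro m hm s hs
          obtain ⟨k, hk, c, hc, rfl⟩ := AbStruct.exists_inner h.core h.comm h.comp hs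
          have h2 : (m : Y) * k * (m : Y)⁻¹ ∈ (S : Subgroup Y) := by
            have h3 := (mem_normalizer_iff.1 hm ⟨k, hk.2⟩).1 (by
              rw [hP, mem_subgroupOf]; exact hk.1)
            rw [hP, mem_subgroupOf] at h3
            exact h3
          have h4 : (m : Y) * (k * c) * (m : Y)⁻¹ = (m : Y) * k * (m : Y)⁻¹ * c := by
            have h5 : (m : Y)⁻¹ * c = c * (m : Y)⁻¹ :=
              mem_centralizer_iff.1 hc.2 _ (inv_mem m.2)
            calc (m : Y) * (k * c) * (m : Y)⁻¹ = (m : Y) * k * (c * (m : Y)⁻¹) := by group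
              _ = (m : Y) * k * (m : Y)⁻¹ * c := by rw [← h5]; group
          rw [h4]
          exact mul_mem h2 hc.1
        intro s
        refine ⟨key n hn s, fun h6 => ?_⟩
        have h7 := key n⁻¹ (inv_mem hn) _ h6
        simpa [mul_assoc] using h7
      · intro c hc
        rw [mem_subgroupOf]
        apply hC
        rw [mem_centralizer_singleton_iff] at hc ⊢
        exact congrArg Subtype.val hc
    intro x hx
    have h2 : (⟨x, hx⟩ : K) ∈ M.subgroupOf K := by rw [h1]; exact mem_top _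
    exact h2
  have hF : generalizedFittingSubgroup Y ≤ M := by
    rw [AbStruct.genFitting_eq h.core, h.layer]
    refine sup_le ?_ hKM
    exact (Lib.Cores.pCore_le_sylow S).trans (le_normalizer.trans hN)
  have hFn : (generalizedFittingSubgroup Y).Normal := Lib.GenFitting.genFitting_normal
  have h3 : normalizer ((S : Subgroup Y) : Set Y) ⊔ generalizedFittingSubgroup Y = ⊤ :=
    Sylow.normalizer_sup_eq_top' S (AbStruct.sylow_le h.core h.comm)
  rw [eq_top_iff, ← h3]
  exact sup_le hN hF

/-- **Odd order subgroups normalised by `S`** if `C_K(v) ≤ S`. -/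
theorem TypeB.eq_bot (h : TypeB S K)
    (hCK : ∀ v ∈ (S : Subgroup Y), v ∈ K → v ≠ 1 → K ⊓ centralizer ({v} : Set Y) ≤ S)
    {X : Subgroup Y} (hSX : (S : Subgroup Y) ≤ normalizer (X : Set Y)) (hX : ¬ 2 ∣ Nat.card X) :
    X = ⊥ := by
  obtain ⟨P, hP, hPsq, hPcard⟩ := h.exists_sylow
  have hs := h.simple
  have hKn := h.normal
  have hmemP : ∀ x : K, x ∈ (P : Subgroup K) ↔ (x : Y) ∈ (S : Subgroup Y) := by
    intro x; rw [hP, mem_subgroupOf]
  have hSX' : (S : Subgroup Y) ⊓ X = ⊥ := by
    rw [← Subgroup.card_eq_one]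
    obtain ⟨k, hk⟩ := IsPGroup.iff_card.1 (S.isPGroup'.to_le (inf_le_left : (S : Subgroup Y) ⊓ X ≤ S))
    rcases Nat.eq_zero_or_pos k with h0 | h0
    · rw [hk, h0, pow_zero]
    · exact absurd ((hk ▸ dvd_pow_self 2 h0.ne' : 2 ∣ Nat.card ↥((S : Subgroup Y) ⊓ X)).trans
        (Subgroup.card_dvd_of_le inf_le_right)) hX
  -- elements of `X` centralising some involution of `S ∩ K` centralise `K`
  have key : ∀ v ∈ (S : Subgroup Y), v ∈ K → v ≠ 1 →
      X ⊓ centralizer ({v} : Set Y) ≤ centralizer (K : Set Y) := by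
    intro v hv hvK hv1
    refine AutFacts.le_centralizer (v := ⟨v, hvK⟩) hs h.bender h.hna P hPsq (by omega) ?_ ?_ ?_
      ((hmemP _).2 hv) (fun hh => hv1 (congrArg Subtype.val hh)) ?_
    · intro c hc
      rw [hmemP]
      refine hCK v hv hvK hv1 (mem_inf.2 ⟨c.2, mem_centralizer_singleton_iff.2 ?_⟩)
      have h1 := mem_centralizer_iff.1 hc ⟨v, hvK⟩ ((hmemP _).2 hv)
      exact (congrArg Subtype.val h1).symm
    · rw [normalizer_eq_top_iff.2 hKn]; exact le_top
    · rw [← Nat.not_even_iff_odd, even_iff_two_dvd]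
      exact fun hh => hX (hh.trans (Subgroup.card_dvd_of_le inf_le_left))
    · intro o ho x hx
      -- `x ∈ C_K(v) = S ∩ K`, and `[o, x] ∈ X ∩ S`
      have hxS : (x : Y) ∈ (S : Subgroup Y) := by
        refine hCK v hv hvK hv1 (mem_inf.2 ⟨x.2, mem_centralizer_singleton_iff.2 ?_⟩)
        exact congrArg Subtype.val (mem_centralizer_singleton_iff.1 hx)
      have h1 : o * x * o⁻¹ ∈ (S : Subgroup Y) := by
        refine hCK v hv hvK hv1 (mem_inf.2 ⟨hKn.conj_mem _ x.2 o,
          mem_centralizer_singleton_iff.2 ?_⟩)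
        have h2 := mem_centralizer_singleton_iff.1 ho.2
        have h3 := mem_centralizer_singleton_iff.1 hx
        have h3' : (x : Y) * v = v * x := congrArg Subtype.val h3
        have h4 : o⁻¹ * v = v * o⁻¹ := by
          rw [inv_mul_eq_iff_eq_mul, ← mul_assoc, h2, mul_inv_cancel_right]
        calc o * x * o⁻¹ * v = o * x * (o⁻¹ * v) := by group
          _ = o * (x * v) * o⁻¹ := by rw [h4]; group
          _ = (o * v) * x * o⁻¹ := by rw [h3']; group
          _ = v * (o * x * o⁻¹) := by rw [h2]; group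
      have h5 : o * x * o⁻¹ * (x : Y)⁻¹ ∈ X := by
        have h6 : (x : Y) * o⁻¹ * (x : Y)⁻¹ ∈ X :=
          (mem_normalizer_iff.1 (hSX hxS) _).1 (inv_mem ho.1)
        have h7 := mul_mem ho.1 h6
        simpa [mul_assoc] using h7
      have h8 : o * x * o⁻¹ * (x : Y)⁻¹ = 1 := by
        rw [← mem_bot, ← hSX']
        exact mem_inf.2 ⟨mul_mem h1 (inv_mem hxS), h5⟩
      rw [mul_inv_eq_one, mul_inv_eq_iff_eq_mul] at h8
      exact h8
  -- `X` centralises `K`
  have hXK : X ≤ centralizer (K : Set Y) := by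
    have hSKc : IsMulCommutative ((S : Subgroup Y) ⊓ K : Subgroup Y) :=
      ⟨⟨fun a b => Subtype.ext (h.comm _ a.2.1 _ b.2.1)⟩⟩
    have hnc : ¬ IsCyclic ((S : Subgroup Y) ⊓ K : Subgroup Y) := by
      intro hc
      obtain ⟨g, hg⟩ := IsCyclic.exists_generator (α := ((S : Subgroup Y) ⊓ K : Subgroup Y))
      have h3 := orderOf_eq_card_of_forall_mem_zpowers hg
      rw [h.card] at h3
      have h4 : g ^ 2 = 1 := by
        ext
        rw [pow_two]
        exact h.sq g g.2.1
      have h5 := orderOf_dvd_of_pow_eq_one h4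
      rw [h3] at h5
      norm_num at h5
    have hcop : (Nat.card ((S : Subgroup Y) ⊓ K : Subgroup Y)).Coprime (Nat.card X) := by
      rw [h.card, show (4 : ℕ) = 2 ^ 2 by norm_num]
      exact Nat.Coprime.pow_left 2 ((Nat.Prime.coprime_iff_not_dvd Nat.prime_two).2 hX)
    rw [← S0058.result _ X hnc (inf_le_left.trans hSX) hcop]
    refine iSup₂_le ?_
    rintro a ⟨ha, ha1⟩
    exact key a ha.1 ha.2 ha1
  -- so `X` centralises `F*(Y)`
  have hXF : X ≤ pCore 2 Y ⊔ K := by
    have h1 : X ≤ centralizer (generalizedFittingSubgroup Y : Set Y) := by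
      intro x hx
      have h2 : generalizedFittingSubgroup Y ≤ centralizer ({x} : Set Y) := by
        rw [AbStruct.genFitting_eq h.core, h.layer]
        refine sup_le ?_ ?_
        · intro y hy
          rw [mem_centralizer_singleton_iff]
          exact ((mem_center_iff.1 (h.central hy)) x).symm
        · intro y hy
          rw [mem_centralizer_singleton_iff]
          exact mem_centralizer_iff.1 (hXK hx) y hy
      rw [mem_centralizer_iff]
      intro y hy
      exact mem_centralizer_singleton_iff.1 (h2 hy)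
    have h3 := h1.trans Lib.GenFitting.centralizer_genFitting_le
    rwa [AbStruct.genFitting_eq h.core, h.layer] at h3
  rw [eq_bot_iff]
  intro x hx
  obtain ⟨z, hz, k, hk, rfl⟩ := (SignalizersComponents.CoprimeBasic.mem_sup_iff
    (X := pCore 2 Y) (Y := K) (by
      have := Lib.Cores.pCore_normal (G := Y) 2
      rw [normalizer_eq_top_iff.2 this]; exact le_top) x).1 (hXF hx)
  -- `k = z⁻¹ x` centralises `K`, so `k = 1`
  have hkc : k ∈ centralizer (K : Set Y) := by
    have h4 : z ∈ centralizer (K : Set Y) := by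
      rw [mem_centralizer_iff]
      intro y _
      exact (mem_center_iff.1 (h.central hz)) y
    have h5 := mul_mem (inv_mem h4) (hXK hx)
    simpa using h5
  have hk1 : k = 1 := by
    rw [← mem_bot, ← AbStruct.inf_centralizer h.core h.comm h.comp]
    exact ⟨hk, hkc⟩
  subst hk1
  rw [mul_one] at hx ⊢
  rw [← hSX']
  exact ⟨Lib.Cores.pCore_le_sylow S hz, hx⟩

end Y

/-! ### Back to `G` -/

section G

variable {G : Type*} [Group G] [Finite G] {S : Sylow 2 G} {t : G} {C : Subgroup G}
  {T : Sylow 2 (C ⧸ pPrimeCore 2 C)} {K : Subgroup (C ⧸ pPrimeCore 2 C)}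

theorem card_ker {C : Type*} [Group C] [Finite C] :
    (Nat.card (QuotientGroup.mk' (pPrimeCore 2 C)).ker).Coprime 2 := by
  rw [QuotientGroup.ker_mk']
  exact Lib.Cores.pPrimeCore_coprime 2

/-- **Generation of `C(t)`.** -/
theorem gen (h : Data S t)
    (hC : C = centralizer ({t} : Set G))
    (hT : (T : Subgroup (C ⧸ pPrimeCore 2 C)) =
      ((S : Subgroup G).subgroupOf C).map (QuotientGroup.mk' (pPrimeCore 2 C)))
    (hK : TypeB T K) (h60 : Nat.card K ≠ 60) {X : Subgroup G}
    (hcX : centralizerPPrimeCore 2 t ≤ X)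
    (hX : ∀ V : Subgroup G, V ≤ (S : Subgroup G) → 4 ≤ Nat.card V →
      normalizer (V : Set G) ≤ X) : C ≤ X := by
  have : Fact (Nat.Prime 2) := ⟨Nat.prime_two⟩
  set f : C →* C ⧸ pPrimeCore 2 C := QuotientGroup.mk' _ with hf
  have hfs : Function.Surjective f := QuotientGroup.mk'_surjective _
  have hSC : (S : Subgroup G) ≤ C := by rw [hC]; exact h.le_centralizer h.mem
  -- an involution `v ∈ S` with `v̄ ∈ K`
  obtain ⟨v', hv', hv1'⟩ : ∃ v' ∈ (T : Subgroup (C ⧸ pPrimeCore 2 C)) ⊓ K, v' ≠ 1 := by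
    refine (bot_or_exists_ne_one ((T : Subgroup (C ⧸ pPrimeCore 2 C)) ⊓ K)).resolve_left ?_
    intro hb
    have := hK.card
    rw [hb, card_bot] at this
    omega
  obtain ⟨hvT, hvK⟩ := mem_inf.1 hv'
  have hvT' := hvT
  rw [hT] at hvT'
  obtain ⟨v, hvS, rfl⟩ := hvT'
  rw [SetLike.mem_coe, mem_subgroupOf] at hvS
  -- `t̄` is not in `K`
  have htC : t ∈ C := by rw [hC]; exact mem_centralizer_singleton_iff.2 rfl
  have hCt : ∀ x : C, (x : G) * t = t * x := by
    rintro ⟨x, hx⟩
    rw [hC] at hx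
    exact mem_centralizer_singleton_iff.1 hx
  have htbar : ∀ y : C ⧸ pPrimeCore 2 C, y * f ⟨t, htC⟩ = f ⟨t, htC⟩ * y := by
    intro y
    obtain ⟨x, rfl⟩ := hfs y
    rw [← map_mul, ← map_mul]
    congr 1
    ext
    exact hCt x
  have hvt : (v : G) ≠ t := by
    intro hvt
    have h1 : v = ⟨t, htC⟩ := Subtype.ext hvt
    apply hv1'
    rw [← mem_bot, ← AbStruct.inf_centralizer hK.core hK.comm hK.comp]
    refine mem_inf.2 ⟨hvK, ?_⟩
    rw [mem_centralizer_iff]
    intro y _
    rw [h1]
    exact htbar y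
  have hv1 : (v : G) ≠ 1 := by
    intro hv1
    apply hv1'
    have h1 : v = 1 := Subtype.ext hv1
    rw [h1, map_one]
  have htt : t * t = 1 := h.sq t h.mem
  have hvv : (v : G) * v = 1 := h.sq v hvS
  have htv : t * (v : G) = v * t := h.comm t h.mem v hvS
  -- the quotient
  have hM : (X.subgroupOf C).map f = ⊤ := by
    refine hK.eq_top h60 hvT hvK hv1' ?_ ?_
    · have h1 := PLocal.PConstrained.map_normalizer_eq f hfs card_ker
        (P := (S : Subgroup G).subgroupOf C) (S.2.comap_of_injective _ C.subtype_injective)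
      rw [hT, ← h1]
      apply Subgroup.map_mono
      intro x hx
      rw [mem_subgroupOf]
      apply hX S le_rfl (by rw [h.card]; norm_num)
      rw [mem_normalizer_iff]
      intro s
      constructor
      · intro hs
        exact (mem_normalizer_iff.1 hx ⟨s, hSC hs⟩).1 hs
      · intro hs
        have h2 : s ∈ C := by
          have h3 := hSC hs
          have h4 := mul_mem (mul_mem (inv_mem x.2) h3) x.2
          simpa [mul_assoc] using h4
        exact (mem_normalizer_iff.1 hx ⟨s, h2⟩).2 hs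
    · have h1 := PLocal.PConstrained.map_centralizer_eq f hfs card_ker
        (P := zpowers v) (IsPGroup.of_card (n := 1) (by
          rw [Nat.card_zpowers, pow_one]
          refine Dichotomy.Elem.orderOf_two ?_ ?_
          · ext; exact hvv
          · intro h2; exact hv1 (congrArg Subtype.val h2)))
      have h2 : centralizer (((zpowers v).map f : Subgroup (C ⧸ pPrimeCore 2 C)) : Set _) =
          centralizer ({f v} : Set (C ⧸ pPrimeCore 2 C)) := by
        rw [MonoidHom.map_zpowers, Subgroup.zpowers_eq_closure, Subgroup.centralizer_closure]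
      rw [← h2, ← h1]
      apply Subgroup.map_mono
      intro x hx
      rw [mem_subgroupOf]
      apply hX (Dichotomy.Elem.four t v) (Dichotomy.Elem.four_le h.mem hvS)
        (Dichotomy.Elem.card_four htt hvv htv h.ne hv1 hvt.symm).ge
      apply Subgroup.centralizer_le_normalizer
      have h3 : (x : G) * v = v * x := by
        have h4 := mem_centralizer_iff.1 hx v (mem_zpowers v)
        exact (congrArg Subtype.val h4).symm
      have h5 : (x : G) * t = t * x := hCt x
      have h6 : Dichotomy.Elem.four t v ≤ centralizer ({(x : G)} : Set G) :=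
        Dichotomy.Elem.four_le (mem_centralizer_singleton_iff.2 h5.symm)
          (mem_centralizer_singleton_iff.2 h3.symm)
      rw [mem_centralizer_iff]
      intro y hy
      exact mem_centralizer_singleton_iff.1 (h6 hy)
  -- conclusion
  intro x hx
  have h1 : f ⟨x, hx⟩ ∈ (X.subgroupOf C).map f := by rw [hM]; exact mem_top _
  obtain ⟨y, hy, hyx⟩ := h1
  rw [SetLike.mem_coe, mem_subgroupOf] at hy
  have h2 : y⁻¹ * ⟨x, hx⟩ ∈ pPrimeCore 2 C := by
    rw [← QuotientGroup.ker_mk' (pPrimeCore 2 C), MonoidHom.mem_ker, map_mul, map_inv]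
    change (f y)⁻¹ * f ⟨x, hx⟩ = 1
    rw [hyx, inv_mul_cancel]
  have h3 : (y : G)⁻¹ * x ∈ X := by
    subst hC
    exact hcX ⟨_, h2, rfl⟩
  have h4 := mul_mem hy h3
  simpa using h4

/-- **`S`-invariant subgroups of `C(t)` of odd order** -/
theorem inv
    (hC : C = centralizer ({t} : Set G))
    (hT : (T : Subgroup (C ⧸ pPrimeCore 2 C)) =
      ((S : Subgroup G).subgroupOf C).map (QuotientGroup.mk' (pPrimeCore 2 C)))
    (hK : TypeB T K)
    (hCK : ∀ v ∈ (T : Subgroup (C ⧸ pPrimeCore 2 C)),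
      v ∈ K → v ≠ 1 → K ⊓ centralizer {v} ≤ T)
    {Z : Subgroup G} (hZ : Z ≤ C)
    (hSZ : (S : Subgroup G) ≤ normalizer (Z : Set G)) (hodd : ¬ 2 ∣ Nat.card Z) :
    Z ≤ centralizerPPrimeCore 2 t := by
  set f : C →* C ⧸ pPrimeCore 2 C := QuotientGroup.mk' _ with hf
  have h1 : (Z.subgroupOf C).map f = ⊥ := by
    refine hK.eq_bot hCK ?_ ?_
    · rw [hT]
      refine le_trans (Subgroup.map_mono ?_) (Subgroup.le_normalizer_map f)
      intro x hx
      rw [mem_subgroupOf] at hx
      rw [mem_normalizer_iff]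
      intro y
      rw [mem_subgroupOf, mem_subgroupOf]
      exact mem_normalizer_iff.1 (hSZ hx) y
    · intro h2
      apply hodd
      refine (h2.trans (Subgroup.card_map_dvd (Z.subgroupOf C) f)).trans ?_
      rw [Nat.card_congr (Subgroup.subgroupOfEquivOfLe hZ).toEquiv]
  intro z hz
  have h2 : f ⟨z, hZ hz⟩ ∈ (Z.subgroupOf C).map f := ⟨_, by
    rw [SetLike.mem_coe, mem_subgroupOf]; exact hz, rfl⟩
  rw [h1, mem_bot] at h2
  have h3 : (⟨z, hZ hz⟩ : C) ∈ pPrimeCore 2 C := by
    rw [← QuotientGroup.ker_mk' (pPrimeCore 2 C), MonoidHom.mem_ker]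
    exact h2
  subst hC
  exact ⟨⟨z, hZ hz⟩, h3, rfl⟩

end G

end Cfsg.Agent.Walter.CentB
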