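import Mathlib
import Cfsg.Prelude.Def_Local
import Cfsg.Agent.Walter.BalLocal
import Cfsg.Agent.Walter.Balance
import Cfsg.Agent.Walter.CentB
import Cfsg.Agent.Walter.Endgame

/-!
# Balance from the structure of the involution centralizers

`S` elementary abelian of order 8, `C(a)/O(C(a))` of type B (one component `K ≅ PSL₂(q)` with Sylow 2-subgroup of
order 4) for all involutions `a`. We fill in `Balance.Data` and get `Dichotomy.Functor.Fun G`.
-/

set_option autoImplicit false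

namespace Cfsg.Agent.Walter.BalFun

open Subgroup Cfsg
open Cfsg.Agent.SignalizersComponents Cfsg.Agent.SignalizersComponents.Components
open Cfsg.Agent.Walter.Types Cfsg.Agent.Walter.BalLocal Cfsg.Agent.Walter.Cover Cfsg.Agent.Walter.OddCoreIn
open Cfsg.Agent.Walter.CentB (TypeB)

universe u

theorem eq_one_of_odd {Y : Type*} [Group Y] [Finite Y] {P : Subgroup Y} (hP : IsPGroup 2 P) {x : Y} (hx : x ∈ P)
    (hodd : ¬ 2 ∣ orderOf x) : x = 1 := by
  have hf : Fact (Nat.Prime 2) := ⟨Nat.prime_two⟩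
  obtain ⟨n, hn⟩ := IsPGroup.iff_orderOf.1 hP ⟨x, hx⟩
  rw [Subgroup.orderOf_mk] at hn
  rcases Nat.eq_zero_or_pos n with h | h
  · rw [h, pow_zero] at hn
    exact orderOf_eq_one_iff.1 hn
  · exact absurd (hn ▸ dvd_pow_self 2 h.ne') hodd

section Y

variable {Y : Type*} [Group Y] [Finite Y] {T : Sylow 2 Y} {K : Subgroup Y}

theorem centralizer_le (h : TypeB T K) : centralizer (K : Set Y) ≤ pCore 2 Y := by
  intro x hx
  have h1 : x ∈ centralizer (generalizedFittingSubgroup Y : Set Y) := by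
    have h2 : generalizedFittingSubgroup Y ≤ centralizer ({x} : Set Y) := by
      rw [AbStruct.genFitting_eq h.core, h.layer]
      refine sup_le ?_ ?_
      · intro y hy
        rw [mem_centralizer_singleton_iff]
        exact ((mem_center_iff.1 (h.central hy)) x).symm
      · intro y hy
        rw [mem_centralizer_singleton_iff]
        exact mem_centralizer_iff.1 hx y hy
    rw [mem_centralizer_iff]
    intro y hy
    exact mem_centralizer_singleton_iff.1 (h2 hy)
  have h3 := TwoFusion.FStarControl.centralizer_genFitting_le_fitting h1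
  rwa [BalanceAux.fitting_eq_pCore 2 h.core] at h3

theorem card_pCore (h : TypeB T K) (hT : Nat.card (T : Subgroup Y) = 8) : Nat.card (pCore 2 Y) = 2 := by
  obtain ⟨-, -, -, -, h5⟩ := AbTypes.of_isComponent h.core h.comm (by omega) h.comp
  rw [h.card, hT] at h5
  omega

theorem pCore_eq_zpowers (h : TypeB T K) (hT : Nat.card (T : Subgroup Y) = 8) {z : Y} (hz : z ∈ pCore 2 Y)
    (hz1 : z ≠ 1) : pCore 2 Y = zpowers z := by
  symm
  refine Subgroup.eq_of_le_of_card_ge ((zpowers_le).2 hz) ?_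
  rw [card_pCore h hT, Nat.card_zpowers]
  have h1 : orderOf z ≠ 1 := fun h2 => hz1 (orderOf_eq_one_iff.1 h2)
  have h3 := orderOf_pos z
  omega

theorem dich_Y (h : TypeB T K) {D : Subgroup Y} (hD : D.Normal) : K ≤ D ∨ D ≤ pCore 2 Y := by
  have hs := h.simple
  have hK := h.normal
  have h1 : (D.subgroupOf K).Normal := inferInstance
  rcases h1.eq_bot_or_eq_top with h2 | h2
  · right
    refine le_trans ?_ (centralizer_le h)
    rw [subgroupOf_eq_bot] at h2
    intro d hd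
    rw [mem_centralizer_iff]
    intro k hk
    exact (Subgroup.commute_of_normal_of_disjoint D K hD hK h2 d k hd hk).eq.symm
  · left
    rwa [subgroupOf_eq_top] at h2

theorem cent_Y (h : TypeB T K) (hsc : ∀ P : Sylow 2 K, centralizer ((P : Subgroup K) : Set K) ≤ P) {v : Y}
    (hv : v ∈ K) (hodd : ¬ 2 ∣ orderOf v) (hc : ∀ s ∈ (T : Subgroup Y), s * v = v * s) : v = 1 := by
  obtain ⟨P, hP, -, -⟩ := h.exists_sylow
  have h1 : (⟨v, hv⟩ : K) ∈ (P : Subgroup K) := by
    apply hsc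
    rw [mem_centralizer_iff]
    intro x hx
    have hx' : (x : K) ∈ (T : Subgroup Y).subgroupOf K := hP ▸ hx
    exact Subtype.ext (hc x (mem_subgroupOf.1 hx'))
  have h2 := eq_one_of_odd P.isPGroup' h1 (by rwa [Subgroup.orderOf_mk])
  exact congrArg Subtype.val h2

theorem aut_Y (h : TypeB T K) (hsc : ∀ P : Sylow 2 K, centralizer ((P : Subgroup K) : Set K) ≤ P) {s w : Y}
    (hs : s ∈ (T : Subgroup Y)) (hsp : s ∉ pCore 2 Y) (hodd : ¬ 2 ∣ orderOf w)
    (hc : ∀ x ∈ K ⊓ centralizer ({s} : Set Y), x * w = w * x) : w = 1 := by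
  obtain ⟨P, hP, hPsq, hPcard⟩ := h.exists_sylow
  obtain ⟨k, hk, c, hcc, hkc⟩ := AbStruct.exists_inner h.core h.comm h.comp hs
  have hk1 : k ≠ 1 := by
    rintro rfl
    rw [one_mul] at hkc
    rw [hkc] at hsp
    exact hsp (centralizer_le h hcc.2)
  have hKn := h.normal
  have hcard : Odd (Nat.card (zpowers w)) := by
    rw [Nat.card_zpowers]
    exact Nat.not_even_iff_odd.1 fun h => hodd h.two_dvd
  have h1 : zpowers w ≤ centralizer (K : Set Y) := by
    refine AutFacts.le_centralizer h.simple h.bender h.hna P hPsq (by omega) (hsc P) ?_ hcard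
      (v := ⟨k, hk.2⟩) ?_ (fun h => hk1 (congrArg Subtype.val h)) ?_
    · rw [normalizer_eq_top_iff.2 hKn]; exact le_top
    · rw [hP]; exact mem_subgroupOf.2 hk.1
    · intro o ho x hx
      have hxk : (x : Y) * k = k * x :=
        congrArg Subtype.val (mem_centralizer_singleton_iff.1 hx)
      have hxc : (x : Y) * c = c * x := mem_centralizer_iff.1 hcc.2 x x.2
      have hxs : (x : Y) ∈ K ⊓ centralizer ({s} : Set Y) := by
        refine ⟨x.2, mem_centralizer_singleton_iff.2 ?_⟩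
        rw [hkc, ← mul_assoc, hxk, mul_assoc, hxc, mul_assoc]
      have h2 : Commute (x : Y) w := hc x hxs
      obtain ⟨n, rfl⟩ := mem_zpowers_iff.1 ho
      exact (h2.zpow_right n).symm.eq
  exact eq_one_of_odd (Lib.Cores.pCore_isPGroup 2) (centralizer_le h (h1 (mem_zpowers w))) hodd

end Y

section G

variable {G : Type u} [Group G] [Finite G]

/-- the map onto `C(a)/O(C(a))` -/
abbrev pr (a : G) : C a →* C a ⧸ pPrimeCore 2 (C a) := QuotientGroup.mk' _

/-- the preimage of the layer of `C(a)/O(C(a))` -/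
def LL (a : G) : Subgroup G := ((layer (C a ⧸ pPrimeCore 2 (C a))).comap (pr a)).map (C a).subtype

omit [Finite G] in
theorem mem_LL {a x : G} : x ∈ LL a ↔ ∃ h : x ∈ C a, pr a ⟨x, h⟩ ∈ layer (C a ⧸ pPrimeCore 2 (C a)) := by
  constructor
  · rintro ⟨y, hy, rfl⟩
    exact ⟨y.2, hy⟩
  · rintro ⟨h1, h2⟩
    exact ⟨⟨x, h1⟩, h2, rfl⟩

omit [Finite G] in
theorem mem_core {a x : G} : x ∈ centralizerPPrimeCore 2 a ↔ ∃ h : x ∈ C a, pr a ⟨x, h⟩ = 1 := by
  constructor
  · rintro ⟨y, hy, rfl⟩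
    exact ⟨y.2, (QuotientGroup.eq_one_iff y).2 hy⟩
  · rintro ⟨h1, h2⟩
    exact ⟨⟨x, h1⟩, (QuotientGroup.eq_one_iff _).1 h2, rfl⟩

omit [Finite G] in
theorem not_dvd_orderOf_pr {a w : G} (hw : w ∈ C a) (hodd : ¬ 2 ∣ orderOf w) :
    ¬ 2 ∣ orderOf (pr a ⟨w, hw⟩) := by
  intro h
  apply hodd
  have h1 := h.trans (orderOf_map_dvd (pr a) (⟨w, hw⟩ : C a))
  rwa [Subgroup.orderOf_mk] at h1

/-- The hypotheses on the centralizers. -/
def AllB (S : Sylow 2 G) : Prop :=
  ∀ a ∈ (S : Subgroup G), a ≠ 1 → ∃ (T : Sylow 2 (C a ⧸ pPrimeCore 2 (C a)))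
    (K : Subgroup (C a ⧸ pPrimeCore 2 (C a))),
    (T : Subgroup (C a ⧸ pPrimeCore 2 (C a))) = ((S : Subgroup G).subgroupOf (C a)).map (pr a) ∧ TypeB T K

variable {S : Sylow 2 G} {t : G}

theorem card_T (h : Setup.Data S t) {a : G} (ha : a ∈ (S : Subgroup G))
    {T : Sylow 2 (C a ⧸ pPrimeCore 2 (C a))}
    (hT : (T : Subgroup (C a ⧸ pPrimeCore 2 (C a))) = ((S : Subgroup G).subgroupOf (C a)).map (pr a)) :
    Nat.card (T : Subgroup (C a ⧸ pPrimeCore 2 (C a))) = 8 := by
  have hf : Fact (Nat.Prime 2) := ⟨Nat.prime_two⟩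
  have hSC := h.le_centralizer ha
  have h1 : Nat.card ((S : Subgroup G).subgroupOf (C a)) = 8 := by
    rw [← h.card]
    exact Nat.card_congr (subgroupOfEquivOfLe hSC).toEquiv
  refine Nat.dvd_antisymm ?_ ?_
  · rw [hT, ← h1]
    exact card_map_dvd _ _
  · refine T.pow_dvd_card_of_pow_dvd_card (n := 3) ?_
    have h2 := (pPrimeCore 2 (C a)).card_mul_index
    rw [index_eq_card] at h2
    have h3 : 2 ^ 3 ∣ Nat.card (C a) := by
      have h4 := card_subgroup_dvd_card ((S : Subgroup G).subgroupOf (C a))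
      rw [h1] at h4
      exact h4
    rw [← h2] at h3
    exact (Nat.Coprime.pow_left 3 (Lib.Cores.pPrimeCore_coprime 2).symm).dvd_of_dvd_mul_left h3

omit [Finite G] in
theorem pr_mem {a s : G} {T : Sylow 2 (C a ⧸ pPrimeCore 2 (C a))}
    (hT : (T : Subgroup (C a ⧸ pPrimeCore 2 (C a))) = ((S : Subgroup G).subgroupOf (C a)).map (pr a))
    (hs : s ∈ (S : Subgroup G)) (hsC : s ∈ C a) : pr a ⟨s, hsC⟩ ∈ (T : Subgroup _) := by
  rw [hT]
  exact ⟨⟨s, hsC⟩, mem_subgroupOf.2 hs, rfl⟩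

/-- the image of an involution is not trivial -/
theorem pr_ne_one {a s : G} (hs : orderOf s = 2) (hsC : s ∈ C a) : pr a ⟨s, hsC⟩ ≠ 1 := by
  intro h1
  have h2 : s ∈ centralizerPPrimeCore 2 a := mem_core.2 ⟨hsC, h1⟩
  apply core_odd a
  have h3 := Subgroup.orderOf_dvd_natCard _ h2
  rwa [hs] at h3

/-- `O_2(C(a)/O(C(a))) = ⟨a⟩` -/
theorem pCore_eq (h : Setup.Data S t) {a : G} (ha : a ∈ (S : Subgroup G)) (ha1 : a ≠ 1)
    {T : Sylow 2 (C a ⧸ pPrimeCore 2 (C a))} {K : Subgroup (C a ⧸ pPrimeCore 2 (C a))}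
    (hT : (T : Subgroup (C a ⧸ pPrimeCore 2 (C a))) = ((S : Subgroup G).subgroupOf (C a)).map (pr a))
    (hK : TypeB T K) : pCore 2 (C a ⧸ pPrimeCore 2 (C a)) = zpowers (pr a ⟨a, self_mem_C a⟩) := by
  have hf : Fact (Nat.Prime 2) := ⟨Nat.prime_two⟩
  have h2 := pr_ne_one (a := a) (h.order_two ha ha1) (self_mem_C a)
  refine pCore_eq_zpowers hK (card_T h ha hT) ?_ h2
  -- `a` is central
  have hcen : pr a ⟨a, self_mem_C a⟩ ∈ center (C a ⧸ pPrimeCore 2 (C a)) := by
    rw [mem_center_iff]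
    intro g
    obtain ⟨g, rfl⟩ := QuotientGroup.mk'_surjective _ g
    rw [← map_mul, ← map_mul]
    congr 1
    exact Subtype.ext (mem_C.1 g.2)
  rw [← AbStruct.inf_centralizer_layer hK.core hK.comm]
  refine ⟨pr_mem hT ha _, mem_centralizer_iff.2 ?_⟩
  intro g _
  exact mem_center_iff.1 hcen g

theorem wType (h : Setup.Data S t) (hind : TypeSylow.Ind.{u} (Nat.card G)) {a : G} (hC : C a ≠ ⊤)
    {K : Subgroup (C a ⧸ pPrimeCore 2 (C a))} (hK : IsComponent K) : WType K := by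
  refine TypeSylow.wType_of_isComponent_quotient hind h.comm (C a) ?_ hK
  refine lt_of_le_of_ne (Nat.le_of_dvd Nat.card_pos (card_subgroup_dvd_card (C a))) ?_
  intro h1
  exact hC ((card_eq_iff_eq_top (C a)).1 h1)

omit [Finite G] in
theorem C_ne [IsSimpleGroup G] (hna : ∃ a b : G, a * b ≠ b * a) {a : G} (ha : a ≠ 1) : C a ≠ ⊤ := by
  intro h
  have hz : a ∈ center G := by
    rw [mem_center_iff]
    intro g
    have h1 : g ∈ C a := by rw [h]; trivial
    exact mem_C.1 h1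
  rcases (inferInstance : (center G).Normal).eq_bot_or_eq_top with h4 | h4
  · rw [h4, mem_bot] at hz
    exact ha hz
  · obtain ⟨x, y, hxy⟩ := hna
    have hx : y ∈ center G := by rw [h4]; trivial
    exact hxy (mem_center_iff.1 hx x)

theorem local_ne [IsSimpleGroup G] (hna : ∃ a b : G, a * b ≠ b * a) (p : ℕ) (hp : p.Prime) (Z : Subgroup G)
    (hZ : IsPGroup p Z) (hZ1 : Z ≠ ⊥) : normalizer (Z : Set G) ≠ ⊤ := by
  have hf : Fact p.Prime := ⟨hp⟩
  intro h
  have hn : Z.Normal := normalizer_eq_top_iff.1 h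
  rcases hn.eq_bot_or_eq_top with h1 | h1
  · exact hZ1 h1
  · have hG : IsPGroup p G := by
      intro g
      have hg : g ∈ Z := by rw [h1]; trivial
      obtain ⟨k, hk⟩ := hZ ⟨g, hg⟩
      exact ⟨k, congrArg Subtype.val hk⟩
    have hnt : Nontrivial G := by
      obtain ⟨x, y, hxy⟩ := hna
      exact ⟨⟨x * y, y * x, hxy⟩⟩
    have hc := hG.center_nontrivial
    rcases (inferInstance : (center G).Normal).eq_bot_or_eq_top with h4 | h4
    · rw [h4] at hc
      exact not_nontrivial _ hc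
    · obtain ⟨x, y, hxy⟩ := hna
      have hx : y ∈ center G := by rw [h4]; trivial
      exact hxy (mem_center_iff.1 hx x)

theorem not_isSolvable {a : G} {K : Subgroup (C a ⧸ pPrimeCore 2 (C a))} {T : Sylow 2 (C a ⧸ pPrimeCore 2 (C a))}
    (hK : TypeB T K) : ¬ Group.IsSolvable (C a) := by
  intro hsol
  have h1 : Group.IsSolvable (C a ⧸ pPrimeCore 2 (C a)) :=
    Group.isSolvable_of_surjective (f := pr a) (QuotientGroup.mk'_surjective _)
  have h2 : Group.IsSolvable K :=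
    Group.isSolvable_of_isSolvable_injective (f := K.subtype) K.subtype_injective
  have hs := hK.simple
  obtain ⟨x, y, hxy⟩ := hK.hna
  exact hxy ((IsSimpleGroup.comm_iff_isSolvable (G := K)).2 h2 x y)

/-- the balance data -/
theorem data [IsSimpleGroup G] (hna : ∃ a b : G, a * b ≠ b * a) (h : Setup.Data S t)
    (hOS : OddSolvable.{u}) (hBT : BenderThm.{u}) (hind : TypeSylow.Ind.{u} (Nat.card G)) (hB : AllB S) :
    Balance.Data S (LL (G := G)) where
  abTwo := QdAbelian.abTwo_of_sylow S h.comm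
  sq := h.sq
  conj := by
    intro a ha b hb ha1 hb1
    obtain ⟨n, -, hn⟩ := h.trans a ha ha1
    obtain ⟨m, -, hm⟩ := h.trans b hb hb1
    refine ⟨m * n⁻¹, ?_⟩
    rw [← hn, ← hm]; group
  le_C := fun a _ _ => map_subtype_le _
  normal := by
    intro a _ _
    rw [le_normalizer_iff']
    intro c hc x hx
    obtain ⟨hxC, hx⟩ := mem_LL.1 hx
    refine mem_LL.2 ⟨mul_mem (mul_mem hc hxC) (inv_mem hc), ?_⟩
    have h1 := (LayerBasic.layer_normal (C a ⧸ pPrimeCore 2 (C a))).conj_mem _ hx (pr a ⟨c, hc⟩)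
    rw [← map_mul, ← map_inv, ← map_mul] at h1
    exact h1
  le_sup := by
    intro a ha ha1 s hs
    obtain ⟨T, K, hT, hK⟩ := hB a ha ha1
    have hsC : s ∈ C a := h.le_centralizer ha hs
    have h1 := AbStruct.sylow_le_sup hK.core hK.comm (pr_mem hT hs hsC)
    have hpn : (pCore 2 (C a ⧸ pPrimeCore 2 (C a))).Normal := Lib.Cores.pCore_normal 2
    obtain ⟨z, hz, l, hl, hzl⟩ := (mem_sup_of_normal_left (hs := hpn)).1 h1
    rw [pCore_eq h ha ha1 hT hK] at hz
    obtain ⟨n, rfl⟩ := mem_zpowers_iff.1 hz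
    have haC : a ^ n ∈ C a := zpow_mem (self_mem_C a) n
    have hlmem : (a ^ n)⁻¹ * s ∈ LL a := by
      refine mem_LL.2 ⟨mul_mem (inv_mem haC) hsC, ?_⟩
      have h2 : pr a ⟨(a ^ n)⁻¹ * s, mul_mem (inv_mem haC) hsC⟩ = l := by
        have h3 : (⟨(a ^ n)⁻¹ * s, mul_mem (inv_mem haC) hsC⟩ : C a) =
            ((⟨a, self_mem_C a⟩ : C a) ^ n)⁻¹ * ⟨s, hsC⟩ := by
          ext; simp
        rw [h3, map_mul, map_inv, map_zpow, ← hzl, inv_mul_cancel_left]
      rw [h2]
      exact hl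
    have h4 : s = a ^ n * ((a ^ n)⁻¹ * s) := by group
    rw [h4]
    exact mul_mem (mem_sup_right (zpow_mem (mem_zpowers a) n)) (mem_sup_left hlmem)
  dich := by
    intro a ha ha1 D hDC hXD hCD
    obtain ⟨T, K, hT, hK⟩ := hB a ha ha1
    have hDn : ((D.subgroupOf (C a)).map (pr a)).Normal := by
      have h1 : (D.subgroupOf (C a)).Normal := (normal_subgroupOf_iff_le_normalizer hDC).2 hCD
      exact h1.map _ (QuotientGroup.mk'_surjective _)
    have hmem : ∀ x : C a, pr a x ∈ (D.subgroupOf (C a)).map (pr a) → (x : G) ∈ D := by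
      rintro x ⟨d, hd, hdx⟩
      have h2 : pr a (d⁻¹ * x) = 1 := by
        rw [map_mul, map_inv, hdx, inv_mul_cancel]
      have h3 : ((d⁻¹ * x : C a) : G) ∈ centralizerPPrimeCore 2 a := mem_core.2 ⟨(d⁻¹ * x).2, h2⟩
      have h4 : (x : G) = d * ((d⁻¹ * x : C a) : G) := by
        rw [Subgroup.coe_mul, Subgroup.coe_inv, mul_inv_cancel_left]
      rw [h4]
      exact mul_mem (mem_subgroupOf.1 hd) (hXD h3)
    rcases dich_Y hK hDn with h1 | h1
    · left
      intro x hx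
      obtain ⟨hxC, hx⟩ := mem_LL.1 hx
      rw [hK.layer] at hx
      exact hmem ⟨x, hxC⟩ (h1 hx)
    · right
      intro d hd
      have h2 : pr a ⟨d, hDC hd⟩ ∈ pCore 2 (C a ⧸ pPrimeCore 2 (C a)) :=
        h1 ⟨⟨d, hDC hd⟩, mem_subgroupOf.2 hd, rfl⟩
      rw [pCore_eq h ha ha1 hT hK] at h2
      obtain ⟨n, hn⟩ := mem_zpowers_iff.1 h2
      have haC : a ^ n ∈ C a := zpow_mem (self_mem_C a) n
      have h3 : d * (a ^ n)⁻¹ ∈ centralizerPPrimeCore 2 a := by
        refine mem_core.2 ⟨mul_mem (hDC hd) (inv_mem haC), ?_⟩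
        have h4 : (⟨d * (a ^ n)⁻¹, mul_mem (hDC hd) (inv_mem haC)⟩ : C a) =
            ⟨d, hDC hd⟩ * ((⟨a, self_mem_C a⟩ : C a) ^ n)⁻¹ := by
          ext; simp
        rw [h4, map_mul, map_inv, map_zpow, hn, mul_inv_cancel]
      have h5 : d = (d * (a ^ n)⁻¹) * a ^ n := by group
      rw [h5]
      exact mul_mem (mem_sup_left h3) (mem_sup_right (zpow_mem (mem_zpowers a) n))
  bal := by
    intro a ha ha1 H hH hcov
    obtain ⟨T, K, hT, hK⟩ := hB a ha ha1
    exact BalLocal.bal hOS hBT hind S h.sq h.card ha ha1 (not_isSolvable hK) hH hcov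
  C_ne := fun a _ ha1 => C_ne hna ha1
  local_ne := local_ne hna
  cent := by
    intro b hb hb1 v hv hodd hc
    obtain ⟨T, K, hT, hK⟩ := hB b hb hb1
    obtain ⟨hvC, hvL⟩ := mem_LL.1 hv
    rw [hK.layer] at hvL
    have hW : WType K := wType h hind (C_ne hna hb1) hK.comp
    refine mem_core.2 ⟨hvC, ?_⟩
    refine cent_Y hK (PSLFacts.WType.selfc hW) hvL (not_dvd_orderOf_pr hvC hodd) ?_
    intro s hs
    rw [hT] at hs
    obtain ⟨s, hs, rfl⟩ := hs
    obtain ⟨h1, h2⟩ := mem_core.1 (hc s (mem_subgroupOf.1 hs))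
    have h3 : pr b (s * ⟨v, hvC⟩ * s⁻¹ * (⟨v, hvC⟩ : C b)⁻¹) = 1 := h2
    rw [map_mul, map_mul, map_mul, map_inv, map_inv] at h3
    exact mul_inv_eq_iff_eq_mul.1 (mul_inv_eq_one.1 h3)
  aut := by
    intro a ha b hb ha1 hb1 hab w hwC hodd hc
    obtain ⟨T, K, hT, hK⟩ := hB b hb hb1
    have hW : WType K := wType h hind (C_ne hna hb1) hK.comp
    have haC : a ∈ C b := h.le_centralizer hb ha
    refine mem_core.2 ⟨hwC, ?_⟩
    refine aut_Y hK (PSLFacts.WType.selfc hW) (pr_mem hT ha haC) ?_ (not_dvd_orderOf_pr hwC hodd) ?_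
    · -- `a` is not in `O_2`
      rw [pCore_eq h hb hb1 hT hK]
      intro hmem
      obtain ⟨n, hn⟩ := mem_zpowers_iff.1 hmem
      have hbn : pr b ⟨b, self_mem_C b⟩ ^ n = 1 ∨ pr b ⟨b, self_mem_C b⟩ ^ n = pr b ⟨b, self_mem_C b⟩ := by
        have h2 : pr b ⟨b, self_mem_C b⟩ ^ 2 = 1 := by
          rw [← map_pow]
          have h3 : (⟨b, self_mem_C b⟩ : C b) ^ 2 = 1 := by
            ext; simpa [pow_two] using h.sq b hb
          rw [h3, map_one]
        rcases Int.even_or_odd n with ⟨m, hm⟩ | ⟨m, hm⟩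
        · left
          rw [hm, ← two_mul, zpow_mul, zpow_ofNat, h2, one_zpow]
        · right
          rw [hm, zpow_add, zpow_mul, zpow_ofNat, h2, one_zpow, one_mul, zpow_one]
      rcases hbn with h4 | h4
      · rw [h4] at hn
        exact pr_ne_one (h.order_two ha ha1) haC hn.symm
      · rw [h4] at hn
        have hab2 : a * b ∈ (S : Subgroup G) := mul_mem ha hb
        have hab1 : a * b ≠ 1 := by
          intro h5
          apply hab
          rw [mul_eq_one_iff_eq_inv] at h5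
          rw [h5, inv_eq_iff_mul_eq_one.2 (h.sq b hb)]
        have habC : a * b ∈ C b := h.le_centralizer hb hab2
        refine pr_ne_one (h.order_two hab2 hab1) habC ?_
        have h6 : (⟨a * b, habC⟩ : C b) = ⟨a, haC⟩ * ⟨b, self_mem_C b⟩ := rfl
        rw [h6, map_mul, ← hn, ← map_mul]
        have h7 : (⟨b, self_mem_C b⟩ : C b) * ⟨b, self_mem_C b⟩ = 1 := Subtype.ext (h.sq b hb)
        rw [h7, map_one]
    · -- lift the centralizer
      rintro x ⟨hxK, hxs⟩
      have haP : IsPGroup 2 (zpowers (⟨a, haC⟩ : C b)) := by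
        refine IsPGroup.of_card (n := 1) ?_
        rw [Nat.card_zpowers, Subgroup.orderOf_mk, h.order_two ha ha1, pow_one]
      have hf : Fact (Nat.Prime 2) := ⟨Nat.prime_two⟩
      have hcen := PLocal.PConstrained.map_centralizer_eq (p := 2) (pr b) (QuotientGroup.mk'_surjective _)
        CentB.card_ker haP
      rw [centralizer_zpowers, MonoidHom.map_zpowers, centralizer_zpowers] at hcen
      rw [← hcen] at hxs
      obtain ⟨y, hy, rfl⟩ := hxs
      have hyC : (y : G) ∈ C a := by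
        rw [mem_C]
        exact congrArg Subtype.val (mem_centralizer_singleton_iff.1 hy)
      have hyL : (y : G) ∈ LL b := mem_LL.2 ⟨y.2, by rw [hK.layer]; exact hxK⟩
      obtain ⟨h1, h2⟩ := mem_core.1 (hc y ⟨hyL, hyC⟩)
      have h3 : pr b (y * ⟨w, hwC⟩ * y⁻¹ * (⟨w, hwC⟩ : C b)⁻¹) = 1 := h2
      rw [map_mul, map_mul, map_mul, map_inv, map_inv] at h3
      exact mul_inv_eq_iff_eq_mul.1 (mul_inv_eq_one.1 h3)

/-- **Balance** for type B in rank 3. -/
theorem fun_of_allB [IsSimpleGroup G] (hna : ∃ a b : G, a * b ≠ b * a) (h : Setup.Data S t)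
    (hOS : OddSolvable.{u}) (hBT : BenderThm.{u}) (hind : TypeSylow.Ind.{u} (Nat.card G)) (hB : AllB S) :
    Dichotomy.Functor.Fun G := by
  have hD := data hna h hOS hBT hind hB
  refine Endgame.fun_of_bal (S := S) (fun Y hY => hOS Y hY) ?_
  intro s hs hs1 u hu hu1
  exact hD.balance hs hs1 hu hu1

end G

end Cfsg.Agent.Walter.BalFun
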