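import Mathlib
import Cfsg.Agent.Walter.Types
import Cfsg.Agent.Walter.PSLFacts
import Cfsg.Agent.Walter.AutFacts
import Cfsg.Agent.Classification.PSLTwoEvenSylow

/-!
# `N(S)` is transitive on the involutions of `S` in the known groups with abelian Sylow 2-subgroup
-/

set_option autoImplicit false

namespace Cfsg.Agent.Walter.PairsRot

open Subgroup Cfsg Matrix
open Cfsg.Agent.Walter.Types
open Cfsg.Agent.Classification.PSLTwoEvenSylow

/-- the torus acts transitively on the root group -/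
theorem uni_conj {F : Type*} [Field F] [Finite F] [CharP F 2] {a b : F} (ha : a ≠ 0) (hb : b ≠ 0) :
    ∃ g : SpecialLinearGroup (Fin 2) F,
      g * uni (Multiplicative.ofAdd a) * g⁻¹ = uni (Multiplicative.ofAdd b) := by
  have : Fact (Nat.Prime 2) := ⟨Nat.prime_two⟩
  obtain ⟨c, hc⟩ : ∃ c : F, c ^ 2 = b / a := by
    have h1 : Function.Bijective (frobenius F 2) :=
      Finite.injective_iff_bijective.1 (frobenius_inj F 2)
    obtain ⟨c, hc⟩ := h1.2 (b / a)
    exact ⟨c, hc⟩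
  have hc0 : c ≠ 0 := by
    rintro rfl
    rw [zero_pow two_ne_zero] at hc
    exact (div_ne_zero hb ha) hc.symm
  let t : SpecialLinearGroup (Fin 2) F :=
    ⟨!![c, 0; 0, c⁻¹], by rw [det_fin_two_of, mul_zero, sub_zero, mul_inv_cancel₀ hc0]⟩
  refine ⟨t, ?_⟩
  rw [mul_inv_eq_iff_eq_mul]
  apply Subtype.ext
  change !![c, 0; 0, c⁻¹] * !![1, a; 0, 1] = !![1, b; 0, 1] * !![c, 0; 0, c⁻¹]
  rw [Matrix.mul_fin_two, Matrix.mul_fin_two]
  have h2 : b = c ^ 2 * a := by rw [hc, div_mul_cancel₀ _ ha]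
  have h3 : c * a = b * c⁻¹ := by
    rw [h2]
    field_simp
  simp [h3]

variable {K : Type*} [Group K] [Finite K]

/-- one class of involutions -/
theorem even_conj (h : IsEvenType K) {x y : K} (hx : orderOf x = 2) (hy : orderOf y = 2) :
    ∃ g : K, g * x * g⁻¹ = y := by
  have : Fact (Nat.Prime 2) := ⟨Nat.prime_two⟩
  obtain ⟨F, i1, i2, n, hn, hF, ⟨e⟩⟩ := h
  have hF2 : CharP F 2 := by
    obtain ⟨p, hp⟩ := CharP.exists F
    obtain ⟨m, hpp, hm⟩ := FiniteField.card F p
    have : p ∣ 2 ^ n := by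
      rw [← hF, hm]
      exact dvd_pow_self p m.pos.ne'
    have hp2 : p = 2 := (Nat.prime_dvd_prime_iff_eq hpp Nat.prime_two).1 (hpp.dvd_of_dvd_pow this)
    rwa [← hp2]
  let f : Multiplicative F →* K := e.symm.toMonoidHom.comp uniP
  have hf : Function.Injective f := e.symm.injective.comp uniP_injective
  have hcardU : Nat.card f.range = 2 ^ n := by
    rw [← Nat.card_congr (MonoidHom.ofInjective hf).toEquiv, ← hF, ← Nat.card_eq_fintype_card]
    exact Nat.card_congr Multiplicative.toAdd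
  have hU : IsPGroup 2 f.range := IsPGroup.of_card hcardU
  obtain ⟨Q, hQ⟩ := hU.exists_le_sylow
  have hEq : f.range = (Q : Subgroup K) := by
    refine Subgroup.eq_of_le_of_card_ge hQ ?_
    rw [hcardU, (PSLFacts.even_facts (by omega) hF e Q).2.2]
  -- every involution is conjugate to an element of the root group
  have key : ∀ z : K, orderOf z = 2 → ∃ (g : K) (a : F), a ≠ 0 ∧
      g * z * g⁻¹ = f (Multiplicative.ofAdd a) := by
    intro z hz
    have hzp : IsPGroup 2 (zpowers z) := by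
      refine IsPGroup.of_card (n := 1) ?_
      rw [Nat.card_zpowers, hz, pow_one]
    obtain ⟨P, hP⟩ := hzp.exists_le_sylow
    obtain ⟨g, hg⟩ := MulAction.exists_smul_eq K P Q
    have h1 : g * z * g⁻¹ ∈ (Q : Subgroup K) := by
      rw [← hg]
      exact ⟨z, hP (mem_zpowers z), rfl⟩
    rw [← hEq] at h1
    obtain ⟨a, ha⟩ := h1
    refine ⟨g, Multiplicative.toAdd a, ?_, ha.symm⟩
    intro h0
    have h2 : a = 1 := Multiplicative.toAdd.injective h0
    rw [h2, map_one] at ha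
    have h3 : z = 1 := by
      have := congrArg (fun t => g⁻¹ * t * g) ha
      simpa [mul_assoc] using this.symm
    rw [h3, orderOf_one] at hz
    omega
  obtain ⟨g1, a, ha, h1⟩ := key x hx
  obtain ⟨g2, b, hb, h2⟩ := key y hy
  obtain ⟨t, ht⟩ := uni_conj ha hb
  refine ⟨g2⁻¹ * e.symm (QuotientGroup.mk' _ t) * g1, ?_⟩
  have h3 : e.symm (QuotientGroup.mk' _ t) * f (Multiplicative.ofAdd a) *
      (e.symm (QuotientGroup.mk' _ t))⁻¹ = f (Multiplicative.ofAdd b) := by
    change e.symm (QuotientGroup.mk' _ t) * e.symm (QuotientGroup.mk' _ (uni _)) *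
      (e.symm (QuotientGroup.mk' _ t))⁻¹ = e.symm (QuotientGroup.mk' _ (uni _))
    rw [← map_mul, ← map_inv, ← map_mul, ← map_mul, ← map_inv, ← map_mul, ht]
  calc g2⁻¹ * e.symm (QuotientGroup.mk' _ t) * g1 * x *
        (g2⁻¹ * e.symm (QuotientGroup.mk' _ t) * g1)⁻¹
      = g2⁻¹ * (e.symm (QuotientGroup.mk' _ t) * (g1 * x * g1⁻¹) *
        (e.symm (QuotientGroup.mk' _ t))⁻¹) * g2 := by group
    _ = g2⁻¹ * (g2 * y * g2⁻¹) * g2 := by rw [h1, h3, h2]
    _ = y := by group

/-- `N(S)` is transitive on the involutions of `S` for the known groups. -/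
theorem exists_normalizer_conj (hK : WType K) [IsSimpleGroup K] (hna : ∃ a b : K, a * b ≠ b * a)
    (P : Sylow 2 K) : ∀ x ∈ (P : Subgroup K), x ≠ 1 → ∀ y ∈ (P : Subgroup K), y ≠ 1 →
      ∃ n ∈ normalizer ((P : Subgroup K) : Set K), n * x * n⁻¹ = y := by
  have : Fact (Nat.Prime 2) := ⟨Nat.prime_two⟩
  intro x hx hx1 y hy hy1
  have hsq := PSLFacts.WType.sq hK P
  have hord : ∀ z ∈ (P : Subgroup K), z ≠ 1 → orderOf z = 2 := fun z hz hz1 =>
    orderOf_eq_prime (by rw [pow_two]; exact hsq z hz) hz1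
  rcases hK with h | h | h
  · obtain ⟨g, hg⟩ := even_conj h (hord x hx hx1) (hord y hy hy1)
    have : IsMulCommutative (P : Subgroup K) := by
      refine ⟨⟨?_⟩⟩
      rintro ⟨a, ha⟩ ⟨b, hb⟩
      apply Subtype.ext
      change a * b = b * a
      have h1 := hsq (a * b) (mul_mem ha hb)
      have h3 : a⁻¹ = a := inv_eq_of_mul_eq_one_left (hsq a ha)
      have h4 : b⁻¹ = b := inv_eq_of_mul_eq_one_left (hsq b hb)
      have h5 : (a * b)⁻¹ = a * b := inv_eq_of_mul_eq_one_left h1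
      rw [← h5, _root_.mul_inv_rev, h3, h4]
    obtain ⟨n, hn, hnx⟩ := P.conj_eq_normalizer_conj_of_mem x g⁻¹ hx (by
      rw [inv_inv, hg]; exact hy)
    refine ⟨n⁻¹, inv_mem hn, ?_⟩
    rw [inv_inv, hg] at hnx
    rw [inv_inv]
    exact hnx.symm
  · exact AutFacts.transitive hna P hsq (by rw [(PSLFacts.IsOddType.facts h P).2.1]; norm_num)
      hx hx1 hy hy1
  · exact AutFacts.transitive hna P hsq (by rw [(PSLFacts.IsJR.facts h P).2.1]; norm_num)
      hx hx1 hy hy1

end Cfsg.Agent.Walter.PairsRot
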