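import Mathlib
import Cfsg.Prelude.Def_Local
import Cfsg.Agent.Walter.BalFun
import Cfsg.Agent.Walter.PairsRot

/-!
# The structure of a core-free involution centralizer

`X` is core-free of type B: one component `K`, Sylow 2-subgroup `T` elementary of order 8, `O_2(X) = Z` of order 2 and
central. Then `X = Z × E`, `E = K Φ`, `Φ = O(C(T))`, `Φ ∩ K = 1`, `Φ` centralizes `N_K(T)` and acts
faithfully on `K`.
-/

set_option autoImplicit false

namespace Cfsg.Agent.Walter.FieldX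

open Subgroup Cfsg
open Cfsg.Agent.SignalizersComponents Cfsg.Agent.SignalizersComponents.Components
open Cfsg.Agent.Walter.Types Cfsg.Agent.Walter.BalLocal Cfsg.Agent.Walter.OddCoreIn
open Cfsg.Agent.Walter.CentB (TypeB)

/-- a central Sylow 2-subgroup splits off -/
theorem central_split {C : Type*} [Group C] [Finite C] (P : Sylow 2 C) (hP : (P : Subgroup C) ≤ center C)
    (g : C) : ∃ s ∈ (P : Subgroup C), ∃ y ∈ pPrimeCore 2 C, g = s * y := by
  have hf : Fact (Nat.Prime 2) := ⟨Nat.prime_two⟩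
  have hPn : (P : Subgroup C).Normal := by
    refine ⟨fun x hx g => ?_⟩
    have h1 : g * x * g⁻¹ = x := by
      rw [mem_center_iff.1 (hP hx) g, mul_inv_cancel_right]
    rw [h1]; exact hx
  have hcop : Nat.Coprime (Nat.card (P : Subgroup C)) (P : Subgroup C).index := P.card_coprime_index
  obtain ⟨H, hH⟩ := Subgroup.exists_right_complement'_of_coprime hcop
  have hsup : (P : Subgroup C) ⊔ H = ⊤ := hH.sup_eq_top
  have hHn : H.Normal := by
    rw [← normalizer_eq_top_iff, eq_top_iff, ← hsup]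
    refine sup_le ?_ Subgroup.le_normalizer
    intro x hx
    rw [mem_normalizer_iff]
    intro y
    have h1 : x * y * x⁻¹ = y := by
      rw [← mem_center_iff.1 (hP hx) y, mul_inv_cancel_right]
    rw [h1]
  have hHodd : (Nat.card H).Coprime 2 := by
    have h1 := hH.symm.index_eq_card
    rw [← h1]
    exact ((Nat.Prime.coprime_iff_not_dvd Nat.prime_two).2 P.not_dvd_index).symm
  have hHO : H ≤ pPrimeCore 2 C := Lib.Cores.le_pPrimeCore hHn hHodd
  have hg : g ∈ (P : Subgroup C) ⊔ H := by rw [hsup]; trivial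
  obtain ⟨s, hs, y, hy, h⟩ := (mem_sup_of_normal_left (hs := hPn)).1 hg
  exact ⟨s, hs, y, hHO hy, h.symm⟩

variable {X : Type*} [Group X] [Finite X] {T : Sylow 2 X} {K : Subgroup X}

/-- the odd core of the centralizer of the Sylow 2-subgroup -/
def Phi (T : Sylow 2 X) : Subgroup X := OO (centralizer ((T : Subgroup X) : Set X))

omit [Finite X] in
theorem Phi_le (T : Sylow 2 X) : Phi T ≤ centralizer ((T : Subgroup X) : Set X) := OO_le _

theorem Phi_odd (T : Sylow 2 X) : ¬ 2 ∣ Nat.card (Phi T) := OO_odd _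

theorem orderOf_odd {y : X} (hy : y ∈ Phi T) : ¬ 2 ∣ orderOf y := fun h =>
  Phi_odd T (h.trans (Subgroup.orderOf_dvd_natCard _ hy))

/-- `C(T) = T × Φ` -/
theorem exists_mul_of_centralizer (hc : ∀ a ∈ (T : Subgroup X), ∀ b ∈ (T : Subgroup X), a * b = b * a) {g : X}
    (hg : g ∈ centralizer ((T : Subgroup X) : Set X)) : ∃ s ∈ (T : Subgroup X), ∃ y ∈ Phi T, g = s * y := by
  have hTC : (T : Subgroup X) ≤ centralizer ((T : Subgroup X) : Set X) := by
    intro s hs
    rw [mem_centralizer_iff]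
    intro x hx
    exact hc x hx s hs
  have hcen : ((T.subtype hTC : Sylow 2 (centralizer ((T : Subgroup X) : Set X))) : Subgroup _) ≤
      center (centralizer ((T : Subgroup X) : Set X)) := by
    intro s hs
    rw [Sylow.coe_subtype, mem_subgroupOf] at hs
    rw [mem_center_iff]
    intro x
    exact Subtype.ext (mem_centralizer_iff.1 x.2 s hs).symm
  obtain ⟨s, hs, y, hy, h⟩ := central_split (T.subtype hTC) hcen ⟨g, hg⟩
  rw [Sylow.coe_subtype, mem_subgroupOf] at hs
  exact ⟨s, hs, y, ⟨y, hy, rfl⟩, congrArg Subtype.val h⟩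

/-- `C(T ∩ K) = C(T)` -/
theorem centralizer_inf_eq (h : TypeB T K) {g : X}
    (hg : g ∈ centralizer (((T : Subgroup X) ⊓ K : Subgroup X) : Set X)) :
    g ∈ centralizer ((T : Subgroup X) : Set X) := by
  rw [mem_centralizer_iff]
  intro s hs
  obtain ⟨k, hk, c, hc, rfl⟩ := AbStruct.exists_inner h.core h.comm h.comp hs
  have h1 : k * g = g * k := mem_centralizer_iff.1 hg k hk
  have h2 : c ∈ center X := h.central (BalFun.centralizer_le h hc.2)
  rw [mul_assoc, ← mem_center_iff.1 h2 g, ← mul_assoc, h1, mul_assoc]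

/-- an element of odd order in the normalizer of `T`, up to `K` -/
theorem exists_normalizer (h : TypeB T K) (hW : WType K) {n : X}
    (hn : n ∈ normalizer ((T : Subgroup X) : Set X)) :
    ∃ m ∈ K ⊓ normalizer ((T : Subgroup X) : Set X), ∃ c ∈ centralizer ((T : Subgroup X) : Set X), n = m * c := by
  have hf : Fact (Nat.Prime 2) := ⟨Nat.prime_two⟩
  obtain ⟨P, hP, hPsq, hPcard⟩ := h.exists_sylow
  have hs := h.simple
  have hKn := h.normal
  have hmemP : ∀ x : K, x ∈ (P : Subgroup K) ↔ (x : X) ∈ (T : Subgroup X) := by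
    intro x; rw [hP, mem_subgroupOf]
  -- `N_K(P)` normalizes `T`
  have hNK : ∀ m : K, m ∈ normalizer ((P : Subgroup K) : Set K) → (m : X) ∈ normalizer ((T : Subgroup X) : Set X) := by
    intro m hm
    have key : ∀ m : K, m ∈ normalizer ((P : Subgroup K) : Set K) →
        ∀ s ∈ (T : Subgroup X), (m : X) * s * (m : X)⁻¹ ∈ (T : Subgroup X) := by
      intro m hm s hs
      obtain ⟨k, hk, c, hc, rfl⟩ := AbStruct.exists_inner h.core h.comm h.comp hs
      have h2 : (m : X) * k * (m : X)⁻¹ ∈ (T : Subgroup X) :=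
        (hmemP _).1 ((mem_normalizer_iff.1 hm ⟨k, hk.2⟩).1 ((hmemP _).2 hk.1))
      have h4 : (m : X) * (k * c) * (m : X)⁻¹ = (m : X) * k * (m : X)⁻¹ * c := by
        have h5 : (m : X)⁻¹ * c = c * (m : X)⁻¹ := mem_centralizer_iff.1 hc.2 _ (inv_mem m.2)
        calc (m : X) * (k * c) * (m : X)⁻¹ = (m : X) * k * (c * (m : X)⁻¹) := by group
          _ = (m : X) * k * (m : X)⁻¹ * c := by rw [← h5]; group
      rw [h4]
      exact mul_mem h2 hc.1
    rw [mem_normalizer_iff]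
    intro s
    refine ⟨key m hm s, fun h6 => ?_⟩
    have h7 := key m⁻¹ (inv_mem hm) _ h6
    simpa [mul_assoc] using h7
  -- an involution of `T ∩ K`
  obtain ⟨v, hv, hv1⟩ : ∃ v ∈ (P : Subgroup K), v ≠ 1 := by
    refine (bot_or_exists_ne_one (P : Subgroup K)).resolve_left ?_
    intro h1
    rw [h1, card_bot] at hPcard
    norm_num at hPcard
  have hvT := (hmemP v).1 hv
  have hnv : n * (v : X) * n⁻¹ ∈ (T : Subgroup X) := (mem_normalizer_iff.1 hn v).1 hvT
  have hnvK : n * (v : X) * n⁻¹ ∈ K := hKn.conj_mem v v.2 n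
  have hnv1 : (⟨n * (v : X) * n⁻¹, hnvK⟩ : K) ≠ 1 := by
    intro h1
    apply hv1
    have h2 : n * (v : X) * n⁻¹ = 1 := congrArg Subtype.val h1
    have h3 : n * (v : X) = n := mul_inv_eq_one.1 h2
    exact Subtype.ext (mul_eq_left.1 h3)
  obtain ⟨m, hm, hmv⟩ := PairsRot.exists_normalizer_conj hW h.hna P v hv hv1 ⟨_, hnvK⟩ ((hmemP _).2 hnv) hnv1
  have hmv' : (m : X) * v * (m : X)⁻¹ = n * v * n⁻¹ := congrArg Subtype.val hmv
  have hmN := hNK m hm
  refine ⟨m, ⟨m.2, hmN⟩, (m : X)⁻¹ * n, ?_, by group⟩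
  set g : X := (m : X)⁻¹ * n with hg
  have hgN : g ∈ normalizer ((T : Subgroup X) : Set X) := mul_mem (inv_mem hmN) hn
  have hgv : g * v * g⁻¹ = v := by
    have e : g * v * g⁻¹ = (m : X)⁻¹ * (n * v * n⁻¹) * m := by rw [hg]; group
    rw [e, ← hmv']; group
  apply centralizer_inf_eq h
  rw [mem_centralizer_iff]
  rintro w ⟨hwT, hwK⟩
  -- `g w g⁻¹ = w` or `w v`
  have hgw : g * w * g⁻¹ ∈ (T : Subgroup X) := (mem_normalizer_iff.1 hgN w).1 hwT
  have hgwK : g * w * g⁻¹ ∈ K := hKn.conj_mem w hwK g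
  have hconj1 : ∀ u : X, g * u * g⁻¹ = 1 → u = 1 := by
    intro u hu
    have h3 : g * u = g := mul_inv_eq_one.1 hu
    exact mul_eq_left.1 h3
  have hconjinj : ∀ u u' : X, g * u * g⁻¹ = g * u' * g⁻¹ → u = u' := by
    intro u u' hu
    exact mul_left_cancel (mul_right_cancel hu)
  by_cases hw1 : w = 1
  · rw [hw1, one_mul, mul_one]
  by_cases hwv : w = v
  · have h3 := mul_inv_eq_iff_eq_mul.1 hgv
    rw [hwv]; exact h3.symm
  by_cases hww : g * w * g⁻¹ = w
  · exact (mul_inv_eq_iff_eq_mul.1 hww).symm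
  exfalso
  -- the four elements of `T ∩ K`
  have hsq : ∀ u ∈ (T : Subgroup X), u * u = 1 := h.sq
  have hinv : ∀ u ∈ (T : Subgroup X), u⁻¹ = u := fun u hu => inv_eq_of_mul_eq_one_left (hsq u hu)
  have hfour : ∀ u, u ∈ (T : Subgroup X) → u ∈ K → u = 1 ∨ u = v ∨ u = w ∨ u = w * v := by
    intro u huT huK
    by_contra hcon
    push Not at hcon
    obtain ⟨h1, h2, h3, h4⟩ := hcon
    classical
    have hc4 := h.card
    let F : Finset ((T : Subgroup X) ⊓ K : Subgroup X) :=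
      {⟨1, one_mem _⟩, ⟨v, ⟨hvT, v.2⟩⟩, ⟨w, ⟨hwT, hwK⟩⟩, ⟨w * v, ⟨mul_mem hwT hvT, mul_mem hwK v.2⟩⟩, ⟨u, ⟨huT, huK⟩⟩}
    have hv1' : (v : X) ≠ 1 := fun h => hv1 (Subtype.ext h)
    have hwv1 : w * v ≠ 1 := by
      intro h5
      apply hwv
      rw [mul_eq_one_iff_eq_inv] at h5
      rw [h5, hinv v hvT]
    have hF : F.card = 5 := by
      rw [Finset.card_insert_of_notMem, Finset.card_insert_of_notMem, Finset.card_insert_of_notMem,
        Finset.card_insert_of_notMem, Finset.card_singleton]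
      · rw [Finset.mem_singleton]
        exact fun h5 => h4 (congrArg Subtype.val h5).symm
      · rw [Finset.mem_insert, Finset.mem_singleton, not_or]
        refine ⟨fun h5 => hv1' ?_, fun h5 => h3 (congrArg Subtype.val h5).symm⟩
        have h6 : w = w * v := congrArg Subtype.val h5
        exact mul_eq_left.1 h6.symm
      · rw [Finset.mem_insert, Finset.mem_insert, Finset.mem_singleton, not_or, not_or]
        refine ⟨fun h5 => hwv (congrArg Subtype.val h5).symm, fun h5 => hw1 ?_,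
          fun h5 => h2 (congrArg Subtype.val h5).symm⟩
        have h6 : (v : X) = w * v := congrArg Subtype.val h5
        exact mul_eq_right.1 h6.symm
      · rw [Finset.mem_insert, Finset.mem_insert, Finset.mem_insert, Finset.mem_singleton, not_or, not_or, not_or]
        exact ⟨fun h5 => hv1' (congrArg Subtype.val h5).symm, fun h5 => hw1 (congrArg Subtype.val h5).symm,
          fun h5 => hwv1 (congrArg Subtype.val h5).symm, fun h5 => h1 (congrArg Subtype.val h5).symm⟩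
    have hle : F.card ≤ Nat.card ((T : Subgroup X) ⊓ K : Subgroup X) := by
      have := Fintype.ofFinite ((T : Subgroup X) ⊓ K : Subgroup X)
      rw [Nat.card_eq_fintype_card]
      exact Finset.card_le_univ F
    omega
  have hgwv : g * w * g⁻¹ = w * v := by
    rcases hfour _ hgw hgwK with h1 | h1 | h1 | h1
    · exact absurd (hconj1 w h1) hw1
    · exact absurd (hconjinj w v (h1.trans hgv.symm)) hwv
    · exact absurd h1 hww
    · exact h1
  -- powers of `g`
  have hpow : ∀ j : ℕ, g ^ j * w * (g ^ j)⁻¹ = w * v ^ j := by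
    intro j
    induction j with
    | zero => simp
    | succ j ih =>
      have hgvj : g * (v : X) ^ j * g⁻¹ = v ^ j := by
        rw [← conj_pow, hgv]
      calc g ^ (j + 1) * w * (g ^ (j + 1))⁻¹ = g * (g ^ j * w * (g ^ j)⁻¹) * g⁻¹ := by
            rw [pow_succ']; group
        _ = g * (w * v ^ j) * g⁻¹ := by rw [ih]
        _ = (g * w * g⁻¹) * (g * v ^ j * g⁻¹) := by group
        _ = w * v ^ (j + 1) := by rw [hgwv, hgvj, mul_assoc, ← pow_succ']
  -- an odd power of `g` lies in `T`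
  obtain ⟨k, m', hm'odd, hm'⟩ := Nat.exists_eq_two_pow_mul_odd (n := orderOf g) (orderOf_pos g).ne'
  have h1 : (g ^ m') ^ 2 ^ k = 1 := by
    rw [← pow_mul, mul_comm, ← hm', pow_orderOf_eq_one]
  have h2 : g ^ m' ∈ (T : Subgroup X) := PSLFacts.mem_of_pow T (pow_mem hgN m') h1
  have h3 : g ^ m' * w * (g ^ m')⁻¹ = w := by
    rw [h.comm _ h2 _ hwT, mul_inv_cancel_right]
  have h4 := hpow m'
  rw [h3] at h4
  have h5 : (v : X) ^ m' = 1 := mul_eq_left.1 h4.symm
  obtain ⟨j, hj⟩ := hm'odd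
  rw [hj, pow_add, pow_mul, pow_two, hsq _ hvT, one_pow, one_mul, pow_one] at h5
  exact hv1 (Subtype.ext h5)

/-- every element is a product of an element of `K` and an element of `C(T)` -/
theorem exists_factor (h : TypeB T K) (hW : WType K) (g : X) :
    ∃ k ∈ K, ∃ s ∈ (T : Subgroup X), ∃ y ∈ Phi T, g = k * s * y := by
  have hKn := h.normal
  have h1 := AbTypes.layer_sup_normalizer h.core h.comm
  rw [h.layer] at h1
  have hg : g ∈ K ⊔ normalizer ((T : Subgroup X) : Set X) := by rw [h1]; trivial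
  obtain ⟨k, hk, n, hn, rfl⟩ := (mem_sup_of_normal_left (hs := hKn)).1 hg
  obtain ⟨m, hm, c, hc, rfl⟩ := exists_normalizer h hW hn
  obtain ⟨s, hs, y, hy, rfl⟩ := exists_mul_of_centralizer h.comm hc
  exact ⟨k * m, mul_mem hk hm.1, s, hs, y, hy, by group⟩

/-- `X = K Z Φ` -/
theorem exists_factor' (h : TypeB T K) (hW : WType K) (g : X) :
    ∃ z ∈ pCore 2 X, ∃ k ∈ K, ∃ y ∈ Phi T, g = z * (k * y) := by
  obtain ⟨k, hk, s, hs, y, hy, rfl⟩ := exists_factor h hW g
  obtain ⟨a, ha, c, hc, rfl⟩ := AbStruct.exists_inner h.core h.comm h.comp hs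
  have h2 : c ∈ pCore 2 X := BalFun.centralizer_le h hc.2
  have h3 : c ∈ center X := h.central h2
  refine ⟨c, h2, k * a, mul_mem hk ha.2, y, hy, ?_⟩
  have h4 : k * a * c = c * (k * a) := mem_center_iff.1 h3 (k * a)
  rw [← mul_assoc k a c, h4, mul_assoc]

/-- `Φ` centralizes `N_K(T)`. -/
theorem commute_Phi (h : TypeB T K) (hsc : ∀ P : Sylow 2 K, centralizer ((P : Subgroup K) : Set K) ≤ P) {y n : X}
    (hy : y ∈ Phi T) (hnK : n ∈ K) (hn : n ∈ normalizer ((T : Subgroup X) : Set X)) : y * n = n * y := by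
  have hKn := h.normal
  obtain ⟨P, hP, hPsq, hPcard⟩ := h.exists_sylow
  have hyC := Phi_le T hy
  -- the commutator lies in `T ∩ K`
  have h1 : y * n * y⁻¹ * n⁻¹ ∈ (T : Subgroup X) := by
    have hK : y * n * y⁻¹ * n⁻¹ ∈ K := mul_mem (hKn.conj_mem n hnK y) (inv_mem hnK)
    have h2 : (⟨y * n * y⁻¹ * n⁻¹, hK⟩ : K) ∈ (P : Subgroup K) := by
      apply hsc
      rw [mem_centralizer_iff]
      intro x hx
      have hxT : (x : X) ∈ (T : Subgroup X) := by
        have hx' : x ∈ (T : Subgroup X).subgroupOf K := hP ▸ hx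
        exact mem_subgroupOf.1 hx'
      have hxn : n⁻¹ * x * n ∈ (T : Subgroup X) := by
        have := (mem_normalizer_iff.1 (inv_mem hn) (x : X)).1 hxT
        simpa using this
      have e1 : (x : X) * y = y * x := mem_centralizer_iff.1 hyC x hxT
      have e2 : n⁻¹ * x * n * y = y * (n⁻¹ * x * n) := mem_centralizer_iff.1 hyC _ hxn
      apply Subtype.ext
      change (x : X) * (y * n * y⁻¹ * n⁻¹) = y * n * y⁻¹ * n⁻¹ * x
      have e3 : y⁻¹ * (n⁻¹ * x * n) = (n⁻¹ * x * n) * y⁻¹ := by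
        rw [inv_mul_eq_iff_eq_mul, ← mul_assoc, ← e2, mul_inv_cancel_right]
      calc (x : X) * (y * n * y⁻¹ * n⁻¹) = (x * y) * n * y⁻¹ * n⁻¹ := by group
        _ = y * n * ((n⁻¹ * x * n) * y⁻¹) * n⁻¹ := by rw [e1]; group
        _ = y * n * (y⁻¹ * (n⁻¹ * x * n)) * n⁻¹ := by rw [e3]
        _ = y * n * y⁻¹ * n⁻¹ * x := by group
    rw [hP] at h2
    exact mem_subgroupOf.1 h2
  set v : X := y * n * y⁻¹ * n⁻¹ with hv
  have hyv : y * v = v * y := (mem_centralizer_iff.1 hyC v h1).symm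
  have hyn : y * n * y⁻¹ = v * n := by rw [hv]; group
  have hpow : ∀ j : ℕ, y ^ j * n * (y ^ j)⁻¹ = v ^ j * n := by
    intro j
    induction j with
    | zero => simp
    | succ j ih =>
      have hyvj : y * v ^ j * y⁻¹ = v ^ j := by
        have := (Commute.pow_right (hyv : Commute y v) j).eq
        rw [this, mul_inv_cancel_right]
      calc y ^ (j + 1) * n * (y ^ (j + 1))⁻¹ = y * (y ^ j * n * (y ^ j)⁻¹) * y⁻¹ := by
            rw [pow_succ']; group
        _ = y * (v ^ j * n) * y⁻¹ := by rw [ih]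
        _ = (y * v ^ j * y⁻¹) * (y * n * y⁻¹) := by group
        _ = v ^ (j + 1) * n := by rw [hyvj, hyn, ← mul_assoc, ← pow_succ]
  have hodd := orderOf_odd hy
  have h3 := hpow (orderOf y)
  rw [pow_orderOf_eq_one, one_mul, inv_one, mul_one] at h3
  have h4 : v ^ orderOf y = 1 := mul_eq_right.1 h3.symm
  obtain ⟨j, hj⟩ := Nat.not_even_iff_odd.1 fun h => hodd h.two_dvd
  have h5 : v = 1 := by
    rw [hj, pow_add, pow_mul, pow_two, h.sq v h1, one_pow, one_mul, pow_one] at h4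
    exact h4
  rw [h5, one_mul] at hyn
  exact mul_inv_eq_iff_eq_mul.1 hyn

/-- `Φ ∩ K Z = 1` -/
theorem eq_one_of_mem (h : TypeB T K) (hsc : ∀ P : Sylow 2 K, centralizer ((P : Subgroup K) : Set K) ≤ P) {y k : X}
    (hy : y ∈ Phi T) (hk : k ∈ K) {z : X} (hz : z ∈ pCore 2 X) (he : z * k = y) : y = 1 ∧ z = 1 ∧ k = 1 := by
  have hcz := h.central hz
  -- `k` centralizes `T`
  obtain ⟨P, hP, hPsq, hPcard⟩ := h.exists_sylow
  have h2 : k ∈ (T : Subgroup X) := by
    have h3 : (⟨k, hk⟩ : K) ∈ (P : Subgroup K) := by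
      apply hsc
      rw [mem_centralizer_iff]
      intro x hx
      have hxT : (x : X) ∈ (T : Subgroup X) := by
        have hx' : x ∈ (T : Subgroup X).subgroupOf K := hP ▸ hx
        exact mem_subgroupOf.1 hx'
      apply Subtype.ext
      change (x : X) * k = k * x
      have hkz : k = z⁻¹ * y := by rw [← he, inv_mul_cancel_left]
      have e1 : (x : X) * y = y * x := mem_centralizer_iff.1 (Phi_le T hy) x hxT
      have e2 : (x : X) * z⁻¹ = z⁻¹ * x := mem_center_iff.1 (inv_mem hcz) x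
      rw [hkz, ← mul_assoc, e2, mul_assoc, e1, mul_assoc]
    rw [hP] at h3
    exact mem_subgroupOf.1 h3
  have hyT : y ∈ (T : Subgroup X) := by
    rw [← he]
    exact mul_mem (Lib.Cores.pCore_le_sylow T hz) h2
  have hy1 : y = 1 := BalFun.eq_one_of_odd T.isPGroup' hyT (orderOf_odd hy)
  rw [hy1] at he
  have hzk : z = k⁻¹ := mul_eq_one_iff_eq_inv.1 he
  have hzK : z ∈ K := hzk ▸ inv_mem hk
  have hz1 : z = 1 := by
    rw [← mem_bot, ← AbStruct.inf_centralizer h.core h.comm h.comp]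
    refine ⟨hzK, mem_centralizer_iff.2 ?_⟩
    intro x _
    exact mem_center_iff.1 hcz x
  refine ⟨hy1, hz1, ?_⟩
  rw [hz1, one_mul] at he
  exact he

/-- `Φ` acts faithfully on `K` -/
theorem eq_one_of_commute (h : TypeB T K) {y : X} (hy : y ∈ Phi T) (hK : ∀ k ∈ K, k * y = y * k) : y = 1 := by
  have h1 : y ∈ centralizer (K : Set X) := mem_centralizer_iff.2 hK
  exact BalFun.eq_one_of_odd (Lib.Cores.pCore_isPGroup 2) (BalFun.centralizer_le h h1) (orderOf_odd hy)

/-- the group `E = K Φ` -/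
def E (T : Sylow 2 X) (K : Subgroup X) : Subgroup X := K ⊔ Phi T

theorem mem_E (h : TypeB T K) {x : X} : x ∈ E T K ↔ ∃ k ∈ K, ∃ y ∈ Phi T, x = k * y := by
  have hKn := h.normal
  constructor
  · intro hx
    obtain ⟨k, hk, y, hy, rfl⟩ := (mem_sup_of_normal_left (hs := hKn)).1 hx
    exact ⟨k, hk, y, hy, rfl⟩
  · rintro ⟨k, hk, y, hy, rfl⟩
    exact mul_mem (mem_sup_left hk) (mem_sup_right hy)

theorem E_normal (h : TypeB T K) (hW : WType K) : (E T K).Normal := by
  refine ⟨fun x hx g => ?_⟩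
  obtain ⟨z, hz, k, hk, y, hy, rfl⟩ := exists_factor' h hW g
  have hcz := h.central hz
  have he : k * y ∈ E T K := (mem_E h).2 ⟨k, hk, y, hy, rfl⟩
  have h1 : z * (k * y) * x * (z * (k * y))⁻¹ = (k * y) * x * (k * y)⁻¹ := by
    have e1 : z * (k * y * x * (k * y)⁻¹) = (k * y * x * (k * y)⁻¹) * z := (mem_center_iff.1 hcz _).symm
    calc z * (k * y) * x * (z * (k * y))⁻¹ = z * (k * y * x * (k * y)⁻¹) * z⁻¹ := by group
      _ = (k * y) * x * (k * y)⁻¹ := by rw [e1, mul_inv_cancel_right]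
  rw [h1]
  exact mul_mem (mul_mem he hx) (inv_mem he)

theorem inf_E (h : TypeB T K) (hsc : ∀ P : Sylow 2 K, centralizer ((P : Subgroup K) : Set K) ≤ P) :
    pCore 2 X ⊓ E T K = ⊥ := by
  rw [eq_bot_iff]
  rintro z ⟨hz, hzE⟩
  obtain ⟨k, hk, y, hy, he⟩ := (mem_E h).1 hzE
  have h1 : z * k⁻¹ = (k * y * k⁻¹) := by rw [he]
  -- `y = k⁻¹ z`
  have hcz := h.central hz
  have h2 : z * k⁻¹ = y := by
    have h3 : z * k⁻¹ = k⁻¹ * z := (mem_center_iff.1 hcz k⁻¹).symm
    rw [h3, he, inv_mul_cancel_left]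
  exact (eq_one_of_mem h hsc hy (inv_mem hk) hz h2).2.1

theorem sup_E (h : TypeB T K) (hW : WType K) : pCore 2 X ⊔ E T K = ⊤ := by
  rw [eq_top_iff]
  intro g _
  obtain ⟨z, hz, k, hk, y, hy, rfl⟩ := exists_factor' h hW g
  exact mul_mem (mem_sup_left hz) (mem_sup_right ((mem_E h).2 ⟨k, hk, y, hy, rfl⟩))

theorem card_E (h : TypeB T K) (hsc : ∀ P : Sylow 2 K, centralizer ((P : Subgroup K) : Set K) ≤ P) :
    Nat.card (E T K) = Nat.card K * Nat.card (Phi T) := by
  rw [← Nat.card_prod]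
  symm
  refine Nat.card_congr (Equiv.ofBijective (fun p : K × Phi T => (⟨(p.1 : X) * p.2,
    (mem_E h).2 ⟨p.1, p.1.2, p.2, p.2.2, rfl⟩⟩ : E T K)) ⟨?_, ?_⟩)
  · rintro ⟨k, y⟩ ⟨k', y'⟩ hh
    have h1 : (k : X) * y = k' * y' := congrArg Subtype.val hh
    have h2 : (1 : X) * ((k' : X)⁻¹ * k) = y' * (y : X)⁻¹ := by
      rw [one_mul, eq_mul_inv_iff_mul_eq, mul_assoc, h1, inv_mul_cancel_left]
    obtain ⟨h3, -, h4⟩ := eq_one_of_mem h hsc (mul_mem y'.2 (inv_mem y.2)) (mul_mem (inv_mem k'.2) k.2)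
      (one_mem _) h2
    have h5 : (k : X) = k' := (inv_mul_eq_one.1 h4).symm
    have h6 : (y' : X) = y := mul_inv_eq_one.1 h3
    exact Prod.ext (Subtype.ext h5) (Subtype.ext h6.symm)
  · rintro ⟨x, hx⟩
    obtain ⟨k, hk, y, hy, rfl⟩ := (mem_E h).1 hx
    exact ⟨(⟨k, hk⟩, ⟨y, hy⟩), rfl⟩

end Cfsg.Agent.Walter.FieldX
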