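import Mathlib
import Cfsg.Prelude.Def_Local
import Cfsg.Agent.Walter.FieldX
import Cfsg.Agent.Walter.FieldPSL
import Cfsg.Agent.LieRecognition.FieldSemilinear

/-!
# `Φ` acts by field automorphisms
-/

set_option autoImplicit false
set_option linter.unusedSectionVars false
set_option linter.unusedVariables false

namespace Cfsg.Agent.Walter.FieldY

open Subgroup Cfsg
open Cfsg.Agent.Walter.Types Cfsg.Agent.Walter.FieldX Cfsg.Agent.Walter.FieldPSL
open Cfsg.Agent.Walter.CentB (TypeB)
open Cfsg.Agent.ClassicalGeometry.AutPSL.Root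
open Cfsg.Agent.ClassicalGeometry.AutPSL.Auto

section Four

variable {F : Type} [Field F] [Fintype F]

/-- Every Sylow 2-subgroup of `PSL(2,q)`, `q ≡ 3, 5 mod 8`, is conjugate to `⟨i, j⟩`. -/
theorem exists_conj_sylow (h8 : Fintype.card F % 8 = 3 ∨ Fintype.card F % 8 = 5) {a b : F}
    (hab : a ^ 2 + b ^ 2 = -1)
    (Q : Sylow 2 (Matrix.ProjectiveSpecialLinearGroup (Fin 2) F)) :
    ∃ g : Matrix.ProjectiveSpecialLinearGroup (Fin 2) F,
      g⁻¹ * pr I * g ∈ (Q : Subgroup _) ∧ g⁻¹ * pr (J a b hab) * g ∈ (Q : Subgroup _) := by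
  have hf : Fact (Nat.Prime 2) := ⟨Nat.prime_two⟩
  have hi := pr_I_sq (F := F)
  have hj := pr_J_sq hab
  have hij := pr_IJ hab
  let W : Subgroup (Matrix.ProjectiveSpecialLinearGroup (Fin 2) F) :=
    zpowers (pr I) ⊔ zpowers (pr (J a b hab))
  have h1 : IsPGroup 2 (zpowers (pr (I : Matrix.SpecialLinearGroup (Fin 2) F))) := by
    intro x
    obtain ⟨n, hn⟩ := mem_zpowers_iff.1 x.2
    refine ⟨1, Subtype.ext ?_⟩
    change (x : Matrix.ProjectiveSpecialLinearGroup (Fin 2) F) ^ 2 ^ 1 = 1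
    rw [← hn, pow_one, ← zpow_natCast, ← zpow_mul, mul_comm, zpow_mul, zpow_natCast, pow_two, hi, one_zpow]
  have h2 : IsPGroup 2 (zpowers (pr (J a b hab))) := by
    intro x
    obtain ⟨n, hn⟩ := mem_zpowers_iff.1 x.2
    refine ⟨1, Subtype.ext ?_⟩
    change (x : Matrix.ProjectiveSpecialLinearGroup (Fin 2) F) ^ 2 ^ 1 = 1
    rw [← hn, pow_one, ← zpow_natCast, ← zpow_mul, mul_comm, zpow_mul, zpow_natCast, pow_two, hj, one_zpow]
  have hn : zpowers (pr (I : Matrix.SpecialLinearGroup (Fin 2) F)) ≤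
      normalizer (zpowers (pr (J a b hab)) : Set _) := by
    rw [zpowers_le]
    refine centralizer_le_normalizer _ ?_
    rw [mem_centralizer_iff]
    intro x hx
    obtain ⟨n, rfl⟩ := mem_zpowers_iff.1 hx
    exact ((show Commute (pr (J a b hab)) (pr I) from hij.symm).zpow_left n).eq
  have hW : IsPGroup 2 W := h1.to_sup_of_normal_right' h2 hn
  obtain ⟨P, hP⟩ := hW.exists_le_sylow
  obtain ⟨g, hg⟩ := MulAction.exists_smul_eq (Matrix.ProjectiveSpecialLinearGroup (Fin 2) F) P Q
  refine ⟨g⁻¹, ?_, ?_⟩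
  · rw [← hg, inv_inv]
    exact ⟨pr I, hP (mem_sup_left (mem_zpowers _)), rfl⟩
  · rw [← hg, inv_inv]
    exact ⟨pr (J a b hab), hP (mem_sup_right (mem_zpowers _)), rfl⟩

end Four

variable {X : Type*} [Group X] [Finite X] {T : Sylow 2 X} {K : Subgroup X}

/-- conjugation of `K` by the elements of `Φ`, on the model -/
structure Model (T : Sylow 2 X) (K : Subgroup X) (F : Type) [Field F] [Fintype F] where
  e : K ≃* Matrix.ProjectiveSpecialLinearGroup (Fin 2) F
  τ : Phi T →* (F ≃+* F)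
  inj : Function.Injective τ
  act : ∀ (y : Phi T) (k : X) (hk : k ∈ K) (h : (y : X) * k * (y : X)⁻¹ ∈ K),
    e ⟨(y : X) * k * (y : X)⁻¹, h⟩ = lift (fld (τ y)) (e ⟨k, hk⟩)

/-- **The model.** -/
theorem exists_model (h : TypeB T K) (hW : WType K) :
    ∃ (F : Type) (_ : Field F) (_ : Fintype F), (Fintype.card F % 8 = 3 ∨ Fintype.card F % 8 = 5) ∧
      5 ≤ Fintype.card F ∧ Nonempty (Model T K F) := by
  classical
  obtain ⟨P, hP, hPsq, hPcard⟩ := h.exists_sylow
  have hKn := h.normal
  obtain ⟨F, i1, i2, h8, h5, ⟨e0⟩⟩ := TypeSylow.isOddType_of_card_four hW P hPcard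
  refine ⟨F, i1, i2, h8, h5, ?_⟩
  have h2 : (2 : F) ≠ 0 := by
    refine (ClassicalGeometry.PSL2Basic.two_ne_zero_iff_odd F).2 ?_
    rw [Nat.odd_iff]; omega
  obtain ⟨a₀, b₀, hab⟩ := exists_sq_add_sq F
  have hfix : ∀ σ : F ≃+* F, σ (a₀ : F) = a₀ ∧ σ (b₀ : F) = b₀ := fun σ =>
    ⟨map_natCast σ a₀, map_natCast σ b₀⟩
  -- choose the isomorphism
  let Q : Sylow 2 (Matrix.ProjectiveSpecialLinearGroup (Fin 2) F) := P.mapSurjective (f := e0.toMonoidHom) e0.surjective
  have hQ : (Q : Subgroup _) = (P : Subgroup K).map e0.toMonoidHom := Sylow.coe_mapSurjective _ P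
  obtain ⟨g, hgI, hgJ⟩ := exists_conj_sylow h8 hab Q
  let e : K ≃* Matrix.ProjectiveSpecialLinearGroup (Fin 2) F := e0.trans (MulAut.conj g)
  have heT : ∀ x : Matrix.ProjectiveSpecialLinearGroup (Fin 2) F, g⁻¹ * x * g ∈ (Q : Subgroup _) →
      ((e.symm x : K) : X) ∈ (T : Subgroup X) := by
    intro x hx
    rw [hQ] at hx
    obtain ⟨k, hk, hkx⟩ := hx
    have h3 : e.symm x = k := by
      rw [MulEquiv.symm_apply_eq]
      change x = g * e0 k * g⁻¹
      have h4 : e0 k = g⁻¹ * x * g := hkx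
      rw [h4]; group
    rw [h3]
    rw [hP] at hk
    exact mem_subgroupOf.1 hk
  -- conjugation
  have hconj : ∀ (y : Phi T) (k : K), (y : X) * k * (y : X)⁻¹ ∈ K := fun y k => hKn.conj_mem k k.2 y
  let c : Phi T →* MulAut (Matrix.ProjectiveSpecialLinearGroup (Fin 2) F) :=
    { toFun := fun y =>
        { toFun := fun x => e ⟨(y : X) * (e.symm x : K) * (y : X)⁻¹, hconj y _⟩
          invFun := fun x => e ⟨((y⁻¹ : Phi T) : X) * (e.symm x : K) * ((y⁻¹ : Phi T) : X)⁻¹, hconj y⁻¹ _⟩
          left_inv := by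
            intro x
            simp only [MulEquiv.symm_apply_apply]
            rw [← MulEquiv.eq_symm_apply]
            apply Subtype.ext
            change ((y⁻¹ : Phi T) : X) * ((y : X) * (e.symm x : K) * (y : X)⁻¹) * ((y⁻¹ : Phi T) : X)⁻¹ = _
            rw [Subgroup.coe_inv]
            group
          right_inv := by
            intro x
            simp only [MulEquiv.symm_apply_apply]
            rw [← MulEquiv.eq_symm_apply]
            apply Subtype.ext
            change (y : X) * (((y⁻¹ : Phi T) : X) * (e.symm x : K) * ((y⁻¹ : Phi T) : X)⁻¹) * (y : X)⁻¹ = _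
            rw [Subgroup.coe_inv]
            group
          map_mul' := by
            intro x x'
            rw [← map_mul]
            congr 1
            apply Subtype.ext
            change (y : X) * ((e.symm (x * x') : K) : X) * (y : X)⁻¹ =
              ((y : X) * (e.symm x : K) * (y : X)⁻¹) * ((y : X) * (e.symm x' : K) * (y : X)⁻¹)
            rw [map_mul, Subgroup.coe_mul]
            group }
      map_one' := by
        apply MulEquiv.ext
        intro x
        change e ⟨((1 : Phi T) : X) * (e.symm x : K) * ((1 : Phi T) : X)⁻¹, _⟩ = x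
        rw [← MulEquiv.eq_symm_apply]
        apply Subtype.ext
        change ((1 : Phi T) : X) * (e.symm x : K) * ((1 : Phi T) : X)⁻¹ = _
        rw [Subgroup.coe_one]
        group
      map_mul' := by
        intro y y'
        apply MulEquiv.ext
        intro x
        change e ⟨((y * y' : Phi T) : X) * (e.symm x : K) * ((y * y' : Phi T) : X)⁻¹, _⟩ =
          e ⟨(y : X) * (e.symm (e ⟨(y' : X) * (e.symm x : K) * (y' : X)⁻¹, _⟩) : K) * (y : X)⁻¹, _⟩
        congr 1
        apply Subtype.ext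
        simp only [MulEquiv.symm_apply_apply]
        rw [Subgroup.coe_mul]
        group }
  have hc : ∀ (y : Phi T) (k : K), e ⟨(y : X) * k * (y : X)⁻¹, hconj y k⟩ = c y (e k) := by
    intro y k
    change _ = e ⟨(y : X) * (e.symm (e k) : K) * (y : X)⁻¹, _⟩
    congr 2
    rw [MulEquiv.symm_apply_apply]
  have hcfix : ∀ (y : Phi T) (x : Matrix.ProjectiveSpecialLinearGroup (Fin 2) F),
      ((e.symm x : K) : X) ∈ (T : Subgroup X) → c y x = x := by
    intro y x hx
    have h3 := hc y (e.symm x)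
    rw [MulEquiv.apply_symm_apply] at h3
    rw [← h3, ← MulEquiv.eq_symm_apply]
    apply Subtype.ext
    change (y : X) * (e.symm x : K) * (y : X)⁻¹ = (e.symm x : K)
    have h4 := mem_centralizer_iff.1 (Phi_le T y.2) _ hx
    rw [← h4, mul_inv_cancel_right]
  have hex : ∀ y : Phi T, ∃ σ : F ≃+* F, c y = lift (fld σ) := by
    intro y
    refine exists_fld h2 hab hfix (hcfix y _ (heT _ hgI)) (hcfix y _ (heT _ hgJ)) (m := orderOf (y : X)) ?_ ?_
    · exact Nat.not_even_iff_odd.1 fun h => orderOf_odd y.2 h.two_dvd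
    · rw [← map_pow]
      have h3 : y ^ orderOf (y : X) = 1 := by
        apply Subtype.ext
        rw [Subgroup.coe_pow, pow_orderOf_eq_one, Subgroup.coe_one]
      rw [h3, map_one]
  choose τ hτ using hex
  refine ⟨⟨e, ⟨⟨τ, ?_⟩, ?_⟩, ?_, ?_⟩⟩
  · apply lift_fld_injective
    rw [← hτ, map_one, map_one, map_one]
  · intro y y'
    apply lift_fld_injective
    change lift (fld (τ (y * y'))) = lift (fld (τ y * τ y'))
    rw [← hτ, map_mul c, map_mul fld, map_mul lift, ← hτ, ← hτ]
  · rw [injective_iff_map_eq_one]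
    intro y hy
    have h3 : c y = 1 := by
      rw [hτ]
      have h4 : τ y = 1 := hy
      rw [h4, map_one, map_one]
    apply Subtype.ext
    refine eq_one_of_commute h y.2 ?_
    intro k hk
    have h4 := hc y ⟨k, hk⟩
    rw [h3, MulAut.one_apply] at h4
    have h5 : (y : X) * k * (y : X)⁻¹ = k := congrArg Subtype.val (e.injective h4)
    exact (mul_inv_eq_iff_eq_mul.1 h5).symm
  · intro y k hk hh
    exact (hc y ⟨k, hk⟩).trans (by rw [hτ]; rfl)

section Conseq

variable {F : Type} [Field F] [Fintype F]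

theorem Model.orderOf_τ (M : Model T K F) (y : Phi T) : orderOf (M.τ y) = orderOf y :=
  orderOf_injective M.τ M.inj y

theorem Model.card_eq (M : Model T K F) (y : Phi T) :
    Nat.card F = Nat.card (Fix (M.τ y)) ^ orderOf y := by
  rw [← M.orderOf_τ y]
  exact card_eq_Fix_pow _

/-- `Φ` is cyclic -/
theorem Model.isCyclic (M : Model T K F) : IsCyclic (Phi T) := by
  have := LieRecognition.FieldSemilinear.isCyclic_ringAut F
  exact isCyclic_of_injective M.τ M.inj

theorem Model.comm (M : Model T K F) (y y' : X) (hy : y ∈ Phi T) (hy' : y' ∈ Phi T) : y * y' = y' * y := by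
  have := M.isCyclic
  exact congrArg Subtype.val ((IsCyclic.commGroup (α := Phi T)).mul_comm ⟨y, hy⟩ ⟨y', hy'⟩)

theorem Model.commute_iff (hK : K.Normal) (M : Model T K F) (y : Phi T) {k : X} (hk : k ∈ K) :
    k * y = y * k ↔ lift (fld (M.τ y)) (M.e ⟨k, hk⟩) = M.e ⟨k, hk⟩ := by
  rw [← M.act y k hk (hK.conj_mem k hk y), M.e.injective.eq_iff]
  constructor
  · intro h
    apply Subtype.ext
    change (y : X) * k * (y : X)⁻¹ = k
    rw [← h, mul_inv_cancel_right]
  · intro h
    have h1 : (y : X) * k * (y : X)⁻¹ = k := congrArg Subtype.val h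
    exact (mul_inv_eq_iff_eq_mul.1 h1).symm

theorem Model.odd (M : Model T K F) (y : Phi T) : Odd (orderOf y) ∧ M.τ y ^ orderOf y = 1 := by
  constructor
  · have h1 := orderOf_odd y.2
    rw [Subgroup.orderOf_coe] at h1
    exact Nat.not_even_iff_odd.1 fun h => h1 h.two_dvd
  · rw [← map_pow, pow_orderOf_eq_one, map_one]

/-- `C_K(y)` corresponds to `PSL(2, F^y)` -/
theorem Model.mem_range_iff (hK : K.Normal) (h2 : (2 : F) ≠ 0) (M : Model T K F) (y : Phi T) {k : X} (hk : k ∈ K) :
    k * y = y * k ↔ M.e ⟨k, hk⟩ ∈ (pincl (Fix (M.τ y))).range := by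
  rw [M.commute_iff hK y hk, mem_range_pincl_iff h2 (M.odd y).1 (M.odd y).2]

theorem Model.exists_equiv (hK : K.Normal) (h2 : (2 : F) ≠ 0) (M : Model T K F) (y : Phi T) :
    Nonempty ((K ⊓ centralizer ({(y : X)} : Set X) : Subgroup X) ≃*
      Matrix.ProjectiveSpecialLinearGroup (Fin 2) (Fix (M.τ y))) := by
  let A : Subgroup K := (centralizer ({(y : X)} : Set X)).subgroupOf K
  have hA : A.map M.e.toMonoidHom = (pincl (Fix (M.τ y))).range := by
    ext x
    constructor
    · rintro ⟨k, hk, rfl⟩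
      refine (M.mem_range_iff hK h2 y k.2).1 ?_
      exact mem_centralizer_singleton_iff.1 (mem_subgroupOf.1 hk)
    · intro hx
      refine ⟨M.e.symm x, ?_, M.e.apply_symm_apply x⟩
      refine mem_subgroupOf.2 (mem_centralizer_singleton_iff.2 ?_)
      rw [M.mem_range_iff hK h2 y (M.e.symm x).2]
      have h1 : M.e ⟨((M.e.symm x : K) : X), (M.e.symm x).2⟩ = x := M.e.apply_symm_apply x
      rw [h1]
      exact hx
  have e1 : (K ⊓ centralizer ({(y : X)} : Set X) : Subgroup X) ≃* A := by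
    have h1 : A.map K.subtype = K ⊓ centralizer ({(y : X)} : Set X) := by
      rw [inf_comm]; exact subgroupOf_map_subtype _ _
    exact ((A.equivMapOfInjective K.subtype K.subtype_injective).trans (MulEquiv.subgroupCongr h1)).symm
  have e2 : A ≃* (pincl (Fix (M.τ y))).range :=
    (A.equivMapOfInjective M.e.toMonoidHom M.e.injective).trans (MulEquiv.subgroupCongr hA)
  have e3 : Matrix.ProjectiveSpecialLinearGroup (Fin 2) (Fix (M.τ y)) ≃* (pincl (Fix (M.τ y))).range :=
    MonoidHom.ofInjective (pincl_injective _)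
  exact ⟨(e1.trans e2).trans e3.symm⟩

/-- **Galois correspondence.** -/
theorem Model.mem_zpowers (hK : K.Normal) (h2 : (2 : F) ≠ 0) (M : Model T K F) (y y' : Phi T)
    (h : ∀ k ∈ K, k * y = y * k → k * y' = y' * k) : y' ∈ zpowers y := by
  have hfix : ∀ s : F, s ∈ Fix (M.τ y) → M.τ y' s = s := by
    intro s hs
    let u : Matrix.SpecialLinearGroup (Fin 2) F :=
      Matrix.SpecialLinearGroup.transvection (zero_ne_one : (0 : Fin 2) ≠ 1) s
    have hu : lift (fld (M.τ y)) (pr u) = pr u := by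
      rw [lift_pr, fld_transvection, mem_Fix.1 hs]
    have h3 : M.e ⟨((M.e.symm (pr u) : K) : X), (M.e.symm (pr u)).2⟩ = pr u := M.e.apply_symm_apply _
    have h4 := h ((M.e.symm (pr u) : K) : X) (M.e.symm (pr u)).2 (by
      rw [M.commute_iff hK y (M.e.symm (pr u)).2, h3]; exact hu)
    rw [M.commute_iff hK y' (M.e.symm (pr u)).2, h3, lift_pr, fld_transvection] at h4
    exact ClassicalGeometry.AutPSL.Images.pr_transvection_injective _ h4
  have hcyc := M.isCyclic
  -- a generator of `⟨y, y'⟩`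
  obtain ⟨d, hd⟩ := (Subgroup.isCyclic_iff_exists_zpowers_eq_top (zpowers y ⊔ zpowers y')).1 inferInstance
  have hyd : y ∈ zpowers d := by rw [hd]; exact mem_sup_left (Subgroup.mem_zpowers y)
  have hyd' : y' ∈ zpowers d := by rw [hd]; exact mem_sup_right (Subgroup.mem_zpowers y')
  have hdy : d ∈ zpowers y ⊔ zpowers y' := by rw [← hd]; exact Subgroup.mem_zpowers d
  have hFix : Fix (M.τ d) = Fix (M.τ y) := by
    apply le_antisymm
    · intro s hs
      rw [mem_Fix] at hs ⊢
      obtain ⟨n, hn⟩ := mem_zpowers_iff.1 hyd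
      rw [← hn, map_zpow]
      have h1 : M.τ d ∈ MulAction.stabilizer (F ≃+* F) s := hs
      exact (MulAction.stabilizer (F ≃+* F) s).zpow_mem h1 n
    · intro s hs
      rw [mem_Fix]
      have h1 : zpowers y ⊔ zpowers y' ≤ (MulAction.stabilizer (F ≃+* F) s).comap M.τ := by
        rw [sup_le_iff, zpowers_le, zpowers_le]
        exact ⟨mem_Fix.1 hs, hfix s hs⟩
      exact h1 hdy
  have h5 := M.card_eq d
  have h6 := M.card_eq y
  rw [hFix, h6] at h5
  have h7 : 1 < Nat.card (Fix (M.τ y)) := Finite.one_lt_card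
  have h8 : orderOf y = orderOf d := Nat.pow_right_injective h7 h5
  have h9 : zpowers y = zpowers d := by
    refine Subgroup.eq_of_le_of_card_ge (zpowers_le.2 hyd) ?_
    rw [Nat.card_zpowers, Nat.card_zpowers, h8]
  rw [h9]
  exact hyd'

/-- the fixed field has order `3` or `5` modulo `8` -/
theorem Model.card_Fix_mod (M : Model T K F) (h8 : Fintype.card F % 8 = 3 ∨ Fintype.card F % 8 = 5) (y : Phi T) :
    Nat.card (Fix (M.τ y)) % 8 = 3 ∨ Nat.card (Fix (M.τ y)) % 8 = 5 := by
  have h1 := M.card_eq y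
  rw [Nat.card_eq_fintype_card] at h1
  obtain ⟨j, hj⟩ := (M.odd y).1
  rw [hj] at h1
  set q := Nat.card (Fix (M.τ y)) with hq
  have h2 : q % 2 = 1 := by
    by_contra hne
    have h3 : 2 ∣ q := Nat.dvd_of_mod_eq_zero (by omega)
    have h4 : 2 ∣ Fintype.card F := by rw [h1]; exact dvd_pow h3 (by omega)
    omega
  have h3 : q ^ 2 % 8 = 1 := by
    have h4 : q % 8 = 1 ∨ q % 8 = 3 ∨ q % 8 = 5 ∨ q % 8 = 7 := by omega
    rcases h4 with h | h | h | h <;> rw [Nat.pow_mod, h]
  have h4 : Fintype.card F % 8 = q % 8 := by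
    rw [h1, pow_add, pow_mul, pow_one, Nat.mul_mod, Nat.pow_mod, h3, one_pow]
    simp
  rw [← h4]
  exact h8

/-- membership in `Φ` -/
theorem mem_Phi_iff (hc : ∀ a ∈ (T : Subgroup X), ∀ b ∈ (T : Subgroup X), a * b = b * a) {y : X} :
    y ∈ Phi T ↔ y ∈ centralizer ((T : Subgroup X) : Set X) ∧ ¬ 2 ∣ orderOf y := by
  constructor
  · intro hy
    exact ⟨Phi_le T hy, orderOf_odd hy⟩
  · rintro ⟨hy, hodd⟩
    obtain ⟨s, hs, y', hy', rfl⟩ := exists_mul_of_centralizer hc hy
    have hsy : Commute s y' := mem_centralizer_iff.1 (Phi_le T hy') s hs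
    have h1 : (s * y') ^ (orderOf y' * orderOf (s * y')) = 1 := by
      rw [mul_comm, pow_mul, pow_orderOf_eq_one, one_pow]
    have h2 : s ^ (orderOf y' * orderOf (s * y')) = 1 := by
      rw [hsy.mul_pow, pow_mul y', pow_orderOf_eq_one, one_pow, mul_one] at h1
      exact h1
    have h3 : orderOf s ∣ orderOf y' * orderOf (s * y') := orderOf_dvd_of_pow_eq_one h2
    have h4 : ¬ 2 ∣ orderOf s := by
      intro h5
      rcases (Nat.Prime.dvd_mul Nat.prime_two).1 (h5.trans h3) with h6 | h6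
      · exact orderOf_odd hy' h6
      · exact hodd h6
    rw [BalFun.eq_one_of_odd T.isPGroup' hs h4, one_mul]
    exact hy'

/-- `Φ` is centralised by `N(T)`. -/
theorem commute_normalizer (h : TypeB T K) (hW : WType K) (M : Model T K F) {y n : X} (hy : y ∈ Phi T)
    (hn : n ∈ normalizer ((T : Subgroup X) : Set X)) : y * n = n * y := by
  obtain ⟨m, hm, c, hc, rfl⟩ := exists_normalizer h hW hn
  obtain ⟨s, hs, y', hy', rfl⟩ := exists_mul_of_centralizer h.comm hc
  have h1 : Commute y m := commute_Phi h (PSLFacts.WType.selfc hW) hy hm.1 hm.2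
  have h2 : Commute y s := (mem_centralizer_iff.1 (Phi_le T hy) s hs).symm
  have h3 : Commute y y' := M.comm y y' hy hy'
  exact (h1.mul_right (h2.mul_right h3)).eq

end Conseq

end Cfsg.Agent.Walter.FieldY
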