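import Mathlib
import Cfsg.Prelude.Def_Local
import Cfsg.Agent.Walter.FieldY
import Cfsg.Agent.S0058
import Cfsg.Agent.Walter.TypeFacts

/-!
# The group `Φ` in `G`

`G` has elementary abelian Sylow 2-subgroup `S` of order 8, all involutions conjugate, involution centralizers are
core-free of type B. `Φ = O(C_G(S))` is cyclic and central in `N_G(S)`, `N_G(D) = C_G(D)` for all `D ≤ Φ` and
`O(C_G(y)) = ⟨y⟩` for all `y ∈ Φ`.
-/

set_option autoImplicit false
set_option linter.unusedSectionVars false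
set_option linter.unusedVariables false

namespace Cfsg.Agent.Walter.FieldG

open Subgroup Cfsg
open Cfsg.Agent.SignalizersComponents Cfsg.Agent.SignalizersComponents.Components
open Cfsg.Agent.Walter.Types Cfsg.Agent.Walter.BalLocal Cfsg.Agent.Walter.OddCoreIn Cfsg.Agent.Walter.Cover
open Cfsg.Agent.Walter.CentB (TypeB)
open Cfsg.Agent.Walter.FieldX Cfsg.Agent.Walter.FieldY Cfsg.Agent.Walter.FieldPSL
open Cfsg.Agent.Walter.Setup (Data)

universe u

variable {G : Type u} [Group G] [Finite G] {S : Sylow 2 G} {t : G}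

theorem pPrimeCore_eq_bot (hcore : centralizerPPrimeCore 2 t = ⊥) : pPrimeCore 2 (C t) = ⊥ :=
  (Subgroup.map_eq_bot_iff_of_injective _ (C t).subtype_injective).1 hcore

theorem sq_subtype {P : Subgroup G} (hsq : ∀ a ∈ (S : Subgroup G), a * a = 1) (hP : (S : Subgroup G) ≤ P) :
    ∀ a ∈ ((S.subtype hP : Sylow 2 P) : Subgroup P), a * a = 1 := by
  intro a ha
  rw [Sylow.coe_subtype, mem_subgroupOf] at ha
  exact Subtype.ext (hsq a ha)

theorem comm_subtype {P : Subgroup G} (hc : ∀ a ∈ (S : Subgroup G), ∀ b ∈ (S : Subgroup G), a * b = b * a)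
    (hP : (S : Subgroup G) ≤ P) :
    ∀ a ∈ ((S.subtype hP : Sylow 2 P) : Subgroup P), ∀ b ∈ ((S.subtype hP : Sylow 2 P) : Subgroup P),
      a * b = b * a := by
  intro a ha b hb
  rw [Sylow.coe_subtype, mem_subgroupOf] at ha hb
  exact Subtype.ext (hc a ha b hb)

theorem card_subtype {P : Subgroup G} (hP : (S : Subgroup G) ≤ P) :
    Nat.card ((S.subtype hP : Sylow 2 P) : Subgroup P) = Nat.card (S : Subgroup G) := by
  rw [Sylow.coe_subtype]
  exact Nat.card_congr (subgroupOfEquivOfLe hP).toEquiv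

/-- type B for the centralizer itself -/
theorem exists_typeB (h : Data S t) (hcore : centralizerPPrimeCore 2 t = ⊥) (hns : ¬ Group.IsSolvable (C t))
    (hOS : OddSolvable.{u}) (hBT : BenderThm.{u}) :
    ∃ K : Subgroup (C t), TypeB (S.subtype (h.le_centralizer h.mem)) K := by
  have hf : Fact (Nat.Prime 2) := ⟨Nat.prime_two⟩
  have hO := pPrimeCore_eq_bot hcore
  have hSC := h.le_centralizer h.mem
  set T : Sylow 2 (C t) := S.subtype hSC with hTdef
  have hT : ∀ a ∈ (T : Subgroup (C t)), ∀ b ∈ (T : Subgroup (C t)), a * b = b * a := comm_subtype h.comm hSC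
  have hTsq : ∀ a ∈ (T : Subgroup (C t)), a * a = 1 := sq_subtype h.sq hSC
  have hT8 : Nat.card (T : Subgroup (C t)) = 8 := by rw [hTdef, card_subtype, h.card]
  -- `t` lies in `O_2`
  have htcen : (⟨t, self_mem_C t⟩ : C t) ∈ center (C t) := by
    rw [mem_center_iff]
    intro g
    exact Subtype.ext (mem_C.1 g.2)
  have ht2 : orderOf (⟨t, self_mem_C t⟩ : C t) = 2 := by
    rw [Subgroup.orderOf_mk]; exact h.order_two h.mem h.ne
  have hzn : (zpowers (⟨t, self_mem_C t⟩ : C t)).Normal := by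
    refine ⟨fun x hx g => ?_⟩
    obtain ⟨n, rfl⟩ := mem_zpowers_iff.1 hx
    have h1 : g * (⟨t, self_mem_C t⟩ : C t) ^ n * g⁻¹ = (⟨t, self_mem_C t⟩ : C t) ^ n := by
      rw [mem_center_iff.1 (zpow_mem htcen n) g, mul_inv_cancel_right]
    rw [h1]; exact hx
  have hzO : zpowers (⟨t, self_mem_C t⟩ : C t) ≤ pCore 2 (C t) :=
    Lib.Cores.le_pCore hzn (IsPGroup.of_card (n := 1) (by rw [Nat.card_zpowers, ht2, pow_one]))
  rcases AbTypes.cases_of_card_eight hO hT hT8 with ⟨hA, -⟩ | ⟨K, hK, hKu, hlay, hKn, hcase⟩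
  · exfalso
    apply hns
    have : (pCore 2 (C t)).Normal := Lib.Cores.pCore_normal 2
    refine isSolvable_of_normal (pCore 2 (C t)) ?_ (hOS _ ?_)
    · refine Group.isSolvable_of_comm ?_
      intro a b
      have ha : (a : C t) ∈ (T : Subgroup (C t)) := hA ▸ a.2
      have hb : (b : C t) ∈ (T : Subgroup (C t)) := hA ▸ b.2
      exact Subtype.ext (hT a ha b hb)
    · rw [← index_eq_card, hA]; exact T.not_dvd_index
  · rcases hcase with ⟨h4, hp2, -, -⟩ | ⟨-, hp1⟩
    · refine ⟨K, hO, hT, hTsq, hK, hlay, h4, ?_, hBT K (AbStruct.isSimpleGroup hO hT hK) (exists_noncomm hK)⟩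
      have h3 : pCore 2 (C t) = zpowers (⟨t, self_mem_C t⟩ : C t) := by
        symm
        refine Subgroup.eq_of_le_of_card_ge hzO ?_
        rw [hp2, Nat.card_zpowers, ht2]
      rw [h3, zpowers_le]
      exact htcen
    · exfalso
      rw [hp1, le_bot_iff, zpowers_eq_bot] at hzO
      rw [hzO, orderOf_one] at ht2
      norm_num at ht2

/-- `O_2(C(t)) = ⟨t⟩` -/
theorem pCore_eq (h : Data S t) {K : Subgroup (C t)} (hK : TypeB (S.subtype (h.le_centralizer h.mem)) K) :
    pCore 2 (C t) = zpowers (⟨t, self_mem_C t⟩ : C t) := by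
  have hf : Fact (Nat.Prime 2) := ⟨Nat.prime_two⟩
  have htcen : (⟨t, self_mem_C t⟩ : C t) ∈ center (C t) := by
    rw [mem_center_iff]
    intro g
    exact Subtype.ext (mem_C.1 g.2)
  have ht2 : orderOf (⟨t, self_mem_C t⟩ : C t) = 2 := by
    rw [Subgroup.orderOf_mk]; exact h.order_two h.mem h.ne
  have hzn : (zpowers (⟨t, self_mem_C t⟩ : C t)).Normal := by
    refine ⟨fun x hx g => ?_⟩
    obtain ⟨n, rfl⟩ := mem_zpowers_iff.1 hx
    have h1 : g * (⟨t, self_mem_C t⟩ : C t) ^ n * g⁻¹ = (⟨t, self_mem_C t⟩ : C t) ^ n := by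
      rw [mem_center_iff.1 (zpow_mem htcen n) g, mul_inv_cancel_right]
    rw [h1]; exact hx
  have hzO : zpowers (⟨t, self_mem_C t⟩ : C t) ≤ pCore 2 (C t) :=
    Lib.Cores.le_pCore hzn (IsPGroup.of_card (n := 1) (by rw [Nat.card_zpowers, ht2, pow_one]))
  refine BalFun.pCore_eq_zpowers hK ?_ (hzO (mem_zpowers _)) ?_
  · rw [card_subtype, h.card]
  · intro h1
    rw [h1, orderOf_one] at ht2
    norm_num at ht2

/-- The hypotheses of step (5). -/
structure Set5 (S : Sylow 2 G) : Prop where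
  ne : ∃ t ∈ (S : Subgroup G), t ≠ 1
  data : ∀ t ∈ (S : Subgroup G), t ≠ 1 → Data S t
  core : ∀ t ∈ (S : Subgroup G), t ≠ 1 → centralizerPPrimeCore 2 t = ⊥
  typeB : ∀ t (ht : t ∈ (S : Subgroup G)) (ht1 : t ≠ 1), ∃ K : Subgroup (C t),
    TypeB (S.subtype ((data t ht ht1).le_centralizer ht)) K ∧ WType K

theorem set5 [IsSimpleGroup G] (hna : ∃ a b : G, a * b ≠ b * a) (hOS : OddSolvable.{u}) (hBT : BenderThm.{u})
    (hind : TypeSylow.Ind.{u} (Nat.card G)) (hdata : ∀ t ∈ (S : Subgroup G), t ≠ 1 → Data S t)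
    (hB : BalFun.AllB S) (hcore : ∀ t ∈ (S : Subgroup G), t ≠ 1 → centralizerPPrimeCore 2 t = ⊥) : Set5 S where
  ne := by
    refine (bot_or_exists_ne_one (S : Subgroup G)).resolve_left ?_
    intro h1
    have h2 := S.not_dvd_index
    rw [h1, index_bot] at h2
    have h3 := hOS G h2
    obtain ⟨x, y, hxy⟩ := hna
    exact hxy ((IsSimpleGroup.comm_iff_isSolvable (G := G)).2 h3 x y)
  data := hdata
  core := hcore
  typeB := by
    intro t ht ht1
    have h := hdata t ht ht1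
    obtain ⟨T, K', hT, hK'⟩ := hB t ht ht1
    obtain ⟨K, hK⟩ := exists_typeB h (hcore t ht ht1) (BalFun.not_isSolvable hK') hOS hBT
    refine ⟨K, hK, ?_⟩
    refine TypeSylow.wType_of_isComponent hind (pPrimeCore_eq_bot (hcore t ht ht1)) hK.comm ?_ hK.comp
    refine lt_of_le_of_ne (Nat.le_of_dvd Nat.card_pos (card_subgroup_dvd_card (C t))) ?_
    intro h1
    exact BalFun.C_ne hna ht1 ((card_eq_iff_eq_top (C t)).1 h1)

/-- the group `Φ` -/
def PhiG (S : Sylow 2 G) : Subgroup G := Phi S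

theorem PhiG_le (S : Sylow 2 G) : PhiG S ≤ centralizer ((S : Subgroup G) : Set G) := Phi_le S

theorem PhiG_odd (S : Sylow 2 G) : ¬ 2 ∣ Nat.card (PhiG S) := Phi_odd S

theorem mem_PhiG (hc : ∀ a ∈ (S : Subgroup G), ∀ b ∈ (S : Subgroup G), a * b = b * a) {y : G} :
    y ∈ PhiG S ↔ y ∈ centralizer ((S : Subgroup G) : Set G) ∧ ¬ 2 ∣ orderOf y := mem_Phi_iff hc

/-- `Φ` in `C(t)` -/
theorem mem_Phi_subtype (h : Data S t) {y : G} (hy : y ∈ C t) :
    (⟨y, hy⟩ : C t) ∈ Phi (S.subtype (h.le_centralizer h.mem)) ↔ y ∈ PhiG S := by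
  rw [mem_Phi_iff (comm_subtype h.comm _), mem_PhiG h.comm, Subgroup.orderOf_mk]
  refine and_congr_left fun _ => ?_
  rw [mem_centralizer_iff, mem_centralizer_iff]
  constructor
  · intro h1 s hs
    have h2 := h1 ⟨s, h.le_centralizer h.mem hs⟩ (by
      rw [Sylow.coe_subtype]; exact mem_subgroupOf.2 hs)
    exact congrArg Subtype.val h2
  · intro h1 s hs
    rw [Sylow.coe_subtype] at hs
    exact Subtype.ext (h1 s (mem_subgroupOf.1 hs))

theorem PhiG_le_C (h : Data S t) : PhiG S ≤ C t := by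
  intro y hy
  rw [mem_C]
  exact (mem_centralizer_iff.1 (PhiG_le S hy) t h.mem).symm

/-- the element of `Phi T` -/
def toPhi (h : Data S t) (y : G) (hy : y ∈ PhiG S) : Phi (S.subtype (h.le_centralizer h.mem)) :=
  ⟨⟨y, PhiG_le_C h hy⟩, (mem_Phi_subtype h _).2 hy⟩

theorem orderOf_toPhi (h : Data S t) (y : G) (hy : y ∈ PhiG S) : orderOf (toPhi h y hy) = orderOf y := by
  rw [toPhi, Subgroup.orderOf_mk, Subgroup.orderOf_mk]

theorem card_PhiG (h : Data S t) : Nat.card (Phi (S.subtype (h.le_centralizer h.mem))) = Nat.card (PhiG S) := by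
  refine Nat.card_congr ⟨fun y => ⟨((y : C t) : G), (mem_Phi_subtype h y.1.2).1 y.2⟩,
    fun y => toPhi h y y.2, fun _ => rfl, fun _ => rfl⟩

section

variable (H5 : Set5 S)

include H5

/-- `Φ` is centralised by `N(S) ∩ C(t)` -/
theorem commute_N_C {t y n : G} (ht : t ∈ (S : Subgroup G)) (ht1 : t ≠ 1) (hy : y ∈ PhiG S)
    (hn : n ∈ normalizer ((S : Subgroup G) : Set G)) (hnt : n ∈ C t) : y * n = n * y := by
  have h := H5.data t ht ht1
  obtain ⟨K, hK, hW⟩ := H5.typeB t ht ht1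
  obtain ⟨F, i1, i2, h8, h5, ⟨M⟩⟩ := exists_model hK hW
  have h1 := commute_normalizer hK hW M (y := ⟨y, PhiG_le_C h hy⟩) (n := ⟨n, hnt⟩)
    ((mem_Phi_subtype h _).2 hy) (by
      rw [mem_normalizer_iff]
      intro s
      rw [Sylow.coe_subtype, mem_subgroupOf, mem_subgroupOf]
      exact mem_normalizer_iff.1 hn s)
  exact congrArg Subtype.val h1

/-- some element of `N(S) ∩ C(t)` moves an element of `S` -/
theorem exists_move {t : G} (ht : t ∈ (S : Subgroup G)) (ht1 : t ≠ 1) :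
    ∃ n ∈ normalizer ((S : Subgroup G) : Set G), n ∈ C t ∧ ∃ s ∈ (S : Subgroup G), s ≠ 1 ∧ n * s * n⁻¹ ≠ s := by
  have h := H5.data t ht ht1
  obtain ⟨K, hK, hW⟩ := H5.typeB t ht ht1
  obtain ⟨P, hP, hPsq, hPcard⟩ := hK.exists_sylow
  have hs := hK.simple
  obtain ⟨v, hv, hv1⟩ : ∃ v ∈ (P : Subgroup K), v ≠ 1 := by
    refine (bot_or_exists_ne_one (P : Subgroup K)).resolve_left ?_
    intro h1
    rw [h1, card_bot] at hPcard
    norm_num at hPcard
  have hf : Fact (Nat.Prime 2) := ⟨Nat.prime_two⟩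
  have hv2 : orderOf v = 2 := orderOf_eq_prime (by rw [pow_two]; exact hPsq v hv) hv1
  obtain ⟨m, hm, hmv⟩ := TypeFacts.exists_conj_ne hK.hna P (AutFacts.comm_of_sq P hPsq) hv hv2
  -- `m` normalizes `S`
  have hmemP : ∀ x : K, x ∈ (P : Subgroup K) ↔ ((x : C t) : G) ∈ (S : Subgroup G) := by
    intro x
    rw [hP, mem_subgroupOf, Sylow.coe_subtype, mem_subgroupOf]
  have key : ∀ m : K, m ∈ normalizer ((P : Subgroup K) : Set K) →
      ∀ s ∈ (S : Subgroup G), ((m : C t) : G) * s * ((m : C t) : G)⁻¹ ∈ (S : Subgroup G) := by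
    intro m hm s hs
    have hsT : (⟨s, h.le_centralizer ht hs⟩ : C t) ∈
        ((S.subtype (h.le_centralizer h.mem) : Sylow 2 (C t)) : Subgroup (C t)) := by
      rw [Sylow.coe_subtype]; exact mem_subgroupOf.2 hs
    obtain ⟨k, hk, c, hc, hkc⟩ := AbStruct.exists_inner hK.core hK.comm hK.comp hsT
    have h2 : (((m * ⟨k, hk.2⟩ * m⁻¹ : K) : C t) : G) ∈ (S : Subgroup G) := by
      have hkP : (⟨k, hk.2⟩ : K) ∈ (P : Subgroup K) := by
        rw [hP]; exact mem_subgroupOf.2 hk.1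
      exact (hmemP _).1 ((mem_normalizer_iff.1 hm _).1 hkP)
    have hcS : (c : G) ∈ (S : Subgroup G) := by
      have := hc.1
      rw [Sylow.coe_subtype] at this
      exact mem_subgroupOf.1 this
    have h5 : ((m : C t) : C t)⁻¹ * c = c * (m : C t)⁻¹ := mem_centralizer_iff.1 hc.2 _ (inv_mem m.2)
    have h6 : (m : C t) * ⟨s, h.le_centralizer ht hs⟩ * (m : C t)⁻¹ = (m : C t) * k * (m : C t)⁻¹ * c := by
      rw [hkc]
      calc (m : C t) * (k * c) * (m : C t)⁻¹ = (m : C t) * k * (c * (m : C t)⁻¹) := by group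
        _ = (m : C t) * k * (m : C t)⁻¹ * c := by rw [← h5]; group
    have h7 := congrArg Subtype.val h6
    change ((m : C t) : G) * s * ((m : C t) : G)⁻¹ = ((m : C t) : G) * k * ((m : C t) : G)⁻¹ * c at h7
    rw [h7]
    exact mul_mem h2 hcS
  refine ⟨((m : C t) : G), ?_, (m : C t).2, ((v : C t) : G), (hmemP v).1 hv, ?_, ?_⟩
  · rw [mem_normalizer_iff]
    intro s
    refine ⟨key m hm s, fun h6 => ?_⟩
    have h7 := key m⁻¹ (inv_mem hm) _ h6
    have e : (((m⁻¹ : K) : C t) : G) * (((m : C t) : G) * s * ((m : C t) : G)⁻¹) * (((m⁻¹ : K) : C t) : G)⁻¹ = s := by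
      change ((m : C t) : G)⁻¹ * (((m : C t) : G) * s * ((m : C t) : G)⁻¹) * (((m : C t) : G)⁻¹)⁻¹ = s
      group
    rwa [e] at h7
  · intro h1
    exact hv1 (Subtype.ext (Subtype.ext h1))
  · intro h1
    exact hmv (Subtype.ext (Subtype.ext h1))

/-- **`Φ` is central in `N_G(S)`.** -/
theorem commute_N {y n : G} (hy : y ∈ PhiG S) (hn : n ∈ normalizer ((S : Subgroup G) : Set G)) : y * n = n * y := by
  obtain ⟨t, ht, ht1⟩ := H5.ne
  obtain ⟨m, hm, hmt, s, hs, hs1, hms⟩ := exists_move H5 ht ht1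
  have h1 : normalizer ((S : Subgroup G) : Set G) ≤ centralizer ({y} : Set G) := by
    refine (H5.data s hs hs1).normalizer_le ?_ hm ?_ hms
    · rintro c ⟨hc1, hc2⟩
      rw [mem_centralizer_singleton_iff]
      exact (commute_N_C H5 hs hs1 hy hc1 hc2).symm
    · rw [mem_centralizer_singleton_iff]
      exact (commute_N_C H5 ht ht1 hy hm hmt).symm
  exact (mem_centralizer_singleton_iff.1 (h1 hn)).symm

theorem comm_Phi {y y' : G} (hy : y ∈ PhiG S) (hy' : y' ∈ PhiG S) : y * y' = y' * y :=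
  commute_N H5 hy (centralizer_le_normalizer _ (PhiG_le S hy'))

/-- **`N_G(D) = C_G(D)`** for `D ≤ Φ`. -/
theorem normalizer_le_centralizer {D : Subgroup G} (hD : D ≤ PhiG S) :
    normalizer (D : Set G) ≤ centralizer (D : Set G) := by
  have hf : Fact (Nat.Prime 2) := ⟨Nat.prime_two⟩
  have hSD : (S : Subgroup G) ≤ centralizer (D : Set G) := by
    intro s hs
    rw [mem_centralizer_iff]
    intro y hy
    exact (mem_centralizer_iff.1 (PhiG_le S (hD hy)) s hs).symm
  have hSN : (S : Subgroup G) ≤ normalizer (D : Set G) := hSD.trans (centralizer_le_normalizer _)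
  have hCn : ((centralizer (D : Set G)).subgroupOf (normalizer (D : Set G))).Normal := by
    refine ⟨fun x hx g => ?_⟩
    rw [mem_subgroupOf, mem_centralizer_iff] at hx ⊢
    intro y hy
    have h1 : (g : G)⁻¹ * y * g ∈ D := by
      have := (mem_normalizer_iff.1 (inv_mem g.2) y).1 hy
      simpa using this
    have h2 := hx _ h1
    change y * ((g : G) * x * (g : G)⁻¹) = (g : G) * x * (g : G)⁻¹ * y
    calc y * ((g : G) * x * (g : G)⁻¹) = g * (((g : G)⁻¹ * y * g) * x) * (g : G)⁻¹ := by group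
      _ = g * (x * ((g : G)⁻¹ * y * g)) * (g : G)⁻¹ := by rw [h2]
      _ = (g : G) * x * (g : G)⁻¹ * y := by group
  have h1 := (S.subtype hSN).normalizer_sup_eq_top' (N := (centralizer (D : Set G)).subgroupOf (normalizer (D : Set G)))
    (by
      rw [Sylow.coe_subtype]
      intro x hx
      exact mem_subgroupOf.2 (hSD (mem_subgroupOf.1 hx)))
  intro g hg
  have h2 : (⟨g, hg⟩ : normalizer (D : Set G)) ∈ (⊤ : Subgroup (normalizer (D : Set G))) := mem_top _
  rw [← h1] at h2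
  obtain ⟨n, hn, c, hc, hnc⟩ := (mem_sup_of_normal_right (ht := hCn)).1 h2
  have h3 : (n : G) ∈ normalizer ((S : Subgroup G) : Set G) := by
    rw [mem_normalizer_iff]
    intro s
    constructor
    · intro hs
      have h4 := (mem_normalizer_iff.1 hn ⟨s, hSN hs⟩).1 (by
        rw [Sylow.coe_subtype]; exact mem_subgroupOf.2 hs)
      rw [Sylow.coe_subtype] at h4
      exact mem_subgroupOf.1 h4
    · intro hs
      have hsN : s ∈ normalizer (D : Set G) := by
        have h5 := mul_mem (mul_mem (inv_mem n.2) (hSN hs)) n.2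
        have e : (n : G)⁻¹ * ((n : G) * s * (n : G)⁻¹) * n = s := by group
        rwa [e] at h5
      have h4 := (mem_normalizer_iff.1 hn ⟨s, hsN⟩).2 (by
        rw [Sylow.coe_subtype]; exact mem_subgroupOf.2 hs)
      rw [Sylow.coe_subtype] at h4
      exact mem_subgroupOf.1 h4
  have h4 : g = n * c := congrArg Subtype.val hnc.symm
  rw [h4]
  refine mul_mem ?_ (mem_subgroupOf.1 hc)
  rw [mem_centralizer_iff]
  intro y hy
  exact commute_N H5 (hD hy) h3

/-- (H2) -/
theorem commute_of_conj {y g : G} (hy : y ∈ PhiG S) (hg : g * y * g⁻¹ ∈ zpowers y) : g * y = y * g := by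
  have h1 : g ∈ normalizer (zpowers y : Set G) := by
    have h2 : (zpowers y).map (MulAut.conj g).toMonoidHom ≤ zpowers y := by
      rw [MonoidHom.map_zpowers, zpowers_le]
      exact hg
    have h3 : (zpowers y).map (MulAut.conj g).toMonoidHom = zpowers y := by
      refine Subgroup.eq_of_le_of_card_ge h2 ?_
      rw [Subgroup.card_map_of_injective (MulAut.conj g).injective]
    rw [mem_normalizer_iff]
    intro x
    constructor
    · intro hx
      exact h2 ⟨x, hx, rfl⟩
    · intro hx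
      have hx' : g * x * g⁻¹ ∈ (zpowers y).map (MulAut.conj g).toMonoidHom := by rw [h3]; exact hx
      obtain ⟨z, hz, hzx⟩ := hx'
      have h4 : g * z * g⁻¹ = g * x * g⁻¹ := hzx
      have h5 : z = x := mul_left_cancel (mul_right_cancel h4)
      rw [← h5]; exact hz
  have h2 := normalizer_le_centralizer H5 (D := zpowers y) (zpowers_le.2 hy) h1
  exact (mem_centralizer_iff.1 h2 y (mem_zpowers y)).symm

end

end Cfsg.Agent.Walter.FieldG
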