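import Mathlib
import Cfsg.Prelude.Def_Local
import Cfsg.Agent.Walter.FieldG

/-!
# The odd core of `C_G(y)`, `y ∈ Φ`
-/

set_option autoImplicit false
set_option linter.unusedSectionVars false
set_option linter.unusedVariables false

namespace Cfsg.Agent.Walter.FieldCore

open Subgroup Cfsg
open Cfsg.Agent.SignalizersComponents Cfsg.Agent.SignalizersComponents.Components
open Cfsg.Agent.Walter.Types Cfsg.Agent.Walter.BalLocal Cfsg.Agent.Walter.OddCoreIn Cfsg.Agent.Walter.Cover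
open Cfsg.Agent.Walter.CentB (TypeB)
open Cfsg.Agent.Walter.FieldX Cfsg.Agent.Walter.FieldY Cfsg.Agent.Walter.FieldPSL Cfsg.Agent.Walter.FieldG
open Cfsg.Agent.Walter.Setup (Data)

universe u

section X

variable {X : Type*} [Group X] [Finite X] {T : Sylow 2 X} {K : Subgroup X} {F : Type} [Field F] [Fintype F]

/-- the group `N_K(T)` centralizes `Φ` and acts non-trivially on `T ∩ K` -/
theorem exists_move (h : TypeB T K) (hW : WType K) : ∃ m ∈ K ⊓ normalizer ((T : Subgroup X) : Set X),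
    ∃ v ∈ (T : Subgroup X) ⊓ K, m * v * m⁻¹ ≠ v := by
  have hf : Fact (Nat.Prime 2) := ⟨Nat.prime_two⟩
  obtain ⟨P, hP, hPsq, hPcard⟩ := h.exists_sylow
  have hs := h.simple
  obtain ⟨v, hv, hv1⟩ : ∃ v ∈ (P : Subgroup K), v ≠ 1 := by
    refine (bot_or_exists_ne_one (P : Subgroup K)).resolve_left ?_
    intro h1
    rw [h1, card_bot] at hPcard
    norm_num at hPcard
  have hv2 : orderOf v = 2 := orderOf_eq_prime (by rw [pow_two]; exact hPsq v hv) hv1
  obtain ⟨m, hm, hmv⟩ := TypeFacts.exists_conj_ne h.hna P (AutFacts.comm_of_sq P hPsq) hv hv2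
  have hmemP : ∀ x : K, x ∈ (P : Subgroup K) ↔ (x : X) ∈ (T : Subgroup X) := by
    intro x
    rw [hP, mem_subgroupOf]
  have key : ∀ m : K, m ∈ normalizer ((P : Subgroup K) : Set K) →
      ∀ s ∈ (T : Subgroup X), (m : X) * s * (m : X)⁻¹ ∈ (T : Subgroup X) := by
    intro m hm s hs
    obtain ⟨k, hk, c, hc, rfl⟩ := AbStruct.exists_inner h.core h.comm h.comp hs
    have h2 : (m : X) * k * (m : X)⁻¹ ∈ (T : Subgroup X) :=
      (hmemP _).1 ((mem_normalizer_iff.1 hm ⟨k, hk.2⟩).1 ((hmemP _).2 hk.1))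
    have h4 : (m : X) * (k * c) * (m : X)⁻¹ = (m : X) * k * (m : X)⁻¹ * c := by
      have h5 : (m : X)⁻¹ * c = c * (m : X)⁻¹ := mem_centralizer_iff.1 hc.2 _ (inv_mem m.2)
      calc (m : X) * (k * c) * (m : X)⁻¹ = (m : X) * k * (c * (m : X)⁻¹) := by group
        _ = (m : X) * k * (m : X)⁻¹ * c := by rw [← h5]; group
    rw [h4]
    exact mul_mem h2 hc.1
  refine ⟨m, mem_inf.2 ⟨m.2, ?_⟩, v, ⟨(hmemP v).1 hv, v.2⟩, fun h1 => hmv (Subtype.ext h1)⟩
  rw [mem_normalizer_iff]
  intro s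
  refine ⟨key m hm s, fun h6 => ?_⟩
  have h7 := key m⁻¹ (inv_mem hm) _ h6
  simpa [mul_assoc] using h7

theorem le_centralizer_y (h : TypeB T K) (hW : WType K) (y : Phi T) :
    K ⊓ normalizer ((T : Subgroup X) : Set X) ≤ K ⊓ centralizer ({(y : X)} : Set X) := by
  rintro n ⟨hn1, hn2⟩
  refine ⟨hn1, mem_centralizer_singleton_iff.2 ?_⟩
  exact (commute_Phi h (PSLFacts.WType.selfc hW) y.2 hn1 hn2).symm

theorem T_le_centralizer_y (y : Phi T) : (T : Subgroup X) ≤ centralizer ({(y : X)} : Set X) := by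
  intro s hs
  exact mem_centralizer_singleton_iff.2 (mem_centralizer_iff.1 (Phi_le T y.2) s hs)

theorem two_ne_zero (h8 : Fintype.card F % 8 = 3 ∨ Fintype.card F % 8 = 5) : (2 : F) ≠ 0 := by
  refine (ClassicalGeometry.PSL2Basic.two_ne_zero_iff_odd F).2 ?_
  rw [Nat.odd_iff]; omega

/-- `C_K(y)` has no normal subgroups of odd order. -/
theorem eq_bot_of_odd_normal (h : TypeB T K) (hW : WType K) (M : Model T K F)
    (h8 : Fintype.card F % 8 = 3 ∨ Fintype.card F % 8 = 5) (y : Phi T) {N : Subgroup X}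
    (hNA : N ≤ K ⊓ centralizer ({(y : X)} : Set X))
    (hN : K ⊓ centralizer ({(y : X)} : Set X) ≤ normalizer (N : Set X)) (hodd : ¬ 2 ∣ Nat.card N) : N = ⊥ := by
  classical
  have hf : Fact (Nat.Prime 2) := ⟨Nat.prime_two⟩
  have h2 := two_ne_zero h8
  have hKn := h.normal
  obtain ⟨e⟩ := M.exists_equiv hKn h2 y
  set A : Subgroup X := K ⊓ centralizer ({(y : X)} : Set X) with hA
  have hVA : (T : Subgroup X) ⊓ K ≤ A := by
    rintro s ⟨hs1, hs2⟩
    exact ⟨hs2, T_le_centralizer_y y hs1⟩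
  have h4A : 4 ∣ Nat.card A := by
    rw [← h.card]
    exact card_dvd_of_le hVA
  have hmod := M.card_Fix_mod h8 y
  have hfin : Fintype (Fix (M.τ y)) := Fintype.ofFinite _
  by_cases h5 : 3 < Nat.card (Fix (M.τ y))
  · have hsimple : IsSimpleGroup (Matrix.ProjectiveSpecialLinearGroup (Fin 2) (Fix (M.τ y))) :=
      TwoFusion.SLTwoFacts.isSimpleGroup_psl (by rw [← Nat.card_eq_fintype_card]; exact h5)
    have hsA : IsSimpleGroup A := (MulEquiv.isSimpleGroup_congr e).2 hsimple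
    have hNn : (N.subgroupOf A).Normal := (normal_subgroupOf_iff_le_normalizer hNA).2 hN
    rcases hNn.eq_bot_or_eq_top with h3 | h3
    · rw [subgroupOf_eq_bot, disjoint_iff, inf_eq_left.2 hNA] at h3
      exact h3
    · exfalso
      rw [subgroupOf_eq_top] at h3
      exact hodd (((by norm_num : 2 ∣ 4).trans h4A).trans (card_dvd_of_le h3))
  · have hq : Nat.card (Fix (M.τ y)) = 3 := by omega
    have hA12 : Nat.card A = 12 := by
      rw [Nat.card_congr e.toEquiv]
      have h3 := ClassicalGeometry.PSL2Basic.card_PSL2_odd (Fix (M.τ y)) (by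
        rw [← Nat.card_eq_fintype_card, hq]; decide)
      rw [← Nat.card_eq_fintype_card, hq] at h3
      omega
    -- `A` normalizes `T`
    have hle := le_centralizer_y h hW y
    obtain ⟨m, hm, v, hv, hmv⟩ := exists_move h hW
    have hVN : (T : Subgroup X) ⊓ K ≤ K ⊓ normalizer ((T : Subgroup X) : Set X) := by
      rintro s ⟨hs1, hs2⟩
      exact ⟨hs2, Subgroup.le_normalizer hs1⟩
    have h12 : Nat.card (K ⊓ normalizer ((T : Subgroup X) : Set X) : Subgroup X) = 12 := by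
      have h3 : Nat.card (K ⊓ normalizer ((T : Subgroup X) : Set X) : Subgroup X) ∣ 12 := by
        rw [← hA12]; exact card_dvd_of_le hle
      obtain ⟨j, hj⟩ : 4 ∣ Nat.card (K ⊓ normalizer ((T : Subgroup X) : Set X) : Subgroup X) := by
        rw [← h.card]; exact card_dvd_of_le hVN
      rw [hj] at h3
      have h6 : j ∣ 3 := by
        have : 4 * j ∣ 4 * 3 := h3
        exact Nat.dvd_of_mul_dvd_mul_left (by norm_num) this
      rcases (Nat.dvd_prime Nat.prime_three).1 h6 with h7 | h7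
      · exfalso
        rw [h7, mul_one] at hj
        have h9 : (T : Subgroup X) ⊓ K = K ⊓ normalizer ((T : Subgroup X) : Set X) :=
          Subgroup.eq_of_le_of_card_ge hVN (by rw [hj, h.card])
        rw [← h9] at hm
        apply hmv
        rw [h.comm m hm.1 v hv.1, mul_inv_cancel_right]
      · rw [hj, h7]
    have hAeq : K ⊓ normalizer ((T : Subgroup X) : Set X) = A :=
      Subgroup.eq_of_le_of_card_ge hle (by rw [h12, hA12])
    -- `N` centralizes `V`
    have hNV : N ⊓ ((T : Subgroup X) ⊓ K) = ⊥ := by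
      rw [← Subgroup.card_eq_one]
      have h3 : Nat.card (N ⊓ ((T : Subgroup X) ⊓ K) : Subgroup X) ∣ 4 := by
        rw [← h.card]; exact card_dvd_of_le inf_le_right
      have h6 : Nat.card (N ⊓ ((T : Subgroup X) ⊓ K) : Subgroup X) ∣ Nat.card N := card_dvd_of_le inf_le_left
      have h7 : (Nat.card N).Coprime 4 := by
        rw [show (4 : ℕ) = 2 ^ 2 by norm_num]
        exact (Nat.Coprime.pow_right 2 ((Nat.Prime.coprime_iff_not_dvd Nat.prime_two).2 hodd).symm)
      exact Nat.eq_one_of_dvd_coprimes h7 h6 h3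
    obtain ⟨P, hP, hPsq, hPcard⟩ := h.exists_sylow
    rw [eq_bot_iff]
    intro x hx
    have hxA := hNA hx
    have hxN : x ∈ K ⊓ normalizer ((T : Subgroup X) : Set X) := by rw [hAeq]; exact hxA
    have hxc : ∀ v ∈ (T : Subgroup X) ⊓ K, v * x = x * v := by
      intro v hv
      have h3 : v * x * v⁻¹ * x⁻¹ ∈ N ⊓ ((T : Subgroup X) ⊓ K) := by
        refine ⟨N.mul_mem ((mem_normalizer_iff.1 (hN (hVA hv)) x).1 hx) (N.inv_mem hx), ?_, ?_⟩
        · have h6 := (mem_normalizer_iff.1 hxN.2 v⁻¹).1 (inv_mem hv.1)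
          have h7 := mul_mem hv.1 h6
          have e1 : v * (x * v⁻¹ * x⁻¹) = v * x * v⁻¹ * x⁻¹ := by group
          rwa [e1] at h7
        · exact K.mul_mem (K.mul_mem (K.mul_mem hv.2 hxA.1) (K.inv_mem hv.2)) (K.inv_mem hxA.1)
      rw [hNV, mem_bot] at h3
      exact mul_inv_eq_iff_eq_mul.1 (mul_inv_eq_one.1 h3)
    have h3 : (⟨x, hxA.1⟩ : K) ∈ (P : Subgroup K) := by
      apply PSLFacts.WType.selfc hW P
      rw [mem_centralizer_iff]
      intro v hv
      rw [hP] at hv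
      exact Subtype.ext (hxc v ⟨mem_subgroupOf.1 hv, v.2⟩)
    rw [hP] at h3
    have h6 : x ∈ N ⊓ ((T : Subgroup X) ⊓ K) := ⟨hx, mem_subgroupOf.1 h3, hxA.1⟩
    rw [hNV] at h6
    exact h6

/-- the odd core of `C_X(y)` -/
theorem le_zpowers (h : TypeB T K) (hW : WType K) (M : Model T K F)
    (h8 : Fintype.card F % 8 = 3 ∨ Fintype.card F % 8 = 5) (y : Phi T) {N : Subgroup X}
    (hNC : N ≤ centralizer ({(y : X)} : Set X))
    (hN : centralizer ({(y : X)} : Set X) ≤ normalizer (N : Set X)) (hodd : ¬ 2 ∣ Nat.card N) :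
    N ≤ zpowers (y : X) := by
  have hKn := h.normal
  have hNK : N ⊓ K = ⊥ := by
    refine eq_bot_of_odd_normal h hW M h8 y (le_inf inf_le_right (inf_le_left.trans hNC)) ?_ ?_
    · rw [le_normalizer_iff']
      intro a ha x hx
      exact ⟨(mem_normalizer_iff.1 (hN ha.2) x).1 hx.1, hKn.conj_mem x hx.2 a⟩
    · intro h1
      exact hodd (h1.trans (card_dvd_of_le inf_le_left))
  intro x hx
  have hcomm : ∀ a ∈ K ⊓ centralizer ({(y : X)} : Set X), a * x = x * a := by
    intro a ha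
    have h3 : a * x * a⁻¹ * x⁻¹ ∈ N ⊓ K := by
      refine ⟨N.mul_mem ((mem_normalizer_iff.1 (hN ha.2) x).1 hx) (N.inv_mem hx), ?_⟩
      have h7 := K.mul_mem ha.1 (hKn.conj_mem a⁻¹ (K.inv_mem ha.1) x)
      have e1 : a * (x * a⁻¹ * x⁻¹) = a * x * a⁻¹ * x⁻¹ := by group
      rwa [e1] at h7
    rw [hNK, mem_bot] at h3
    exact mul_inv_eq_iff_eq_mul.1 (mul_inv_eq_one.1 h3)
  have hxPhi : x ∈ Phi T := by
    rw [mem_Phi_iff h.comm]
    refine ⟨?_, fun h1 => hodd (h1.trans (Subgroup.orderOf_dvd_natCard _ hx))⟩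
    apply centralizer_inf_eq h
    rw [mem_centralizer_iff]
    rintro s ⟨hs1, hs2⟩
    exact hcomm s ⟨hs2, T_le_centralizer_y y hs1⟩
  have h3 := M.mem_zpowers hKn (two_ne_zero h8) y ⟨x, hxPhi⟩ (by
    intro k hk hky
    exact hcomm k ⟨hk, mem_centralizer_singleton_iff.2 hky⟩)
  obtain ⟨n, hn⟩ := Subgroup.mem_zpowers_iff.1 h3
  exact Subgroup.mem_zpowers_iff.2 ⟨n, congrArg Subtype.val hn⟩

end X

section G

variable {G : Type u} [Group G] [Finite G] {S : Sylow 2 G} (H5 : Set5 S)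

include H5

/-- **`O(C_G(y)) = ⟨y⟩`** for `y ∈ Φ`. -/
theorem OO_eq {y : G} (hy : y ∈ PhiG S) : OO (centralizer ({y} : Set G)) = zpowers y := by
  have hyodd : ¬ 2 ∣ Nat.card (zpowers y) := fun h =>
    PhiG_odd S (h.trans (card_dvd_of_le (zpowers_le.2 hy)))
  apply le_antisymm
  · set R := OO (centralizer ({y} : Set G)) with hR
    have hRodd : ¬ 2 ∣ Nat.card R := OO_odd _
    have hRn : centralizer ({y} : Set G) ≤ normalizer (R : Set G) := le_normalizer_OO _
    have hRC : R ≤ centralizer ({y} : Set G) := OO_le _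
    have hSC : (S : Subgroup G) ≤ centralizer ({y} : Set G) := by
      intro s hs
      exact mem_centralizer_singleton_iff.2 (mem_centralizer_iff.1 (PhiG_le S hy) s hs)
    obtain ⟨t₀, ht₀, ht₁⟩ := H5.ne
    have hd := H5.data t₀ ht₀ ht₁
    have hcyc : ¬ IsCyclic (S : Subgroup G) := by
      intro hc
      obtain ⟨g, hg⟩ := IsCyclic.exists_generator (α := (S : Subgroup G))
      have h3 := orderOf_eq_card_of_forall_mem_zpowers hg
      rw [hd.card] at h3
      have h4 : g ^ 2 = 1 := by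
        apply Subtype.ext
        rw [pow_two]
        exact hd.sq g g.2
      have h5 := Nat.le_of_dvd (by norm_num) (orderOf_dvd_of_pow_eq_one h4)
      omega
    have hcomm : IsMulCommutative (S : Subgroup G) :=
      ⟨⟨fun a b => Subtype.ext (hd.comm _ a.2 _ b.2)⟩⟩
    have hcop : (Nat.card (S : Subgroup G)).Coprime (Nat.card R) := by
      rw [hd.card, show (8 : ℕ) = 2 ^ 3 by norm_num]
      exact Nat.Coprime.pow_left 3 ((Nat.Prime.coprime_iff_not_dvd Nat.prime_two).2 hRodd)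
    rw [← S0058.result _ R hcyc (hSC.trans hRn) hcop]
    refine iSup₂_le ?_
    rintro t ⟨ht, ht1⟩
    have h := H5.data t ht ht1
    obtain ⟨K, hK, hW⟩ := H5.typeB t ht ht1
    obtain ⟨F, i1, i2, h8, h5, ⟨M⟩⟩ := exists_model hK hW
    have h1 := le_zpowers hK hW M h8 (toPhi h y hy) (N := (R ⊓ C t).subgroupOf (C t)) ?_ ?_ ?_
    · rintro x ⟨hxR, hxt⟩
      have h2 := h1 (x := ⟨x, hxt⟩) (mem_subgroupOf.2 ⟨hxR, hxt⟩)
      obtain ⟨n, hn⟩ := Subgroup.mem_zpowers_iff.1 h2
      exact Subgroup.mem_zpowers_iff.2 ⟨n, congrArg Subtype.val hn⟩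
    · intro x hx
      rw [mem_centralizer_singleton_iff]
      exact Subtype.ext (mem_centralizer_singleton_iff.1 (hRC (mem_subgroupOf.1 hx).1))
    · rw [le_normalizer_iff']
      intro c hc x hx
      have hc' : (c : G) ∈ centralizer ({y} : Set G) :=
        mem_centralizer_singleton_iff.2 (congrArg Subtype.val (mem_centralizer_singleton_iff.1 hc))
      exact mem_subgroupOf.2 ⟨(mem_normalizer_iff.1 (hRn hc') x).1 (mem_subgroupOf.1 hx).1, (c * x * c⁻¹).2⟩
    · intro h2
      apply hRodd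
      rw [Nat.card_congr (subgroupOfEquivOfLe (inf_le_right : R ⊓ C t ≤ C t)).toEquiv] at h2
      exact h2.trans (card_dvd_of_le inf_le_left)
  · refine le_OO ?_ ?_ hyodd
    · rw [zpowers_le]
      exact mem_centralizer_singleton_iff.2 rfl
    · rw [le_normalizer_iff']
      intro a ha x hx
      obtain ⟨n, rfl⟩ := mem_zpowers_iff.1 hx
      have h1 : Commute a y := mem_centralizer_singleton_iff.1 ha
      rw [(h1.zpow_right n).eq, mul_inv_cancel_right]
      exact hx

end G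

end Cfsg.Agent.Walter.FieldCore
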