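import Mathlib
import Cfsg.Prelude.Def_Local
import Cfsg.Agent.Walter.FieldCore
import Cfsg.Agent.PLocal.ElemAbSup

/-!
# Orders: `|C(t)| = 2 |K| |Φ|`, `|N_G(S)| = 168 |Φ|`
-/

set_option autoImplicit false
set_option linter.unusedSectionVars false
set_option linter.unusedVariables false

namespace Cfsg.Agent.Walter.FieldCard

open Subgroup Cfsg
open Cfsg.Agent.SignalizersComponents Cfsg.Agent.SignalizersComponents.Components
open Cfsg.Agent.Walter.Types Cfsg.Agent.Walter.BalLocal Cfsg.Agent.Walter.OddCoreIn Cfsg.Agent.Walter.Cover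
open Cfsg.Agent.Walter.CentB (TypeB)
open Cfsg.Agent.Walter.FieldX Cfsg.Agent.Walter.FieldY Cfsg.Agent.Walter.FieldPSL Cfsg.Agent.Walter.FieldG
open Cfsg.Agent.Walter.Setup (Data)

universe u

section X

variable {X : Type*} [Group X] [Finite X] {T : Sylow 2 X} {K : Subgroup X}

/-- `|C(T)| = |T| |Φ|` -/
theorem card_centralizer (hc : ∀ a ∈ (T : Subgroup X), ∀ b ∈ (T : Subgroup X), a * b = b * a) :
    Nat.card (centralizer ((T : Subgroup X) : Set X)) = Nat.card (T : Subgroup X) * Nat.card (Phi T) := by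
  have hTC : (T : Subgroup X) ≤ centralizer ((T : Subgroup X) : Set X) := by
    intro s hs
    rw [mem_centralizer_iff]
    intro x hx
    exact hc x hx s hs
  rw [← Nat.card_prod]
  symm
  refine Nat.card_congr (Equiv.ofBijective (fun p : (↥(T : Subgroup X)) × (Phi T) =>
    (⟨(p.1 : X) * p.2, mul_mem (hTC p.1.2) (Phi_le T p.2.2)⟩ : centralizer ((T : Subgroup X) : Set X))) ⟨?_, ?_⟩)
  · rintro ⟨s, y⟩ ⟨s', y'⟩ hh
    have h1 : (s : X) * y = s' * y' := congrArg Subtype.val hh
    have h2 : (s' : X)⁻¹ * s = y' * (y : X)⁻¹ := by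
      rw [eq_mul_inv_iff_mul_eq, mul_assoc, h1, inv_mul_cancel_left]
    have h3 : (s' : X)⁻¹ * s = 1 := by
      refine BalFun.eq_one_of_odd T.isPGroup' (mul_mem (inv_mem s'.2) s.2) ?_
      rw [h2]
      exact orderOf_odd (T := T) (mul_mem y'.2 (inv_mem y.2))
    have h5 : (s : X) = s' := (inv_mul_eq_one.1 h3).symm
    rw [h3] at h2
    have h6 : (y' : X) = y := mul_inv_eq_one.1 h2.symm
    exact Prod.ext (Subtype.ext h5) (Subtype.ext h6.symm)
  · rintro ⟨x, hx⟩
    obtain ⟨s, hs, y, hy, rfl⟩ := exists_mul_of_centralizer hc hx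
    exact ⟨(⟨s, hs⟩, ⟨y, hy⟩), rfl⟩

/-- `|X| = 2 |K| |Φ|` -/
theorem card_X (h : TypeB T K) (hW : WType K) (h8 : Nat.card (T : Subgroup X) = 8) :
    Nat.card X = 2 * Nat.card K * Nat.card (Phi T) := by
  have hsc := PSLFacts.WType.selfc hW
  have h1 := PLocal.ElemAbSup.card_sup_mul_card_inf (A := pCore 2 X) (B := E T K) (by
    intro x _
    rw [mem_centralizer_iff]
    intro z hz
    exact (mem_center_iff.1 (h.central hz) x).symm)
  rw [sup_E h hW, inf_E h hsc, Subgroup.card_top, Subgroup.card_bot, mul_one, BalFun.card_pCore h h8,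
    card_E h hsc] at h1
  rw [h1, mul_assoc]

/-- an element of `N(T)` fixing an involution of `T ∩ K` centralizes `T` -/
theorem centralizes_of_fix (h : TypeB T K) (hW : WType K) {g v : X}
    (hgN : g ∈ normalizer ((T : Subgroup X) : Set X)) (hvT : v ∈ (T : Subgroup X)) (hvK : v ∈ K) (hv1 : v ≠ 1)
    (hgv : g * v * g⁻¹ = v) : g ∈ centralizer ((T : Subgroup X) : Set X) := by
  have hf : Fact (Nat.Prime 2) := ⟨Nat.prime_two⟩
  have hKn := h.normal
  apply centralizer_inf_eq h
  rw [mem_centralizer_iff]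
  rintro w ⟨hwT, hwK⟩
  have hgw : g * w * g⁻¹ ∈ (T : Subgroup X) := (mem_normalizer_iff.1 hgN w).1 hwT
  have hgwK : g * w * g⁻¹ ∈ K := hKn.conj_mem w hwK g
  have hconj1 : ∀ u : X, g * u * g⁻¹ = 1 → u = 1 := by
    intro u hu
    have h3 : g * u = g := mul_inv_eq_one.1 hu
    exact mul_eq_left.1 h3
  have hconjinj : ∀ u u' : X, g * u * g⁻¹ = g * u' * g⁻¹ → u = u' := by
    intro u u' hu
    exact mul_left_cancel (mul_right_cancel hu)
  by_cases hw1 : w = 1
  · rw [hw1, one_mul, mul_one]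
  by_cases hwv : w = v
  · have h3 := mul_inv_eq_iff_eq_mul.1 hgv
    rw [hwv]; exact h3.symm
  by_cases hww : g * w * g⁻¹ = w
  · exact (mul_inv_eq_iff_eq_mul.1 hww).symm
  exfalso
  have hsq : ∀ u ∈ (T : Subgroup X), u * u = 1 := h.sq
  have hinv : ∀ u ∈ (T : Subgroup X), u⁻¹ = u := fun u hu => inv_eq_of_mul_eq_one_left (hsq u hu)
  have hfour : ∀ u, u ∈ (T : Subgroup X) → u ∈ K → u = 1 ∨ u = v ∨ u = w ∨ u = w * v := by
    intro u huT huK
    by_contra hcon
    push Not at hcon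
    obtain ⟨h1, h2, h3, h4⟩ := hcon
    classical
    have hc4 := h.card
    let F : Finset ((T : Subgroup X) ⊓ K : Subgroup X) :=
      {⟨1, one_mem _⟩, ⟨v, ⟨hvT, hvK⟩⟩, ⟨w, ⟨hwT, hwK⟩⟩, ⟨w * v, ⟨mul_mem hwT hvT, mul_mem hwK hvK⟩⟩, ⟨u, ⟨huT, huK⟩⟩}
    have hwv1 : w * v ≠ 1 := by
      intro h5
      apply hwv
      rw [mul_eq_one_iff_eq_inv] at h5
      rw [h5, hinv v hvT]
    have hF : F.card = 5 := by
      rw [Finset.card_insert_of_notMem, Finset.card_insert_of_notMem, Finset.card_insert_of_notMem,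
        Finset.card_insert_of_notMem, Finset.card_singleton]
      · rw [Finset.mem_singleton]
        exact fun h5 => h4 (congrArg Subtype.val h5).symm
      · rw [Finset.mem_insert, Finset.mem_singleton, not_or]
        refine ⟨fun h5 => hv1 ?_, fun h5 => h3 (congrArg Subtype.val h5).symm⟩
        have h6 : w = w * v := congrArg Subtype.val h5
        exact mul_eq_left.1 h6.symm
      · rw [Finset.mem_insert, Finset.mem_insert, Finset.mem_singleton, not_or, not_or]
        refine ⟨fun h5 => hwv (congrArg Subtype.val h5).symm, fun h5 => hw1 ?_,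
          fun h5 => h2 (congrArg Subtype.val h5).symm⟩
        have h6 : v = w * v := congrArg Subtype.val h5
        exact mul_eq_right.1 h6.symm
      · rw [Finset.mem_insert, Finset.mem_insert, Finset.mem_insert, Finset.mem_singleton, not_or, not_or, not_or]
        exact ⟨fun h5 => hv1 (congrArg Subtype.val h5).symm, fun h5 => hw1 (congrArg Subtype.val h5).symm,
          fun h5 => hwv1 (congrArg Subtype.val h5).symm, fun h5 => h1 (congrArg Subtype.val h5).symm⟩
    have hle : F.card ≤ Nat.card ((T : Subgroup X) ⊓ K : Subgroup X) := by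
      have := Fintype.ofFinite ((T : Subgroup X) ⊓ K : Subgroup X)
      rw [Nat.card_eq_fintype_card]
      exact Finset.card_le_univ F
    omega
  have hgwv : g * w * g⁻¹ = w * v := by
    rcases hfour _ hgw hgwK with h1 | h1 | h1 | h1
    · exact absurd (hconj1 w h1) hw1
    · exact absurd (hconjinj w v (h1.trans hgv.symm)) hwv
    · exact absurd h1 hww
    · exact h1
  have hpow : ∀ j : ℕ, g ^ j * w * (g ^ j)⁻¹ = w * v ^ j := by
    intro j
    induction j with
    | zero => simp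
    | succ j ih =>
      have hgvj : g * v ^ j * g⁻¹ = v ^ j := by
        rw [← conj_pow, hgv]
      calc g ^ (j + 1) * w * (g ^ (j + 1))⁻¹ = g * (g ^ j * w * (g ^ j)⁻¹) * g⁻¹ := by
            rw [pow_succ']; group
        _ = g * (w * v ^ j) * g⁻¹ := by rw [ih]
        _ = (g * w * g⁻¹) * (g * v ^ j * g⁻¹) := by group
        _ = w * v ^ (j + 1) := by rw [hgwv, hgvj, mul_assoc, ← pow_succ']
  obtain ⟨k, m', hm'odd, hm'⟩ := Nat.exists_eq_two_pow_mul_odd (n := orderOf g) (orderOf_pos g).ne'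
  have h1 : (g ^ m') ^ 2 ^ k = 1 := by
    rw [← pow_mul, mul_comm, ← hm', pow_orderOf_eq_one]
  have h2 : g ^ m' ∈ (T : Subgroup X) := PSLFacts.mem_of_pow T (pow_mem hgN m') h1
  have h3 : g ^ m' * w * (g ^ m')⁻¹ = w := by
    rw [h.comm _ h2 _ hwT, mul_inv_cancel_right]
  have h4 := hpow m'
  rw [h3] at h4
  have h5 : v ^ m' = 1 := mul_eq_left.1 h4.symm
  obtain ⟨j, hj⟩ := hm'odd
  rw [hj, pow_add, pow_mul, pow_two, hsq _ hvT, one_pow, one_mul, pow_one] at h5
  exact hv1 h5

/-- the non-trivial elements of a subgroup -/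
theorem card_ne_one (V : Subgroup X) : Nat.card {s : X // s ∈ V ∧ s ≠ 1} = Nat.card V - 1 := by
  have h1 : Nat.card {s : X // s ∈ V ∧ s ≠ 1} = Nat.card {s : V // s ≠ 1} := by
    refine Nat.card_congr ⟨fun s => ⟨⟨s.1, s.2.1⟩, fun hh => s.2.2 (by
      simpa using congrArg Subtype.val hh)⟩, fun s => ⟨s.1.1, s.1.2, fun hh => s.2 (by
      ext; simpa using hh)⟩, fun _ => rfl, fun _ => rfl⟩
  rw [h1]
  classical
  have := Fintype.ofFinite V
  rw [Nat.card_eq_fintype_card]
  have h3 : Fintype.card {s : V // s ≠ 1} = Nat.card V - 1 := by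
    rw [Fintype.card_subtype_compl, Fintype.card_subtype_eq, ← Nat.card_eq_fintype_card]
  convert h3

/-- orbit-stabilizer for a transitive action on `V \ {1}` by conjugation -/
theorem relIndex_of_trans {N V : Subgroup X} (hN : ∀ n ∈ N, ∀ s ∈ V, n * s * n⁻¹ ∈ V) {v : X} (hv : v ∈ V)
    (hv1 : v ≠ 1) (htr : ∀ s ∈ V, s ≠ 1 → ∃ n ∈ N, n * v * n⁻¹ = s) :
    (N ⊓ centralizer ({v} : Set X)).relIndex N = Nat.card V - 1 := by
  let act : MulAction N X := MulAction.compHom X ((MulAut.conj (G := X)).comp N.subtype)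
  have hact : ∀ (n : N) (x : X), n • x = (n : X) * x * (n : X)⁻¹ := fun n x => rfl
  have h1 : MulAction.stabilizer N v = (N ⊓ centralizer ({v} : Set X)).subgroupOf N := by
    ext n
    rw [MulAction.mem_stabilizer_iff, hact, mem_subgroupOf, mem_inf,
      mem_centralizer_singleton_iff, mul_inv_eq_iff_eq_mul]
    exact ⟨fun hh => ⟨n.2, hh⟩, fun hh => hh.2⟩
  have h2 : MulAction.orbit N v = {s : X | s ∈ V ∧ s ≠ 1} := by
    ext s
    constructor
    · rintro ⟨n, rfl⟩
      refine ⟨hN n n.2 v hv, ?_⟩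
      intro hh
      have : (n : X) * v * (n : X)⁻¹ = 1 := hh
      apply hv1
      simpa [mul_inv_eq_iff_eq_mul] using this
    · rintro ⟨hs, hs1⟩
      obtain ⟨n, hn, hns⟩ := htr s hs hs1
      exact ⟨⟨n, hn⟩, hns⟩
  rw [relIndex, ← h1, MulAction.index_stabilizer, h2]
  exact card_ne_one V

theorem relIndex_mul_card {A B : Subgroup X} (h : A ≤ B) : A.relIndex B * Nat.card A = Nat.card B := by
  have h1 := (A.subgroupOf B).index_mul_card
  rwa [Nat.card_congr (subgroupOfEquivOfLe h).toEquiv] at h1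

/-- `|N(T)| = 3 |C(T)|` -/
theorem card_normalizer (h : TypeB T K) (hW : WType K) :
    Nat.card (normalizer ((T : Subgroup X) : Set X)) = 3 * Nat.card (centralizer ((T : Subgroup X) : Set X)) := by
  have hf : Fact (Nat.Prime 2) := ⟨Nat.prime_two⟩
  obtain ⟨P, hP, hPsq, hPcard⟩ := h.exists_sylow
  have hs := h.simple
  have hKn := h.normal
  have hmemP : ∀ x : K, x ∈ (P : Subgroup K) ↔ (x : X) ∈ (T : Subgroup X) := by
    intro x
    rw [hP, mem_subgroupOf]
  have key : ∀ m : K, m ∈ normalizer ((P : Subgroup K) : Set K) →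
      ∀ s ∈ (T : Subgroup X), (m : X) * s * (m : X)⁻¹ ∈ (T : Subgroup X) := by
    intro m hm s hs
    obtain ⟨k, hk, c, hc, rfl⟩ := AbStruct.exists_inner h.core h.comm h.comp hs
    have h2 : (m : X) * k * (m : X)⁻¹ ∈ (T : Subgroup X) :=
      (hmemP _).1 ((mem_normalizer_iff.1 hm ⟨k, hk.2⟩).1 ((hmemP _).2 hk.1))
    have h4 : (m : X) * (k * c) * (m : X)⁻¹ = (m : X) * k * (m : X)⁻¹ * c := by
      have h5 : (m : X)⁻¹ * c = c * (m : X)⁻¹ := mem_centralizer_iff.1 hc.2 _ (inv_mem m.2)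
      calc (m : X) * (k * c) * (m : X)⁻¹ = (m : X) * k * (c * (m : X)⁻¹) := by group
        _ = (m : X) * k * (m : X)⁻¹ * c := by rw [← h5]; group
    rw [h4]
    exact mul_mem h2 hc.1
  obtain ⟨v, hv, hv1⟩ : ∃ v ∈ (P : Subgroup K), v ≠ 1 := by
    refine (bot_or_exists_ne_one (P : Subgroup K)).resolve_left ?_
    intro h1
    rw [h1, card_bot] at hPcard
    norm_num at hPcard
  set N := normalizer ((T : Subgroup X) : Set X) with hNdef
  have h1 := relIndex_of_trans (N := N) (V := (T : Subgroup X) ⊓ K) (v := (v : X)) (by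
      rintro n hn s ⟨hs1, hs2⟩
      exact ⟨(mem_normalizer_iff.1 hn s).1 hs1, hKn.conj_mem s hs2 n⟩) ⟨(hmemP v).1 hv, v.2⟩
    (fun hh => hv1 (Subtype.ext hh)) (by
      rintro s ⟨hs1, hs2⟩ hs3
      obtain ⟨m, hm, hmv⟩ := PairsRot.exists_normalizer_conj hW h.hna P v hv hv1 ⟨s, hs2⟩ ((hmemP _).2 hs1)
        (fun hh => hs3 (congrArg Subtype.val hh))
      refine ⟨m, ?_, congrArg Subtype.val hmv⟩
      rw [mem_normalizer_iff]
      intro s'
      refine ⟨key m hm s', fun h6 => ?_⟩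
      have h7 := key m⁻¹ (inv_mem hm) _ h6
      simpa [mul_assoc] using h7)
  have h2 : N ⊓ centralizer ({(v : X)} : Set X) = centralizer ((T : Subgroup X) : Set X) := by
    apply le_antisymm
    · rintro g ⟨hg1, hg2⟩
      refine centralizes_of_fix h hW hg1 ((hmemP v).1 hv) v.2 (fun hh => hv1 (Subtype.ext hh)) ?_
      exact mul_inv_eq_iff_eq_mul.2 (mem_centralizer_singleton_iff.1 hg2)
    · intro g hg
      refine ⟨centralizer_le_normalizer _ hg, mem_centralizer_singleton_iff.2 ?_⟩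
      exact (mem_centralizer_iff.1 hg v ((hmemP v).1 hv)).symm
  rw [h2, h.card] at h1
  have h3 := relIndex_mul_card (A := centralizer ((T : Subgroup X) : Set X)) (B := N) (centralizer_le_normalizer _)
  rw [h1] at h3
  exact h3.symm

end X

section G

variable {G : Type u} [Group G] [Finite G] {S : Sylow 2 G}

theorem mem_sub {P : Subgroup G} {hP : (S : Subgroup G) ≤ P} {x : P} :
    x ∈ ((S.subtype hP : Sylow 2 P) : Subgroup P) ↔ (x : G) ∈ (S : Subgroup G) := by
  rw [Sylow.coe_subtype, mem_subgroupOf]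

variable (H5 : Set5 S)

include H5

/-- `|C(t)| = 2 |K| |Φ|` -/
theorem card_C {t : G} (ht : t ∈ (S : Subgroup G)) (ht1 : t ≠ 1) {K : Subgroup (C t)}
    (hK : TypeB (S.subtype ((H5.data t ht ht1).le_centralizer (H5.data t ht ht1).mem)) K) (hW : WType K) :
    Nat.card (C t) = 2 * Nat.card K * Nat.card (PhiG S) := by
  rw [← card_PhiG (H5.data t ht ht1)]
  exact card_X hK hW (by rw [FieldG.card_subtype, (H5.data t ht ht1).card])

/-- `|N_G(S)| = 168 |Φ|` -/
theorem card_N : Nat.card (normalizer ((S : Subgroup G) : Set G)) = 168 * Nat.card (PhiG S) := by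
  obtain ⟨t, ht, ht1⟩ := H5.ne
  have h := H5.data t ht ht1
  obtain ⟨K, hK, hW⟩ := H5.typeB t ht ht1
  have h1 := h.index_seven
  have h2 := relIndex_mul_card (A := normalizer ((S : Subgroup G) : Set G) ⊓ centralizer ({t} : Set G))
    (B := normalizer ((S : Subgroup G) : Set G)) inf_le_left
  have h3 : Nat.card (normalizer ((S : Subgroup G) : Set G) ⊓ centralizer ({t} : Set G) : Subgroup G) =
      Nat.card (normalizer (((S.subtype (h.le_centralizer h.mem) : Sylow 2 (C t)) : Subgroup (C t)) : Set (C t))) := by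
    refine Nat.card_congr ⟨fun n => ⟨⟨n.1, n.2.2⟩, ?_⟩, fun n => ⟨((n : C t) : G), ?_, (n : C t).2⟩,
      fun _ => rfl, fun _ => rfl⟩
    · rw [mem_normalizer_iff]
      intro s
      rw [Sylow.coe_subtype, mem_subgroupOf, mem_subgroupOf]
      exact mem_normalizer_iff.1 n.2.1 s
    · have hn := n.2
      change ((n : C t) : G) ∈ normalizer ((S : Subgroup G) : Set G)
      rw [mem_normalizer_iff]
      intro s
      constructor
      · intro hs
        exact mem_sub.1 ((mem_normalizer_iff.1 hn ⟨s, h.le_centralizer h.mem hs⟩).1 (mem_sub.2 hs))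
      · intro hs
        have hsC : s ∈ C t := by
          have h5 := mul_mem (mul_mem (inv_mem (n : C t).2) (h.le_centralizer h.mem hs)) (n : C t).2
          have e : ((n : C t) : G)⁻¹ * (((n : C t) : G) * s * ((n : C t) : G)⁻¹) * ((n : C t) : G) = s := by group
          rwa [e] at h5
        exact mem_sub.1 ((mem_normalizer_iff.1 hn ⟨s, hsC⟩).2 (mem_sub.2 hs))
  have h4 := card_normalizer hK hW
  have h5 := card_centralizer hK.comm
  rw [FieldG.card_subtype, h.card, card_PhiG h] at h5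
  rw [h1, h3, h4, h5] at h2
  rw [← h2]
  ring

/-- `|C_G(S)| = 8 |Φ|` -/
theorem card_CS : Nat.card (centralizer ((S : Subgroup G) : Set G)) = 8 * Nat.card (PhiG S) := by
  obtain ⟨t, ht, ht1⟩ := H5.ne
  have h := H5.data t ht ht1
  rw [card_centralizer h.comm, h.card]
  rfl

end G

end Cfsg.Agent.Walter.FieldCard
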