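import Mathlib
import Cfsg.Prelude.Def_Local
import Cfsg.Agent.Walter.FieldCard

/-!
# The quotient `C(y)/⟨y⟩`
-/

set_option autoImplicit false
set_option linter.unusedSectionVars false
set_option linter.unusedVariables false

namespace Cfsg.Agent.Walter.FieldQuot

open Subgroup Cfsg
open Cfsg.Agent.SignalizersComponents Cfsg.Agent.SignalizersComponents.Components
open Cfsg.Agent.Walter.Types Cfsg.Agent.Walter.BalLocal Cfsg.Agent.Walter.OddCoreIn Cfsg.Agent.Walter.Cover
open Cfsg.Agent.Walter.CentB (TypeB)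
open Cfsg.Agent.Walter.FieldX Cfsg.Agent.Walter.FieldY Cfsg.Agent.Walter.FieldPSL Cfsg.Agent.Walter.FieldG
open Cfsg.Agent.Walter.FieldCore Cfsg.Agent.Walter.FieldCard
open Cfsg.Agent.Walter.Setup (Data)

universe u

section Abstract

variable {Q : Type u} [Group Q] [Finite Q] {T : Sylow 2 Q}

/-- the structure of a core-free group with elementary Sylow 2-subgroup of order 8 and all involutions
conjugate. -/
theorem dich_Q (hO : pPrimeCore 2 Q = ⊥) (hsq : ∀ s ∈ (T : Subgroup Q), s * s = 1)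
    (h8 : Nat.card (T : Subgroup Q) = 8)
    (htr : ∀ s ∈ (T : Subgroup Q), s ≠ 1 → ∀ s' ∈ (T : Subgroup Q), s' ≠ 1 →
      ∃ n ∈ normalizer ((T : Subgroup Q) : Set Q), n * s * n⁻¹ = s') :
    (T : Subgroup Q).Normal ∨ ∃ K : Subgroup Q, IsComponent K ∧ K.Normal ∧ (T : Subgroup Q) ≤ K := by
  have hc := AutFacts.comm_of_sq T hsq
  rcases AbTypes.cases_of_card_eight hO hc h8 with ⟨h1, -⟩ | ⟨K, hK, -, -, hKn, ⟨-, h2, -, -⟩ | ⟨hTK, -⟩⟩
  · left
    rw [← h1]
    exact Lib.Cores.pCore_normal 2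
  · exfalso
    have hZn : (pCore 2 Q).Normal := Lib.Cores.pCore_normal 2
    have hZT := Lib.Cores.pCore_le_sylow T
    obtain ⟨z, hz, hz1⟩ : ∃ z ∈ pCore 2 Q, z ≠ 1 := by
      refine (bot_or_exists_ne_one (pCore 2 Q)).resolve_left ?_
      intro h3
      rw [h3, card_bot] at h2
      norm_num at h2
    -- every non-trivial element of `T` lies in `Z`
    have h3 : (T : Subgroup Q) ≤ pCore 2 Q := by
      intro s hs
      by_cases hs1 : s = 1
      · rw [hs1]; exact one_mem _
      · obtain ⟨n, -, hn⟩ := htr z (hZT hz) hz1 s hs hs1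
        rw [← hn]
        exact hZn.conj_mem z hz n
    have h4 := card_dvd_of_le h3
    rw [h8, h2] at h4
    norm_num at h4
  · right
    exact ⟨K, hK, hKn, hTK⟩

/-- the index of a normal subgroup containing `T` -/
theorem index_eq {K : Subgroup Q} (hK : K.Normal) (hTK : (T : Subgroup Q) ≤ K) :
    Nat.card Q * Nat.card (K ⊓ normalizer ((T : Subgroup Q) : Set Q) : Subgroup Q) =
      Nat.card K * Nat.card (normalizer ((T : Subgroup Q) : Set Q)) := by
  have hf : Fact (Nat.Prime 2) := ⟨Nat.prime_two⟩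
  have h1 := T.normalizer_sup_eq_top' (N := K) hTK
  set N := normalizer ((T : Subgroup Q) : Set Q) with hN
  have h2 : K.index = (K ⊓ N).relIndex N := by
    rw [inf_relIndex_right, ← relIndex_top_right, ← h1, relIndex_sup_right]
    rfl
  have h3 := relIndex_mul_card (A := K ⊓ N) (B := N) inf_le_right
  have h4 := K.index_mul_card
  rw [← h3, ← h2, ← h4]
  ring

/-- a normal simple non-abelian subgroup of `Z₂ × L`, `L` simple, is isomorphic to `L`. -/
theorem equiv_of_normal_prod {L : Type*} [Group L] [IsSimpleGroup L]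
    {N : Subgroup (Multiplicative (ZMod 2) × L)} (hN : N.Normal) (hNs : IsSimpleGroup N)
    (hna : ∃ a b : N, a * b ≠ b * a) : Nonempty (N ≃* L) := by
  let f : N →* L := (MonoidHom.snd (Multiplicative (ZMod 2)) L).comp N.subtype
  have hker : f.ker = ⊥ := by
    rcases (inferInstance : f.ker.Normal).eq_bot_or_eq_top with h | h
    · exact h
    · exfalso
      obtain ⟨a, b, hab⟩ := hna
      apply hab
      have ha : a ∈ f.ker := by rw [h]; trivial
      have hb : b ∈ f.ker := by rw [h]; trivial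
      have ha' : (a : Multiplicative (ZMod 2) × L).2 = 1 := ha
      have hb' : (b : Multiplicative (ZMod 2) × L).2 = 1 := hb
      apply Subtype.ext
      refine Prod.ext (mul_comm _ _) ?_
      change (a : Multiplicative (ZMod 2) × L).2 * (b : Multiplicative (ZMod 2) × L).2 =
        (b : Multiplicative (ZMod 2) × L).2 * (a : Multiplicative (ZMod 2) × L).2
      rw [ha', hb']
  have hinj : Function.Injective f := (MonoidHom.ker_eq_bot_iff f).1 hker
  have hrange : f.range.Normal := by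
    have h1 : f.range = N.map (MonoidHom.snd (Multiplicative (ZMod 2)) L) := by
      rw [MonoidHom.range_comp, range_subtype]
    rw [h1]
    exact hN.map _ Prod.snd_surjective
  have hsurj : Function.Surjective f := by
    rw [← MonoidHom.range_eq_top]
    rcases hrange.eq_bot_or_eq_top with h | h
    · exfalso
      have hnt : Nontrivial N := inferInstance
      obtain ⟨a, ha⟩ := exists_ne (1 : N)
      apply ha
      apply hinj
      rw [map_one]
      have h2 : f a ∈ f.range := ⟨a, rfl⟩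
      rw [h] at h2
      exact h2
    · exact h
  exact ⟨MulEquiv.ofBijective f ⟨hinj, hsurj⟩⟩

theorem psl_noncomm (F : Type*) [Field F] :
    ∃ a b : Matrix.ProjectiveSpecialLinearGroup (Fin 2) F, a * b ≠ b * a := by
  let x : Matrix.SpecialLinearGroup (Fin 2) F := ⟨!![1, 1; 0, 1], by simp [Matrix.det_fin_two]⟩
  let y : Matrix.SpecialLinearGroup (Fin 2) F := ⟨!![1, 0; 1, 1], by simp [Matrix.det_fin_two]⟩
  refine ⟨ClassicalGeometry.AutPSL.Root.pr x, ClassicalGeometry.AutPSL.Root.pr y, ?_⟩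
  rw [← map_mul, ← map_mul, ne_eq, pr_eq_iff]
  rintro (h | h)
  · have h1 := congrFun (congrFun (congrArg Subtype.val h) 0) 0
    rw [Matrix.SpecialLinearGroup.coe_mul, Matrix.SpecialLinearGroup.coe_mul] at h1
    simp [x, y, Matrix.mul_apply, Fin.sum_univ_two] at h1
  · have h1 := congrFun (congrFun (congrArg Subtype.val h) 0) 0
    have h2 := congrFun (congrFun (congrArg Subtype.val h) 0) 1
    rw [Matrix.SpecialLinearGroup.coe_neg, Matrix.SpecialLinearGroup.coe_mul,
      Matrix.SpecialLinearGroup.coe_mul] at h1 h2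
    simp [x, y, Matrix.mul_apply, Fin.sum_univ_two] at h1 h2
    have h3 : (1 : F) = 0 := by linear_combination h1 - h2
    exact one_ne_zero h3

end Abstract

section Quot

variable {G : Type u} [Group G] [Finite G] {S : Sylow 2 G}

theorem card_map_mul {A B : Type*} [Group A] [Finite A] [Group B] (f : A →* B) {H : Subgroup A} (h : f.ker ≤ H) :
    Nat.card (H.map f) * Nat.card f.ker = Nat.card H := by
  rw [← Subgroup.relIndex_ker]
  exact relIndex_mul_card h

theorem card_normalizer_subtype {P : Subgroup G} (hP : (S : Subgroup G) ≤ P)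
    (hN : normalizer ((S : Subgroup G) : Set G) ≤ P) :
    Nat.card (normalizer (((S.subtype hP : Sylow 2 P) : Subgroup P) : Set P)) =
      Nat.card (normalizer ((S : Subgroup G) : Set G)) := by
  refine Nat.card_congr ⟨fun n => ⟨((n : P) : G), ?_⟩, fun n => ⟨⟨n.1, hN n.2⟩, ?_⟩, fun _ => rfl, fun _ => rfl⟩
  · have hn := n.2
    rw [mem_normalizer_iff]
    intro s
    constructor
    · intro hs
      exact mem_sub.1 ((mem_normalizer_iff.1 hn ⟨s, hP hs⟩).1 (mem_sub.2 hs))
    · intro hs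
      have hsC : s ∈ P := by
        have h5 := mul_mem (mul_mem (inv_mem (n : P).2) (hP hs)) (n : P).2
        have e : ((n : P) : G)⁻¹ * (((n : P) : G) * s * ((n : P) : G)⁻¹) * ((n : P) : G) = s := by group
        rwa [e] at h5
      exact mem_sub.1 ((mem_normalizer_iff.1 hn ⟨s, hsC⟩).2 (mem_sub.2 hs))
  · rw [mem_normalizer_iff]
    intro s
    rw [Sylow.coe_subtype, mem_subgroupOf, mem_subgroupOf]
    exact mem_normalizer_iff.1 n.2 s

theorem card_centralizer_subtype {P : Subgroup G} (hP : (S : Subgroup G) ≤ P)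
    (hC : centralizer ((S : Subgroup G) : Set G) ≤ P) :
    Nat.card (centralizer (((S.subtype hP : Sylow 2 P) : Subgroup P) : Set P)) =
      Nat.card (centralizer ((S : Subgroup G) : Set G)) := by
  refine Nat.card_congr ⟨fun n => ⟨((n : P) : G), ?_⟩, fun n => ⟨⟨n.1, hC n.2⟩, ?_⟩, fun _ => rfl, fun _ => rfl⟩
  · rw [mem_centralizer_iff]
    intro s hs
    exact congrArg Subtype.val (mem_centralizer_iff.1 n.2 ⟨s, hP hs⟩ (mem_sub.2 hs))
  · rw [mem_centralizer_iff]
    intro s hs
    exact Subtype.ext (mem_centralizer_iff.1 n.2 s (mem_sub.1 hs))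

/-- the quotient `C(y)/O(C(y))` -/
abbrev Q (y : G) : Type u := C y ⧸ pPrimeCore 2 (C y)

/-- the projection -/
abbrev pr (y : G) : C y →* Q y := QuotientGroup.mk' (pPrimeCore 2 (C y))

theorem pr_surj (y : G) : Function.Surjective (pr y) := QuotientGroup.mk'_surjective _

theorem S_le {y : G} (hy : y ∈ PhiG S) : (S : Subgroup G) ≤ C y := by
  intro s hs
  exact mem_centralizer_singleton_iff.2 (mem_centralizer_iff.1 (PhiG_le S hy) s hs)

/-- the Sylow 2-subgroup of the quotient -/
noncomputable def TQ {y : G} (hy : y ∈ PhiG S) : Sylow 2 (Q y) := (S.subtype (S_le hy)).mapSurjective (pr_surj y)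

theorem coe_TQ {y : G} (hy : y ∈ PhiG S) : (TQ hy : Subgroup (Q y)) =
    ((S.subtype (S_le hy) : Sylow 2 (C y)) : Subgroup (C y)).map (pr y) := Sylow.coe_mapSurjective _ _

theorem pr_mem_TQ {y : G} (hy : y ∈ PhiG S) {s : G} (hs : s ∈ (S : Subgroup G)) (hsC : s ∈ C y) :
    pr y ⟨s, hsC⟩ ∈ (TQ hy : Subgroup (Q y)) := by
  rw [coe_TQ]
  exact ⟨⟨s, hsC⟩, mem_sub.2 hs, rfl⟩

variable (H5 : Set5 S)

include H5

theorem N_le {y : G} (hy : y ∈ PhiG S) : normalizer ((S : Subgroup G) : Set G) ≤ C y := by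
  intro n hn
  exact mem_centralizer_singleton_iff.2 (commute_N H5 hy hn).symm

theorem core_eq {y : G} (hy : y ∈ PhiG S) : pPrimeCore 2 (C y) = (zpowers y).subgroupOf (C y) := by
  have h1 : OO (C y) = zpowers y := FieldCore.OO_eq H5 hy
  rw [← h1, OO, subgroupOf, comap_map_eq_self_of_injective (C y).subtype_injective]

theorem pr_eq_one {y : G} (hy : y ∈ PhiG S) {x : C y} : pr y x = 1 ↔ (x : G) ∈ zpowers y := by
  rw [← MonoidHom.mem_ker, QuotientGroup.ker_mk', core_eq H5 hy, mem_subgroupOf]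

theorem card_ker {y : G} (hy : y ∈ PhiG S) : Nat.card (pr y).ker = orderOf y := by
  rw [QuotientGroup.ker_mk', core_eq H5 hy, ← Nat.card_zpowers]
  refine Nat.card_congr (subgroupOfEquivOfLe ?_).toEquiv
  rw [zpowers_le]
  exact mem_centralizer_singleton_iff.2 rfl

theorem ker_le {y : G} (hy : y ∈ PhiG S) {A : Subgroup (C y)}
    (hA : centralizer (((S.subtype (S_le hy) : Sylow 2 (C y)) : Subgroup (C y)) : Set (C y)) ≤ A) :
    (pr y).ker ≤ A := by
  refine le_trans ?_ hA
  intro x hx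
  have h1 := (pr_eq_one H5 hy).1 hx
  rw [mem_centralizer_iff]
  intro s hs
  obtain ⟨n, hn⟩ := mem_zpowers_iff.1 h1
  have h2 : Commute (s : G) y := mem_centralizer_iff.1 (PhiG_le S hy) s (mem_sub.1 hs)
  apply Subtype.ext
  change (s : G) * x = x * s
  rw [← hn]
  exact (h2.zpow_right n).eq

theorem card_N_Q {y : G} (hy : y ∈ PhiG S) :
    Nat.card (normalizer ((TQ hy : Subgroup (Q y)) : Set (Q y))) * orderOf y = 168 * Nat.card (PhiG S) := by
  have hf : Fact (Nat.Prime 2) := ⟨Nat.prime_two⟩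
  have h1 := PLocal.PConstrained.map_normalizer_eq (p := 2) (pr y) (pr_surj y) CentB.card_ker
    (P := ((S.subtype (S_le hy) : Sylow 2 (C y)) : Subgroup (C y))) (S.subtype (S_le hy)).isPGroup'
  have h2 := card_map_mul (pr y) (H := normalizer (((S.subtype (S_le hy) : Sylow 2 (C y)) : Subgroup (C y)) : Set (C y)))
    (ker_le H5 hy (centralizer_le_normalizer _))
  rw [h1, ← coe_TQ, card_ker H5 hy, card_normalizer_subtype _ (N_le H5 hy), card_N H5] at h2
  exact h2

theorem card_C_Q {y : G} (hy : y ∈ PhiG S) :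
    Nat.card (centralizer ((TQ hy : Subgroup (Q y)) : Set (Q y))) * orderOf y = 8 * Nat.card (PhiG S) := by
  have hf : Fact (Nat.Prime 2) := ⟨Nat.prime_two⟩
  have h1 := PLocal.PConstrained.map_centralizer_eq (p := 2) (pr y) (pr_surj y) CentB.card_ker
    (P := ((S.subtype (S_le hy) : Sylow 2 (C y)) : Subgroup (C y))) (S.subtype (S_le hy)).isPGroup'
  have h2 := card_map_mul (pr y) (H := centralizer (((S.subtype (S_le hy) : Sylow 2 (C y)) : Subgroup (C y)) : Set (C y)))
    (ker_le H5 hy le_rfl)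
  rw [h1, ← coe_TQ, card_ker H5 hy, card_centralizer_subtype _
    ((centralizer_le_normalizer _).trans (N_le H5 hy)), card_CS H5] at h2
  exact h2

theorem card_Q {y : G} (hy : y ∈ PhiG S) : Nat.card (Q y) * orderOf y = Nat.card (C y) := by
  have h1 := card_map_mul (pr y) (H := (⊤ : Subgroup (C y))) le_top
  rw [← MonoidHom.range_eq_map, MonoidHom.range_eq_top.2 (pr_surj y), Subgroup.card_top, card_ker H5 hy,
    Subgroup.card_top] at h1
  exact h1

theorem TQ_sq {y : G} (hy : y ∈ PhiG S) : ∀ s ∈ (TQ hy : Subgroup (Q y)), s * s = 1 := by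
  intro s hs
  obtain ⟨t, ht, ht1⟩ := H5.ne
  rw [coe_TQ] at hs
  obtain ⟨x, hx, rfl⟩ := hs
  have h1 : x * x = 1 := Subtype.ext ((H5.data t ht ht1).sq x (mem_sub.1 hx))
  rw [← map_mul, h1, map_one]

theorem TQ_card {y : G} (hy : y ∈ PhiG S) : Nat.card (TQ hy : Subgroup (Q y)) = 8 := by
  have hf : Fact (Nat.Prime 2) := ⟨Nat.prime_two⟩
  obtain ⟨t, ht, ht1⟩ := H5.ne
  have h8 : Nat.card ((S.subtype (S_le hy) : Sylow 2 (C y)) : Subgroup (C y)) = 8 := by
    rw [FieldG.card_subtype, (H5.data t ht ht1).card]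
  refine Nat.dvd_antisymm ?_ ?_
  · rw [coe_TQ, ← h8]
    exact card_map_dvd _ _
  · refine (TQ hy).pow_dvd_card_of_pow_dvd_card (n := 3) ?_
    have h2 := (pPrimeCore 2 (C y)).card_mul_index
    rw [index_eq_card] at h2
    have h3 : 2 ^ 3 ∣ Nat.card (C y) := by
      have h4 := card_subgroup_dvd_card ((S.subtype (S_le hy) : Sylow 2 (C y)) : Subgroup (C y))
      rw [h8] at h4
      exact h4
    rw [← h2] at h3
    exact (Nat.Coprime.pow_left 3 (Lib.Cores.pPrimeCore_coprime 2).symm).dvd_of_dvd_mul_left h3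

theorem TQ_trans {y : G} (hy : y ∈ PhiG S) : ∀ s ∈ (TQ hy : Subgroup (Q y)), s ≠ 1 →
    ∀ s' ∈ (TQ hy : Subgroup (Q y)), s' ≠ 1 →
      ∃ n ∈ normalizer ((TQ hy : Subgroup (Q y)) : Set (Q y)), n * s * n⁻¹ = s' := by
  intro s hs hs1 s' hs' hs1'
  have hs0 := hs
  have hs0' := hs'
  rw [coe_TQ] at hs0 hs0'
  obtain ⟨x, hx, rfl⟩ := hs0
  obtain ⟨x', hx', rfl⟩ := hs0'
  have hxS := mem_sub.1 hx
  have hxS' := mem_sub.1 hx'
  have hx1 : (x : G) ≠ 1 := fun h => hs1 (by
    have : x = 1 := Subtype.ext h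
    rw [this, map_one])
  have hx1' : (x' : G) ≠ 1 := fun h => hs1' (by
    have : x' = 1 := Subtype.ext h
    rw [this, map_one])
  obtain ⟨n, hn, hnx⟩ := (H5.data x hxS hx1).trans x' hxS' hx1'
  refine ⟨pr y ⟨n, N_le H5 hy hn⟩, ?_, ?_⟩
  · rw [coe_TQ]
    refine Subgroup.le_normalizer_map (pr y) ⟨⟨n, N_le H5 hy hn⟩, ?_, rfl⟩
    change (⟨n, N_le H5 hy hn⟩ : C y) ∈ normalizer _
    rw [mem_normalizer_iff]
    intro s
    rw [Sylow.coe_subtype, mem_subgroupOf, mem_subgroupOf]
    exact mem_normalizer_iff.1 hn s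
  · rw [← map_mul, ← map_inv, ← map_mul]
    congr 1
    exact Subtype.ext hnx

end Quot

end Cfsg.Agent.Walter.FieldQuot
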