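import Mathlib
import Cfsg.Prelude.Def_Local
import Cfsg.Agent.Walter.FieldQuot

/-!
# The centralizers of the elements of `Φ`
-/

set_option autoImplicit false
set_option linter.unusedSectionVars false
set_option linter.unusedVariables false

namespace Cfsg.Agent.Walter.FieldTri

open Subgroup Cfsg
open Cfsg.Agent.SignalizersComponents Cfsg.Agent.SignalizersComponents.Components
open Cfsg.Agent.Walter.Types Cfsg.Agent.Walter.BalLocal Cfsg.Agent.Walter.OddCoreIn Cfsg.Agent.Walter.Cover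
open Cfsg.Agent.Walter.CentB (TypeB)
open Cfsg.Agent.Walter.FieldX Cfsg.Agent.Walter.FieldY Cfsg.Agent.Walter.FieldPSL Cfsg.Agent.Walter.FieldG
open Cfsg.Agent.Walter.FieldCore Cfsg.Agent.Walter.FieldCard Cfsg.Agent.Walter.FieldQuot
open Cfsg.Agent.Walter.Setup (Data)

universe u

section X

variable {X : Type*} [Group X] [Finite X] {T : Sylow 2 X} {K : Subgroup X} {F : Type} [Field F] [Fintype F]

/-- `N_K(T)` is transitive on the involutions of `T ∩ K`. -/
theorem exists_trans (h : TypeB T K) (hW : WType K) {v s : X} (hv : v ∈ (T : Subgroup X) ⊓ K) (hv1 : v ≠ 1)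
    (hs : s ∈ (T : Subgroup X) ⊓ K) (hs1 : s ≠ 1) :
    ∃ m ∈ K ⊓ normalizer ((T : Subgroup X) : Set X), m * v * m⁻¹ = s := by
  have hf : Fact (Nat.Prime 2) := ⟨Nat.prime_two⟩
  obtain ⟨P, hP, hPsq, hPcard⟩ := h.exists_sylow
  have hsi := h.simple
  have hmemP : ∀ x : K, x ∈ (P : Subgroup K) ↔ (x : X) ∈ (T : Subgroup X) := by
    intro x
    rw [hP, mem_subgroupOf]
  have key : ∀ m : K, m ∈ normalizer ((P : Subgroup K) : Set K) →
      ∀ s ∈ (T : Subgroup X), (m : X) * s * (m : X)⁻¹ ∈ (T : Subgroup X) := by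
    intro m hm s hs
    obtain ⟨k, hk, c, hc, rfl⟩ := AbStruct.exists_inner h.core h.comm h.comp hs
    have h2 : (m : X) * k * (m : X)⁻¹ ∈ (T : Subgroup X) :=
      (hmemP _).1 ((mem_normalizer_iff.1 hm ⟨k, hk.2⟩).1 ((hmemP _).2 hk.1))
    have h4 : (m : X) * (k * c) * (m : X)⁻¹ = (m : X) * k * (m : X)⁻¹ * c := by
      have h5 : (m : X)⁻¹ * c = c * (m : X)⁻¹ := mem_centralizer_iff.1 hc.2 _ (inv_mem m.2)
      calc (m : X) * (k * c) * (m : X)⁻¹ = (m : X) * k * (c * (m : X)⁻¹) := by group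
        _ = (m : X) * k * (m : X)⁻¹ * c := by rw [← h5]; group
    rw [h4]
    exact mul_mem h2 hc.1
  obtain ⟨m, hm, hmv⟩ := PairsRot.exists_normalizer_conj hW h.hna P ⟨v, hv.2⟩ ((hmemP _).2 hv.1)
    (fun hh => hv1 (congrArg Subtype.val hh)) ⟨s, hs.2⟩ ((hmemP _).2 hs.1) (fun hh => hs1 (congrArg Subtype.val hh))
  refine ⟨m, mem_inf.2 ⟨m.2, ?_⟩, congrArg Subtype.val hmv⟩
  rw [mem_normalizer_iff]
  intro s'
  refine ⟨key m hm s', fun h6 => ?_⟩
  have h7 := key m⁻¹ (inv_mem hm) _ h6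
  simpa [mul_assoc] using h7

theorem inf_ne_bot (h : TypeB T K) : ∃ v ∈ (T : Subgroup X) ⊓ K, v ≠ 1 := by
  refine (bot_or_exists_ne_one ((T : Subgroup X) ⊓ K)).resolve_left ?_
  intro h1
  have h2 := h.card
  rw [h1, card_bot] at h2
  norm_num at h2

theorem card_inf_normalizer (h : TypeB T K) (hW : WType K) :
    12 ∣ Nat.card (K ⊓ normalizer ((T : Subgroup X) : Set X) : Subgroup X) := by
  obtain ⟨v, hv, hv1⟩ := inf_ne_bot h
  have hKn := h.normal
  have h1 := relIndex_of_trans (N := K ⊓ normalizer ((T : Subgroup X) : Set X)) (V := (T : Subgroup X) ⊓ K)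
    (by
      rintro n ⟨hnK, hn⟩ s ⟨hs1, hs2⟩
      exact ⟨(mem_normalizer_iff.1 hn s).1 hs1, hKn.conj_mem s hs2 n⟩) hv hv1
    (fun s hs hs1 => exists_trans h hW hv hv1 hs hs1)
  rw [h.card] at h1
  have h2 := relIndex_mul_card (A := (K ⊓ normalizer ((T : Subgroup X) : Set X)) ⊓ centralizer ({v} : Set X))
    (B := K ⊓ normalizer ((T : Subgroup X) : Set X)) inf_le_left
  rw [h1] at h2
  have h3 : (T : Subgroup X) ⊓ K ≤ (K ⊓ normalizer ((T : Subgroup X) : Set X)) ⊓ centralizer ({v} : Set X) := by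
    rintro s ⟨hs1, hs2⟩
    exact mem_inf.2 ⟨mem_inf.2 ⟨hs2, Subgroup.le_normalizer hs1⟩,
      mem_centralizer_singleton_iff.2 (h.comm _ hs1 _ hv.1)⟩
  have h4 := card_dvd_of_le h3
  rw [h.card] at h4
  rw [← h2]
  exact mul_dvd_mul (by norm_num : 3 ∣ 4 - 1) h4

theorem card_inf_centralizer (h : TypeB T K) (h8 : Fintype.card F % 8 = 3 ∨ Fintype.card F % 8 = 5)
    (M : Model T K F) (y : Phi T) :
    2 * Nat.card (K ⊓ centralizer ({(y : X)} : Set X) : Subgroup X) =
      Nat.card (Fix (M.τ y)) * (Nat.card (Fix (M.τ y)) ^ 2 - 1) := by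
  obtain ⟨e⟩ := M.exists_equiv h.normal (two_ne_zero h8) y
  have hfin : Fintype (Fix (M.τ y)) := Fintype.ofFinite _
  rw [Nat.card_congr e.toEquiv, Nat.card_eq_fintype_card (α := Fix (M.τ y))]
  refine SmallSimple.PSLTwoPart.card_psl_two_odd ?_
  rw [← Nat.card_eq_fintype_card, Nat.odd_iff]
  have := M.card_Fix_mod h8 y
  omega

/-- the fixed field of order 3 -/
theorem inf_eq_of_three (h : TypeB T K) (hW : WType K) (h8 : Fintype.card F % 8 = 3 ∨ Fintype.card F % 8 = 5)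
    (M : Model T K F) (y : Phi T) (h3 : Nat.card (Fix (M.τ y)) = 3) :
    K ⊓ centralizer ({(y : X)} : Set X) = K ⊓ normalizer ((T : Subgroup X) : Set X) := by
  symm
  refine Subgroup.eq_of_le_of_card_ge (le_centralizer_y h hW y) ?_
  have h1 := card_inf_centralizer h h8 M y
  rw [h3] at h1
  have h2 := Nat.le_of_dvd Nat.card_pos (card_inf_normalizer h hW)
  omega

/-- elements of `C(y)` -/
theorem exists_factor_y (h : TypeB T K) (hW : WType K) (M : Model T K F) (y : Phi T) {g : X}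
    (hg : g ∈ centralizer ({(y : X)} : Set X)) :
    ∃ z ∈ pCore 2 X, ∃ k ∈ K ⊓ centralizer ({(y : X)} : Set X), ∃ y' ∈ Phi T, g = z * (k * y') := by
  obtain ⟨z, hz, k, hk, y', hy', rfl⟩ := exists_factor' h hW g
  refine ⟨z, hz, k, mem_inf.2 ⟨hk, ?_⟩, y', hy', rfl⟩
  have h1 : z ∈ centralizer ({(y : X)} : Set X) :=
    mem_centralizer_singleton_iff.2 (mem_center_iff.1 (h.central hz) y).symm
  have h2 : y' ∈ centralizer ({(y : X)} : Set X) :=
    mem_centralizer_singleton_iff.2 (M.comm y' y hy' y.2)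
  have h3 : k = z⁻¹ * (z * (k * y')) * y'⁻¹ := by group
  rw [h3]
  exact mul_mem (mul_mem (inv_mem h1) hg) (inv_mem h2)

theorem le_normalizer_of_three (h : TypeB T K) (hW : WType K)
    (h8 : Fintype.card F % 8 = 3 ∨ Fintype.card F % 8 = 5)
    (M : Model T K F) (y : Phi T) (h3 : Nat.card (Fix (M.τ y)) = 3) :
    centralizer ({(y : X)} : Set X) ≤ normalizer ((T : Subgroup X) : Set X) := by
  intro g hg
  obtain ⟨z, hz, k, hk, y', hy', rfl⟩ := exists_factor_y h hW M y hg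
  rw [inf_eq_of_three h hW h8 M y h3] at hk
  refine mul_mem (Subgroup.le_normalizer (Lib.Cores.pCore_le_sylow T hz)) (mul_mem hk.2 ?_)
  exact centralizer_le_normalizer _ (Phi_le T hy')

theorem mem_zpowers_of_three (h : TypeB T K) (hW : WType K)
    (h8 : Fintype.card F % 8 = 3 ∨ Fintype.card F % 8 = 5)
    (M : Model T K F) (y : Phi T) (h3 : Nat.card (Fix (M.τ y)) = 3) (y' : Phi T) : y' ∈ zpowers y := by
  refine M.mem_zpowers h.normal (two_ne_zero h8) y y' ?_
  intro k hk hky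
  have h1 : k ∈ K ⊓ centralizer ({(y : X)} : Set X) := mem_inf.2 ⟨hk, mem_centralizer_singleton_iff.2 hky⟩
  rw [inf_eq_of_three h hW h8 M y h3] at h1
  exact (commute_Phi h (PSLFacts.WType.selfc hW) y'.2 h1.1 h1.2).symm

end X

section Abs

variable {Q : Type u} [Group Q] [Finite Q] {T : Sylow 2 Q} {K1 : Subgroup Q}

theorem mem_of_two (hK : K1.Normal) (hTK : (T : Subgroup Q) ≤ K1) {x : Q} (hx : x * x = 1) : x ∈ K1 := by
  have hf : Fact (Nat.Prime 2) := ⟨Nat.prime_two⟩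
  have h1 : ¬ 2 ∣ Nat.card (Q ⧸ K1) := by
    rw [← index_eq_card]
    intro h2
    exact T.not_dvd_index (h2.trans (index_dvd_of_le hTK))
  rw [← QuotientGroup.eq_one_iff]
  by_contra hne
  have h3 : orderOf (x : Q ⧸ K1) = 2 := by
    refine orderOf_eq_prime ?_ hne
    rw [pow_two, ← QuotientGroup.mk_mul, hx, QuotientGroup.mk_one]
  apply h1
  rw [← h3]
  exact orderOf_dvd_natCard _

theorem le_of_simple (hK : K1.Normal) {L : Subgroup Q} (hL : IsSimpleGroup L) {x : Q} (hxL : x ∈ L) (hx1 : x ≠ 1)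
    (hxK : x ∈ K1) : L ≤ K1 := by
  have h1 : (K1.subgroupOf L).Normal := inferInstance
  rcases h1.eq_bot_or_eq_top with h2 | h2
  · exfalso
    apply hx1
    have h3 : (⟨x, hxL⟩ : L) ∈ K1.subgroupOf L := mem_subgroupOf.2 hxK
    rw [h2, mem_bot] at h3
    exact congrArg Subtype.val h3
  · exact subgroupOf_eq_top.1 h2

theorem isJR_of_cent (hW : WType K1) (hTK : (T : Subgroup Q) ≤ K1) (h8 : Nat.card (T : Subgroup Q) = 8)
    {t : Q} (ht : t ∈ (T : Subgroup Q)) (ht1 : t ≠ 1) {L : Subgroup Q} (hLt : L ≤ centralizer ({t} : Set Q))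
    (hLK : L ≤ K1) (hna : ∃ a ∈ L, ∃ b ∈ L, a * b ≠ b * a) : IsJR K1 := by
  have hf : Fact (Nat.Prime 2) := ⟨Nat.prime_two⟩
  have hP8 : Nat.card ((T.subtype hTK : Sylow 2 K1) : Subgroup K1) = 8 := by
    rw [FieldG.card_subtype, h8]
  rcases TypeSylow.of_card_eight hW (T.subtype hTK) hP8 with ⟨F, i1, i2, hF, ⟨e⟩⟩ | h1
  · exfalso
    obtain ⟨h1, h2, h3⟩ := PSLFacts.even_facts (n := 3) (by norm_num) (by rw [hF]; norm_num) e (T.subtype hTK)
    have h4 := h2 ⟨t, hTK ht⟩ (mem_sub.2 ht) (fun h => ht1 (congrArg Subtype.val h))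
    obtain ⟨a, ha, b, hb, hab⟩ := hna
    apply hab
    have hmem : ∀ x (hx : x ∈ L), (⟨x, hLK hx⟩ : K1) ∈ ((T.subtype hTK : Sylow 2 K1) : Subgroup K1) := by
      intro x hx
      rw [← h4, mem_centralizer_singleton_iff]
      exact Subtype.ext (mem_centralizer_singleton_iff.1 (hLt hx))
    exact congrArg Subtype.val (AutFacts.comm_of_sq (T.subtype hTK) h1 _ (hmem a ha) _ (hmem b hb))
  · exact h1

theorem exists_equiv_cent (hJ : IsJR K1) {t : Q} (htK : t ∈ K1) (ht2 : orderOf t = 2) {L : Subgroup Q}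
    (hL : IsSimpleGroup L) (hLt : L ≤ centralizer ({t} : Set Q)) (hLK : L ≤ K1)
    (hconj : ∀ g ∈ centralizer ({t} : Set Q), ∀ x ∈ L, g * x * g⁻¹ ∈ L)
    (hna : ∃ a ∈ L, ∃ b ∈ L, a * b ≠ b * a) :
    ∀ v : K1, orderOf v = 2 → Nonempty (centralizer ({v} : Set K1) ≃* Multiplicative (ZMod 2) × L) := by
  obtain ⟨-, F, i1, i2, h8, h5, hF⟩ := hJ
  have hs : IsSimpleGroup (Matrix.ProjectiveSpecialLinearGroup (Fin 2) F) :=
    TwoFusion.SLTwoFacts.isSimpleGroup_psl (by omega)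
  set t' : K1 := ⟨t, htK⟩ with ht'
  obtain ⟨e⟩ := hF t' (by rw [ht', Subgroup.orderOf_mk]; exact ht2)
  -- `L` in `C_{K1}(t)`
  let L' : Subgroup (centralizer ({t'} : Set K1)) := (L.subgroupOf K1).subgroupOf (centralizer ({t'} : Set K1))
  have hL'mem : ∀ x : centralizer ({t'} : Set K1), x ∈ L' ↔ ((x : K1) : Q) ∈ L := fun x => Iff.rfl
  let eL : L' ≃* L :=
    { toFun := fun x => ⟨((x : centralizer ({t'} : Set K1)) : K1), (hL'mem _).1 x.2⟩
      invFun := fun x => ⟨⟨⟨x, hLK x.2⟩, mem_centralizer_singleton_iff.2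
        (Subtype.ext (mem_centralizer_singleton_iff.1 (hLt x.2)))⟩, x.2⟩
      left_inv := fun _ => rfl
      right_inv := fun _ => rfl
      map_mul' := fun _ _ => rfl }
  have hL'n : L'.Normal := by
    refine ⟨fun x hx g => ?_⟩
    have h1 : (((g : K1) : Q)) ∈ centralizer ({t} : Set Q) := by
      rw [mem_centralizer_singleton_iff]
      exact congrArg Subtype.val (mem_centralizer_singleton_iff.1 g.2)
    exact hconj _ h1 _ hx
  let N := L'.map e.toMonoidHom
  have hN : N.Normal := hL'n.map _ e.surjective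
  let e1 : L' ≃* N := L'.equivMapOfInjective e.toMonoidHom e.injective
  have hNs : IsSimpleGroup N := (MulEquiv.isSimpleGroup_congr (e1.symm.trans eL)).2 hL
  have hNna : ∃ a b : N, a * b ≠ b * a := by
    obtain ⟨a, ha, b, hb, hab⟩ := hna
    refine ⟨e1 (eL.symm ⟨a, ha⟩), e1 (eL.symm ⟨b, hb⟩), ?_⟩
    rw [← map_mul, ← map_mul, ← map_mul, ← map_mul]
    intro h1
    exact hab (congrArg Subtype.val (eL.symm.injective (e1.injective h1)))
  obtain ⟨e2⟩ := equiv_of_normal_prod hN hNs hNna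
  have e3 : Matrix.ProjectiveSpecialLinearGroup (Fin 2) F ≃* L := (e2.symm.trans e1.symm).trans eL
  intro v hv
  obtain ⟨ev⟩ := hF v hv
  exact ⟨ev.trans (MulEquiv.prodCongr (MulEquiv.refl _) e3)⟩

/-- in terms of `Q` -/
theorem selfc (hW : WType K1) (hTK : (T : Subgroup Q) ≤ K1) :
    K1 ⊓ centralizer ((T : Subgroup Q) : Set Q) ≤ T := by
  rintro x ⟨hxK, hx⟩
  have h1 := PSLFacts.WType.selfc hW (T.subtype hTK)
  have h2 : (⟨x, hxK⟩ : K1) ∈ centralizer (((T.subtype hTK : Sylow 2 K1) : Subgroup K1) : Set K1) := by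
    rw [mem_centralizer_iff]
    intro s hs
    exact Subtype.ext (mem_centralizer_iff.1 hx s (mem_sub.1 hs))
  exact mem_sub.1 (h1 h2)

theorem exists_trans_K1 (hW : WType K1) (hs : IsSimpleGroup K1) (hna : ∃ a b : K1, a * b ≠ b * a)
    (hTK : (T : Subgroup Q) ≤ K1) {v s : Q} (hv : v ∈ (T : Subgroup Q)) (hv1 : v ≠ 1)
    (hsT : s ∈ (T : Subgroup Q)) (hs1 : s ≠ 1) :
    ∃ m ∈ K1 ⊓ normalizer ((T : Subgroup Q) : Set Q), m * v * m⁻¹ = s := by
  obtain ⟨m, hm, hmv⟩ := PairsRot.exists_normalizer_conj hW hna (T.subtype hTK) ⟨v, hTK hv⟩ (mem_sub.2 hv)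
    (fun h => hv1 (congrArg Subtype.val h)) ⟨s, hTK hsT⟩ (mem_sub.2 hsT) (fun h => hs1 (congrArg Subtype.val h))
  refine ⟨m, mem_inf.2 ⟨m.2, ?_⟩, congrArg Subtype.val hmv⟩
  rw [mem_normalizer_iff]
  intro x
  constructor
  · intro hx
    exact mem_sub.1 ((mem_normalizer_iff.1 hm ⟨x, hTK hx⟩).1 (mem_sub.2 hx))
  · intro hx
    have hxK : x ∈ K1 := by
      have h5 := mul_mem (mul_mem (inv_mem m.2) (hTK hx)) m.2
      have e : (m : Q)⁻¹ * ((m : Q) * x * (m : Q)⁻¹) * m = x := by group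
      rwa [e] at h5
    exact mem_sub.1 ((mem_normalizer_iff.1 hm ⟨x, hxK⟩).2 (mem_sub.2 hx))

theorem card_seven (hW : WType K1) (hs : IsSimpleGroup K1) (hna : ∃ a b : K1, a * b ≠ b * a)
    (hTK : (T : Subgroup Q) ≤ K1) (h8 : Nat.card (T : Subgroup Q) = 8)
    {t : Q} (ht : t ∈ (T : Subgroup Q)) (ht1 : t ≠ 1) :
    7 * Nat.card ((K1 ⊓ normalizer ((T : Subgroup Q) : Set Q)) ⊓ centralizer ({t} : Set Q) : Subgroup Q) =
      Nat.card (K1 ⊓ normalizer ((T : Subgroup Q) : Set Q) : Subgroup Q) := by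
  have h1 := relIndex_of_trans (N := K1 ⊓ normalizer ((T : Subgroup Q) : Set Q)) (V := (T : Subgroup Q))
    (by
      rintro n ⟨hnK, hn⟩ s hs1
      exact (mem_normalizer_iff.1 hn s).1 hs1) ht ht1
    (fun s hs' hs1 => exists_trans_K1 hW hs hna hTK ht ht1 hs' hs1)
  rw [h8] at h1
  have h2 := relIndex_mul_card (A := (K1 ⊓ normalizer ((T : Subgroup Q) : Set Q)) ⊓ centralizer ({t} : Set Q))
    (B := K1 ⊓ normalizer ((T : Subgroup Q) : Set Q)) inf_le_left
  rw [h1] at h2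
  exact h2

theorem card_K1_N (hW : WType K1) (hs : IsSimpleGroup K1) (hna : ∃ a b : K1, a * b ≠ b * a)
    (hTK : (T : Subgroup Q) ≤ K1) (h8 : Nat.card (T : Subgroup Q) = 8) (hsq : ∀ s ∈ (T : Subgroup Q), s * s = 1)
    {t : Q} (ht : t ∈ (T : Subgroup Q)) (ht1 : t ≠ 1)
    (h21 : Nat.card (normalizer ((T : Subgroup Q) : Set Q)) = 21 * Nat.card (centralizer ((T : Subgroup Q) : Set Q)))
    (hm : ∃ m ∈ (K1 ⊓ normalizer ((T : Subgroup Q) : Set Q)) ⊓ centralizer ({t} : Set Q),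
      m ∉ centralizer ((T : Subgroup Q) : Set Q)) :
    Nat.card (K1 ⊓ normalizer ((T : Subgroup Q) : Set Q) : Subgroup Q) = 168 := by
  have hc := AutFacts.comm_of_sq T hsq
  have h7 := card_seven hW hs hna hTK h8 ht ht1
  set N := normalizer ((T : Subgroup Q) : Set Q) with hN
  set A := K1 ⊓ N with hA
  set Z := centralizer ((T : Subgroup Q) : Set Q) with hZ
  have hTC : (T : Subgroup Q) ≤ Z := by
    intro s hs
    rw [hZ, mem_centralizer_iff]
    intro x hx
    exact hc x hx s hs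
  have hZN : Z ≤ N := centralizer_le_normalizer _
  -- `A ⊓ Z = T`
  have hAZ : A ⊓ Z = T := by
    apply le_antisymm
    · rintro x ⟨⟨h1, -⟩, h2⟩
      exact selfc hW hTK ⟨h1, h2⟩
    · intro x hx
      exact mem_inf.2 ⟨mem_inf.2 ⟨hTK hx, Subgroup.le_normalizer hx⟩, hTC hx⟩
  -- index
  have hZn : (Z.subgroupOf N).Normal := by
    refine ⟨fun x hx g => ?_⟩
    rw [mem_subgroupOf, hZ, mem_centralizer_iff] at hx ⊢
    intro s hs
    have h1 : (g : Q)⁻¹ * s * g ∈ (T : Subgroup Q) := by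
      have := (mem_normalizer_iff.1 (inv_mem g.2) s).1 hs
      simpa using this
    have h2 := hx _ h1
    change s * ((g : Q) * x * (g : Q)⁻¹) = (g : Q) * x * (g : Q)⁻¹ * s
    calc s * ((g : Q) * x * (g : Q)⁻¹) = g * (((g : Q)⁻¹ * s * g) * x) * (g : Q)⁻¹ := by group
      _ = g * (x * ((g : Q)⁻¹ * s * g)) * (g : Q)⁻¹ := by rw [h2]
      _ = (g : Q) * x * (g : Q)⁻¹ * s := by group
  have h1 : (Z.subgroupOf N).relIndex (A.subgroupOf N) ∣ (Z.subgroupOf N).index :=
    relIndex_dvd_index_of_normal _ _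
  rw [relIndex_subgroupOf (inf_le_right : A ≤ N)] at h1
  have h2 : (Z.subgroupOf N).index = 21 := by
    have h3 := relIndex_mul_card hZN
    rw [h21] at h3
    exact Nat.eq_of_mul_eq_mul_right Nat.card_pos h3
  rw [h2] at h1
  have h3 : Z.relIndex A * 8 = Nat.card A := by
    have h4 := relIndex_mul_card (A := A ⊓ Z) (B := A) inf_le_left
    rw [inf_relIndex_left, hAZ, h8] at h4
    exact h4
  -- the stabilizer of `t`
  have h4 : (T : Subgroup Q) ≤ A ⊓ centralizer ({t} : Set Q) := by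
    intro s hs
    exact mem_inf.2 ⟨mem_inf.2 ⟨hTK hs, Subgroup.le_normalizer hs⟩,
      mem_centralizer_singleton_iff.2 (hc _ hs _ ht)⟩
  have h5 := card_dvd_of_le h4
  rw [h8] at h5
  have h6 : Nat.card (A ⊓ centralizer ({t} : Set Q) : Subgroup Q) ≠ 8 := by
    intro h9
    obtain ⟨m, hm1, hm2⟩ := hm
    have h10 : (T : Subgroup Q) = A ⊓ centralizer ({t} : Set Q) :=
      Subgroup.eq_of_le_of_card_ge h4 (by rw [h9, h8])
    rw [← h10] at hm1
    exact hm2 (hTC hm1)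
  set b := Nat.card (A ⊓ centralizer ({t} : Set Q) : Subgroup Q) with hb
  set d := Z.relIndex A with hd
  have hb0 : 0 < b := Nat.card_pos
  obtain ⟨c, hc'⟩ := h5
  have hd21 : d ≤ 21 := Nat.le_of_dvd (by norm_num) h1
  have hc1 : c ≠ 1 := by
    intro h; apply h6; rw [hc', h]
  have hc0 : c ≠ 0 := by
    intro h; rw [h] at hc'; omega
  have h9 : 7 * c = d := by
    have : 7 * (8 * c) = d * 8 := by rw [← hc', h7, h3]
    omega
  have hc3 : c ≤ 3 := by omega
  have hc2 : c = 3 := by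
    have h10 : c = 0 ∨ c = 1 ∨ c = 2 ∨ c = 3 := by omega
    rcases h10 with h | h | h | h
    · exact absurd h hc0
    · exact absurd h hc1
    · exfalso
      rw [← h9, h] at h1
      norm_num at h1
    · exact h
  rw [← h7, hc', hc2]

theorem not_isJR (hJ : IsJR K1) {t : Q} (htK : t ∈ K1) (ht2 : orderOf t = 2) {N : Subgroup Q}
    (hle : K1 ⊓ centralizer ({t} : Set Q) ≤ N) (hN : Nat.card N = 168) : False := by
  obtain ⟨-, F, i1, i2, h8, h5, hF⟩ := hJ
  obtain ⟨e⟩ := hF ⟨t, htK⟩ (by rw [Subgroup.orderOf_mk]; exact ht2)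
  have h1 : Nat.card (centralizer ({(⟨t, htK⟩ : K1)} : Set K1)) = Nat.card (K1 ⊓ centralizer ({t} : Set Q) : Subgroup Q) := by
    refine Nat.card_congr ⟨fun x => ⟨x, mem_inf.2 ⟨(x : K1).2, mem_centralizer_singleton_iff.2
      (congrArg Subtype.val (mem_centralizer_singleton_iff.1 x.2))⟩⟩,
      fun x => ⟨⟨x, (mem_inf.1 x.2).1⟩, mem_centralizer_singleton_iff.2
        (Subtype.ext (mem_centralizer_singleton_iff.1 (mem_inf.1 x.2).2))⟩, fun _ => rfl, fun _ => rfl⟩
  have h2 : Nat.card (centralizer ({(⟨t, htK⟩ : K1)} : Set K1)) = Fintype.card F * (Fintype.card F ^ 2 - 1) := by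
    rw [Nat.card_congr e.toEquiv, Nat.card_prod]
    have h6 : Nat.card (Multiplicative (ZMod 2)) = 2 := by
      rw [Nat.card_congr Multiplicative.toAdd, Nat.card_zmod]
    rw [h6]
    exact SmallSimple.PSLTwoPart.card_psl_two_odd (by rw [Nat.odd_iff]; omega)
  have h3 := card_dvd_of_le hle
  rw [← h1, h2, hN] at h3
  have h4 : Fintype.card F * (Fintype.card F ^ 2 - 1) ≤ 168 := Nat.le_of_dvd (by norm_num) h3
  have h5' : Fintype.card F ≤ 5 := by
    by_contra hcon
    have h6 : 6 ≤ Fintype.card F := by omega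
    have h7 : 6 ^ 2 ≤ Fintype.card F ^ 2 := Nat.pow_le_pow_left h6 2
    have h8 : 6 * (6 ^ 2 - 1) ≤ Fintype.card F * (Fintype.card F ^ 2 - 1) := Nat.mul_le_mul h6 (by omega)
    omega
  have h6 : Fintype.card F = 5 := by omega
  rw [h6] at h3
  norm_num at h3

end Abs

section L

variable {G : Type u} [Group G] [Finite G] {S : Sylow 2 G} {t y : G} {K : Subgroup (C t)}

/-- the subgroup of `C(y)` of the elements of `K` -/
def KY (y : G) (K : Subgroup (C t)) : Subgroup (C y) := (K.map (C t).subtype).subgroupOf (C y)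

theorem mem_KY {x : C y} : x ∈ KY y K ↔ ∃ h : (x : G) ∈ C t, (⟨x, h⟩ : C t) ∈ K := by
  rw [KY, mem_subgroupOf]
  constructor
  · rintro ⟨k, hk, hkx⟩
    have h1 : (k : G) = x := hkx
    refine ⟨h1 ▸ k.2, ?_⟩
    have h2 : (⟨(x : G), h1 ▸ k.2⟩ : C t) = k := Subtype.ext h1.symm
    rw [h2]; exact hk
  · rintro ⟨h, hk⟩
    exact ⟨⟨x, h⟩, hk, rfl⟩

/-- the image of `C_K(y)` in `C(y)/⟨y⟩` -/
def Le (y : G) (K : Subgroup (C t)) : Subgroup (Q y) := (KY y K).map (pr y)

/-- the image of `t` -/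
def tQ (ht : t ∈ (S : Subgroup G)) (hy : y ∈ PhiG S) : Q y := pr y ⟨t, S_le hy ht⟩

theorem tQ_mem (ht : t ∈ (S : Subgroup G)) (hy : y ∈ PhiG S) : tQ ht hy ∈ (TQ hy : Subgroup (Q y)) :=
  pr_mem_TQ hy ht _

variable (H5 : Set5 S)

include H5

theorem tQ_ne (ht : t ∈ (S : Subgroup G)) (ht1 : t ≠ 1) (hy : y ∈ PhiG S) : tQ ht hy ≠ 1 := by
  intro h1
  have h2 := (pr_eq_one H5 hy).1 h1
  apply ht1
  have h3 : t ∈ PhiG S := (zpowers_le.2 hy) h2
  exact BalFun.eq_one_of_odd S.isPGroup' ht (orderOf_odd h3)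

/-- the centralizer of the image of `t` -/
theorem mem_centralizer_tQ (ht : t ∈ (S : Subgroup G)) (ht1 : t ≠ 1) (hy : y ∈ PhiG S) {x : Q y} :
    x ∈ centralizer ({tQ ht hy} : Set (Q y)) ↔ ∃ g : C y, (g : G) ∈ C t ∧ pr y g = x := by
  have hf : Fact (Nat.Prime 2) := ⟨Nat.prime_two⟩
  set t' : C y := ⟨t, S_le hy ht⟩ with ht'
  have hp : IsPGroup 2 (zpowers t') := by
    refine IsPGroup.of_card (n := 1) ?_
    rw [Nat.card_zpowers, pow_one, ht', Subgroup.orderOf_mk]
    exact (H5.data t ht ht1).order_two ht ht1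
  have h1 := PLocal.PConstrained.map_centralizer_eq (p := 2) (pr y) (pr_surj y) CentB.card_ker hp
  have e1 : ∀ {A : Type u} [Group A] (a : A), centralizer ((zpowers a : Subgroup A) : Set A) = centralizer {a} := by
    intro A _ a
    rw [zpowers_eq_closure, centralizer_closure]
  have e2 : (zpowers t').map (pr y) = zpowers (tQ ht hy) := by
    rw [MonoidHom.map_zpowers]; rfl
  rw [e2, e1, e1] at h1
  rw [← h1]
  constructor
  · rintro ⟨g, hg, rfl⟩
    exact ⟨g, mem_centralizer_singleton_iff.2 (congrArg Subtype.val (mem_centralizer_singleton_iff.1 hg)), rfl⟩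
  · rintro ⟨g, hg, rfl⟩
    exact ⟨g, mem_centralizer_singleton_iff.2 (Subtype.ext (mem_centralizer_singleton_iff.1 hg)), rfl⟩

theorem Le_le (ht : t ∈ (S : Subgroup G)) (ht1 : t ≠ 1) (hy : y ∈ PhiG S) :
    Le y K ≤ centralizer ({tQ ht hy} : Set (Q y)) := by
  rintro x ⟨k, hk, rfl⟩
  obtain ⟨h1, -⟩ := mem_KY.1 hk
  exact (mem_centralizer_tQ H5 ht ht1 hy).2 ⟨k, h1, rfl⟩

theorem Le_conj (ht : t ∈ (S : Subgroup G)) (ht1 : t ≠ 1) (hy : y ∈ PhiG S) (hKn : K.Normal)
    {g x : Q y} (hg : g ∈ centralizer ({tQ ht hy} : Set (Q y))) (hx : x ∈ Le y K) : g * x * g⁻¹ ∈ Le y K := by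
  obtain ⟨a, ha, rfl⟩ := (mem_centralizer_tQ H5 ht ht1 hy).1 hg
  obtain ⟨k, hk, rfl⟩ := hx
  obtain ⟨h1, h2⟩ := mem_KY.1 hk
  refine ⟨a * k * a⁻¹, mem_KY.2 ⟨mul_mem (mul_mem ha h1) (inv_mem ha), ?_⟩, by
    rw [map_mul, map_mul, map_inv]⟩
  exact hKn.conj_mem _ h2 ⟨a, ha⟩

theorem pr_inj_KY (ht : t ∈ (S : Subgroup G)) (ht1 : t ≠ 1) (hy : y ∈ PhiG S)
    (hK : TypeB (S.subtype ((H5.data t ht ht1).le_centralizer ht)) K) (hW : WType K) :
    Function.Injective ((pr y).comp (KY y K).subtype) := by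
  rw [injective_iff_map_eq_one]
  intro x hx
  have h1 := (pr_eq_one H5 hy).1 hx
  obtain ⟨h2, h3⟩ := mem_KY.1 x.2
  have h4 : ((x : C y) : G) ∈ PhiG S := (zpowers_le.2 hy) h1
  have h5 := eq_one_of_mem hK (PSLFacts.WType.selfc hW) (y := ⟨x, h2⟩) (k := ⟨x, h2⟩)
    ((mem_Phi_subtype (H5.data t ht ht1) h2).2 h4) h3 (z := 1) (one_mem _) (one_mul _)
  apply Subtype.ext
  apply Subtype.ext
  exact congrArg (fun z : C t => (z : G)) h5.1

/-- `L_e ≃ PSL(2, F^y)` -/
theorem exists_equiv_Le (ht : t ∈ (S : Subgroup G)) (ht1 : t ≠ 1) (hy : y ∈ PhiG S)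
    (hK : TypeB (S.subtype ((H5.data t ht ht1).le_centralizer ht)) K) (hW : WType K)
    {F : Type} [Field F] [Fintype F] (h8 : Fintype.card F % 8 = 3 ∨ Fintype.card F % 8 = 5)
    (M : Model (S.subtype ((H5.data t ht ht1).le_centralizer ht)) K F) :
    Nonempty (Le y K ≃* Matrix.ProjectiveSpecialLinearGroup (Fin 2) (Fix (M.τ (toPhi (H5.data t ht ht1) y hy)))) := by
  obtain ⟨e⟩ := M.exists_equiv hK.normal (two_ne_zero h8) (toPhi (H5.data t ht ht1) y hy)
  have e1 : KY y K ≃* Le y K := by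
    have h1 : ((pr y).comp (KY y K).subtype).range = Le y K := by
      rw [MonoidHom.range_comp, range_subtype]; rfl
    exact (MonoidHom.ofInjective (pr_inj_KY H5 ht ht1 hy hK hW)).trans (MulEquiv.subgroupCongr h1)
  have e2 : KY y K ≃* (K ⊓ centralizer ({((toPhi (H5.data t ht ht1) y hy : Phi _) : C t)} : Set (C t)) :
      Subgroup (C t)) :=
    { toFun := fun x => ⟨⟨x, (mem_KY.1 x.2).1⟩, mem_inf.2 ⟨(mem_KY.1 x.2).2, mem_centralizer_singleton_iff.2
        (Subtype.ext (mem_centralizer_singleton_iff.1 (x : C y).2))⟩⟩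
      invFun := fun k => ⟨⟨((k : C t) : G), mem_centralizer_singleton_iff.2
        (congrArg Subtype.val (mem_centralizer_singleton_iff.1 (mem_inf.1 k.2).2))⟩,
          mem_KY.2 ⟨(k : C t).2, (mem_inf.1 k.2).1⟩⟩
      left_inv := fun _ => rfl
      right_inv := fun _ => rfl
      map_mul' := fun _ _ => rfl }
  exact ⟨(e1.symm.trans e2).trans e⟩

theorem C_eq_of_normal (hy : y ∈ PhiG S) (hn : (TQ hy : Subgroup (Q y)).Normal) :
    C y = normalizer ((S : Subgroup G) : Set G) := by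
  have hf : Fact (Nat.Prime 2) := ⟨Nat.prime_two⟩
  refine le_antisymm ?_ (N_le H5 hy)
  have h1 := PLocal.PConstrained.map_normalizer_eq (p := 2) (pr y) (pr_surj y) CentB.card_ker
    (P := ((S.subtype (S_le hy) : Sylow 2 (C y)) : Subgroup (C y))) (S.subtype (S_le hy)).isPGroup'
  rw [← coe_TQ hy, normalizer_eq_top_iff.2 hn] at h1
  have h2 := ker_le H5 hy (centralizer_le_normalizer
    ((((S.subtype (S_le hy) : Sylow 2 (C y)) : Subgroup (C y)) : Set (C y))))
  have h3 : normalizer (((S.subtype (S_le hy) : Sylow 2 (C y)) : Subgroup (C y)) : Set (C y)) = ⊤ := by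
    rw [← comap_map_eq_self h2, h1, comap_top]
  intro x hx
  have h4 : (⟨x, hx⟩ : C y) ∈
      normalizer (((S.subtype (S_le hy) : Sylow 2 (C y)) : Subgroup (C y)) : Set (C y)) := by
    rw [h3]; trivial
  rw [mem_normalizer_iff]
  intro s
  constructor
  · intro hs
    exact mem_sub.1 ((mem_normalizer_iff.1 h4 ⟨s, S_le hy hs⟩).1 (mem_sub.2 hs))
  · intro hs
    have hsC : s ∈ C y := by
      have h5 := mul_mem (mul_mem (inv_mem hx) (S_le hy hs)) hx
      have e : x⁻¹ * (x * s * x⁻¹) * x = s := by group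
      rwa [e] at h5
    exact mem_sub.1 ((mem_normalizer_iff.1 h4 ⟨s, hsC⟩).2 (mem_sub.2 hs))

theorem card_N_eq (hy : y ∈ PhiG S) :
    Nat.card (normalizer ((TQ hy : Subgroup (Q y)) : Set (Q y))) =
      21 * Nat.card (centralizer ((TQ hy : Subgroup (Q y)) : Set (Q y))) := by
  have h1 := card_N_Q H5 hy
  have h2 := card_C_Q H5 hy
  have h3 : 0 < orderOf y := orderOf_pos y
  have h4 : Nat.card (normalizer ((TQ hy : Subgroup (Q y)) : Set (Q y))) * orderOf y =
      21 * Nat.card (centralizer ((TQ hy : Subgroup (Q y)) : Set (Q y))) * orderOf y := by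
    rw [mul_assoc, h2, h1]; ring
  exact Nat.eq_of_mul_eq_mul_right h3 h4

/-- an element of `L_e` normalizing but not centralizing `T̄` -/
theorem exists_move_Le (ht : t ∈ (S : Subgroup G)) (ht1 : t ≠ 1) (hy : y ∈ PhiG S)
    (hK : TypeB (S.subtype ((H5.data t ht ht1).le_centralizer ht)) K) (hW : WType K) :
    ∃ m ∈ Le y K, m ∈ normalizer ((TQ hy : Subgroup (Q y)) : Set (Q y)) ∧
      m ∉ centralizer ((TQ hy : Subgroup (Q y)) : Set (Q y)) := by
  obtain ⟨m, ⟨hmK, hm⟩, v, ⟨hvT, hvK⟩, hmv⟩ := FieldCore.exists_move hK hW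
  have hmy : (m : G) ∈ C y := by
    have h1 := commute_Phi hK (PSLFacts.WType.selfc hW) (toPhi (H5.data t ht ht1) y hy).2 hmK hm
    exact mem_centralizer_singleton_iff.2 (congrArg Subtype.val h1).symm
  have hvS : (v : G) ∈ (S : Subgroup G) := mem_sub.1 hvT
  have hmS : (m : G) ∈ normalizer ((S : Subgroup G) : Set G) := by
    rw [mem_normalizer_iff]
    intro s
    constructor
    · intro hs
      exact mem_sub.1 ((mem_normalizer_iff.1 hm ⟨s, (H5.data t ht ht1).le_centralizer ht hs⟩).1 (mem_sub.2 hs))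
    · intro hs
      have hsC : s ∈ C t := by
        have h5 := mul_mem (mul_mem (inv_mem m.2) ((H5.data t ht ht1).le_centralizer ht hs)) m.2
        have e : (m : G)⁻¹ * ((m : G) * s * (m : G)⁻¹) * m = s := by group
        rwa [e] at h5
      exact mem_sub.1 ((mem_normalizer_iff.1 hm ⟨s, hsC⟩).2 (mem_sub.2 hs))
  refine ⟨pr y ⟨m, hmy⟩, ⟨⟨m, hmy⟩, mem_KY.2 ⟨m.2, hmK⟩, rfl⟩, ?_, ?_⟩
  · rw [coe_TQ]
    refine Subgroup.le_normalizer_map (pr y) ⟨⟨m, hmy⟩, ?_, rfl⟩
    change (⟨(m : G), hmy⟩ : C y) ∈ normalizer _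
    rw [mem_normalizer_iff]
    intro s
    rw [mem_sub, mem_sub]
    exact mem_normalizer_iff.1 hmS s
  · intro h1
    have h2 := mem_centralizer_iff.1 h1 _ (pr_mem_TQ hy hvS (S_le hy hvS))
    rw [← map_mul, ← map_mul] at h2
    have h3 : pr y ((⟨(m : G), hmy⟩ : C y) * ⟨(v : G), S_le hy hvS⟩ * (⟨(m : G), hmy⟩ : C y)⁻¹ *
        (⟨(v : G), S_le hy hvS⟩ : C y)⁻¹) = 1 := by
      rw [map_mul, map_mul (pr y) _ (_)⁻¹, ← h2]
      rw [← map_mul, ← map_mul, ← (pr y).map_one]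
      congr 1
      group
    have h4 := (pr_eq_one H5 hy).1 h3
    have h5 : (m : G) * v * (m : G)⁻¹ * (v : G)⁻¹ ∈ PhiG S := (zpowers_le.2 hy) h4
    have h6 : (m : G) * v * (m : G)⁻¹ * (v : G)⁻¹ ∈ (S : Subgroup G) :=
      (S : Subgroup G).mul_mem ((mem_normalizer_iff.1 hmS _).1 hvS) ((S : Subgroup G).inv_mem hvS)
    have h7 := BalFun.eq_one_of_odd S.isPGroup' h6 (orderOf_odd h5)
    exact hmv (Subtype.ext (mul_inv_eq_one.1 h7))

/-- **The centralizers of the elements of `Φ`.** -/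
theorem main (hind : TypeSylow.Ind.{u} (Nat.card G)) (ht : t ∈ (S : Subgroup G)) (ht1 : t ≠ 1) (hy : y ∈ PhiG S)
    (hlt : Nat.card (C y) < Nat.card G)
    (hK : TypeB (S.subtype ((H5.data t ht ht1).le_centralizer ht)) K) (hW : WType K)
    {F : Type} [Field F] [Fintype F] (h8 : Fintype.card F % 8 = 3 ∨ Fintype.card F % 8 = 5)
    (M : Model (S.subtype ((H5.data t ht ht1).le_centralizer ht)) K F) :
    (Nat.card (Fix (M.τ (toPhi (H5.data t ht ht1) y hy))) = 3 ∧ PhiG S = zpowers y ∧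
      (C y = normalizer ((S : Subgroup G) : Set G) ∨
        ∃ K1 : Subgroup (Q y), K1.Normal ∧ IsSimpleGroup K1 ∧ Nat.card K1 = 504 ∧
          (∃ (F' : Type) (_ : Field F') (_ : Fintype F'), Fintype.card F' = 8 ∧
            Nonempty (K1 ≃* Matrix.ProjectiveSpecialLinearGroup (Fin 2) F')) ∧
          Nat.card (C y) = 1512 * Nat.card (PhiG S))) ∨
    (5 ≤ Nat.card (Fix (M.τ (toPhi (H5.data t ht ht1) y hy))) ∧
      ∃ K1 : Subgroup (Q y), K1.Normal ∧ IsSimpleGroup K1 ∧ (∃ a b : K1, a * b ≠ b * a) ∧ IsJR K1 ∧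
        (∀ v : K1, orderOf v = 2 → Nonempty (centralizer ({v} : Set K1) ≃* Multiplicative (ZMod 2) ×
          Matrix.ProjectiveSpecialLinearGroup (Fin 2) (Fix (M.τ (toPhi (H5.data t ht ht1) y hy))))) ∧
        Nat.card (C y) = Nat.card K1 * Nat.card (PhiG S)) := by
  have hf : Fact (Nat.Prime 2) := ⟨Nat.prime_two⟩
  have hO : pPrimeCore 2 (Q y) = ⊥ := Lib.Cores.pPrimeCore_quotient_pPrimeCore 2
  have hsq := TQ_sq H5 hy
  have hT8 := TQ_card H5 hy
  have hc := AutFacts.comm_of_sq (TQ hy) hsq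
  have hmod := M.card_Fix_mod h8 (toPhi (H5.data t ht ht1) y hy)
  obtain ⟨eL⟩ := exists_equiv_Le H5 ht ht1 hy hK hW h8 M
  have htT := tQ_mem ht hy
  have htQ1 := tQ_ne H5 ht ht1 hy
  have ht2 : orderOf (tQ ht hy) = 2 := orderOf_eq_prime (by rw [pow_two]; exact hsq _ htT) htQ1
  have hfin : Fintype (Fix (M.τ (toPhi (H5.data t ht ht1) y hy))) := Fintype.ofFinite _
  have hLna : ∃ a ∈ Le y K, ∃ b ∈ Le y K, a * b ≠ b * a := by
    obtain ⟨a, b, hab⟩ := psl_noncomm (Fix (M.τ (toPhi (H5.data t ht ht1) y hy)))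
    refine ⟨eL.symm a, (eL.symm a).2, eL.symm b, (eL.symm b).2, ?_⟩
    intro h1
    apply hab
    apply eL.symm.injective
    rw [map_mul, map_mul]
    exact Subtype.ext h1
  by_cases h3 : Nat.card (Fix (M.τ (toPhi (H5.data t ht ht1) y hy))) = 3
  · left
    have hPhi : PhiG S = zpowers y := by
      refine le_antisymm ?_ (zpowers_le.2 hy)
      intro y' hy'
      obtain ⟨n, hn⟩ := mem_zpowers_iff.1 (mem_zpowers_of_three hK hW h8 M (toPhi (H5.data t ht ht1) y hy) h3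
        (toPhi (H5.data t ht ht1) y' hy'))
      exact mem_zpowers_iff.2 ⟨n, congrArg (fun z : Phi _ => ((z : C t) : G)) hn⟩
    have hPc : Nat.card (PhiG S) = orderOf y := by rw [hPhi, Nat.card_zpowers]
    have hN168 : Nat.card (normalizer ((TQ hy : Subgroup (Q y)) : Set (Q y))) = 168 := by
      have h6 := card_N_Q H5 hy
      rw [hPc] at h6
      exact Nat.eq_of_mul_eq_mul_right (orderOf_pos y) h6
    refine ⟨h3, hPhi, ?_⟩
    rcases dich_Q hO hsq hT8 (TQ_trans H5 hy) with hn | ⟨K1, hK1, hK1n, hTK⟩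
    · exact Or.inl (C_eq_of_normal H5 hy hn)
    · right
      have hK1s : IsSimpleGroup K1 := AbStruct.isSimpleGroup hO hc hK1
      have hK1W : WType K1 := TypeSylow.wType_of_isComponent_quotient hind (H5.data t ht ht1).comm (C y) hlt hK1
      have hK1na : ∃ a b : K1, a * b ≠ b * a := by
        by_contra hcon
        push Not at hcon
        exact AbStruct.not_comm hK1 ⟨⟨hcon⟩⟩
      have hP8 : Nat.card (((TQ hy).subtype hTK : Sylow 2 K1) : Subgroup K1) = 8 := by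
        rw [FieldG.card_subtype, hT8]
      rcases TypeSylow.of_card_eight hK1W ((TQ hy).subtype hTK) hP8 with ⟨F', i1', i2', hF', ⟨e⟩⟩ | hJ
      · have h504 : Nat.card K1 = 504 := by
          have h6 := ClassicalGeometry.PSL2Basic.card_PSL2_even F' (by rw [hF']; decide)
          rw [hF'] at h6
          rw [Nat.card_congr e.toEquiv, h6]
          norm_num
        refine ⟨K1, hK1n, hK1s, h504, ⟨F', i1', i2', hF', ⟨e⟩⟩, ?_⟩
        obtain ⟨h6, h7, h9⟩ := PSLFacts.even_facts (n := 3) (by norm_num) (by rw [hF']; norm_num) e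
          ((TQ hy).subtype hTK)
        have h10 := h7 ⟨tQ ht hy, hTK htT⟩ (mem_sub.2 htT) (fun h => htQ1 (congrArg Subtype.val h))
        have h11 : (K1 ⊓ normalizer ((TQ hy : Subgroup (Q y)) : Set (Q y))) ⊓ centralizer ({tQ ht hy} : Set (Q y)) =
            TQ hy := by
          apply le_antisymm
          · rintro x ⟨⟨hxK, -⟩, hx⟩
            have h12 : (⟨x, hxK⟩ : K1) ∈ (((TQ hy).subtype hTK : Sylow 2 K1) : Subgroup K1) := by
              rw [← h10, mem_centralizer_singleton_iff]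
              exact Subtype.ext (mem_centralizer_singleton_iff.1 hx)
            exact mem_sub.1 h12
          · intro x hx
            exact mem_inf.2 ⟨mem_inf.2 ⟨hTK hx, Subgroup.le_normalizer hx⟩,
              mem_centralizer_singleton_iff.2 (hc _ hx _ htT)⟩
        have h12 := card_seven hK1W hK1s hK1na hTK hT8 htT htQ1
        rw [h11, hT8] at h12
        have h13 := index_eq hK1n hTK
        rw [← h12, h504, hN168] at h13
        have h14 := card_Q H5 hy
        rw [← h14, hPc]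
        have h15 : Nat.card (Q y) = 1512 := by omega
        rw [h15]
      · exfalso
        refine not_isJR hJ (hTK htT) ht2 (N := normalizer ((TQ hy : Subgroup (Q y)) : Set (Q y))) ?_ hN168
        rintro x ⟨-, hx⟩
        obtain ⟨g, hg, rfl⟩ := (mem_centralizer_tQ H5 ht ht1 hy).1 hx
        have h6 : (⟨g, hg⟩ : C t) ∈ normalizer
            (((S.subtype ((H5.data t ht ht1).le_centralizer ht) : Sylow 2 (C t)) : Subgroup (C t)) : Set (C t)) :=
          le_normalizer_of_three hK hW h8 M (toPhi (H5.data t ht ht1) y hy) h3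
            (mem_centralizer_singleton_iff.2 (Subtype.ext (mem_centralizer_singleton_iff.1 g.2)))
        rw [coe_TQ]
        refine Subgroup.le_normalizer_map (pr y) ⟨g, ?_, rfl⟩
        change g ∈ normalizer _
        rw [mem_normalizer_iff]
        intro s
        constructor
        · intro hs
          have hsS : (s : G) ∈ (S : Subgroup G) := mem_sub.1 hs
          have h16 : (g : G) * s * (g : G)⁻¹ ∈ (S : Subgroup G) :=
            mem_sub.1 ((mem_normalizer_iff.1 h6 ⟨s, (H5.data t ht ht1).le_centralizer ht hsS⟩).1 (mem_sub.2 hsS))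
          exact mem_sub.2 h16
        · intro hs
          have hsS : (g : G) * s * (g : G)⁻¹ ∈ (S : Subgroup G) := mem_sub.1 hs
          have hsC : (s : G) ∈ C t := by
            have h15 := mul_mem (mul_mem (inv_mem hg) ((H5.data t ht ht1).le_centralizer ht hsS)) hg
            have e : (g : G)⁻¹ * ((g : G) * s * (g : G)⁻¹) * g = s := by group
            rwa [e] at h15
          have h17 := (mem_normalizer_iff.1 h6 ⟨s, hsC⟩).2 (mem_sub.2 hsS)
          have h16 : (s : G) ∈ (S : Subgroup G) := (mem_sub (x := (⟨(s : G), hsC⟩ : C t))).1 h17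
          exact mem_sub.2 h16
  · right
    have h5 : 5 ≤ Nat.card (Fix (M.τ (toPhi (H5.data t ht ht1) y hy))) := by omega
    refine ⟨h5, ?_⟩
    have hLs : IsSimpleGroup (Le y K) := by
      have hs : IsSimpleGroup (Matrix.ProjectiveSpecialLinearGroup (Fin 2)
          (Fix (M.τ (toPhi (H5.data t ht ht1) y hy)))) :=
        TwoFusion.SLTwoFacts.isSimpleGroup_psl (by rw [← Nat.card_eq_fintype_card]; omega)
      exact (MulEquiv.isSimpleGroup_congr eL).2 hs
    obtain ⟨x, hxL, hx1, hx2⟩ : ∃ x ∈ Le y K, x ≠ 1 ∧ x * x = 1 := by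
      have h6 : 2 ∣ Nat.card (Le y K) := by
        obtain ⟨e⟩ := M.exists_equiv hK.normal (two_ne_zero h8) (toPhi (H5.data t ht ht1) y hy)
        have h7 := card_inf_normalizer hK hW
        have h9 := card_dvd_of_le (le_centralizer_y hK hW (toPhi (H5.data t ht ht1) y hy))
        rw [Nat.card_congr eL.toEquiv, ← Nat.card_congr e.toEquiv]
        exact ((by norm_num : 2 ∣ 12).trans h7).trans h9
      obtain ⟨x, hx⟩ := exists_prime_orderOf_dvd_card' 2 h6
      refine ⟨x, x.2, ?_, ?_⟩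
      · intro h7
        have h9 : x = 1 := Subtype.ext h7
        rw [h9, orderOf_one] at hx
        norm_num at hx
      · have h7 := pow_orderOf_eq_one x
        rw [hx, pow_two] at h7
        exact congrArg Subtype.val h7
    rcases dich_Q hO hsq hT8 (TQ_trans H5 hy) with hn | ⟨K1, hK1, hK1n, hTK⟩
    · exfalso
      have h6 := le_of_simple hn hLs hxL hx1 (mem_of_two hn le_rfl hx2)
      obtain ⟨a, ha, b, hb, hab⟩ := hLna
      exact hab (hc _ (h6 ha) _ (h6 hb))
    · have hK1s : IsSimpleGroup K1 := AbStruct.isSimpleGroup hO hc hK1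
      have hK1W : WType K1 := TypeSylow.wType_of_isComponent_quotient hind (H5.data t ht ht1).comm (C y) hlt hK1
      have hK1na : ∃ a b : K1, a * b ≠ b * a := by
        by_contra hcon
        push Not at hcon
        exact AbStruct.not_comm hK1 ⟨⟨hcon⟩⟩
      have hLK : Le y K ≤ K1 := le_of_simple hK1n hLs hxL hx1 (mem_of_two hK1n hTK hx2)
      have hLt := Le_le (K := K) H5 ht ht1 hy
      have hJ := isJR_of_cent hK1W hTK hT8 htT htQ1 hLt hLK hLna
      refine ⟨K1, hK1n, hK1s, hK1na, hJ, ?_, ?_⟩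
      · intro v hv
        obtain ⟨e⟩ := exists_equiv_cent hJ (hTK htT) ht2 hLs hLt hLK
          (fun g hg x hx => Le_conj H5 ht ht1 hy hK.normal hg hx) hLna v hv
        exact ⟨e.trans (MulEquiv.prodCongr (MulEquiv.refl _) eL)⟩
      · have h168 := card_K1_N hK1W hK1s hK1na hTK hT8 hsq htT htQ1 (card_N_eq H5 hy) (by
          obtain ⟨m, hm1, hm2, hm3⟩ := exists_move_Le H5 ht ht1 hy hK hW
          exact ⟨m, mem_inf.2 ⟨mem_inf.2 ⟨hLK hm1, hm2⟩, hLt hm1⟩, hm3⟩)
        have h6 := index_eq hK1n hTK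
        rw [h168] at h6
        have h7 := card_N_Q H5 hy
        have h9 := card_Q H5 hy
        have h10 : Nat.card (C y) * 168 = Nat.card K1 * Nat.card (PhiG S) * 168 := by
          calc Nat.card (C y) * 168 = (Nat.card (Q y) * 168) * orderOf y := by rw [← h9]; ring
            _ = Nat.card K1 * (Nat.card (normalizer ((TQ hy : Subgroup (Q y)) : Set (Q y))) * orderOf y) := by
              rw [h6]; ring
            _ = Nat.card K1 * Nat.card (PhiG S) * 168 := by rw [h7]; ring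
        exact Nat.eq_of_mul_eq_mul_right (by norm_num) h10

end L

end Cfsg.Agent.Walter.FieldTri
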