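import Mathlib
import Cfsg.Prelude.Def_Local
import Cfsg.Agent.Walter.FieldTri

/-!
# The generator of the Sylow `p`-subgroup of `Φ`, and the preimage of `K_e` in `C(y)`
-/

set_option autoImplicit false
set_option linter.unusedSectionVars false
set_option linter.unusedVariables false

namespace Cfsg.Agent.Walter.FieldE

open Subgroup Cfsg
open Cfsg.Agent.SignalizersComponents Cfsg.Agent.SignalizersComponents.Components
open Cfsg.Agent.Walter.Types Cfsg.Agent.Walter.BalLocal Cfsg.Agent.Walter.OddCoreIn Cfsg.Agent.Walter.Cover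
open Cfsg.Agent.Walter.CentB (TypeB)
open Cfsg.Agent.Walter.FieldX Cfsg.Agent.Walter.FieldY Cfsg.Agent.Walter.FieldPSL Cfsg.Agent.Walter.FieldG
open Cfsg.Agent.Walter.FieldCore Cfsg.Agent.Walter.FieldCard Cfsg.Agent.Walter.FieldQuot
open Cfsg.Agent.Walter.Setup (Data)

universe u

variable {G : Type u} [Group G] [Finite G] {S : Sylow 2 G} {y : G}

theorem C_lt [IsSimpleGroup G] (hna : ∃ a b : G, a * b ≠ b * a) (hy1 : y ≠ 1) : Nat.card (C y) < Nat.card G := by
  refine lt_of_le_of_ne (Nat.le_of_dvd Nat.card_pos (card_subgroup_dvd_card (C y))) ?_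
  intro h1
  exact BalFun.C_ne hna hy1 ((card_eq_iff_eq_top (C y)).1 h1)

variable (H5 : Set5 S)

include H5

/-- `Φ` is cyclic -/
theorem isCyclic_PhiG : IsCyclic (PhiG S) := by
  obtain ⟨t, ht, ht1⟩ := H5.ne
  have h := H5.data t ht ht1
  obtain ⟨K, hK, hW⟩ := H5.typeB t ht ht1
  obtain ⟨F, i1, i2, h8, h5, ⟨M⟩⟩ := exists_model hK hW
  have hc := M.isCyclic
  let f : PhiG S →* Phi (S.subtype (h.le_centralizer h.mem)) :=
    { toFun := fun y => toPhi h y y.2
      map_one' := rfl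
      map_mul' := fun _ _ => rfl }
  refine isCyclic_of_injective f ?_
  intro a b hab
  exact Subtype.ext (congrArg (fun z : Phi (S.subtype (h.le_centralizer h.mem)) => ((z : C t) : G)) hab)

/-- a generator of the Sylow `p`-subgroup of `Φ` -/
theorem exists_gen {p : ℕ} [hp : Fact p.Prime] (hpd : p ∣ Nat.card (PhiG S)) :
    ∃ y ∈ PhiG S, y ≠ 1 ∧ (∃ b, y ^ p ^ b = 1) ∧ orderOf y ∣ Nat.card (PhiG S) ∧
      ¬ p ∣ Nat.card (PhiG S) / orderOf y ∧ (∀ x ∈ PhiG S, (∃ k, x ^ p ^ k = 1) → x ∈ zpowers y) := by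
  have hcyc := isCyclic_PhiG H5
  let P : Sylow p (PhiG S) := default
  have hPc : IsCyclic (P : Subgroup (PhiG S)) := inferInstance
  obtain ⟨g, hg⟩ := hPc.exists_generator
  have hPn : (P : Subgroup (PhiG S)).Normal := by
    refine ⟨fun x hx n => ?_⟩
    have h1 : n * x = x * n := Subtype.ext (comm_Phi H5 n.2 x.2)
    rw [h1, mul_inv_cancel_right]
    exact hx
  have hord : orderOf (((g : PhiG S)) : G) = Nat.card (P : Subgroup (PhiG S)) := by
    rw [Subgroup.orderOf_coe, Subgroup.orderOf_coe]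
    exact orderOf_eq_card_of_forall_mem_zpowers hg
  refine ⟨((g : PhiG S) : G), (g : PhiG S).2, ?_, ?_, ?_, ?_, ?_⟩
  · intro h1
    rw [h1, orderOf_one] at hord
    have h2 : p ∣ Nat.card (P : Subgroup (PhiG S)) := P.dvd_card_of_dvd_card hpd
    rw [← hord] at h2
    exact hp.out.one_lt.ne' (Nat.dvd_one.1 h2)
  · obtain ⟨b, hb⟩ := P.isPGroup' g
    refine ⟨b, ?_⟩
    exact congrArg (fun z : (P : Subgroup (PhiG S)) => ((z : PhiG S) : G)) hb
  · rw [hord]
    exact card_subgroup_dvd_card _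
  · rw [hord]
    have h1 := (P : Subgroup (PhiG S)).card_mul_index
    rw [← h1, Nat.mul_div_cancel_left _ Nat.card_pos]
    exact P.not_dvd_index
  · rintro x hx ⟨k, hk⟩
    have h1 : (⟨x, hx⟩ : PhiG S) ∈ (P : Subgroup (PhiG S)) := by
      have h2 : IsPGroup p (zpowers (⟨x, hx⟩ : PhiG S)) := by
        intro z
        obtain ⟨n, hn⟩ := mem_zpowers_iff.1 z.2
        refine ⟨k, Subtype.ext ?_⟩
        change (z : PhiG S) ^ p ^ k = 1
        rw [← hn, ← zpow_natCast, ← zpow_mul, mul_comm, zpow_mul, zpow_natCast]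
        have h3 : (⟨x, hx⟩ : PhiG S) ^ p ^ k = 1 := Subtype.ext hk
        rw [h3, one_zpow]
      obtain ⟨R, hR⟩ := h2.exists_le_sylow
      have h3 : R = P := by
        have := Sylow.unique_of_normal P hPn
        exact Subsingleton.elim _ _
      rw [← h3]
      exact hR (mem_zpowers _)
    obtain ⟨n, hn⟩ := mem_zpowers_iff.1 (hg ⟨⟨x, hx⟩, h1⟩)
    exact mem_zpowers_iff.2 ⟨n, congrArg (fun z : (P : Subgroup (PhiG S)) => ((z : PhiG S) : G)) hn⟩

/-- the preimage of a normal subgroup `K₁` of `C(y)/⟨y⟩` -/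
theorem exists_E (hy : y ∈ PhiG S) {K1 : Subgroup (Q y)} (hK1 : K1.Normal)
    (hcard : Nat.card (C y) = Nat.card K1 * Nat.card (PhiG S)) {p : ℕ} [hp : Fact p.Prime]
    (hpi : ¬ p ∣ Nat.card (PhiG S) / orderOf y) :
    ∃ E : Subgroup G, (∀ x ∈ E, x * y = y * x) ∧ (∀ c ∈ C y, ∀ x ∈ E, c * x * c⁻¹ ∈ E) ∧
      (∀ R : Subgroup G, IsPGroup p R → R ≤ centralizer ({y} : Set G) → R ≤ E) ∧
      Nat.card E = Nat.card K1 * orderOf y ∧
      ∃ f : E →* K1, Function.Surjective f ∧ ∀ x : E, f x = 1 ↔ (x : G) ∈ zpowers y := by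
  have hker : (pr y).ker ≤ K1.comap (pr y) := by
    intro x hx
    rw [mem_comap, MonoidHom.mem_ker.1 hx]
    exact one_mem _
  have hcE : Nat.card (K1.comap (pr y)) = Nat.card K1 * orderOf y := by
    have h1 := card_map_mul (pr y) hker
    rw [map_comap_eq_self_of_surjective (pr_surj y), card_ker H5 hy] at h1
    exact h1.symm
  refine ⟨(K1.comap (pr y)).map (C y).subtype, ?_, ?_, ?_, ?_, ?_⟩
  · rintro _ ⟨x, -, rfl⟩
    exact mem_centralizer_singleton_iff.1 x.2
  · rintro c hc _ ⟨x, hx, rfl⟩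
    refine ⟨⟨c, hc⟩ * x * ⟨c, hc⟩⁻¹, ?_, rfl⟩
    exact (hK1.comap (pr y)).conj_mem x hx ⟨c, hc⟩
  · intro R hR hRC r hr
    refine ⟨⟨r, hRC hr⟩, ?_, rfl⟩
    have hn : (K1.comap (pr y)).Normal := hK1.comap (pr y)
    have hidx : (K1.comap (pr y)).index = Nat.card (PhiG S) / orderOf y := by
      have h1 := (K1.comap (pr y)).card_mul_index
      have h2 : orderOf y ∣ Nat.card (PhiG S) := by
        have h3 := card_dvd_of_le ((zpowers_le.2 hy) : zpowers y ≤ PhiG S)
        rwa [Nat.card_zpowers] at h3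
      obtain ⟨d, hd⟩ := h2
      rw [hcE, hcard, hd] at h1
      rw [hd, Nat.mul_div_cancel_left _ (orderOf_pos y)]
      have h3 : 0 < Nat.card K1 * orderOf y := Nat.mul_pos Nat.card_pos (orderOf_pos y)
      have h4 : Nat.card K1 * orderOf y * (K1.comap (pr y)).index = Nat.card K1 * orderOf y * d := by
        rw [h1]; ring
      exact Nat.eq_of_mul_eq_mul_left h3 h4
    obtain ⟨k, hk⟩ := hR ⟨r, hr⟩
    have hk' : r ^ p ^ k = 1 := congrArg Subtype.val hk
    have h1 : (⟨r, hRC hr⟩ : C y) ^ p ^ k = 1 := Subtype.ext hk'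
    change (⟨r, hRC hr⟩ : C y) ∈ K1.comap (pr y)
    rw [← QuotientGroup.eq_one_iff]
    have h2 : orderOf ((⟨r, hRC hr⟩ : C y) : C y ⧸ K1.comap (pr y)) ∣ p ^ k := by
      apply orderOf_dvd_of_pow_eq_one
      rw [← QuotientGroup.mk_pow, h1, QuotientGroup.mk_one]
    have h3 : orderOf ((⟨r, hRC hr⟩ : C y) : C y ⧸ K1.comap (pr y)) ∣ (K1.comap (pr y)).index := by
      rw [index_eq_card]; exact orderOf_dvd_natCard _
    have h4 : Nat.Coprime (p ^ k) (K1.comap (pr y)).index := by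
      rw [hidx]
      exact Nat.Coprime.pow_left k ((Nat.Prime.coprime_iff_not_dvd hp.out).2 hpi)
    exact orderOf_eq_one_iff.1 (Nat.eq_one_of_dvd_coprimes h4 h2 h3)
  · rw [Subgroup.card_map_of_injective (C y).subtype_injective, hcE]
  · let e := (K1.comap (pr y)).equivMapOfInjective (C y).subtype (C y).subtype_injective
    refine ⟨((pr y).subgroupComap K1).comp e.symm.toMonoidHom, ?_, ?_⟩
    · intro k
      obtain ⟨c, hc⟩ := pr_surj y (k : Q y)
      have hcK : c ∈ K1.comap (pr y) := by rw [mem_comap, hc]; exact k.2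
      refine ⟨e ⟨c, hcK⟩, ?_⟩
      apply Subtype.ext
      change pr y ((e.symm (e ⟨c, hcK⟩) : K1.comap (pr y)) : C y) = k
      rw [MulEquiv.symm_apply_apply]
      exact hc
    · intro x
      have h1 : (((e.symm x : K1.comap (pr y)) : C y) : G) = x := by
        have h2 := e.apply_symm_apply x
        exact congrArg Subtype.val h2
      rw [← h1, ← pr_eq_one H5 hy]
      constructor
      · intro h2
        exact congrArg Subtype.val h2
      · intro h2
        exact Subtype.ext h2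

end Cfsg.Agent.Walter.FieldE
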