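import Mathlib

/-!
# Cyclic Sylow subgroups with a non-real power automorphism of odd order
-/

set_option autoImplicit false

namespace Cfsg.Agent.Walter.ReeTorus

/-- The conclusion: `T` is cyclic and not trivial, and some element of odd order prime to `p` acts on it as
`x ↦ x ^ α` with `α² ≢ 1`. -/
def Torus (p : ℕ) (G : Type*) [Group G] (T : Subgroup G) : Prop :=
  IsCyclic T ∧ T ≠ ⊥ ∧ ∃ (h : G) (α : ℕ), Odd (orderOf h) ∧ (orderOf h).Coprime p ∧
    (∀ x ∈ T, h * x * h⁻¹ = x ^ α) ∧ ¬ α ^ 2 ≡ 1 [MOD p]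

theorem Torus.conj {p : ℕ} {G : Type*} [Group G] {T : Subgroup G} (h : Torus p G T) (g : G) {T' : Subgroup G}
    (hT' : T' = T.map (MulAut.conj g).toMonoidHom) : Torus p G T' := by
  subst hT'
  obtain ⟨h1, h2, w, α, h3, h3', h4, h5⟩ := h
  have ho : orderOf (g * w * g⁻¹) = orderOf w := orderOf_injective (MulAut.conj g).toMonoidHom (MulAut.conj g).injective w
  refine ⟨?_, ?_, g * w * g⁻¹, α, by rwa [ho], by rwa [ho], ?_, h5⟩
  · exact isCyclic_of_surjective _ (T.equivMapOfInjective _ (MulAut.conj g).injective).surjective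
  · intro h6
    exact h2 ((Subgroup.map_eq_bot_iff_of_injective _ (MulAut.conj g).injective).1 h6)
  · rintro _ ⟨x, hx, rfl⟩
    have h6 := h4 x hx
    simp only [MulEquiv.coe_toMonoidHom, MulAut.conj_apply]
    calc g * w * g⁻¹ * (g * x * g⁻¹) * (g * w * g⁻¹)⁻¹ = g * (w * x * w⁻¹) * g⁻¹ := by group
      _ = g * (x ^ α) * g⁻¹ := by rw [h6]
      _ = (g * x * g⁻¹) ^ α := (conj_pow).symm

theorem Torus.map {p : ℕ} {G H : Type*} [Group G] [Group H] {T : Subgroup G} (h : Torus p G T) (e : G ≃* H)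
    {T' : Subgroup H} (hT' : T' = T.map e.toMonoidHom) : Torus p H T' := by
  subst hT'
  obtain ⟨h1, h2, w, α, h3, h3', h4, h5⟩ := h
  have ho : orderOf (e w) = orderOf w := orderOf_injective e.toMonoidHom e.injective w
  refine ⟨?_, ?_, e w, α, by rwa [ho], by rwa [ho], ?_, h5⟩
  · exact isCyclic_of_surjective _ (T.equivMapOfInjective _ e.injective).surjective
  · intro h6
    exact h2 ((Subgroup.map_eq_bot_iff_of_injective _ e.injective).1 h6)
  · rintro _ ⟨x, hx, rfl⟩
    have h6 := congrArg e (h4 x hx)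
    simpa using h6

end Cfsg.Agent.Walter.ReeTorus
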