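import Mathlib
import Cfsg.Agent.S0089

/-!
# Normal subgroups of index `p`: an abelian Sylow subgroup meeting the center, a quotient covered by an abelian subgroup
-/

set_option autoImplicit false

namespace Cfsg.Agent.Walter.FieldIndex

open Subgroup

/-- If `p` divides the index of the commutator subgroup there is a normal subgroup of index `p`. -/
theorem exists_normal_index_eq_prime {H : Type*} [Group H] [Finite H] {p : ℕ} [Fact p.Prime]
    (h : p ∣ (commutator H).index) : ∃ K : Subgroup H, K.Normal ∧ K.index = p := by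
  have hpp : p.Prime := Fact.out
  -- a proper subgroup containing all `p`-th powers of the abelianization
  have hA : p ∣ Nat.card (Abelianization H) := h
  obtain ⟨a, ha⟩ := exists_prime_orderOf_dvd_card' (G := Abelianization H) p hA
  have hne : (powMonoidHom p : Abelianization H →* Abelianization H).range ≠ ⊤ := by
    intro h1
    have h2 : Function.Surjective (powMonoidHom p : Abelianization H →* Abelianization H) :=
      MonoidHom.range_eq_top.1 h1
    have h3 : Function.Injective (powMonoidHom p : Abelianization H →* Abelianization H) :=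
      Finite.injective_iff_surjective.2 h2
    have h4 : a = 1 := h3 (by
      rw [powMonoidHom_apply, map_one, ← ha, pow_orderOf_eq_one])
    rw [h4, orderOf_one] at ha
    exact hpp.one_lt.ne ha
  obtain ⟨M, hM, hle⟩ := (eq_top_or_exists_le_coatom _).resolve_left hne
  obtain ⟨g, hg⟩ : ∃ g, g ∉ M := by
    by_contra hcon
    push Not at hcon
    exact hM.1 (eq_top_iff.2 fun x _ => hcon x)
  have htop : M ⊔ zpowers g = ⊤ := by
    refine hM.2 _ (lt_of_le_of_ne le_sup_left fun h1 => hg ?_)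
    rw [h1]
    exact mem_sup_right (mem_zpowers g)
  have hgo : orderOf (QuotientGroup.mk g : Abelianization H ⧸ M) = p := by
    refine orderOf_eq_prime ?_ fun h1 => hg ((QuotientGroup.eq_one_iff g).1 h1)
    rw [← QuotientGroup.mk_pow]
    exact (QuotientGroup.eq_one_iff _).2 (hle ⟨g, rfl⟩)
  have hidx : M.index = p := by
    rw [← hgo, Subgroup.index_eq_card]
    symm
    refine orderOf_eq_card_of_forall_mem_zpowers ?_
    intro y
    obtain ⟨y, rfl⟩ := QuotientGroup.mk_surjective y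
    have h1 : y ∈ M ⊔ zpowers g := by rw [htop]; trivial
    obtain ⟨m, hm, z, hz, rfl⟩ := Subgroup.mem_sup.1 h1
    obtain ⟨i, rfl⟩ := hz
    refine ⟨i, ?_⟩
    change (QuotientGroup.mk g : Abelianization H ⧸ M) ^ i = _
    rw [QuotientGroup.mk_mul, (QuotientGroup.eq_one_iff m).2 hm, one_mul]
    rfl
  refine ⟨M.comap Abelianization.of, inferInstance, ?_⟩
  have h1 : Function.Surjective (Abelianization.of : H →* Abelianization H) := QuotientGroup.mk'_surjective _
  rw [Subgroup.index_comap_of_surjective M h1, hidx]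

/-- `H` has a normal subgroup of index `p` if it has an abelian Sylow `p`-subgroup and a central element of order
`p`. -/
theorem exists_index_of_central {H : Type*} [Group H] [Finite H] {p : ℕ} [Fact p.Prime] {P : Subgroup H}
    (hP : IsPGroup p P) (hmax : ∀ R : Subgroup H, IsPGroup p R → P ≤ R → R ≤ P)
    (hc : ∀ a ∈ P, ∀ b ∈ P, a * b = b * a) {x : H} (hx : x ∈ center H) (hxo : orderOf x = p) :
    ∃ K : Subgroup H, K.Normal ∧ K.index = p := by
  have hpp : p.Prime := Fact.out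
  obtain ⟨Q, hQ⟩ := hP.exists_le_sylow
  have hQP : (Q : Subgroup H) = P := le_antisymm (hmax Q Q.2 hQ) hQ
  have hcomm : IsMulCommutative P := ⟨⟨fun a b => Subtype.ext (hc a a.2 b b.2)⟩⟩
  have hx' : x ∉ commutator H := by
    intro h
    have h1 := Cfsg.Agent.S0089.pow_index_eq_one_of_mem P x h hx
    have h2 := orderOf_dvd_of_pow_eq_one h1
    rw [hxo, ← hQP] at h2
    exact Q.not_dvd_index h2
  refine exists_normal_index_eq_prime ?_
  have h1 : orderOf (QuotientGroup.mk x : H ⧸ commutator H) = p := by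
    refine orderOf_eq_prime ?_ ?_
    · rw [← QuotientGroup.mk_pow, ← hxo, pow_orderOf_eq_one]; rfl
    · intro h
      exact hx' ((QuotientGroup.eq_one_iff x).1 h)
  rw [← h1]
  exact orderOf_dvd_natCard _

/-- A quotient covered by an abelian subgroup. -/
theorem exists_index_of_quotient {H Q : Type*} [Group H] [Finite H] [Group Q] (π : H →* Q)
    (hπ : Function.Surjective π) (K1 : Subgroup Q) (hK1 : K1.Normal)
    (hself : ∀ P : Sylow 2 K1, centralizer ((P : Subgroup K1) : Set K1) ≤ P) {Φ : Subgroup H}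
    (hΦc : ∀ a ∈ Φ, ∀ b ∈ Φ, a * b = b * a) (hΦodd : ¬ 2 ∣ Nat.card Φ) (S : Sylow 2 H)
    (hS : ∀ s ∈ (S : Subgroup H), ∀ y ∈ Φ, s * y = y * s) (hcard : Nat.card H = Nat.card K1 * Nat.card Φ) {p : ℕ}
    [Fact p.Prime] (hker : Nat.card π.ker = p) (hp2 : p ^ 2 ∣ Nat.card Φ) (hkerΦ : π.ker ≤ Φ) :
    ∃ K : Subgroup H, K.Normal ∧ K.index = p := by
  have hpp : p.Prime := Fact.out
  have hfQ : Finite Q := Finite.of_surjective π hπ
  have hf2 : Fact (Nat.Prime 2) := ⟨Nat.prime_two⟩
  have hp0 : 0 < p := hpp.pos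
  -- orders
  have h1 : Nat.card π.ker * Nat.card Q = Nat.card H := by
    have h2 := π.ker.card_mul_index
    rw [Subgroup.index_ker, MonoidHom.range_eq_top.2 hπ, Subgroup.card_top] at h2
    exact h2
  have h2 : Nat.card K1 * Nat.card (Q ⧸ K1) = Nat.card Q := K1.card_mul_index
  have hQK : Nat.card (Q ⧸ K1) * p = Nat.card Φ := by
    have h3 : Nat.card K1 * (Nat.card (Q ⧸ K1) * p) = Nat.card K1 * Nat.card Φ := by
      rw [← hcard, ← h1, ← h2, hker]; ring
    exact Nat.eq_of_mul_eq_mul_left Nat.card_pos h3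
  have hoddQ : ¬ 2 ∣ Nat.card (Q ⧸ K1) := fun h => hΦodd (hQK ▸ Dvd.dvd.mul_right h p)
  let ρ : H →* Q ⧸ K1 := (QuotientGroup.mk' K1).comp π
  -- `S` maps into `K1`
  have hSK : ∀ s ∈ (S : Subgroup H), π s ∈ K1 := by
    intro s hs
    rw [← QuotientGroup.eq_one_iff]
    obtain ⟨k, hk⟩ := S.2 ⟨s, hs⟩
    have hk' : s ^ 2 ^ k = 1 := by simpa using congrArg Subtype.val hk
    have h4 : (QuotientGroup.mk (π s) : Q ⧸ K1) ^ 2 ^ k = 1 := by
      rw [← QuotientGroup.mk_pow, ← map_pow, hk', map_one]; rfl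
    have h5 : (QuotientGroup.mk (π s) : Q ⧸ K1) ^ Nat.card (Q ⧸ K1) = 1 := pow_card_eq_one'
    have h6 := Nat.dvd_gcd (orderOf_dvd_of_pow_eq_one h4) (orderOf_dvd_of_pow_eq_one h5)
    have h7 : Nat.Coprime (2 ^ k) (Nat.card (Q ⧸ K1)) :=
      Nat.Coprime.pow_left k ((Nat.Prime.coprime_iff_not_dvd Nat.prime_two).2 hoddQ)
    rw [h7.gcd_eq_one] at h6
    exact orderOf_eq_one_iff.1 (Nat.dvd_one.1 h6)
  have hle : ((S.mapSurjective hπ : Sylow 2 Q) : Subgroup Q) ≤ K1 := by
    rw [Sylow.coe_mapSurjective]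
    rintro _ ⟨s, hs, rfl⟩
    exact hSK s hs
  -- `Φ ∩ π⁻¹(K1) = ker π`
  have hΦK : ∀ y ∈ Φ, π y ∈ K1 → π y = 1 := by
    intro y hy hyK
    have h3 := hself ((S.mapSurjective hπ).subtype hle) (x := ⟨π y, hyK⟩) (by
      rw [mem_centralizer_iff]
      intro z hz
      rw [Sylow.coe_subtype] at hz
      have hz' : (z : Q) ∈ ((S.mapSurjective hπ : Sylow 2 Q) : Subgroup Q) := mem_subgroupOf.1 hz
      rw [Sylow.coe_mapSurjective] at hz'
      obtain ⟨s, hs, hsz⟩ := hz'
      apply Subtype.ext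
      change (z : Q) * π y = π y * z
      rw [← hsz, ← map_mul, hS s hs y hy, map_mul])
    rw [Sylow.coe_subtype] at h3
    have h4 : π y ∈ ((S.mapSurjective hπ : Sylow 2 Q) : Subgroup Q) := mem_subgroupOf.1 h3
    obtain ⟨k, hk⟩ := (S.mapSurjective hπ).2 ⟨π y, h4⟩
    have hk' : (π y) ^ 2 ^ k = 1 := congrArg Subtype.val hk
    have h5 : (π y) ^ Nat.card Φ = 1 := by
      rw [← map_pow]
      have : y ^ Nat.card Φ = 1 := by
        have := pow_card_eq_one' (x := (⟨y, hy⟩ : Φ))
        exact congrArg Subtype.val this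
      rw [this, map_one]
    have h6 := Nat.dvd_gcd (orderOf_dvd_of_pow_eq_one hk') (orderOf_dvd_of_pow_eq_one h5)
    have h7 : Nat.Coprime (2 ^ k) (Nat.card Φ) :=
      Nat.Coprime.pow_left k ((Nat.Prime.coprime_iff_not_dvd Nat.prime_two).2 hΦodd)
    rw [h7.gcd_eq_one] at h6
    exact orderOf_eq_one_iff.1 (Nat.dvd_one.1 h6)
  -- `Φ` covers
  let ρΦ : Φ →* Q ⧸ K1 := ρ.comp Φ.subtype
  have hkerρ : Nat.card ρΦ.ker = p := by
    rw [← hker]
    refine Nat.card_congr ⟨fun y => ⟨((y : Φ) : H), ?_⟩, fun y => ⟨⟨(y : H), hkerΦ y.2⟩, ?_⟩, fun _ => rfl,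
      fun _ => rfl⟩
    · have h3 : ρ ((y : Φ) : H) = 1 := y.2
      exact hΦK _ (y : Φ).2 ((QuotientGroup.eq_one_iff _).1 h3)
    · have h3 : π (y : H) = 1 := y.2
      change (QuotientGroup.mk (π (y : H)) : Q ⧸ K1) = 1
      rw [h3]; rfl
  have hrange : ρΦ.range = ⊤ := by
    apply Subgroup.eq_top_of_card_eq
    have h3 := ρΦ.ker.card_mul_index
    rw [Subgroup.index_ker, hkerρ, ← hQK, mul_comm] at h3
    exact Nat.eq_of_mul_eq_mul_right hp0 h3
  have hcommQ : ∀ a b : Q ⧸ K1, a * b = b * a := by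
    intro a b
    obtain ⟨y, rfl⟩ := MonoidHom.range_eq_top.1 hrange a
    obtain ⟨z, rfl⟩ := MonoidHom.range_eq_top.1 hrange b
    rw [← map_mul, ← map_mul]
    congr 1
    exact Subtype.ext (hΦc y y.2 z z.2)
  have hρ : Function.Surjective ρ := (QuotientGroup.mk'_surjective K1).comp hπ
  refine exists_normal_index_eq_prime ?_
  have h3 : commutator H ≤ ρ.ker := by
    rw [_root_.commutator_def, Subgroup.commutator_le]
    intro a _ b _
    rw [MonoidHom.mem_ker, map_commutatorElement, commutatorElement_def, hcommQ (ρ a) (ρ b)]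
    group
  have h4 : ρ.ker.index = Nat.card (Q ⧸ K1) := by
    rw [Subgroup.index_ker, MonoidHom.range_eq_top.2 hρ, Subgroup.card_top]
  have h5 : p ∣ Nat.card (Q ⧸ K1) := by
    have h6 : p * p ∣ Nat.card (Q ⧸ K1) * p := by rw [hQK, ← pow_two]; exact hp2
    exact Nat.dvd_of_mul_dvd_mul_right hp0 h6
  rw [← h4] at h5
  exact h5.trans (Subgroup.index_dvd_of_le h3)

end Cfsg.Agent.Walter.FieldIndex
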