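import Mathlib
import Cfsg.Prelude.Def_Local
import Cfsg.Agent.Walter.FieldCard
import Cfsg.Agent.Walter.FieldIndex
import Cfsg.Agent.OddOrderLocal.CyclicSub

/-!
# The hypotheses (H4c), (H4), (H5) of the local theorem, for a prime not dividing `|K|`
-/

set_option autoImplicit false
set_option linter.unusedSectionVars false
set_option linter.unusedVariables false

namespace Cfsg.Agent.Walter.FieldH

open Subgroup Cfsg
open Cfsg.Agent.SignalizersComponents Cfsg.Agent.SignalizersComponents.Components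
open Cfsg.Agent.Walter.Types Cfsg.Agent.Walter.BalLocal Cfsg.Agent.Walter.OddCoreIn Cfsg.Agent.Walter.Cover
open Cfsg.Agent.Walter.CentB (TypeB)
open Cfsg.Agent.Walter.FieldX Cfsg.Agent.Walter.FieldY Cfsg.Agent.Walter.FieldPSL Cfsg.Agent.Walter.FieldG
open Cfsg.Agent.Walter.Setup (Data)

universe u

/-- `⟨φ⟩` is the Sylow `p`-subgroup of `Φ`. -/
structure PPart {G : Type u} [Group G] [Finite G] (S : Sylow 2 G) (p : ℕ) (φ : G) : Prop where
  mem : φ ∈ PhiG S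
  pow : ∃ b, φ ^ p ^ b = 1
  index : ¬ p ∣ (zpowers φ).relIndex (PhiG S)

variable {G : Type u} [Group G] [Finite G] {S : Sylow 2 G}

theorem isPGroup_zpowers {p : ℕ} {φ : G} (h : ∃ b, φ ^ p ^ b = 1) : IsPGroup p (zpowers φ) := by
  obtain ⟨b, hb⟩ := h
  rintro ⟨x, hx⟩
  obtain ⟨i, rfl⟩ := hx
  refine ⟨b, Subtype.ext ?_⟩
  change ((φ ^ i) ^ p ^ b) = 1
  rw [← zpow_natCast, ← zpow_mul, mul_comm, zpow_mul, zpow_natCast, hb, one_zpow]

/-- A `p`-element of `Φ` lies in `⟨φ⟩`. -/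
theorem PPart.mem_of {p : ℕ} [Fact p.Prime] {φ : G} (hφ : PPart S p φ)
    (hc : ∀ a ∈ PhiG S, ∀ b ∈ PhiG S, a * b = b * a) {y : G} (hy : y ∈ PhiG S) (hyp : ∃ b, y ^ p ^ b = 1) :
    y ∈ zpowers φ := by
  have hpp : p.Prime := Fact.out
  set A : Subgroup (PhiG S) := (zpowers φ).subgroupOf (PhiG S) with hA
  have hAn : A.Normal := by
    refine ⟨fun x hx g => ?_⟩
    have h1 : g * x * g⁻¹ = x := by
      have h2 : g * x = x * g := Subtype.ext (hc g g.2 x x.2)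
      rw [h2, mul_inv_cancel_right]
    rwa [h1]
  obtain ⟨b, hb⟩ := hyp
  have h1 : (QuotientGroup.mk (⟨y, hy⟩ : PhiG S) : (PhiG S) ⧸ A) ^ p ^ b = 1 := by
    rw [← QuotientGroup.mk_pow]
    have : (⟨y, hy⟩ : PhiG S) ^ p ^ b = 1 := Subtype.ext hb
    rw [this]; rfl
  have h2 : (QuotientGroup.mk (⟨y, hy⟩ : PhiG S) : (PhiG S) ⧸ A) ^ Nat.card ((PhiG S) ⧸ A) = 1 := pow_card_eq_one'
  have h3 := Nat.dvd_gcd (orderOf_dvd_of_pow_eq_one h1) (orderOf_dvd_of_pow_eq_one h2)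
  have h4 : Nat.Coprime (p ^ b) (Nat.card ((PhiG S) ⧸ A)) :=
    Nat.Coprime.pow_left b ((Nat.Prime.coprime_iff_not_dvd hpp).2 hφ.index)
  rw [h4.gcd_eq_one] at h3
  have h5 := (QuotientGroup.eq_one_iff _).1 (orderOf_eq_one_iff.1 (Nat.dvd_one.1 h3))
  exact mem_subgroupOf.1 h5

section

variable (H5 : Set5 S)

include H5

theorem isCyclic_PhiG : IsCyclic (PhiG S) := by
  obtain ⟨t, ht, ht1⟩ := H5.ne
  have h := H5.data t ht ht1
  obtain ⟨K, hK, hW⟩ := H5.typeB t ht ht1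
  obtain ⟨F, i1, i2, h8, h5, ⟨M⟩⟩ := exists_model hK hW
  have hcyc := M.isCyclic
  let f : PhiG S →* Phi (S.subtype (h.le_centralizer h.mem)) :=
    { toFun := fun y => toPhi h y y.2
      map_one' := rfl
      map_mul' := fun _ _ => rfl }
  refine isCyclic_of_injective f ?_
  intro y y' hyy
  have h1 : ((toPhi h y y.2 : C t) : G) = ((toPhi h y' y'.2 : C t) : G) :=
    congrArg (fun z : Phi (S.subtype (h.le_centralizer h.mem)) => ((z : C t) : G)) hyy
  exact Subtype.ext h1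

/-- **Existence of `φ`.** -/
theorem exists_PPart (p : ℕ) [Fact p.Prime] : ∃ φ : G, PPart S p φ := by
  have hcyc := isCyclic_PhiG H5
  obtain ⟨P⟩ : Nonempty (Sylow p (PhiG S)) := inferInstance
  obtain ⟨g, hg⟩ := (Subgroup.isCyclic_iff_exists_zpowers_eq_top (P : Subgroup (PhiG S))).1 inferInstance
  refine ⟨(g : G), g.2, ?_, ?_⟩
  · have h1 : g ∈ (P : Subgroup (PhiG S)) := by rw [← hg]; exact mem_zpowers g
    obtain ⟨k, hk⟩ := P.2 ⟨g, h1⟩
    refine ⟨k, ?_⟩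
    have h2 : g ^ p ^ k = 1 := congrArg Subtype.val hk
    exact congrArg Subtype.val h2
  · have h1 : (zpowers (g : G)).subgroupOf (PhiG S) = P := by
      rw [← hg]
      ext x
      rw [mem_subgroupOf, mem_zpowers_iff, mem_zpowers_iff]
      constructor
      · rintro ⟨i, hi⟩
        exact ⟨i, Subtype.ext hi⟩
      · rintro ⟨i, hi⟩
        exact ⟨i, congrArg Subtype.val hi⟩
    rw [relIndex, h1]
    exact P.not_dvd_index

/-- every involution is conjugate to `t` -/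
theorem exists_conj_inv {t : G} (ht : t ∈ (S : Subgroup G)) (ht1 : t ≠ 1) {v : G} (hv : orderOf v = 2) :
    ∃ g : G, g * v * g⁻¹ = t := by
  have hf : Fact (Nat.Prime 2) := ⟨Nat.prime_two⟩
  have h1 : IsPGroup 2 (zpowers v) := IsPGroup.of_card (n := 1) (by rw [Nat.card_zpowers, hv, pow_one])
  obtain ⟨P, hP⟩ := h1.exists_le_sylow
  obtain ⟨g, hg⟩ := MulAction.exists_smul_eq G P S
  have h2 : g * v * g⁻¹ ∈ (S : Subgroup G) := by
    rw [← hg]
    exact ⟨v, hP (mem_zpowers v), rfl⟩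
  have h3 : g * v * g⁻¹ ≠ 1 := by
    intro h4
    have h5 : v = 1 := by
      have h6 : g * v = g := mul_inv_eq_one.1 h4
      exact mul_eq_left.1 h6
    rw [h5, orderOf_one] at hv
    norm_num at hv
  obtain ⟨n, hn, hnt⟩ := (H5.data t ht ht1).trans _ h2 h3
  refine ⟨n⁻¹ * g, ?_⟩
  calc n⁻¹ * g * v * (n⁻¹ * g)⁻¹ = n⁻¹ * (g * v * g⁻¹) * n := by group
    _ = n⁻¹ * (n * t * n⁻¹) * n := by rw [hnt]
    _ = t := by group

/-- 2-elements have square one. -/
theorem sq_of_two_element {a : G} (ha : ∃ k, a ^ 2 ^ k = 1) : a * a = 1 := by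
  have hf : Fact (Nat.Prime 2) := ⟨Nat.prime_two⟩
  obtain ⟨P, hP⟩ := (isPGroup_zpowers ha).exists_le_sylow
  obtain ⟨g, hg⟩ := MulAction.exists_smul_eq G P S
  have h2 : g * a * g⁻¹ ∈ (S : Subgroup G) := by
    rw [← hg]
    exact ⟨a, hP (mem_zpowers a), rfl⟩
  obtain ⟨t, ht, ht1⟩ := H5.ne
  have h3 := (H5.data t ht ht1).sq _ h2
  have h4 : g * (a * a) * g⁻¹ = 1 := by rw [← h3]; group
  have h6 : g * (a * a) = g := mul_inv_eq_one.1 h4
  exact mul_eq_left.1 h6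

variable {p : ℕ} [Fact p.Prime] {φ : G} (hφ : PPart S p φ) (hp2 : p ≠ 2) {t : G} (ht : t ∈ (S : Subgroup G))
  (ht1 : t ≠ 1) {K : Subgroup (C t)}
  (hK : TypeB (S.subtype ((H5.data t ht ht1).le_centralizer (H5.data t ht ht1).mem)) K) (hW : WType K)
  (hpK : ¬ p ∣ Nat.card K)

include hφ hp2 hK hW hpK

/-- `⟨φ⟩` is a Sylow `p`-subgroup of `C(t)`. -/
theorem not_dvd_relIndex : ¬ p ∣ (zpowers φ).relIndex (C t) := by
  have hpp : p.Prime := Fact.out
  have hle1 : zpowers φ ≤ PhiG S := zpowers_le.2 hφ.mem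
  have hle2 : PhiG S ≤ C t := PhiG_le_C (H5.data t ht ht1)
  rw [← relIndex_mul_relIndex _ _ _ hle1 hle2]
  intro h
  rcases (Nat.Prime.dvd_mul hpp).1 h with h1 | h1
  · exact hφ.index h1
  · have h2 := FieldCard.relIndex_mul_card hle2
    rw [FieldCard.card_C H5 ht ht1 hK hW] at h2
    have h3 : (PhiG S).relIndex (C t) = 2 * Nat.card K := Nat.eq_of_mul_eq_mul_right Nat.card_pos h2
    rw [h3] at h1
    rcases (Nat.Prime.dvd_mul hpp).1 h1 with h4 | h4
    · exact hp2 ((Nat.prime_dvd_prime_iff_eq hpp Nat.prime_two).1 h4)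
    · exact hpK h4

/-- Every `p`-subgroup of the centralizer of an involution is conjugate into `⟨φ⟩`. -/
theorem exists_conj_le {v : G} (hv : orderOf v = 2) {R : Subgroup G} (hR : IsPGroup p R)
    (hRv : R ≤ centralizer {v}) : ∃ d : G, ∀ y ∈ R, d * y * d⁻¹ ∈ zpowers φ := by
  obtain ⟨g, hg⟩ := exists_conj_inv H5 ht ht1 hv
  have hle : zpowers φ ≤ C t := (zpowers_le.2 hφ.mem).trans (PhiG_le_C (H5.data t ht ht1))
  have hP1 : IsPGroup p ((zpowers φ).subgroupOf (C t)) :=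
    (isPGroup_zpowers hφ.pow).comap_of_injective (C t).subtype (C t).subtype_injective
  let P : Sylow p (C t) := hP1.toSylow (not_dvd_relIndex H5 hφ hp2 ht ht1 hK hW hpK)
  have hPmem : ∀ x : C t, x ∈ (P : Subgroup (C t)) ↔ (x : G) ∈ zpowers φ := fun x => Iff.rfl
  let R' : Subgroup G := R.map (MulAut.conj g).toMonoidHom
  have hR' : IsPGroup p R' := hR.map _
  have hR'C : R' ≤ C t := by
    rintro _ ⟨y, hy, rfl⟩
    rw [mem_C]
    change g * y * g⁻¹ * t = t * (g * y * g⁻¹)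
    have h1 : y * v = v * y := mem_centralizer_singleton_iff.1 (hRv hy)
    rw [← hg]
    calc g * y * g⁻¹ * (g * v * g⁻¹) = g * (y * v) * g⁻¹ := by group
      _ = g * v * g⁻¹ * (g * y * g⁻¹) := by rw [h1]; group
  have hR'' : IsPGroup p (R'.subgroupOf (C t)) := hR'.comap_of_injective (C t).subtype (C t).subtype_injective
  obtain ⟨Q, hQ⟩ := hR''.exists_le_sylow
  obtain ⟨c, hc⟩ := MulAction.exists_smul_eq (C t) Q P
  refine ⟨(c : G) * g, fun y hy => ?_⟩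
  have h1 : (⟨g * y * g⁻¹, hR'C ⟨y, hy, rfl⟩⟩ : C t) ∈ (Q : Subgroup (C t)) :=
    hQ (mem_subgroupOf.2 ⟨y, hy, rfl⟩)
  have h2 : c * ⟨g * y * g⁻¹, hR'C ⟨y, hy, rfl⟩⟩ * c⁻¹ ∈ (P : Subgroup (C t)) := by
    rw [← hc]
    exact ⟨_, h1, rfl⟩
  have h3 := (hPmem _).1 h2
  have h4 : (c : G) * (g * y * g⁻¹) * (c : G)⁻¹ ∈ zpowers φ := h3
  have e : (c : G) * g * y * ((c : G) * g)⁻¹ = (c : G) * (g * y * g⁻¹) * (c : G)⁻¹ := by group
  rw [e]
  exact h4

/-- **(H4c)** -/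
theorem isCyclic_of_le {v : G} (hv : orderOf v = 2) {R : Subgroup G} (hR : IsPGroup p R)
    (hRv : R ≤ centralizer {v}) : IsCyclic R := by
  obtain ⟨d, hd⟩ := exists_conj_le H5 hφ hp2 ht ht1 hK hW hpK hv hR hRv
  let f : R →* zpowers φ := (((MulAut.conj d).toMonoidHom).comp R.subtype).codRestrict (zpowers φ) fun y => hd y y.2
  refine isCyclic_of_injective f ?_
  intro y y' hyy
  have h1 : d * y * d⁻¹ = d * y' * d⁻¹ := congrArg Subtype.val hyy
  exact Subtype.ext (mul_left_cancel (mul_right_cancel h1))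

/-- **(H4)** -/
theorem exists_conj_mem {x : G} (hx : x ∈ zpowers φ) (hxo : orderOf x = p) {v : G} (hv : orderOf v = 2) {y : G}
    (hyv : y * v = v * y) (hyo : orderOf y = p) : ∃ g : G, g * y * g⁻¹ ∈ zpowers x := by
  have h1 : IsPGroup p (zpowers y) := IsPGroup.of_card (n := 1) (by rw [Nat.card_zpowers, hyo, pow_one])
  have h2 : zpowers y ≤ centralizer {v} := by
    rw [zpowers_le]
    exact mem_centralizer_singleton_iff.2 hyv
  obtain ⟨d, hd⟩ := exists_conj_le H5 hφ hp2 ht ht1 hK hW hpK hv h1 h2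
  refine ⟨d, ?_⟩
  have h3 := hd y (mem_zpowers y)
  have h4 : orderOf (d * y * d⁻¹) = p := by
    rw [← hyo]
    exact orderOf_injective (MulAut.conj d).toMonoidHom (MulAut.conj d).injective y
  -- both generate the subgroup of order `p` of the cyclic group `⟨φ⟩`
  have h5 : zpowers (⟨d * y * d⁻¹, h3⟩ : zpowers φ) = zpowers (⟨x, hx⟩ : zpowers φ) := by
    have h6 : Nat.card (zpowers (⟨d * y * d⁻¹, h3⟩ : zpowers φ)) = Nat.card (zpowers (⟨x, hx⟩ : zpowers φ)) := by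
      rw [Nat.card_zpowers, Nat.card_zpowers, Subgroup.orderOf_mk, Subgroup.orderOf_mk, h4, hxo]
    exact Cfsg.Agent.OddOrderLocal.CyclicSub.eq_of_card_eq_of_isCyclic h6
  have h6 : (⟨d * y * d⁻¹, h3⟩ : zpowers φ) ∈ zpowers (⟨x, hx⟩ : zpowers φ) := by
    rw [← h5]; exact mem_zpowers _
  obtain ⟨i, hi⟩ := mem_zpowers_iff.1 h6
  exact mem_zpowers_iff.2 ⟨i, congrArg Subtype.val hi⟩

end

end Cfsg.Agent.Walter.FieldH
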