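import Mathlib
import Cfsg.Prelude.Def_Local
import Cfsg.Agent.Walter.FieldE
import Cfsg.Agent.Walter.FieldH

/-!
# The hypothesis (H5) of the local theorem
-/

set_option autoImplicit false
set_option linter.unusedSectionVars false
set_option linter.unusedVariables false

namespace Cfsg.Agent.Walter.FieldH

open Subgroup Cfsg
open Cfsg.Agent.SignalizersComponents Cfsg.Agent.SignalizersComponents.Components
open Cfsg.Agent.Walter.Types Cfsg.Agent.Walter.BalLocal Cfsg.Agent.Walter.OddCoreIn Cfsg.Agent.Walter.Cover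
open Cfsg.Agent.Walter.CentB (TypeB)
open Cfsg.Agent.Walter.FieldX Cfsg.Agent.Walter.FieldY Cfsg.Agent.Walter.FieldPSL Cfsg.Agent.Walter.FieldG
open Cfsg.Agent.Walter.FieldCore Cfsg.Agent.Walter.FieldCard Cfsg.Agent.Walter.FieldQuot
open Cfsg.Agent.Walter.Setup (Data)

universe u

variable {G : Type u} [Group G] [Finite G] {S : Sylow 2 G}

/-- (H5) if the Sylow `p`-subgroup of `C(φ)`, `φ` of order `p`, is `⟨φ⟩ T`, abelian. -/
theorem exists_index_of_abelian {p : ℕ} [Fact p.Prime] {φ : G} {T : Subgroup G} (hφo : orderOf φ = p)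
    (hT : IsPGroup p T) (hTab : ∀ a ∈ T, ∀ b ∈ T, a * b = b * a) (hTφ : ∀ a ∈ T, a * φ = φ * a)
    (hSyl : ∀ R : Subgroup G, IsPGroup p R → zpowers φ ⊔ T ≤ R → R ≤ centralizer {φ} → R ≤ zpowers φ ⊔ T) :
    ∃ K : Subgroup (centralizer ({φ} : Set G)), K.Normal ∧ K.index = p := by
  have hle : zpowers φ ⊔ T ≤ centralizer ({φ} : Set G) := by
    refine sup_le ?_ ?_
    · rw [zpowers_le]; exact mem_centralizer_singleton_iff.2 rfl
    · intro a ha; exact mem_centralizer_singleton_iff.2 (hTφ a ha)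
  have hφp : IsPGroup p (zpowers φ) := IsPGroup.of_card (n := 1) (by rw [Nat.card_zpowers, hφo, pow_one])
  have hcT : T ≤ centralizer (zpowers φ : Set G) := by
    intro a ha
    rw [mem_centralizer_iff]
    rintro x hx
    obtain ⟨i, rfl⟩ := mem_zpowers_iff.1 hx
    exact ((show Commute a φ from hTφ a ha).zpow_right i).symm.eq
  have hpP : IsPGroup p (zpowers φ ⊔ T : Subgroup G) :=
    hφp.to_sup_of_normal_left' hT (hcT.trans (centralizer_le_normalizer _))
  have hcomm : ∀ a ∈ zpowers φ ⊔ T, ∀ b ∈ zpowers φ ⊔ T, a * b = b * a := by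
    have h1 : zpowers φ ⊔ T ≤ centralizer ((zpowers φ ⊔ T : Subgroup G) : Set G) := by
      have h2 : zpowers φ ≤ centralizer ((zpowers φ ⊔ T : Subgroup G) : Set G) := by
        rw [zpowers_le, mem_centralizer_iff]
        intro z hz
        exact mem_centralizer_singleton_iff.1 (hle hz)
      have h3 : T ≤ centralizer ((zpowers φ ⊔ T : Subgroup G) : Set G) := by
        rw [le_centralizer_iff]
        refine sup_le ?_ ?_
        · rw [le_centralizer_iff]; exact hcT
        · intro a ha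
          rw [mem_centralizer_iff]
          intro b hb
          exact hTab b hb a ha
      exact sup_le h2 h3
    intro a ha b hb
    exact (mem_centralizer_iff.1 (h1 ha) b hb).symm
  refine FieldIndex.exists_index_of_central (P := (zpowers φ ⊔ T).subgroupOf (centralizer ({φ} : Set G)))
    (x := ⟨φ, mem_centralizer_singleton_iff.2 rfl⟩) ?_ ?_ ?_ ?_ ?_
  · exact hpP.comap_of_injective (centralizer ({φ} : Set G)).subtype (subtype_injective _)
  · intro R hR hPR
    have h1 : zpowers φ ⊔ T ≤ R.map (centralizer ({φ} : Set G)).subtype := by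
      intro a ha
      exact ⟨⟨a, hle ha⟩, hPR (mem_subgroupOf.2 ha), rfl⟩
    have h2 := hSyl _ (hR.map _) h1 (map_subtype_le _)
    intro r hr
    exact mem_subgroupOf.2 (h2 ⟨r, hr, rfl⟩)
  · intro a ha b hb
    exact Subtype.ext (hcomm a (mem_subgroupOf.1 ha) b (mem_subgroupOf.1 hb))
  · rw [mem_center_iff]
    intro g
    exact Subtype.ext (mem_centralizer_singleton_iff.1 g.2)
  · rw [Subgroup.orderOf_mk, hφo]

/-- the form with `orderOf y` -/
theorem PPart.of_div {p : ℕ} {y : G} (hy : y ∈ PhiG S) (hyp : ∃ b, y ^ p ^ b = 1)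
    (hdiv : ¬ p ∣ Nat.card (PhiG S) / orderOf y) : PPart S p y := by
  refine ⟨hy, hyp, ?_⟩
  have h1 := FieldCard.relIndex_mul_card (zpowers_le.2 hy)
  rw [Nat.card_zpowers] at h1
  rwa [← h1, Nat.mul_div_cancel _ (orderOf_pos y)] at hdiv

section

variable (H5 : Set5 S)

include H5

/-- (H5) if `p² ∣ |Φ|`. -/
theorem exists_index_of_sq {p : ℕ} [Fact p.Prime] {x : G} (hx : x ∈ PhiG S) (hxo : orderOf x = p)
    (hp2 : p ^ 2 ∣ Nat.card (PhiG S)) {K1 : Subgroup (Q x)} (hn : K1.Normal) (hW : WType K1)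
    (hcard : Nat.card (C x) = Nat.card K1 * Nat.card (PhiG S)) :
    ∃ K : Subgroup (centralizer ({x} : Set G)), K.Normal ∧ K.index = p := by
  have hcΦ : ∀ a ∈ PhiG S, ∀ b ∈ PhiG S, a * b = b * a := fun a ha b hb => comm_Phi H5 ha hb
  have hΦC : PhiG S ≤ C x := fun a ha => mem_C.2 (hcΦ a ha x hx)
  have hcardΦ : Nat.card ((PhiG S).subgroupOf (C x)) = Nat.card (PhiG S) :=
    Nat.card_congr (subgroupOfEquivOfLe hΦC).toEquiv
  refine FieldIndex.exists_index_of_quotient (pr x) (pr_surj x) K1 hn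
    (fun P => PSLFacts.WType.selfc hW P) (Φ := (PhiG S).subgroupOf (C x)) ?_ ?_ (S.subtype (S_le hx)) ?_ ?_ ?_ ?_ ?_
  · intro a ha b hb
    exact Subtype.ext (hcΦ a (mem_subgroupOf.1 ha) b (mem_subgroupOf.1 hb))
  · rw [hcardΦ]; exact PhiG_odd S
  · intro s hs y hy
    exact Subtype.ext (mem_centralizer_iff.1 (PhiG_le S (mem_subgroupOf.1 hy)) s (FieldCard.mem_sub.1 hs))
  · rw [hcardΦ]; exact hcard
  · rw [card_ker H5 hx, hxo]
  · rw [hcardΦ]; exact hp2
  · intro z hz
    have h1 := (pr_eq_one H5 hx).1 hz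
    exact mem_subgroupOf.2 ((zpowers_le.2 hx) h1)

/-- **(H5)**, complete: from the structure of `C(x)` (`FieldTri.main`) if `p² ∣ |Φ|`, from an abelian Sylow
`p`-subgroup of `C(φ)` otherwise. -/
theorem exists_index [IsSimpleGroup G] (hna : ∃ a b : G, a * b ≠ b * a) (hind : TypeSylow.Ind.{u} (Nat.card G))
    {t : G} (ht : t ∈ (S : Subgroup G)) (ht1 : t ≠ 1) {K : Subgroup (C t)}
    (hK : TypeB (S.subtype ((H5.data t ht ht1).le_centralizer ht)) K) (hW : WType K)
    {F : Type} [Field F] [Fintype F] (h8 : Fintype.card F % 8 = 3 ∨ Fintype.card F % 8 = 5)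
    (M : Model (S.subtype ((H5.data t ht ht1).le_centralizer ht)) K F)
    {p : ℕ} [Fact p.Prime] {φ : G} (hφ : PPart S p φ) {x : G} (hx : x ∈ zpowers φ) (hxo : orderOf x = p)
    {T : Subgroup G} (hT : IsPGroup p T) (hTab : ∀ a ∈ T, ∀ b ∈ T, a * b = b * a) (hTφ : ∀ a ∈ T, a * φ = φ * a)
    (hSyl : ∀ R : Subgroup G, IsPGroup p R → zpowers φ ⊔ T ≤ R → R ≤ centralizer {φ} → R ≤ zpowers φ ⊔ T) :
    ∃ K : Subgroup (centralizer ({x} : Set G)), K.Normal ∧ K.index = p := by
  have hpp : p.Prime := Fact.out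
  have hxΦ : x ∈ PhiG S := (zpowers_le.2 hφ.mem) hx
  have hx1 : x ≠ 1 := by
    rintro rfl
    rw [orderOf_one] at hxo
    exact hpp.one_lt.ne hxo
  have hxz : Nat.card (zpowers x) = p := by rw [Nat.card_zpowers, hxo]
  have hdvd : orderOf φ ∣ Nat.card (PhiG S) := Subgroup.orderOf_dvd_natCard _ hφ.mem
  obtain ⟨b, hb⟩ := hφ.pow
  obtain ⟨k, -, hk⟩ := (Nat.dvd_prime_pow hpp).1 (orderOf_dvd_of_pow_eq_one hb)
  have hk0 : k ≠ 0 := by
    rintro rfl
    have h1 : φ = 1 := orderOf_eq_one_iff.1 (by rw [hk, pow_zero])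
    rw [h1] at hx
    simp only [zpowers_one_eq_bot, mem_bot] at hx
    exact hx1 hx
  by_cases h1 : k = 1
  · -- `x` and `φ` generate the same group
    have hφo : orderOf φ = p := by rw [hk, h1, pow_one]
    have hz : zpowers x = zpowers φ := by
      refine Subgroup.eq_of_le_of_card_ge (zpowers_le.2 hx) ?_
      rw [Nat.card_zpowers, Nat.card_zpowers, hxo, hφo]
    have hCeq : centralizer ({x} : Set G) = centralizer ({φ} : Set G) := by
      rw [← centralizer_closure, ← zpowers_eq_closure, hz, zpowers_eq_closure, centralizer_closure]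
    rw [hCeq]
    exact exists_index_of_abelian hφo hT hTab hTφ hSyl
  · have hp2 : p ^ 2 ∣ Nat.card (PhiG S) := by
      refine (pow_dvd_pow p (by omega : 2 ≤ k)).trans ?_
      rw [← hk]; exact hdvd
    rcases FieldTri.main H5 hind ht ht1 hxΦ (FieldE.C_lt hna hx1) hK hW h8 M with
      ⟨-, hΦ, -⟩ | ⟨-, K1, hn, -, -, hJR, -, hcard⟩
    · exfalso
      have h2 : Nat.card (PhiG S) = p := by rw [hΦ, hxz]
      rw [h2] at hp2
      have h3 := Nat.le_of_dvd hpp.pos hp2
      have h4 := hpp.one_lt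
      nlinarith
    · exact exists_index_of_sq H5 hxΦ hxo hp2 hn (Or.inr (Or.inr hJR)) hcard

end

end Cfsg.Agent.Walter.FieldH
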