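import Mathlib
import Cfsg.Agent.Walter.TorusDef
import Cfsg.Agent.SporadicB.J1.Main

/-!
# The Sylow `p`-subgroups of `J₁`, `p = 7, 11, 19`, and an element of order `3`, `5`, `3` acting on them
-/

set_option autoImplicit false

namespace Cfsg.Agent.Walter.J1Torus

open Cfsg Cfsg.Spor Cfsg.Agent.SporadicB.J1.Mat Cfsg.Agent.SporadicB.J1.Data Cfsg.Agent.SporadicB.J1.Main Cfsg.Agent.Walter.ReeTorus

theorem torus_aux {p r α : ℕ} (hp : p.Prime) (hr : r.Prime) (hr2 : r ≠ 2) (hpr : r ≠ p) {x h : J1} (hx : x ^ p = 1)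
    (hx1 : x ≠ 1) (hh : h ^ r = 1) (hh1 : h ≠ 1) (hα : h * x * h⁻¹ = x ^ α) (hα2 : ¬ α ^ 2 ≡ 1 [MOD p])
    (hp2 : ¬ p ^ 2 ∣ 175560) (T : Sylow p ↥J1) : Torus p ↥J1 (T : Subgroup ↥J1) := by
  have hfp : Fact p.Prime := ⟨hp⟩
  have hfr : Fact r.Prime := ⟨hr⟩
  have hcard : Nat.card J1 = 175560 := isJ1.2
  have hfin : Finite J1 := Nat.finite_of_card_ne_zero (by rw [hcard]; norm_num)
  have hxo : orderOf x = p := orderOf_eq_prime hx hx1
  have hho : orderOf h = r := orderOf_eq_prime hh hh1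
  have hZ : Nat.card (Subgroup.zpowers x) = p := by rw [Nat.card_zpowers, hxo]
  have hZp : IsPGroup p (Subgroup.zpowers x) := IsPGroup.of_card (n := 1) (by rw [hZ, pow_one])
  obtain ⟨T₁, hT₁⟩ := hZp.exists_le_sylow
  have hT₁card : Nat.card (T₁ : Subgroup ↥J1) = p := by
    obtain ⟨n, hn⟩ := T₁.2.exists_card_eq
    have h1 : p ^ n ∣ 175560 := by rw [← hn, ← hcard]; exact Subgroup.card_subgroup_dvd_card _
    have h2 : n < 2 := by
      by_contra h2
      exact hp2 (dvd_trans (pow_dvd_pow p (by omega)) h1)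
    have h3 : p ∣ Nat.card (T₁ : Subgroup ↥J1) := hZ.symm.dvd.trans (Subgroup.card_dvd_of_le hT₁)
    have h4 : n ≠ 0 := by
      rintro rfl
      rw [hn, pow_zero, Nat.dvd_one] at h3
      exact hp.one_lt.ne' h3
    have h5 : n = 1 := by omega
    rw [hn, h5, pow_one]
  have hT₁eq : (T₁ : Subgroup ↥J1) = Subgroup.zpowers x :=
    (Subgroup.eq_of_le_of_card_ge hT₁ (by rw [hT₁card, hZ])).symm
  have htor : Torus p ↥J1 (T₁ : Subgroup ↥J1) := by
    rw [hT₁eq]
    refine ⟨inferInstance, fun h0 => hx1 (by rwa [Subgroup.zpowers_eq_bot] at h0), h, α, ?_, ?_, ?_, hα2⟩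
    · rw [hho]; exact hr.odd_of_ne_two hr2
    · rw [hho]; exact (Nat.coprime_primes hr hp).2 hpr
    · rintro _ ⟨i, rfl⟩
      change h * x ^ i * h⁻¹ = (x ^ i) ^ α
      rw [← conj_zpow, hα, ← zpow_natCast, ← zpow_natCast, ← zpow_mul, ← zpow_mul, mul_comm]
  obtain ⟨g, hg⟩ := MulAction.exists_smul_eq ↥J1 T₁ T
  exact htor.conj g (by rw [← hg]; rfl)

theorem torus_check {p r α : ℕ} (hp : p.Prime) (hr : r.Prime) (hr2 : r ≠ 2) (hpr : r ≠ p) (w v : List Nat)
    (hx : powC (evC w) p cI = cI) (hx1 : diffC (evC w) cI = true) (hh : powC (evC v) r cI = cI)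
    (hh1 : diffC (evC v) cI = true) (hα : mulC (evC v) (evC w) = mulC (powC (evC w) α cI) (evC v))
    (hα2 : ¬ α ^ 2 ≡ 1 [MOD p]) (hp2 : ¬ p ^ 2 ∣ 175560) (T : Sylow p ↥J1) : Torus p ↥J1 (T : Subgroup ↥J1) := by
  refine torus_aux (α := α) hp hr hr2 hpr (x := ev w) (h := ev v) (((rep_ev w).pow p).eq Rep.one hx)
    ((rep_ev w).ne Rep.one hx1) (((rep_ev v).pow r).eq Rep.one hh) ((rep_ev v).ne Rep.one hh1) ?_ hα2 hp2 T
  have h1 : ev v * ev w = ev w ^ α * ev v := ((rep_ev v).mul (rep_ev w)).eq (((rep_ev w).pow α).mul (rep_ev v)) hα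
  rw [h1, mul_inv_cancel_right]

theorem torus_seven (T : Sylow 7 ↥J1) : Torus 7 ↥J1 (T : Subgroup ↥J1) :=
  torus_check (α := 2) (by norm_num) Nat.prime_three (by norm_num) (by norm_num) [0]
    [1, 0, 1, 2, 3, 3, 2, 3, 2, 3, 0, 1, 1, 0, 1] (by decide +kernel) (by decide +kernel) (by decide +kernel)
    (by decide +kernel) (by decide +kernel) (by decide) (by norm_num) T

theorem torus_eleven (T : Sylow 11 ↥J1) : Torus 11 ↥J1 (T : Subgroup ↥J1) :=
  torus_check (α := 3) (by norm_num) Nat.prime_five (by norm_num) (by norm_num) [1, 2, 1, 1]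
    [2, 3, 3, 0, 3, 2] (by decide +kernel) (by decide +kernel) (by decide +kernel)
    (by decide +kernel) (by decide +kernel) (by decide) (by norm_num) T

theorem torus_nineteen (T : Sylow 19 ↥J1) : Torus 19 ↥J1 (T : Subgroup ↥J1) :=
  torus_check (α := 7) (by norm_num) Nat.prime_three (by norm_num) (by norm_num) [1, 2, 1, 0]
    [3, 0, 3, 2, 3, 3, 2, 1, 0, 0] (by decide +kernel) (by decide +kernel) (by decide +kernel)
    (by decide +kernel) (by decide +kernel) (by decide) (by norm_num) T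

/-- **The torus of `J₁` at `7`, `11`, `19`.** -/
theorem torus_of_isoJ1 {G : Type*} [Group G] [Finite G] (hG : Cfsg.Spor.IsoJ1 G) {p : ℕ} [Fact p.Prime]
    (hp : p ∣ Nat.card G) (hp' : ¬ p ∣ 30) (T : Sylow p G) : Torus p G (T : Subgroup G) := by
  have hpp : p.Prime := Fact.out
  obtain ⟨e⟩ := hG
  have hs : Function.Surjective (e.toMonoidHom : G →* ↥J1) := e.surjective
  have h1 : ((T.mapSurjective hs : Sylow p ↥J1) : Subgroup ↥J1) = (T : Subgroup G).map e.toMonoidHom :=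
    Sylow.coe_mapSurjective hs T
  have h2 : Torus p ↥J1 ((T.mapSurjective hs : Sylow p ↥J1) : Subgroup ↥J1) := by
    have hcard : Nat.card J1 = 175560 := isJ1.2
    rw [Nat.card_congr e.toEquiv, hcard] at hp
    have h3 : p ∣ 2 ^ 2 * 30 * (7 * (11 * 19)) := by
      norm_num
      exact hp
    rcases (Nat.Prime.dvd_mul hpp).1 h3 with h4 | h4
    · exfalso
      rcases (Nat.Prime.dvd_mul hpp).1 h4 with h5 | h5
      · have h6 := hpp.dvd_of_dvd_pow h5
        exact hp' (h6.trans (by norm_num))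
      · exact hp' h5
    rcases (Nat.Prime.dvd_mul hpp).1 h4 with h5 | h5
    · obtain rfl := (Nat.prime_dvd_prime_iff_eq hpp (by norm_num)).1 h5
      exact torus_seven _
    rcases (Nat.Prime.dvd_mul hpp).1 h5 with h6 | h6
    · obtain rfl := (Nat.prime_dvd_prime_iff_eq hpp (by norm_num)).1 h6
      exact torus_eleven _
    · obtain rfl := (Nat.prime_dvd_prime_iff_eq hpp (by norm_num)).1 h6
      exact torus_nineteen _
  refine h2.map e.symm ?_
  rw [h1, Subgroup.map_map]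
  have : (e.symm.toMonoidHom.comp e.toMonoidHom) = MonoidHom.id G := by ext x; simp
  rw [this, Subgroup.map_id]

end Cfsg.Agent.Walter.J1Torus
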