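import Mathlib
import Cfsg.Prelude.Def_LieTwisted
import Cfsg.Agent.Walter.TorusDef
import Cfsg.Agent.S1156
import Cfsg.Agent.S1158
import Cfsg.Agent.S1159

/-!
# The Sylow `p`-subgroups of `²G₂(q)`, `p ∣ q² - q + 1`, and an element of order three acting on them
-/

set_option autoImplicit false

namespace Cfsg.Agent.Walter.ReeTorus

open Cfsg

/-- `(q - r + 1)(q + r + 1) = q² - q + 1` for `q = 3^(2m+1)`, `r = 3^(m+1)`. -/
theorem factor (m : ℕ) : (3 ^ (2 * m + 1) - 3 ^ (m + 1) + 1) * (3 ^ (2 * m + 1) + 3 ^ (m + 1) + 1) =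
    (3 ^ (2 * m + 1)) ^ 2 - 3 ^ (2 * m + 1) + 1 := by
  have h1 : 3 ^ (m + 1) ≤ 3 ^ (2 * m + 1) := Nat.pow_le_pow_right (by norm_num) (by omega)
  have h2 : 3 ^ (2 * m + 1) ≤ (3 ^ (2 * m + 1)) ^ 2 := Nat.le_self_pow (by norm_num) _
  have h3 : (3 ^ (m + 1)) ^ 2 = 3 * 3 ^ (2 * m + 1) := by
    rw [← pow_mul]; ring
  zify [h1, h2]
  have h4 : ((3 : ℤ) ^ (m + 1)) ^ 2 = 3 * 3 ^ (2 * m + 1) := by exact_mod_cast h3
  linear_combination (-1) * h4

/-- A prime divisor of `q² - q + 1`, `q` a proper power of `3`, divides none of `6`, `q`, `q - 1`, `q + 1`. -/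
theorem prime_facts {n : ℕ} (hn : 1 ≤ n) {p : ℕ} (hp : p.Prime) (hpd : p ∣ (3 ^ n) ^ 2 - 3 ^ n + 1) :
    p ≠ 2 ∧ p ≠ 3 ∧ ¬ p ∣ 3 ^ n ∧ ¬ p ∣ 3 ^ n - 1 ∧ ¬ p ∣ 3 ^ n + 1 := by
  obtain ⟨k, rfl⟩ : ∃ k, n = k + 1 := ⟨n - 1, by omega⟩
  set q : ℕ := 3 ^ (k + 1) with hq
  have hq1 : 1 ≤ q := Nat.one_le_pow _ _ (by norm_num)
  have hq2 : q ≤ q ^ 2 := Nat.le_self_pow (by norm_num) _
  have hodd : Odd q := Odd.pow (by decide)
  have h3q : 3 ∣ q := Dvd.intro_left (3 ^ k) (by rw [hq]; ring)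
  have hpz : (p : ℤ) ∣ (q : ℤ) ^ 2 - q + 1 := by
    have := Int.natCast_dvd_natCast.2 hpd
    push_cast [Nat.cast_sub hq2] at this
    exact this
  have hpz0 : Prime (p : ℤ) := Nat.prime_iff_prime_int.1 hp
  have hne3 : p ≠ 3 := by
    rintro rfl
    have h1 : ((3 : ℕ) : ℤ) ∣ (q : ℤ) := Int.natCast_dvd_natCast.2 h3q
    have h2 : ((3 : ℕ) : ℤ) ∣ 1 := by
      have h3 : (1 : ℤ) = ((q : ℤ) ^ 2 - q + 1) - q * (q - 1) := by ring
      rw [h3]
      exact dvd_sub hpz (Dvd.dvd.mul_right h1 _)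
    have := Int.le_of_dvd (by norm_num) h2
    norm_num at this
  refine ⟨?_, hne3, ?_, ?_, ?_⟩
  · rintro rfl
    obtain ⟨c, hc⟩ := hodd
    have hqc : (q : ℤ) = 2 * c + 1 := by exact_mod_cast hc
    have h2 : ((2 : ℕ) : ℤ) ∣ 1 := by
      have h3 : (1 : ℤ) = ((q : ℤ) ^ 2 - q + 1) - 2 * (c * q) := by rw [hqc]; ring
      rw [h3]
      exact dvd_sub hpz ⟨(c : ℤ) * q, by push_cast; ring⟩
    have := Int.le_of_dvd (by norm_num) h2
    norm_num at this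
  · intro h
    have h1 : (p : ℤ) ∣ (q : ℤ) := Int.natCast_dvd_natCast.2 h
    have h2 : (p : ℤ) ∣ 1 := by
      have h3 : (1 : ℤ) = ((q : ℤ) ^ 2 - q + 1) - q * (q - 1) := by ring
      rw [h3]
      exact dvd_sub hpz (Dvd.dvd.mul_right h1 _)
    exact hpz0.not_isUnit (isUnit_of_dvd_one h2)
  · intro h
    have h1 : (p : ℤ) ∣ (q : ℤ) - 1 := by
      have := Int.natCast_dvd_natCast.2 h
      rwa [Nat.cast_sub hq1, Nat.cast_one] at this
    have h2 : (p : ℤ) ∣ 1 := by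
      have h3 : (1 : ℤ) = ((q : ℤ) ^ 2 - q + 1) - (q - 1) * q := by ring
      rw [h3]
      exact dvd_sub hpz (Dvd.dvd.mul_right h1 _)
    exact hpz0.not_isUnit (isUnit_of_dvd_one h2)
  · intro h
    have h1 : (p : ℤ) ∣ (q : ℤ) + 1 := by
      have := Int.natCast_dvd_natCast.2 h
      rwa [Nat.cast_add, Nat.cast_one] at this
    have h2 : (p : ℤ) ∣ ((3 : ℕ) : ℤ) := by
      have h3 : (((3 : ℕ) : ℤ)) = ((q : ℤ) ^ 2 - q + 1) - (q + 1) * (q - 2) := by push_cast; ring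
      rw [h3]
      exact dvd_sub hpz (Dvd.dvd.mul_right h1 _)
    have h4 := Int.natCast_dvd_natCast.1 h2
    exact hne3 ((Nat.prime_dvd_prime_iff_eq hp Nat.prime_three).1 h4)

/-- A cyclic `p`-subgroup normalised by an element of order three, no element of order `3 p`. -/
theorem torus_of {G : Type*} [Group G] [Finite G] {p : ℕ} [Fact p.Prime] (hp3 : p ≠ 3)
    (hno : ∀ g : G, orderOf g ≠ 3 * p) {T : Subgroup G} (hT : IsPGroup p T) (hT1 : T ≠ ⊥) (hcyc : IsCyclic T)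
    {h : G} (ho : orderOf h = 3) (hn : ∀ x ∈ T, h * x * h⁻¹ ∈ T) : Torus p G T := by
  have hpp : p.Prime := Fact.out
  obtain ⟨⟨g, hg⟩, hgen⟩ := hcyc.exists_generator
  have hgen' : ∀ x ∈ T, ∃ j : ℕ, g ^ j = x := by
    intro x hx
    have h1 := mem_powers_iff_mem_zpowers.2 (hgen ⟨x, hx⟩)
    obtain ⟨j, hj⟩ := h1
    exact ⟨j, by simpa using congrArg Subtype.val hj⟩
  obtain ⟨α, hα⟩ := hgen' _ (hn g hg)
  have hact : ∀ x ∈ T, h * x * h⁻¹ = x ^ α := by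
    intro x hx
    obtain ⟨j, rfl⟩ := hgen' x hx
    rw [← conj_pow, ← hα, ← pow_mul, ← pow_mul, mul_comm]
  refine ⟨hcyc, hT1, h, α, by rw [ho]; decide, by
    rw [ho]; exact (Nat.coprime_primes Nat.prime_three hpp).2 (fun h => hp3 h.symm), hact, fun h2 => ?_⟩
  have hcard : p ∣ Nat.card T := by
    obtain ⟨n, hn⟩ := hT.exists_card_eq
    rw [hn]
    refine dvd_pow_self p (fun h0 => hT1 ?_)
    rw [h0, pow_zero] at hn
    exact Subgroup.card_eq_one.1 hn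
  obtain ⟨⟨x, hx⟩, hxo⟩ := exists_prime_orderOf_dvd_card' p hcard
  have hxo' : orderOf x = p := (Subgroup.orderOf_mk x hx).symm.trans hxo
  have h3 : h * x * h⁻¹ = x ^ α := hact x hx
  have h4 : h * (h * x * h⁻¹) * h⁻¹ = x := by
    rw [h3, ← conj_pow, h3, ← pow_mul]
    calc x ^ (α * α) = x ^ (α ^ 2) := by rw [pow_two]
      _ = x ^ 1 := pow_eq_pow_iff_modEq.2 (by rw [hxo']; exact h2)
      _ = x := pow_one x
  have h5 : Commute (h * h) x := by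
    have : (h * h) * x * (h * h)⁻¹ = x := by
      rw [mul_inv_rev]
      calc h * h * x * (h⁻¹ * h⁻¹) = h * (h * x * h⁻¹) * h⁻¹ := by group
        _ = x := h4
    exact mul_inv_eq_iff_eq_mul.1 this
  have h6 : h = (h * h) * (h * h) := by
    have : h ^ 3 = 1 := by rw [← ho]; exact pow_orderOf_eq_one h
    calc h = h ^ 3 * h := by rw [this, one_mul]
      _ = (h * h) * (h * h) := by rw [pow_succ, pow_two]; simp only [mul_assoc]
  have h7 : Commute h x := by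
    rw [h6]; exact h5.mul_left h5
  refine hno (h * x) ?_
  rw [h7.orderOf_mul_eq_mul_orderOf_of_coprime, ho, hxo']
  rw [ho, hxo']
  exact (Nat.coprime_primes Nat.prime_three hpp).2 (fun h => hp3 h.symm)

/-- **The torus of `²G₂(q)` at a prime divisor of `q² - q + 1`.** -/
theorem torus_twisted {K : Type*} [Field K] [Fintype K] {m : ℕ} (hm : 1 ≤ m)
    (hK : Fintype.card K = 3 ^ (2 * m + 1)) {p : ℕ} [Fact p.Prime]
    (hp : p ∣ (3 ^ (2 * m + 1)) ^ 2 - 3 ^ (2 * m + 1) + 1) (T : Sylow p ↥(Cfsg.Lie.twistedG2 K (3 ^ m))) :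
    Torus p ↥(Cfsg.Lie.twistedG2 K (3 ^ m)) (T : Subgroup ↥(Cfsg.Lie.twistedG2 K (3 ^ m))) := by
  have hpp : p.Prime := Fact.out
  have hfin : Finite ↥(Cfsg.Lie.twistedG2 K (3 ^ m)) := by
    apply Nat.finite_of_card_ne_zero
    rw [Cfsg.Agent.LieRecognition.ReeFinal.card hK]
    have h1 : 0 < 3 ^ (2 * m + 1) := by positivity
    have h2 : 0 < 3 ^ (2 * m + 1) - 1 := by
      have : 3 ^ 1 ≤ 3 ^ (2 * m + 1) := Nat.pow_le_pow_right (by norm_num) (by omega)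
      omega
    positivity
  obtain ⟨hp2, hp3, hpq, hpm, hpn⟩ := prime_facts (n := 2 * m + 1) (by omega) hpp hp
  have hp5 : 3 < p := by
    have := hpp.two_le
    omega
  have h3q : 3 ∣ 3 ^ (2 * m + 1) := dvd_pow_self 3 (by omega)
  have h3r : 3 ∣ 3 ^ (m + 1) := dvd_pow_self 3 (by omega)
  have hle : 3 ^ (m + 1) ≤ 3 ^ (2 * m + 1) := Nat.pow_le_pow_right (by norm_num) (by omega)
  have h3a : ¬ 3 ∣ 3 ^ (2 * m + 1) - 3 ^ (m + 1) + 1 := by omega
  have h3b : ¬ 3 ∣ 3 ^ (2 * m + 1) + 3 ^ (m + 1) + 1 := by omega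
  -- no elements of order `3 p`
  have hno : ∀ g : ↥(Cfsg.Lie.twistedG2 K (3 ^ m)), orderOf g ≠ 3 * p := by
    intro g hg
    have hpd3 : p ∣ 3 * p := dvd_mul_left _ _
    have h3d3 : 3 ∣ 3 * p := dvd_mul_right _ _
    rcases (Cfsg.Agent.S1159.result hm hK (3 * p)).1 ⟨g, hg⟩ with h | h | h | h | h | h
    · have h1 : p ∣ 2 * 3 := hpd3.trans h
      rcases (Nat.Prime.dvd_mul hpp).1 h1 with h2 | h2
      · exact hp2 ((Nat.prime_dvd_prime_iff_eq hpp Nat.prime_two).1 h2)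
      · exact hp3 ((Nat.prime_dvd_prime_iff_eq hpp Nat.prime_three).1 h2)
    · have h1 : p ∣ 3 * 3 := hpd3.trans h
      rcases (Nat.Prime.dvd_mul hpp).1 h1 with h2 | h2
      · exact hp3 ((Nat.prime_dvd_prime_iff_eq hpp Nat.prime_three).1 h2)
      · exact hp3 ((Nat.prime_dvd_prime_iff_eq hpp Nat.prime_three).1 h2)
    · exact hpm (hpd3.trans h)
    · have h1 : p ∣ (3 ^ (2 * m + 1) + 1) / 2 := hpd3.trans h
      have hodd : Odd (3 ^ (2 * m + 1)) := Odd.pow (by decide)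
      have h2 : 2 ∣ 3 ^ (2 * m + 1) + 1 := (hodd.add_odd odd_one).two_dvd
      exact hpn (h1.trans (Nat.div_dvd_of_dvd h2))
    · exact h3a (h3d3.trans h)
    · exact h3b (h3d3.trans h)
  -- the torus
  obtain ⟨k, hpk, A, hAcyc, hAcard, hNcard, hN⟩ : ∃ k, p ∣ k ∧ ∃ A : Subgroup ↥(Cfsg.Lie.twistedG2 K (3 ^ m)),
      IsCyclic A ∧ Nat.card A = k ∧
        Nat.card (Subgroup.normalizer (A : Set ↥(Cfsg.Lie.twistedG2 K (3 ^ m)))) = 6 * k ∧
        ∀ A₀ : Subgroup ↥(Cfsg.Lie.twistedG2 K (3 ^ m)), A₀ ≤ A → A₀ ≠ ⊥ →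
          Subgroup.normalizer (A₀ : Set ↥(Cfsg.Lie.twistedG2 K (3 ^ m))) =
            Subgroup.normalizer (A : Set ↥(Cfsg.Lie.twistedG2 K (3 ^ m))) := by
    rw [← factor] at hp
    rcases (Nat.Prime.dvd_mul hpp).1 hp with h | h
    · obtain ⟨A, h1, h2, h3, h4⟩ := Cfsg.Agent.S1158.result hm hK
        (3 ^ (2 * m + 1) - 3 ^ (m + 1) + 1, 6 * (3 ^ (2 * m + 1) - 3 ^ (m + 1) + 1)) (by simp)
      exact ⟨_, h, A, h1, h2, h3, h4⟩
    · obtain ⟨A, h1, h2, h3, h4⟩ := Cfsg.Agent.S1158.result hm hK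
        (3 ^ (2 * m + 1) + 3 ^ (m + 1) + 1, 6 * (3 ^ (2 * m + 1) + 3 ^ (m + 1) + 1)) (by simp)
      exact ⟨_, h, A, h1, h2, h3, h4⟩
  -- a subgroup of order `p` in `A`
  obtain ⟨⟨x, hxA⟩, hxo⟩ := exists_prime_orderOf_dvd_card' (G := A) p (by rw [hAcard]; exact hpk)
  have hxo' : orderOf x = p := (Subgroup.orderOf_mk x hxA).symm.trans hxo
  have hx1 : x ≠ 1 := by
    rintro rfl
    rw [orderOf_one] at hxo'
    exact hpp.one_lt.ne hxo'
  have hZA : Subgroup.zpowers x ≤ A := by rwa [Subgroup.zpowers_le]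
  have hZ1 : Subgroup.zpowers x ≠ ⊥ := by rwa [Ne, Subgroup.zpowers_eq_bot]
  have hZp : IsPGroup p (Subgroup.zpowers x) := IsPGroup.of_card (n := 1) (by
    rw [Nat.card_zpowers, hxo', pow_one])
  obtain ⟨T₁, hT₁⟩ := hZp.exists_le_sylow
  have hcyc₁ : IsCyclic (T₁ : Subgroup ↥(Cfsg.Lie.twistedG2 K (3 ^ m))) := Cfsg.Agent.S1156.result hm hK hp5 T₁
  have hxT : x ∈ T₁ := hT₁ (Subgroup.mem_zpowers x)
  have hT1ne : (T₁ : Subgroup ↥(Cfsg.Lie.twistedG2 K (3 ^ m))) ≠ ⊥ := by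
    intro h
    have h1 : x ∈ (T₁ : Subgroup ↥(Cfsg.Lie.twistedG2 K (3 ^ m))) := hxT
    rw [h, Subgroup.mem_bot] at h1
    exact hx1 h1
  -- `T₁ ≤ N(⟨x⟩) = N(A)`
  have hT₁N : (T₁ : Subgroup ↥(Cfsg.Lie.twistedG2 K (3 ^ m))) ≤
      Subgroup.normalizer (A : Set ↥(Cfsg.Lie.twistedG2 K (3 ^ m))) := by
    rw [← hN _ hZA hZ1]
    intro y hy
    have hcomm : y * x = x * y := by
      obtain ⟨⟨g, hg⟩, hgen⟩ := hcyc₁.exists_generator
      obtain ⟨i, hi⟩ := hgen ⟨x, hxT⟩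
      obtain ⟨j, hj⟩ := hgen ⟨y, hy⟩
      have hi' : g ^ i = x := by simpa using congrArg Subtype.val hi
      have hj' : g ^ j = y := by simpa using congrArg Subtype.val hj
      rw [← hi', ← hj', ← zpow_add, ← zpow_add, add_comm]
    rw [Subgroup.mem_normalizer_iff]
    intro z
    constructor
    · rintro ⟨i, rfl⟩
      refine ⟨i, ?_⟩
      have : Commute y (x ^ i) := (show Commute y x from hcomm).zpow_right i
      change x ^ i = y * x ^ i * y⁻¹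
      rw [this.eq, mul_inv_cancel_right]
    · rintro ⟨i, hi⟩
      refine ⟨i, ?_⟩
      have : Commute y (x ^ i) := (show Commute y x from hcomm).zpow_right i
      have h2 : y * z * y⁻¹ = y * x ^ i * y⁻¹ := by
        rw [this.eq, mul_inv_cancel_right]; exact hi.symm
      have h3 := mul_left_cancel (mul_right_cancel h2)
      exact h3.symm
  -- `T₁ ≤ A`
  have hT₁A : (T₁ : Subgroup ↥(Cfsg.Lie.twistedG2 K (3 ^ m))) ≤ A := by
    intro y hy
    set N := Subgroup.normalizer (A : Set ↥(Cfsg.Lie.twistedG2 K (3 ^ m))) with hNdef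
    have hyN : y ∈ N := hT₁N hy
    have hAN : A ≤ N := Subgroup.le_normalizer
    let A' : Subgroup N := A.subgroupOf N
    have hA'n : A'.Normal := Subgroup.normal_in_normalizer
    have hindex : A'.index = 6 := by
      have h1 : A'.index * Nat.card A' = Nat.card N := Subgroup.index_mul_card A'
      have h2 : Nat.card A' = k := by
        rw [← hAcard]
        exact Nat.card_congr (Subgroup.subgroupOfEquivOfLe hAN).toEquiv
      rw [h2, hNcard] at h1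
      have hk : 0 < k := by rw [← hAcard]; exact Nat.card_pos
      exact Nat.eq_of_mul_eq_mul_right hk h1
    have h1 : ((⟨y, hyN⟩ : N) : N ⧸ A') ^ 6 = 1 := by
      have : Nat.card (N ⧸ A') = 6 := hindex
      rw [← this]; exact pow_card_eq_one'
    obtain ⟨j, hj⟩ := T₁.2 ⟨y, hy⟩
    have h2 : ((⟨y, hyN⟩ : N) : N ⧸ A') ^ p ^ j = 1 := by
      rw [← QuotientGroup.mk_pow]
      have : (⟨y, hyN⟩ : N) ^ p ^ j = 1 := Subtype.ext (by simpa using congrArg Subtype.val hj)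
      rw [this]; rfl
    have h3 : ((⟨y, hyN⟩ : N) : N ⧸ A') = 1 := by
      have hcop : Nat.Coprime 6 (p ^ j) := by
        apply Nat.Coprime.pow_right
        rw [show (6 : ℕ) = 2 * 3 from rfl]
        exact Nat.Coprime.mul_left ((Nat.coprime_primes Nat.prime_two hpp).2 (fun h => hp2 h.symm))
          ((Nat.coprime_primes Nat.prime_three hpp).2 (fun h => hp3 h.symm))
      have h4 := orderOf_dvd_of_pow_eq_one h1
      have h5 := orderOf_dvd_of_pow_eq_one h2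
      have h6 := Nat.dvd_gcd h4 h5
      rw [hcop.gcd_eq_one] at h6
      exact orderOf_eq_one_iff.1 (Nat.dvd_one.1 h6)
    have h4 := (QuotientGroup.eq_one_iff _).1 h3
    exact Subgroup.mem_subgroupOf.1 h4
  have hNT : Subgroup.normalizer ((T₁ : Subgroup ↥(Cfsg.Lie.twistedG2 K (3 ^ m))) : Set _) =
      Subgroup.normalizer (A : Set ↥(Cfsg.Lie.twistedG2 K (3 ^ m))) := hN _ hT₁A hT1ne
  have h3N : 3 ∣ Nat.card (Subgroup.normalizer ((T₁ : Subgroup ↥(Cfsg.Lie.twistedG2 K (3 ^ m))) : Set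
      ↥(Cfsg.Lie.twistedG2 K (3 ^ m)))) := by
    rw [hNT, hNcard]
    exact ⟨2 * k, by ring⟩
  have h3 : Fact (Nat.Prime 3) := ⟨Nat.prime_three⟩
  obtain ⟨⟨w, hw⟩, hwo⟩ := exists_prime_orderOf_dvd_card' 3 h3N
  have hwo' : orderOf w = 3 := (Subgroup.orderOf_mk w hw).symm.trans hwo
  have htor : Torus p ↥(Cfsg.Lie.twistedG2 K (3 ^ m)) (T₁ : Subgroup ↥(Cfsg.Lie.twistedG2 K (3 ^ m))) :=
    torus_of hp3 hno T₁.2 hT1ne hcyc₁ hwo' (fun x hx => (Subgroup.mem_normalizer_iff.1 hw x).1 hx)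
  obtain ⟨g, hg⟩ := MulAction.exists_smul_eq ↥(Cfsg.Lie.twistedG2 K (3 ^ m)) T₁ T
  exact htor.conj g (by rw [← hg]; rfl)

/-- `²G₂(q)`: the form for groups isomorphic to `²G₂(q)`. -/
theorem torus_of_mulEquiv {G : Type*} [Group G] [Finite G] {K : Type*} [Field K] [Fintype K] {m : ℕ} (hm : 1 ≤ m)
    (hK : Fintype.card K = 3 ^ (2 * m + 1)) (e : G ≃* ↥(Cfsg.Lie.twistedG2 K (3 ^ m))) {p : ℕ} [Fact p.Prime]
    (hp : p ∣ (3 ^ (2 * m + 1)) ^ 2 - 3 ^ (2 * m + 1) + 1) (T : Sylow p G) : Torus p G (T : Subgroup G) := by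
  have hs : Function.Surjective (e.toMonoidHom : G →* ↥(Cfsg.Lie.twistedG2 K (3 ^ m))) := e.surjective
  have h1 : ((T.mapSurjective hs : Sylow p ↥(Cfsg.Lie.twistedG2 K (3 ^ m))) :
      Subgroup ↥(Cfsg.Lie.twistedG2 K (3 ^ m))) = (T : Subgroup G).map e.toMonoidHom :=
    Sylow.coe_mapSurjective hs T
  refine (torus_twisted hm hK hp (T.mapSurjective hs)).map e.symm ?_
  rw [h1, Subgroup.map_map]
  have : (e.symm.toMonoidHom.comp e.toMonoidHom) = MonoidHom.id G := by ext x; simp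
  rw [this, Subgroup.map_id]

/-- The order of `²G₂(q)` determines `q`. -/
theorem card_inj {a b : ℕ} (hab : a ^ 3 * (a - 1) * (a ^ 3 + 1) = b ^ 3 * (b - 1) * (b ^ 3 + 1)) (ha : 2 ≤ a)
    (hb : 2 ≤ b) : a = b := by
  rcases lt_trichotomy a b with h | h | h
  · exfalso
    have h1 : a ^ 3 < b ^ 3 := Nat.pow_lt_pow_left h (by norm_num)
    have h2 : a ^ 3 * (a - 1) < b ^ 3 * (b - 1) := by
      apply Nat.mul_lt_mul_of_lt_of_le h1 (by omega) (by omega)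
    have h3 : a ^ 3 * (a - 1) * (a ^ 3 + 1) < b ^ 3 * (b - 1) * (b ^ 3 + 1) :=
      Nat.mul_lt_mul_of_lt_of_le h2 (by omega) (by positivity)
    omega
  · exact h
  · exfalso
    have h1 : b ^ 3 < a ^ 3 := Nat.pow_lt_pow_left h (by norm_num)
    have h2 : b ^ 3 * (b - 1) < a ^ 3 * (a - 1) := by
      apply Nat.mul_lt_mul_of_lt_of_le h1 (by omega) (by omega)
    have h3 : b ^ 3 * (b - 1) * (b ^ 3 + 1) < a ^ 3 * (a - 1) * (a ^ 3 + 1) :=
      Nat.mul_lt_mul_of_lt_of_le h2 (by omega) (by positivity)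
    omega

/-- **The form for `Cfsg.Lie.IsoRee`.** -/
theorem torus_of_isoRee {G : Type*} [Group G] [Finite G] (hG : Cfsg.Lie.IsoRee G) {n : ℕ}
    (hcard : Nat.card G = (3 ^ n) ^ 3 * ((3 ^ n) ^ 3 + 1) * (3 ^ n - 1)) (hn : 1 ≤ n) {p : ℕ} [Fact p.Prime]
    (hp : p ∣ (3 ^ n) ^ 2 - 3 ^ n + 1) (T : Sylow p G) : Torus p G (T : Subgroup G) := by
  obtain ⟨K, iK, iK', m, hm, hK, ⟨e⟩⟩ := hG
  have h1 : 3 ^ n = 3 ^ (2 * m + 1) := by
    have h2 : 3 ^ 1 ≤ 3 ^ n := Nat.pow_le_pow_right (by norm_num) hn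
    have h3 : 3 ^ 1 ≤ 3 ^ (2 * m + 1) := Nat.pow_le_pow_right (by norm_num) (by omega)
    refine card_inj ?_ (by omega) (by omega)
    rw [← Cfsg.Agent.LieRecognition.ReeFinal.card hK, ← Nat.card_congr e.toEquiv, hcard]
    ring
  rw [h1] at hp
  exact torus_of_mulEquiv hm hK e hp T

end Cfsg.Agent.Walter.ReeTorus
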