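import Mathlib
import Cfsg.Agent.Walter.TorusDef

/-!
# Lifting a torus through a central cyclic `p`-group

`E ≤ C(φ)` contains all `p`-subgroups of `C(φ)`, `E / ⟨φ⟩ ≅ K`, and a Sylow `p`-subgroup of `K` is a torus in the
sense of `ReeTorus.Torus`. Then `C(φ)` has a Sylow `p`-subgroup `⟨φ⟩ × T`, `T` cyclic, and an element of `C(φ)` of odd
order prime to `p` acts on `T` as `x ↦ x ^ α`, `α² ≢ 1`.
-/

set_option autoImplicit false

namespace Cfsg.Agent.Walter.TorusLift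

open Cfsg.Agent.Walter.ReeTorus Subgroup

/-- All `p`-subgroups of `C(φ)` lie in `E`, if `E` is normal in `C(φ)` of index prime to `p`. -/
theorem le_of_index {G : Type*} [Group G] [Finite G] {p : ℕ} [Fact p.Prime] {C E : Subgroup G}
    (hn : ∀ g ∈ C, ∀ x ∈ E, g * x * g⁻¹ ∈ E) (hidx : ¬ p ∣ E.relIndex C) (R : Subgroup G) (hR : IsPGroup p R)
    (hRC : R ≤ C) : R ≤ E := by
  intro y hy
  let E' : Subgroup C := E.subgroupOf C
  have hE'n : E'.Normal := ⟨fun x hx g => by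
    rw [Subgroup.mem_subgroupOf] at hx ⊢
    exact hn g g.2 x hx⟩
  have hpp : p.Prime := Fact.out
  obtain ⟨j, hj⟩ := hR ⟨y, hy⟩
  have h2 : ((⟨y, hRC hy⟩ : C) : C ⧸ E') ^ p ^ j = 1 := by
    rw [← QuotientGroup.mk_pow]
    have : (⟨y, hRC hy⟩ : C) ^ p ^ j = 1 := Subtype.ext (by simpa using congrArg Subtype.val hj)
    rw [this]; rfl
  have h1 : ((⟨y, hRC hy⟩ : C) : C ⧸ E') ^ Nat.card (C ⧸ E') = 1 := pow_card_eq_one'
  have h3 : ((⟨y, hRC hy⟩ : C) : C ⧸ E') = 1 := by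
    have hcop : Nat.Coprime (Nat.card (C ⧸ E')) (p ^ j) := by
      apply Nat.Coprime.pow_right
      exact ((Nat.Prime.coprime_iff_not_dvd hpp).2 hidx).symm
    have h4 := orderOf_dvd_of_pow_eq_one h1
    have h5 := orderOf_dvd_of_pow_eq_one h2
    have h6 := Nat.dvd_gcd h4 h5
    rw [hcop.gcd_eq_one] at h6
    exact orderOf_eq_one_iff.1 (Nat.dvd_one.1 h6)
  exact Subgroup.mem_subgroupOf.1 ((QuotientGroup.eq_one_iff _).1 h3)

/-- **Lifting.** -/
theorem exists_lift {G : Type*} [Group G] [Finite G] {p : ℕ} [Fact p.Prime] {φ : G} (hφ : ∃ b, φ ^ p ^ b = 1)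
    {E : Subgroup G} (hEφ : ∀ x ∈ E, x * φ = φ * x)
    (hEp : ∀ R : Subgroup G, IsPGroup p R → R ≤ centralizer {φ} → R ≤ E)
    {K : Type*} [Group K] (f : E →* K) (hf : Function.Surjective f)
    (hker : ∀ x : E, f x = 1 ↔ (x : G) ∈ zpowers φ) (hK : ∀ T : Sylow p K, Torus p K (T : Subgroup K)) :
    ∃ (T : Subgroup G) (h : G) (α : ℕ), IsPGroup p T ∧ T ≠ ⊥ ∧ IsCyclic T ∧ (∀ a ∈ T, ∀ b ∈ T, a * b = b * a) ∧
      (∀ a ∈ T, a * φ = φ * a) ∧
      (∀ R : Subgroup G, IsPGroup p R → zpowers φ ⊔ T ≤ R → R ≤ centralizer {φ} → R ≤ zpowers φ ⊔ T) ∧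
      zpowers φ ⊓ T = ⊥ ∧ T ≤ E ∧ h ∈ E ∧
      h * φ = φ * h ∧ (∀ a ∈ T, h * a * h⁻¹ = a ^ α) ∧ Odd (orderOf h) ∧ (orderOf h).Coprime p ∧
      ¬ α ^ 2 ≡ 1 [MOD p] := by
  have hpp : p.Prime := Fact.out
  have hKfin : Finite K := Finite.of_surjective f hf
  obtain ⟨b, hb⟩ := hφ
  -- `⟨φ⟩` is a `p`-group in `E`
  have hφp : IsPGroup p (zpowers φ) := by
    rintro ⟨x, hx⟩
    obtain ⟨i, rfl⟩ := hx
    refine ⟨b, Subtype.ext ?_⟩
    change ((φ ^ i) ^ p ^ b) = 1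
    rw [← zpow_natCast, ← zpow_mul, mul_comm, zpow_mul, zpow_natCast, hb, one_zpow]
  have hφE : zpowers φ ≤ E := by
    refine hEp _ hφp ?_
    rw [zpowers_le, mem_centralizer_singleton_iff]
  obtain ⟨P⟩ : Nonempty (Sylow p E) := inferInstance
  obtain ⟨hcyc, hne, h₀, α, hodd, hcop, hact, hα⟩ := hK (P.mapSurjective hf)
  rw [Sylow.coe_mapSurjective] at hcyc hne hact
  -- `φ` lies in `P`
  let φ' : E := ⟨φ, hφE (mem_zpowers φ)⟩
  have hφ'c : ∀ x : E, x * φ' = φ' * x := fun x => Subtype.ext (hEφ x x.2)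
  have hkerle : ∀ x : E, f x = 1 → x ∈ (P : Subgroup E) := by
    -- the kernel is a normal `p`-subgroup
    have hkp : IsPGroup p f.ker := by
      rintro ⟨x, hx⟩
      have hx' := (hker x).1 hx
      obtain ⟨k, hk⟩ := hφp ⟨x, hx'⟩
      refine ⟨k, Subtype.ext (Subtype.ext ?_)⟩
      simpa using congrArg Subtype.val hk
    intro x hx
    exact hkp.le_sylow_of_normal P hx
  have hkerc : ∀ x : E, f x = 1 → ∀ y : E, y * x = x * y := by
    intro x hx y
    obtain ⟨i, hi⟩ := (hker x).1 hx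
    apply Subtype.ext
    change (y : G) * x = x * y
    rw [← hi]
    exact ((show Commute (y : G) φ from hEφ y y.2).zpow_right i).eq
  -- `P` is abelian
  have hPab : ∀ a ∈ (P : Subgroup E), ∀ b ∈ (P : Subgroup E), a * b = b * a := by
    intro a ha b hb
    have h1 : ((f.subgroupMap (P : Subgroup E)).ker) ≤ center (P : Subgroup E) := by
      intro x hx
      rw [mem_center_iff]
      intro y
      have hx' : f (x : E) = 1 := congrArg Subtype.val hx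
      exact Subtype.ext (hkerc _ hx' _)
    have h2 := MonoidHom.isMulCommutative_of_isCyclic_of_ker_le_center (f.subgroupMap (P : Subgroup E)) h1
    exact congrArg Subtype.val (h2.is_comm.comm ⟨a, ha⟩ ⟨b, hb⟩)
  -- a good preimage of `h₀`
  obtain ⟨y₀, hy₀⟩ := hf h₀
  have hcop' : Nat.Coprime (p ^ b) (orderOf h₀) := (Nat.Coprime.pow_right b hcop).symm
  obtain ⟨y, hy, hyn⟩ : ∃ y : E, f y = h₀ ∧ y ^ orderOf h₀ = 1 := by
    obtain ⟨u, v, huv⟩ := Nat.isCoprime_iff_coprime.2 hcop'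
    refine ⟨y₀ ^ (u * ((p ^ b : ℕ) : ℤ)), ?_, ?_⟩
    · rw [map_zpow, hy₀]
      have h1 : u * ((p ^ b : ℕ) : ℤ) = 1 - v * ((orderOf h₀ : ℕ) : ℤ) := by linarith
      rw [h1, zpow_sub, zpow_one, mul_comm v, zpow_mul, zpow_natCast, pow_orderOf_eq_one, one_zpow, inv_one, mul_one]
    · have h1 : f (y₀ ^ orderOf h₀) = 1 := by rw [map_pow, hy₀, pow_orderOf_eq_one]
      obtain ⟨i, hi⟩ := (hker _).1 h1
      have h2 : (y₀ ^ orderOf h₀) ^ (p ^ b) = 1 := by
        apply Subtype.ext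
        change ((y₀ ^ orderOf h₀ : E) : G) ^ p ^ b = 1
        rw [← hi]
        change (φ ^ i) ^ p ^ b = 1
        rw [← zpow_natCast, ← zpow_mul, mul_comm, zpow_mul, zpow_natCast, hb, one_zpow]
      rw [← zpow_natCast, ← zpow_mul, show u * ((p ^ b : ℕ) : ℤ) * ((orderOf h₀ : ℕ) : ℤ) =
        ((orderOf h₀ : ℕ) : ℤ) * (((p ^ b : ℕ) : ℤ) * u) by ring, zpow_mul, zpow_natCast, zpow_mul, zpow_natCast, h2,
        one_zpow]
  have hyo : orderOf y ∣ orderOf h₀ := orderOf_dvd_of_pow_eq_one hyn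
  -- the action of `y` on `P`
  have hfP : ∀ a ∈ (P : Subgroup E), h₀ * f a * h₀⁻¹ = f a ^ α := fun a ha =>
    hact (f a) (Subgroup.mem_map_of_mem f ha)
  have hPof : ∀ x : E, f x ∈ (P : Subgroup E).map f → x ∈ (P : Subgroup E) := by
    rintro x ⟨a, ha, hax⟩
    have h1 : f (a⁻¹ * x) = 1 := by rw [map_mul, map_inv, hax, inv_mul_cancel]
    have h2 := mul_mem ha (hkerle _ h1)
    rwa [mul_inv_cancel_left] at h2
  have hyP : ∀ a ∈ (P : Subgroup E), y * a * y⁻¹ ∈ (P : Subgroup E) := by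
    intro a ha
    apply hPof
    rw [map_mul, map_mul, map_inv, hy, hfP a ha]
    exact pow_mem (Subgroup.mem_map_of_mem f ha) α
  have hinv : ∀ a ∈ (P : Subgroup E), a⁻¹ ∈ (P : Subgroup E) := fun a ha => inv_mem ha
  -- the group `T = [y, P]`
  let T₀ : Subgroup E :=
    { carrier := {x | ∃ a ∈ (P : Subgroup E), x = y * a * y⁻¹ * a⁻¹}
      one_mem' := ⟨1, one_mem _, by group⟩
      mul_mem' := by
        rintro _ _ ⟨a, ha, rfl⟩ ⟨c, hc, rfl⟩
        refine ⟨a * c, mul_mem ha hc, ?_⟩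
        have h1 : a⁻¹ * (y * c * y⁻¹) = (y * c * y⁻¹) * a⁻¹ := hPab _ (hinv a ha) _ (hyP c hc)
        have h2 : a⁻¹ * c⁻¹ = c⁻¹ * a⁻¹ := hPab _ (hinv a ha) _ (hinv c hc)
        calc y * a * y⁻¹ * a⁻¹ * (y * c * y⁻¹ * c⁻¹) = y * a * y⁻¹ * (a⁻¹ * (y * c * y⁻¹)) * c⁻¹ := by group
          _ = y * a * y⁻¹ * (y * c * y⁻¹) * (a⁻¹ * c⁻¹) := by rw [h1]; group
          _ = y * (a * c) * y⁻¹ * (a * c)⁻¹ := by rw [h2]; group
      inv_mem' := by
        rintro _ ⟨a, ha, rfl⟩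
        refine ⟨a⁻¹, hinv a ha, ?_⟩
        have h1 : a * (y * a⁻¹ * y⁻¹) = (y * a⁻¹ * y⁻¹) * a := hPab _ ha _ (hyP _ (hinv a ha))
        calc (y * a * y⁻¹ * a⁻¹)⁻¹ = a * (y * a⁻¹ * y⁻¹) := by group
          _ = y * a⁻¹ * y⁻¹ * a⁻¹⁻¹ := by rw [h1, inv_inv] }
  have hT₀P : T₀ ≤ (P : Subgroup E) := by
    rintro _ ⟨a, ha, rfl⟩
    exact mul_mem (hyP a ha) (hinv a ha)
  -- `T ∩ ker f = 1`
  have hT₀k : ∀ x ∈ T₀, f x = 1 → x = 1 := by
    rintro x ⟨a, ha, hx⟩ hfx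
    have hxP : x ∈ (P : Subgroup E) := hkerle x hfx
    have h1 : y * a * y⁻¹ = x * a := by rw [hx]; group
    have h2 : ∀ k : ℕ, y ^ k * a * (y ^ k)⁻¹ = x ^ k * a := by
      intro k
      induction k with
      | zero => simp
      | succ k ih =>
        have hc : y * x ^ k = x ^ k * y := (show Commute y x from hkerc x hfx y).pow_right k
        calc y ^ (k + 1) * a * (y ^ (k + 1))⁻¹ = y * (y ^ k * a * (y ^ k)⁻¹) * y⁻¹ := by
              rw [pow_succ']; group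
          _ = (y * x ^ k) * a * y⁻¹ := by rw [ih]; group
          _ = x ^ k * (y * a * y⁻¹) := by rw [hc]; group
          _ = x ^ (k + 1) * a := by rw [h1, pow_succ]; group
    have h3 := h2 (orderOf h₀)
    rw [hyn, one_mul, inv_one, mul_one] at h3
    have h4 : x ^ orderOf h₀ = 1 := by
      have h5 : x ^ orderOf h₀ * a = 1 * a := by rw [one_mul]; exact h3.symm
      exact mul_right_cancel h5
    obtain ⟨k, hk⟩ := P.2 ⟨x, hxP⟩
    have hk' : x ^ p ^ k = 1 := by simpa using congrArg Subtype.val hk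
    have h5 := Nat.dvd_gcd (orderOf_dvd_of_pow_eq_one h4) (orderOf_dvd_of_pow_eq_one hk')
    rw [(Nat.Coprime.pow_right k hcop).gcd_eq_one] at h5
    exact orderOf_eq_one_iff.1 (Nat.dvd_one.1 h5)
  -- the action on `T`
  have hact' : ∀ x ∈ T₀, y * x * y⁻¹ = x ^ α := by
    intro x hx
    have h1 : y * x * y⁻¹ ∈ T₀ := by
      obtain ⟨a, ha, rfl⟩ := hx
      exact ⟨y * a * y⁻¹, hyP a ha, by group⟩
    have h2 : y * x * y⁻¹ * (x ^ α)⁻¹ ∈ T₀ := mul_mem h1 (inv_mem (pow_mem hx α))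
    have h3 := hT₀k _ h2 (by
      rw [map_mul, map_mul, map_mul, map_inv, map_inv, map_pow, hy, hfP x (hT₀P hx), mul_inv_cancel])
    exact mul_inv_eq_one.1 h3
  have hα1 : ¬ (p : ℤ) ∣ (α : ℤ) - 1 := by
    intro h
    apply hα
    have h1 : α ≡ 1 [MOD p] := by
      have h2 : (α : ℤ) ≡ ((1 : ℕ) : ℤ) [ZMOD (p : ℤ)] := by
        apply Int.ModEq.symm
        rw [Int.modEq_iff_dvd]
        simpa using h
      exact Int.natCast_modEq_iff.1 h2
    simpa using h1.pow 2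
  -- every element of `f P` is `f` of an element of `T`
  have hsurj : ∀ a ∈ (P : Subgroup E), ∃ x ∈ T₀, f x = f a := by
    intro a ha
    obtain ⟨k, hk⟩ := P.2 ⟨a, ha⟩
    have hk' : a ^ p ^ k = 1 := by simpa using congrArg Subtype.val hk
    have hcp : IsCoprime ((α : ℤ) - 1) (((p ^ k : ℕ) : ℤ)) := by
      push_cast
      apply IsCoprime.pow_right
      rw [isCoprime_comm, Prime.coprime_iff_not_dvd (Nat.prime_iff_prime_int.1 hpp)]
      exact hα1
    obtain ⟨u, v, huv⟩ := hcp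
    have hau : a ^ u ∈ (P : Subgroup E) := zpow_mem ha u
    refine ⟨y * a ^ u * y⁻¹ * (a ^ u)⁻¹, ⟨a ^ u, hau, rfl⟩, ?_⟩
    rw [map_mul, map_mul, map_mul, map_inv, map_inv, hy, hfP _ hau, ← map_pow, ← map_inv, ← map_mul]
    congr 1
    rw [← zpow_natCast, ← zpow_mul, ← zpow_neg, ← zpow_add]
    have h1 : u * (α : ℤ) + -u = 1 - v * ((p ^ k : ℕ) : ℤ) := by linarith
    rw [h1, zpow_sub, zpow_one, mul_comm v, zpow_mul, zpow_natCast, hk', one_zpow, inv_one, mul_one]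
  have hφT : ∀ a ∈ (P : Subgroup E), ∃ x ∈ T₀, ∃ z : E, f z = 1 ∧ a = z * x := by
    intro a ha
    obtain ⟨x, hx, hxa⟩ := hsurj a ha
    refine ⟨x, hx, a * x⁻¹, ?_, by group⟩
    rw [map_mul, map_inv, hxa, mul_inv_cancel]
  let T : Subgroup G := T₀.map E.subtype
  have hTE : T ≤ E := by
    rintro _ ⟨x, -, rfl⟩
    exact x.2
  have hTp : IsPGroup p T := (P.2.to_le hT₀P).map E.subtype
  have hzT : zpowers φ ⊔ T = (P : Subgroup E).map E.subtype := by
    apply le_antisymm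
    · refine sup_le ?_ (Subgroup.map_mono hT₀P)
      rw [zpowers_le]
      exact ⟨φ', hkerle _ ((hker φ').2 (mem_zpowers φ)), rfl⟩
    · rintro _ ⟨a, ha, rfl⟩
      obtain ⟨x, hx, z, hz, rfl⟩ := hφT a ha
      have h1 : (z : G) ∈ zpowers φ ⊔ T := (le_sup_left : zpowers φ ≤ _) ((hker z).1 hz)
      have h2 : (x : G) ∈ zpowers φ ⊔ T := (le_sup_right : T ≤ _) ⟨x, hx, rfl⟩
      exact mul_mem h1 h2
  refine ⟨T, (y : G), α, hTp, ?_, ?_, ?_, ?_, ?_, ?_, hTE, y.2, hEφ y y.2, ?_, ?_, ?_, hα⟩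
  · -- `T ≠ 1`
    intro h
    apply hne
    rw [eq_bot_iff]
    rintro _ ⟨a, ha, rfl⟩
    obtain ⟨x, hx, hxa⟩ := hsurj a ha
    have h1 : (x : G) ∈ T := ⟨x, hx, rfl⟩
    rw [h, mem_bot] at h1
    have h2 : x = 1 := Subtype.ext h1
    rw [mem_bot, ← hxa, h2, map_one]
  · -- cyclic
    have h1 : IsCyclic T₀ := by
      let g : T₀ →* ((P : Subgroup E).map f) :=
        (f.subgroupMap (P : Subgroup E)).comp (Subgroup.inclusion hT₀P)
      refine isCyclic_of_injective g ?_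
      rw [injective_iff_map_eq_one]
      intro x hx
      exact Subtype.ext (hT₀k x x.2 (congrArg Subtype.val hx))
    exact isCyclic_of_surjective _ (T₀.equivMapOfInjective E.subtype E.subtype_injective).surjective
  · rintro _ ⟨x, hx, rfl⟩ _ ⟨z, hz, rfl⟩
    exact congrArg Subtype.val (hPab x (hT₀P hx) z (hT₀P hz))
  · intro a ha
    exact hEφ a (hTE ha)
  · -- Sylow
    intro R hR hle hRC
    have hRE : R ≤ E := hEp R hR hRC
    rw [hzT] at hle ⊢
    have h1 : (P : Subgroup E) ≤ R.subgroupOf E := by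
      intro x hx
      exact Subgroup.mem_subgroupOf.2 (hle ⟨x, hx, rfl⟩)
    have h2 : IsPGroup p (R.subgroupOf E) := hR.comap_of_injective E.subtype E.subtype_injective
    have h3 := P.3 h2 h1
    intro x hx
    have h4 : (⟨x, hRE hx⟩ : E) ∈ (P : Subgroup E) := by
      rw [← h3]
      exact Subgroup.mem_subgroupOf.2 hx
    exact ⟨_, h4, rfl⟩
  · rw [eq_bot_iff]
    rintro _ ⟨hx1, x, hx, rfl⟩
    rw [mem_bot]
    exact congrArg Subtype.val (hT₀k x hx ((hker x).2 hx1))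
  · rintro _ ⟨x, hx, rfl⟩
    exact congrArg Subtype.val (hact' x hx)
  · rw [Subgroup.orderOf_coe]
    exact Odd.of_dvd_nat hodd hyo
  · rw [Subgroup.orderOf_coe]
    exact Nat.Coprime.coprime_dvd_left hyo hcop

end Cfsg.Agent.Walter.TorusLift
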