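import Mathlib
import Cfsg.Prelude.Def_Local
import Cfsg.Agent.Walter.FieldHFive
import Cfsg.Agent.Walter.TorusLift
import Cfsg.Agent.Walter.TorusJR

/-!
# No field automorphisms: the torus branch

`p` does not divide `|K|` and a Sylow `p`-subgroup of the simple group `K₁` in `C(φ)/⟨φ⟩` is a torus in the sense of
`ReeTorus.Torus`.
-/

set_option autoImplicit false
set_option linter.unusedSectionVars false
set_option linter.unusedVariables false

namespace Cfsg.Agent.Walter.FieldTorus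

open Subgroup Cfsg
open Cfsg.Agent.SignalizersComponents Cfsg.Agent.SignalizersComponents.Components
open Cfsg.Agent.Walter.Types Cfsg.Agent.Walter.BalLocal Cfsg.Agent.Walter.OddCoreIn Cfsg.Agent.Walter.Cover
open Cfsg.Agent.Walter.CentB (TypeB)
open Cfsg.Agent.Walter.FieldX Cfsg.Agent.Walter.FieldY Cfsg.Agent.Walter.FieldPSL Cfsg.Agent.Walter.FieldG
open Cfsg.Agent.Walter.FieldCore Cfsg.Agent.Walter.FieldCard Cfsg.Agent.Walter.FieldQuot
open Cfsg.Agent.Walter.Setup (Data)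
open Cfsg.Agent.Walter.ReeTorus (Torus)

universe u

/-- The local theorem. -/
def NoFieldLocalThm : Prop :=
  ∀ (G : Type u) [Group G] [Finite G] (p : ℕ) [Fact p.Prime], p ≠ 2 → (∀ a : G, (∃ k, a ^ 2 ^ k = 1) → a * a = 1) →
    ∀ (φ x h : G) (T : Subgroup G) (α : ℕ), (∃ b, φ ^ p ^ b = 1) → x ∈ zpowers φ → orderOf x = p →
    IsPGroup p T → T ≠ ⊥ → (∀ a ∈ T, ∀ b ∈ T, a * b = b * a) → (∀ a ∈ T, a * φ = φ * a) →
    (∀ R : Subgroup G, IsPGroup p R → zpowers φ ⊔ T ≤ R → R ≤ centralizer {φ} → R ≤ zpowers φ ⊔ T) →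
    h * φ = φ * h → (∀ a ∈ T, h * a * h⁻¹ = a ^ α) → Odd (orderOf h) → (orderOf h).Coprime p →
    ¬ α ^ 2 ≡ 1 [MOD p] →
    (∀ y ∈ zpowers φ, y ≠ 1 → ∀ g : G, g * y * g⁻¹ ∈ zpowers y → g * y = y * g) →
    (∀ v : G, orderOf v = 2 → ∀ R : Subgroup G, IsPGroup p R → R ≤ centralizer {v} → IsCyclic R) →
    (∀ v : G, orderOf v = 2 → ∀ y, y * v = v * y → orderOf y = p → ∃ g : G, g * y * g⁻¹ ∈ zpowers x) →
    (∃ K : Subgroup (centralizer ({x} : Set G)), K.Normal ∧ K.index = p) → commutator G ≠ ⊤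

variable {G : Type u} [Group G] [Finite G] {S : Sylow 2 G}

theorem commutator_eq_top [IsSimpleGroup G] (hna : ∃ a b : G, a * b ≠ b * a) : commutator G = ⊤ := by
  rcases (inferInstance : (commutator G).Normal).eq_bot_or_eq_top with h | h
  · exfalso
    obtain ⟨a, b, hab⟩ := hna
    apply hab
    have h1 : a * b * a⁻¹ * b⁻¹ ∈ commutator G := commutator_mem_commutator (mem_top _) (mem_top _)
    rw [h, mem_bot] at h1
    exact mul_inv_eq_iff_eq_mul.1 (mul_inv_eq_one.1 h1)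
  · exact h

/-- **The torus branch.** -/
theorem main (hNF : NoFieldLocalThm.{u}) [IsSimpleGroup G] (hna : ∃ a b : G, a * b ≠ b * a)
    (hind : TypeSylow.Ind.{u} (Nat.card G)) (H5 : Set5 S) {t : G} (ht : t ∈ (S : Subgroup G)) (ht1 : t ≠ 1)
    {K : Subgroup (C t)} (hK : TypeB (S.subtype ((H5.data t ht ht1).le_centralizer ht)) K) (hW : WType K)
    {F : Type} [Field F] [Fintype F] (h8 : Fintype.card F % 8 = 3 ∨ Fintype.card F % 8 = 5)
    (M : Model (S.subtype ((H5.data t ht ht1).le_centralizer ht)) K F)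
    {p : ℕ} [Fact p.Prime] (hp2 : p ≠ 2) {φ : G} (hφ : φ ∈ PhiG S) (hφ1 : φ ≠ 1) (hφp : ∃ b, φ ^ p ^ b = 1)
    (hφg : ¬ p ∣ Nat.card (PhiG S) / orderOf φ) (hpK : ¬ p ∣ Nat.card K) {K1 : Subgroup (Q φ)} (hn : K1.Normal)
    (hcard : Nat.card (C φ) = Nat.card K1 * Nat.card (PhiG S)) (hT : ∀ T : Sylow p K1, Torus p K1 (T : Subgroup K1)) :
    False := by
  have hpp : p.Prime := Fact.out
  have hPP : FieldH.PPart S p φ := FieldH.PPart.of_div hφ hφp hφg
  obtain ⟨E, hEφ, -, hEp, -, f, hf, hker⟩ := FieldE.exists_E H5 hφ hn hcard hφg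
  obtain ⟨T, h, α, hTp, hT1, -, hTab, hTφ, hSyl, -, -, -, hhφ, hhT, hho, hhp, hα⟩ :=
    TorusLift.exists_lift hφp hEφ hEp f hf hker hT
  obtain ⟨x, hx, hxo⟩ : ∃ x ∈ zpowers φ, orderOf x = p := by
    have h1 : p ∣ Nat.card (zpowers φ) := by
      rw [Nat.card_zpowers]
      obtain ⟨b, hb⟩ := hφp
      obtain ⟨k, -, hk⟩ := (Nat.dvd_prime_pow hpp).1 (orderOf_dvd_of_pow_eq_one hb)
      rw [hk]
      refine dvd_pow_self p ?_
      rintro rfl
      rw [pow_zero, orderOf_eq_one_iff] at hk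
      exact hφ1 hk
    obtain ⟨x, hx⟩ := exists_prime_orderOf_dvd_card' p h1
    exact ⟨(x : G), x.2, by rw [Subgroup.orderOf_coe]; exact hx⟩
  refine hNF G p hp2 (fun a ha => FieldH.sq_of_two_element H5 ha) φ x h T α hφp hx hxo hTp hT1 hTab hTφ hSyl hhφ hhT hho
    hhp hα ?_ ?_ ?_ ?_ (commutator_eq_top hna)
  · intro y hy _ g hg
    exact commute_of_conj H5 ((zpowers_le.2 hφ) hy) hg
  · intro v hv R hR hRv
    exact FieldH.isCyclic_of_le H5 hPP hp2 ht ht1 hK hW hpK hv hR hRv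
  · intro v hv y hyv hyo
    exact FieldH.exists_conj_mem H5 hPP hp2 ht ht1 hK hW hpK hx hxo hv hyv hyo
  · exact FieldH.exists_index H5 hna hind ht ht1 hK hW h8 M hPP hx hxo hTp hTab hTφ hSyl

/-- **The torus branch for `q_e ≥ 5`.** -/
theorem main_JR (hNF : NoFieldLocalThm.{u}) (hC : Cfsg.Agent.Walter.Main.CentThm.{u})
    (hR : Cfsg.Agent.ClassificationK.WalterIso.ReeThm.{u}) [IsSimpleGroup G] (hna : ∃ a b : G, a * b ≠ b * a)
    (hind : TypeSylow.Ind.{u} (Nat.card G)) (H5 : Set5 S) {t : G} (ht : t ∈ (S : Subgroup G)) (ht1 : t ≠ 1)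
    {K : Subgroup (C t)} (hK : TypeB (S.subtype ((H5.data t ht ht1).le_centralizer ht)) K) (hW : WType K)
    {F : Type} [Field F] [Fintype F] (h8 : Fintype.card F % 8 = 3 ∨ Fintype.card F % 8 = 5)
    (M : Model (S.subtype ((H5.data t ht ht1).le_centralizer ht)) K F)
    {p : ℕ} [Fact p.Prime] (hp2 : p ≠ 2) {φ : G} (hφ : φ ∈ PhiG S) (hφ1 : φ ≠ 1) (hφp : ∃ b, φ ^ p ^ b = 1)
    (hφg : ¬ p ∣ Nat.card (PhiG S) / orderOf φ) (hpK : ¬ p ∣ Nat.card K) {K1 : Subgroup (Q φ)} (hn : K1.Normal)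
    (hs : IsSimpleGroup K1) (hna1 : ∃ a b : K1, a * b ≠ b * a) (hJR : IsJR K1)
    (hcard : Nat.card (C φ) = Nat.card K1 * Nat.card (PhiG S)) (hpK1 : p ∣ Nat.card K1) {v : K1}
    (hv : orderOf v = 2) (hpv : ¬ p ∣ Nat.card (centralizer ({v} : Set K1))) : False := by
  have hna1' : ¬ IsMulCommutative K1 := by
    intro h
    obtain ⟨a, b, hab⟩ := hna1
    exact hab (h.is_comm.comm a b)
  exact main hNF hna hind H5 ht ht1 hK hW h8 M hp2 hφ hφ1 hφp hφg hpK hn hcard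
    (fun T => TorusJR.torus_of_isJR hC hR hna1' hJR hv hpK1 hpv T)

end Cfsg.Agent.Walter.FieldTorus
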