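import Mathlib
import Cfsg.Prelude.Def_Local
import Cfsg.Agent.Walter.FieldX
import Cfsg.Agent.Walter.TypeSylow

/-!
# No field automorphisms: the involution centralizers are `Z₂ × PSL₂(q)`

If `C(t)` is core-free of type B and `C(S)` has no elements of odd order then `C(t) ≅ Z₂ × PSL₂(q)`, and
`G` is of Janko-Ree type.
-/

set_option autoImplicit false

namespace Cfsg.Agent.Walter.FieldZero

open Subgroup Cfsg
open Cfsg.Agent.Walter.Types Cfsg.Agent.Walter.FieldX
open Cfsg.Agent.Walter.CentB (TypeB)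

universe u

section X

variable {X : Type*} [Group X] [Finite X] {T : Sylow 2 X} {K : Subgroup X}

/-- **No field automorphisms:** `X = Z₂ × K`. -/
theorem nonempty_equiv (h : TypeB T K) (hW : WType K) (h8 : Nat.card (T : Subgroup X) = 8) (hΦ : Phi T = ⊥) :
    Nonempty (X ≃* Multiplicative (ZMod 2) × K) := by
  have hf : Fact (Nat.Prime 2) := ⟨Nat.prime_two⟩
  have hE : E T K = K := by rw [E, hΦ, sup_bot_eq]
  have h1 := sup_E h hW
  have h2 := inf_E h (PSLFacts.WType.selfc hW)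
  rw [hE] at h1 h2
  have hc2 : Nat.card (pCore 2 X) = 2 := BalFun.card_pCore h h8
  have hcom : ∀ (z : pCore 2 X) (k : K), Commute ((pCore 2 X).subtype z) (K.subtype k) := by
    intro z k
    exact (mem_center_iff.1 (h.central z.2) (k : X)).symm
  let f : pCore 2 X × K →* X := MonoidHom.noncommCoprod (pCore 2 X).subtype K.subtype hcom
  have hinj : Function.Injective f := by
    rw [injective_iff_map_eq_one]
    rintro ⟨z, k⟩ hzk
    have h3 : (z : X) * (k : X) = 1 := hzk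
    have h4 : (z : X) = (k : X)⁻¹ := eq_inv_of_mul_eq_one_left h3
    have h5 : (z : X) ∈ pCore 2 X ⊓ K := mem_inf.2 ⟨z.2, by rw [h4]; exact K.inv_mem k.2⟩
    rw [h2, mem_bot] at h5
    have h6 : (k : X) = 1 := by rw [h5, one_mul] at h3; exact h3
    exact Prod.ext (Subtype.ext h5) (Subtype.ext h6)
  have hsurj : Function.Surjective f := by
    intro x
    have hx : x ∈ pCore 2 X ⊔ K := by rw [h1]; trivial
    have hpn : (pCore 2 X).Normal := Lib.Cores.pCore_normal 2
    obtain ⟨z, hz, k, hk, rfl⟩ := (mem_sup_of_normal_left (hs := hpn)).1 hx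
    exact ⟨(⟨z, hz⟩, ⟨k, hk⟩), rfl⟩
  have e1 : pCore 2 X × K ≃* X := MulEquiv.ofBijective f ⟨hinj, hsurj⟩
  have e2 : pCore 2 X ≃* Multiplicative (ZMod 2) :=
    mulEquivOfPrimeCardEq (p := 2) hc2 (by rw [Nat.card_eq_fintype_card]; rfl)
  exact ⟨e1.symm.trans (e2.prodCongr (MulEquiv.refl K))⟩

/-- The form with `PSL₂(F)`. -/
theorem exists_equiv_psl (h : TypeB T K) (hW : WType K) (h8 : Nat.card (T : Subgroup X) = 8) (hΦ : Phi T = ⊥) :
    ∃ (F : Type) (_ : Field F) (_ : Fintype F),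
      (Fintype.card F % 8 = 3 ∨ Fintype.card F % 8 = 5) ∧ 5 ≤ Fintype.card F ∧
        Nonempty (X ≃* Multiplicative (ZMod 2) × Matrix.ProjectiveSpecialLinearGroup (Fin 2) F) := by
  obtain ⟨P, -, -, hPcard⟩ := h.exists_sylow
  obtain ⟨F, i1, i2, h3, h5, ⟨e⟩⟩ := TypeSylow.isOddType_of_card_four hW P hPcard
  obtain ⟨f⟩ := nonempty_equiv h hW h8 hΦ
  exact ⟨F, i1, i2, h3, h5, ⟨f.trans ((MulEquiv.refl _).prodCongr e)⟩⟩

end X

section G

variable {G : Type u} [Group G] [Finite G] {S : Sylow 2 G} {t : G}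

/-- the centralizers of conjugate elements -/
theorem centralizer_conj (g a : G) :
    Nonempty (centralizer ({g * a * g⁻¹} : Set G) ≃* centralizer ({a} : Set G)) := by
  obtain ⟨e⟩ := Types.centralizer_congr (MulAut.conj g) a
  exact ⟨e.symm⟩

/-- all involutions are conjugate -/
theorem exists_conj (h : Setup.Data S t) {s : G} (hs : orderOf s = 2) : ∃ g : G, s = g * t * g⁻¹ := by
  have hf : Fact (Nat.Prime 2) := ⟨Nat.prime_two⟩
  have h1 : IsPGroup 2 (zpowers s) := by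
    rw [IsPGroup.iff_card]
    exact ⟨1, by rw [Nat.card_zpowers, hs, pow_one]⟩
  obtain ⟨P, hP⟩ := h1.exists_le_sylow
  obtain ⟨g, hg⟩ := MulAction.exists_smul_eq G S P
  have h2 : g⁻¹ * s * g ∈ (S : Subgroup G) := by
    have h3 : s ∈ (P : Subgroup G) := hP (mem_zpowers s)
    rw [← hg, Sylow.coe_subgroup_smul, mem_pointwise_smul_iff_inv_smul_mem] at h3
    simpa [MulAut.smul_def] using h3
  have h4 : g⁻¹ * s * g ≠ 1 := by
    intro h5
    have h6 : s = 1 := by
      have h7 : s = g * (g⁻¹ * s * g) * g⁻¹ := by group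
      rw [h7, h5, mul_one, mul_inv_cancel]
    rw [h6, orderOf_one] at hs
    omega
  obtain ⟨n, -, hn⟩ := h.trans _ h2 h4
  refine ⟨g * n, ?_⟩
  have h5 : s = g * (g⁻¹ * s * g) * g⁻¹ := by group
  rw [h5, ← hn]
  group

/-- `Φ = 1` from the centralizer of `S` -/
theorem Phi_eq_bot (h : Setup.Data S t)
    (hΦ : ∀ y ∈ centralizer ((S : Subgroup G) : Set G), ¬ 2 ∣ orderOf y → y = 1) :
    Phi (S.subtype (h.le_centralizer h.mem)) = ⊥ := by
  rw [eq_bot_iff]
  intro y hy
  rw [mem_bot]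
  apply Subtype.ext
  refine hΦ y ?_ ?_
  · rw [mem_centralizer_iff]
    intro s hs
    have h1 := mem_centralizer_iff.1 (Phi_le _ hy) ⟨s, h.le_centralizer h.mem hs⟩ (by
      rw [SetLike.mem_coe, Sylow.coe_subtype, mem_subgroupOf]; exact hs)
    exact congrArg Subtype.val h1
  · rw [Subgroup.orderOf_coe]
    exact orderOf_odd hy

/-- **Janko-Ree type.** -/
theorem isJR (h : Setup.Data S t)
    {K : Subgroup (centralizer ({t} : Set G))} (hK : TypeB (S.subtype (h.le_centralizer h.mem)) K) (hW : WType K)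
    (hΦ : ∀ y ∈ centralizer ((S : Subgroup G) : Set G), ¬ 2 ∣ orderOf y → y = 1) : IsJR G := by
  refine ⟨⟨S, h.card, h.sq⟩, ?_⟩
  have h8 : Nat.card (S.subtype (h.le_centralizer h.mem) : Subgroup (centralizer ({t} : Set G))) = 8 := by
    rw [Sylow.coe_subtype, Nat.card_congr (subgroupOfEquivOfLe (h.le_centralizer h.mem)).toEquiv]
    exact h.card
  obtain ⟨F, i1, i2, h3, h5, ⟨e⟩⟩ := exists_equiv_psl hK hW h8 (Phi_eq_bot h hΦ)
  refine ⟨F, i1, i2, h3, h5, ?_⟩
  intro s hs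
  obtain ⟨g, rfl⟩ := exists_conj h hs
  obtain ⟨f⟩ := centralizer_conj g t
  exact ⟨f.trans e⟩

/-- elements of odd order in `C(S)` -/
theorem eq_one_of_OO (h : Setup.Data S t) (hΦ : Setup.OO (centralizer ((S : Subgroup G) : Set G)) = ⊥) :
    ∀ y ∈ centralizer ((S : Subgroup G) : Set G), ¬ 2 ∣ orderOf y → y = 1 := by
  intro y hy hodd
  have h1 : ∃ s ∈ (S : Subgroup G), ∃ z ∈ Setup.OO (centralizer ((S : Subgroup G) : Set G)), y = s * z :=
    FieldX.exists_mul_of_centralizer h.comm hy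
  obtain ⟨s, hs, z, hz, rfl⟩ := h1
  rw [hΦ, mem_bot] at hz
  rw [hz, mul_one] at hodd ⊢
  exact BalFun.eq_one_of_odd S.isPGroup' hs hodd

end G

end Cfsg.Agent.Walter.FieldZero
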