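import Mathlib
import Cfsg.Prelude.Def_Local
import Cfsg.Agent.Walter.AbTypes
import Cfsg.Agent.Walter.TypeSylow
import Cfsg.Agent.Walter.PSLFacts
import Cfsg.Agent.SignalizersComponents.ComponentImage
import Cfsg.Agent.PLocal.PConstrained
import Cfsg.Agent.TwoFusion.SLTwoFacts

/-!
# Involution centralizers of the layer, if it contains a Sylow 2-subgroup of order 8

`X` finite, `S` elementary of order 8, `N(S)` transitive on `S#`, `S ≤ E(X)`, components of `X/O(X)`
known: a subgroup of odd order of `C_{E(X)}(t)` normalised by `C_{E(X)}(t)` is in `O(X)`.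
-/

set_option autoImplicit false

namespace Cfsg.Agent.Walter.SimpleLayer

open Subgroup Cfsg
open Cfsg.Agent.Walter.Types

/-- normal subgroups of odd order of `Z₂ × L`, `L` simple of even order -/
theorem prod_eq_bot {L : Type*} [Group L] [Finite L] [IsSimpleGroup L] (h2 : 2 ∣ Nat.card L)
    {A : Subgroup (Multiplicative (ZMod 2) × L)} (hA : A.Normal) (hodd : ¬ 2 ∣ Nat.card A) :
    A = ⊥ := by
  have h1 : (A.map (MonoidHom.snd (Multiplicative (ZMod 2)) L)).Normal :=
    hA.map _ Prod.snd_surjective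
  have h3 : A.map (MonoidHom.snd (Multiplicative (ZMod 2)) L) = ⊥ := by
    rcases h1.eq_bot_or_eq_top with h | h
    · exact h
    · exfalso
      apply hodd
      have h4 := Subgroup.card_map_dvd A (MonoidHom.snd (Multiplicative (ZMod 2)) L)
      rw [h, Subgroup.card_top] at h4
      exact h2.trans h4
  rw [eq_bot_iff]
  intro x hx
  have h4 : x.2 = 1 := by
    have h5 : x.2 ∈ A.map (MonoidHom.snd (Multiplicative (ZMod 2)) L) := ⟨x, hx, rfl⟩
    rw [h3, mem_bot] at h5
    exact h5
  have h6 : x * x = 1 := by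
    ext
    · exact PSLFacts.z2_sq x.1
    · simp [h4]
  have h8 : orderOf x ∣ 2 := by
    apply orderOf_dvd_of_pow_eq_one
    rw [pow_two]; exact h6
  have h9 : orderOf x ∣ Nat.card A := by
    have := orderOf_dvd_natCard (⟨x, hx⟩ : A)
    rwa [Subgroup.orderOf_mk] at this
  rcases (Nat.dvd_prime Nat.prime_two).1 h8 with h10 | h10
  · rw [mem_bot]; exact orderOf_eq_one_iff.1 h10
  · rw [h10] at h9
    exact absurd h9 hodd

section K

variable {K : Type*} [Group K] [Finite K]

theorem two_dvd_of_sylow (S : Sylow 2 K) (hS : Nat.card (S : Subgroup K) = 8) :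
    2 ∣ Nat.card K := by
  have h := Subgroup.card_subgroup_dvd_card (S : Subgroup K)
  rw [hS] at h
  exact dvd_trans ⟨4, rfl⟩ h

/-- in a known group with Sylow 2-subgroup of order 8, involution centralizers have no normal subgroup of
odd order. -/
theorem eq_bot (h : WType K) (S : Sylow 2 K) (hS : Nat.card (S : Subgroup K) = 8) {t : K}
    (ht : t ∈ (S : Subgroup K)) (ht1 : t ≠ 1) {Y : Subgroup K}
    (hY : Y ≤ centralizer ({t} : Set K)) (hN : centralizer ({t} : Set K) ≤ normalizer (Y : Set K))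
    (hodd : ¬ 2 ∣ Nat.card Y) : Y = ⊥ := by
  rcases TypeSylow.of_card_eight h S hS with ⟨F, i1, i2, hF, ⟨e⟩⟩ | hJ
  · obtain ⟨-, h2, -⟩ := PSLFacts.even_facts (n := 3) (by norm_num) (by rw [hF]; norm_num) e S
    rw [h2 t ht ht1] at hY
    rw [← Subgroup.card_eq_one]
    obtain ⟨k, hk⟩ := IsPGroup.iff_card.1 (S.isPGroup'.to_le hY)
    rcases Nat.eq_zero_or_pos k with h0 | h0
    · rw [hk, h0, pow_zero]
    · exact absurd (hk ▸ dvd_pow_self 2 h0.ne' : 2 ∣ Nat.card Y) hodd
  · have hsq := (PSLFacts.IsJR.facts hJ S).1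
    obtain ⟨-, F, i1, i2, h8, h5, hC⟩ := hJ
    obtain ⟨e⟩ := hC t (by
      refine orderOf_eq_prime ?_ ht1
      rw [pow_two]; exact hsq t ht)
    have hs : IsSimpleGroup (Matrix.ProjectiveSpecialLinearGroup (Fin 2) F) :=
      TwoFusion.SLTwoFacts.isSimpleGroup_psl (by omega)
    have h2 : 2 ∣ Nat.card (Matrix.ProjectiveSpecialLinearGroup (Fin 2) F) := by
      have P : Sylow 2 (Matrix.ProjectiveSpecialLinearGroup (Fin 2) F) := default
      have h3 := TypeSylow.card_sylow_odd h8 (MulEquiv.refl _) P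
      have h4 := Subgroup.card_subgroup_dvd_card
        (P : Subgroup (Matrix.ProjectiveSpecialLinearGroup (Fin 2) F))
      rw [h3] at h4
      exact dvd_trans ⟨2, rfl⟩ h4
    set C : Subgroup K := centralizer ({t} : Set K) with hCdef
    have hn : (Y.subgroupOf C).Normal := (normal_subgroupOf_iff_le_normalizer hY).2 hN
    have h3 : (Y.subgroupOf C).map e.toMonoidHom = ⊥ := by
      refine prod_eq_bot h2 (hn.map _ e.surjective) ?_
      rw [Subgroup.card_map_of_injective e.injective,
        Nat.card_congr (Subgroup.subgroupOfEquivOfLe hY).toEquiv]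
      exact hodd
    rw [Subgroup.map_eq_bot_iff_of_injective _ e.injective] at h3
    rw [eq_bot_iff]
    intro y hy
    have h4 : (⟨y, hY hy⟩ : C) ∈ Y.subgroupOf C := by rw [mem_subgroupOf]; exact hy
    rw [h3, mem_bot] at h4
    exact mem_bot.2 (congrArg Subtype.val h4)

end K

section X

variable {X : Type*} [Group X] [Finite X] {S : Sylow 2 X}

/-- `X`: Sylow 2-subgroup elementary of order 8, `N(S)` transitive on `S#`, `S ≤ E(X)`, components of
`X/O(X)` known. Then a subgroup of odd order of `C_{E(X)}(t)` normalised by `C_{E(X)}(t)` is in `O(X)`. -/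
theorem le_core (hcomm : ∀ a ∈ (S : Subgroup X), ∀ b ∈ (S : Subgroup X), a * b = b * a)
    (hsq : ∀ a ∈ (S : Subgroup X), a * a = 1) (hcard : Nat.card (S : Subgroup X) = 8)
    {t : X} (ht : t ∈ (S : Subgroup X)) (ht1 : t ≠ 1)
    (htrans : ∀ s ∈ (S : Subgroup X), s ≠ 1 → ∃ n : X, n * t * n⁻¹ = s)
    (hSL : (S : Subgroup X) ≤ layer X)
    (hW : ∀ K : Subgroup (X ⧸ pPrimeCore 2 X), IsComponent K → WType K)
    {Y : Subgroup X} (hY : Y ≤ layer X ⊓ centralizer ({t} : Set X))
    (hN : layer X ⊓ centralizer ({t} : Set X) ≤ normalizer (Y : Set X))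
    (hodd : ¬ 2 ∣ Nat.card Y) : Y ≤ pPrimeCore 2 X := by
  have hf2 : Fact (Nat.Prime 2) := ⟨Nat.prime_two⟩
  set f : X →* X ⧸ pPrimeCore 2 X := QuotientGroup.mk' _ with hf
  have hfs : Function.Surjective f := QuotientGroup.mk'_surjective _
  have hO : pPrimeCore 2 (X ⧸ pPrimeCore 2 X) = ⊥ := Lib.Cores.pPrimeCore_quotient_pPrimeCore 2
  have hker : f.ker = pPrimeCore 2 X := QuotientGroup.ker_mk' _
  set T : Sylow 2 (X ⧸ pPrimeCore 2 X) := S.mapSurjective hfs with hT
  have hTS : (T : Subgroup (X ⧸ pPrimeCore 2 X)) = (S : Subgroup X).map f := rfl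
  -- `f` is injective on `S`
  have hinj : ∀ s ∈ (S : Subgroup X), f s = 1 → s = 1 := by
    intro s hs hfs1
    have h1 : s ∈ pPrimeCore 2 X := by rw [← hker, MonoidHom.mem_ker]; exact hfs1
    by_contra hne
    have h3 : orderOf s = 2 := orderOf_eq_prime (by rw [pow_two]; exact hsq s hs) hne
    have h9 : orderOf s ∣ Nat.card (pPrimeCore 2 X) := by
      have := orderOf_dvd_natCard (⟨s, h1⟩ : pPrimeCore 2 X)
      rwa [Subgroup.orderOf_mk] at this
    rw [h3] at h9
    exact (Nat.Prime.coprime_iff_not_dvd Nat.prime_two).1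
      (Nat.coprime_comm.1 (Lib.Cores.pPrimeCore_coprime (G := X) 2)) h9
  have hTcomm : ∀ a ∈ (T : Subgroup (X ⧸ pPrimeCore 2 X)),
      ∀ b ∈ (T : Subgroup (X ⧸ pPrimeCore 2 X)), a * b = b * a := by
    rintro _ ⟨a, ha, rfl⟩ _ ⟨b, hb, rfl⟩
    rw [← map_mul, hcomm a ha b hb, map_mul]
  have hTcard : Nat.card (T : Subgroup (X ⧸ pPrimeCore 2 X)) = 8 := by
    rw [hTS, ← hcard]
    refine (Nat.card_congr (Equiv.ofBijective (fun s : (S : Subgroup X) =>
      (⟨f s, ⟨s, s.2, rfl⟩⟩ : (S : Subgroup X).map f)) ⟨?_, ?_⟩)).symm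
    · intro a b hab
      have h1 : f a = f b := congrArg Subtype.val hab
      have h2 : f ((a : X) * (b : X)⁻¹) = 1 := by rw [map_mul, map_inv, h1, mul_inv_cancel]
      have h3 := hinj _ (mul_mem a.2 (inv_mem b.2)) h2
      exact Subtype.ext (mul_inv_eq_one.1 h3)
    · rintro ⟨_, a, ha, rfl⟩
      exact ⟨⟨a, ha⟩, rfl⟩
  have hE := SignalizersComponents.ComponentImage.map_layer_le hfs
  have hTE : (T : Subgroup (X ⧸ pPrimeCore 2 X)) ≤ (layer X).map f := Subgroup.map_mono hSL
  rcases AbTypes.cases_of_card_eight hO hTcomm hTcard with ⟨-, hno⟩ | ⟨K, hK, -, hlay, hKn, hcase⟩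
  · -- no components
    exfalso
    have h1 : layer (X ⧸ pPrimeCore 2 X) = ⊥ := by
      rw [eq_bot_iff, SignalizersComponents.Components.layer_le_iff]
      intro L hL
      exact absurd hL (hno L)
    have h2 : (T : Subgroup (X ⧸ pPrimeCore 2 X)) = ⊥ := by
      rw [eq_bot_iff, ← h1]; exact hTE.trans hE
    rw [h2, Subgroup.card_bot] at hTcard
    omega
  have hTK : (T : Subgroup (X ⧸ pPrimeCore 2 X)) ≤ K := by
    rcases hcase with ⟨h4, -, -, -⟩ | ⟨h4, -⟩
    · obtain ⟨x, hx, hx1⟩ : ∃ x ∈ (T : Subgroup (X ⧸ pPrimeCore 2 X)) ⊓ K, x ≠ 1 := by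
        refine (bot_or_exists_ne_one ((T : Subgroup (X ⧸ pPrimeCore 2 X)) ⊓ K)).resolve_left ?_
        intro hb
        rw [hb, card_bot] at h4
        omega
      obtain ⟨hxT, hxK⟩ := mem_inf.1 hx
      obtain ⟨s, hs, rfl⟩ := hxT
      have hs1 : s ≠ 1 := by rintro rfl; exact hx1 (map_one f)
      obtain ⟨n, rfl⟩ := htrans s hs hs1
      have htK : f t ∈ K := by
        have h5 := hKn.conj_mem _ hxK (f n)⁻¹
        have h6 : (f n)⁻¹ * f (n * t * n⁻¹) * (f n)⁻¹⁻¹ = f t := by
          rw [map_mul, map_mul, map_inv]; group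
        rwa [h6] at h5
      rintro _ ⟨u, hu, rfl⟩
      by_cases hu1 : u = 1
      · rw [hu1, map_one]; exact one_mem _
      obtain ⟨m, rfl⟩ := htrans u hu hu1
      rw [map_mul, map_mul, map_inv]
      exact hKn.conj_mem _ htK (f m)
    · exact h4
  have hEK : (layer X).map f ≤ K := by rw [← hlay]; exact hE
  have hs : IsSimpleGroup K := AbStruct.isSimpleGroup hO hTcomm hK
  obtain ⟨P, hP⟩ := AbStruct.exists_sylow T hK
  have hPcard : Nat.card (P : Subgroup K) = 8 := by
    rw [hP, ← hTcard]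
    exact Nat.card_congr (Subgroup.subgroupOfEquivOfLe hTK).toEquiv
  -- `K = E(X) O(X) / O(X)`
  have hKE : (layer X).map f = K := by
    apply le_antisymm hEK
    have h1 : ((layer X).map f).Normal :=
      (SignalizersComponents.LayerBasic.layer_normal X).map _ hfs
    have h2 : (((layer X).map f).subgroupOf K).Normal := h1.subgroupOf K
    rcases h2.eq_bot_or_eq_top with h3 | h3
    · exfalso
      have h4 : (P : Subgroup K) = ⊥ := by
        rw [eq_bot_iff, ← h3, hP]
        intro x hx
        rw [mem_subgroupOf] at hx ⊢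
        exact hTE hx
      rw [h4, Subgroup.card_bot] at hPcard
      omega
    · rw [subgroupOf_eq_top] at h3
      exact h3
  -- the image of `Y`
  have hftK : f t ∈ K := hTK ⟨t, ht, rfl⟩
  have hft1 : f t ≠ 1 := fun h => ht1 (hinj t ht h)
  have hYK : Y.map f ≤ K := by
    rw [← hKE]
    exact Subgroup.map_mono (hY.trans inf_le_left)
  have hYb : (Y.map f).subgroupOf K = ⊥ := by
    refine eq_bot (hW K hK) P hPcard (t := ⟨f t, hftK⟩) ?_ ?_ ?_ ?_ ?_
    · rw [hP, mem_subgroupOf]
      exact ⟨t, ht, rfl⟩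
    · intro h; exact hft1 (congrArg Subtype.val h)
    · intro y hy
      rw [mem_subgroupOf] at hy
      obtain ⟨z, hz, hzy⟩ := hy
      rw [mem_centralizer_singleton_iff]
      ext
      change (y : X ⧸ pPrimeCore 2 X) * f t = f t * y
      rw [← hzy, ← map_mul, ← map_mul, mem_centralizer_singleton_iff.1 (hY hz).2]
    · -- `C_K(t̄)` is the image of `C_{E(X)}(t)`
      intro c hc
      have htL : t ∈ layer X := hSL ht
      set g : layer X →* (layer X).map f := f.subgroupMap (layer X) with hg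
      have hgs : Function.Surjective g := f.subgroupMap_surjective (layer X)
      have hgk : (Nat.card g.ker).Coprime 2 := by
        have h1 : Nat.card g.ker ∣ Nat.card (pPrimeCore 2 X) := by
          have h2 : g.ker.map (layer X).subtype ≤ pPrimeCore 2 X := by
            rintro _ ⟨x, hx, rfl⟩
            rw [← hker, MonoidHom.mem_ker]
            have h3 : g x = 1 := hx
            exact congrArg Subtype.val h3
          rw [← Subgroup.card_map_of_injective (layer X).subtype_injective]
          exact Subgroup.card_dvd_of_le h2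
        exact Nat.Coprime.coprime_dvd_left h1 (Lib.Cores.pPrimeCore_coprime 2)
      have htt : orderOf (⟨t, htL⟩ : layer X) = 2 := by
        rw [Subgroup.orderOf_mk]
        exact orderOf_eq_prime (by rw [pow_two]; exact hsq t ht) ht1
      have h1 := PLocal.PConstrained.map_centralizer_eq g hgs hgk
        (P := zpowers (⟨t, htL⟩ : layer X)) (IsPGroup.of_card (n := 1) (by
          rw [Nat.card_zpowers, pow_one, htt]))
      have h2 : centralizer (((zpowers (⟨t, htL⟩ : layer X)).map g :
          Subgroup ((layer X).map f)) : Set _) =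
          centralizer ({g ⟨t, htL⟩} : Set ((layer X).map f)) := by
        rw [MonoidHom.map_zpowers, Subgroup.zpowers_eq_closure, Subgroup.centralizer_closure]
      rw [h2] at h1
      have hcE : (c : X ⧸ pPrimeCore 2 X) ∈ (layer X).map f := by rw [hKE]; exact c.2
      have h3 : (⟨c, hcE⟩ : (layer X).map f) ∈ centralizer ({g ⟨t, htL⟩} : Set ((layer X).map f)) := by
        rw [mem_centralizer_singleton_iff]
        ext
        have h4 := congrArg Subtype.val (mem_centralizer_singleton_iff.1 hc)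
        exact h4
      rw [← h1] at h3
      obtain ⟨d, hd, hdc⟩ := h3
      have hdc' : f (d : X) = c := congrArg Subtype.val hdc
      have hdt : (d : X) ∈ layer X ⊓ centralizer ({t} : Set X) := by
        refine mem_inf.2 ⟨d.2, ?_⟩
        rw [mem_centralizer_singleton_iff]
        have h4 := mem_centralizer_iff.1 hd ⟨t, htL⟩ (mem_zpowers _)
        exact (congrArg Subtype.val h4).symm
      have hdN := hN hdt
      have h5 : (c : X ⧸ pPrimeCore 2 X) ∈ normalizer ((Y.map f : Subgroup _) : Set _) := by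
        rw [← hdc']
        exact Subgroup.le_normalizer_map f (Subgroup.mem_map_of_mem f hdN)
      rw [mem_normalizer_iff] at h5 ⊢
      intro y
      rw [mem_subgroupOf, mem_subgroupOf]
      exact h5 y
    · rw [Nat.card_congr (Subgroup.subgroupOfEquivOfLe hYK).toEquiv]
      intro h
      exact hodd (h.trans (Subgroup.card_map_dvd Y f))
  intro y hy
  have h1 : (⟨f y, hYK ⟨y, hy, rfl⟩⟩ : K) ∈ (Y.map f).subgroupOf K := by
    rw [mem_subgroupOf]; exact ⟨y, hy, rfl⟩
  rw [hYb, mem_bot] at h1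
  rw [← hker, MonoidHom.mem_ker]
  exact congrArg Subtype.val h1

end X

end Cfsg.Agent.Walter.SimpleLayer
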