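import Mathlib
import Cfsg.Prelude.Def_Local
import Cfsg.Agent.Walter.CentB
import Cfsg.Agent.Walter.SimpleLayer
import Cfsg.Agent.SmallSimple.PRQb

/-!
# Killing the core of an involution centralizer of type B

`S` elementary of order 8, `C(t)/O(C(t))` of type B.
-/

set_option autoImplicit false

namespace Cfsg.Agent.Walter.Kill

open Subgroup Cfsg
open Cfsg.Agent.Walter.Types Cfsg.Agent.Walter.Setup Cfsg.Agent.Walter.Local
open Cfsg.Agent.Walter.CentB

universe u

/-- simple groups of order 60 -/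
theorem isEvenType_of_card_sixty {K : Type*} [Group K] [Finite K] [IsSimpleGroup K]
    (h : Nat.card K = 60) : IsEvenType K := by
  have h2 : Fact (Nat.Prime 2) := ⟨Nat.prime_two⟩
  obtain ⟨F, i1, i2, hF, ⟨e⟩⟩ := SmallSimple.PRQb.psl_five_of_card h
  have c2 : Nat.card (Matrix.ProjectiveSpecialLinearGroup (Fin 2) F) = 60 := by
    rw [← h]; exact (Nat.card_congr e.toEquiv).symm
  obtain ⟨g⟩ := TypeSylow.equiv_alternating (F' := F) (by rw [hF]; norm_num) c2
  have i3 : Fintype (GaloisField 2 2) := Fintype.ofFinite _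
  have hc : Fintype.card (GaloisField 2 2) = 4 := by
    rw [← Nat.card_eq_fintype_card, GaloisField.card 2 2 (by norm_num)]; norm_num
  have c1 : Nat.card (Matrix.ProjectiveSpecialLinearGroup (Fin 2) (GaloisField 2 2)) = 60 := by
    rw [ClassicalGeometry.PSL2Basic.card_PSL2_even _ (by rw [hc]; decide), hc]
    norm_num
  obtain ⟨f⟩ := TypeSylow.equiv_alternating (F' := GaloisField 2 2) (by rw [hc]; norm_num) c1
  exact ⟨GaloisField 2 2, inferInstance, i3, 2, le_rfl, by rw [hc]; norm_num,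
    ⟨e.trans (g.trans f.symm)⟩⟩

theorem inf_le {Y : Type*} [Group Y] [Finite Y] {S : Sylow 2 Y} {K : Subgroup Y}
    (hK : TypeB S K) (h60 : Nat.card K = 60) {v : Y}
    (hv : v ∈ (S : Subgroup Y)) (hvK : v ∈ K) (hv1 : v ≠ 1) :
    K ⊓ centralizer ({v} : Set Y) ≤ S := by
  have hs := hK.simple
  obtain ⟨P, hP, -, -⟩ := hK.exists_sylow
  obtain ⟨-, h2, -⟩ := PSLFacts.IsEvenType.facts (isEvenType_of_card_sixty h60) P
  rintro x ⟨hx, hxv⟩
  have h3 : (⟨x, hx⟩ : K) ∈ centralizer ({⟨v, hvK⟩} : Set K) := by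
    rw [mem_centralizer_singleton_iff]
    ext
    exact mem_centralizer_singleton_iff.1 hxv
  rw [h2 ⟨v, hvK⟩ (by rw [hP, mem_subgroupOf]; exact hv)
    (fun hh => hv1 (congrArg Subtype.val hh)), hP, mem_subgroupOf] at h3
  exact h3

/-- the layer of a proper subgroup containing `N(S)` -/
theorem si_of_ind {G : Type u} [Group G] [Finite G] {S : Sylow 2 G} {t : G} (h : Data S t)
    (hFT : ∀ Y : Subgroup G, ¬ 2 ∣ Nat.card Y → Group.IsSolvable Y)
    (hind : TypeSylow.Ind.{u} (Nat.card G)) {X : Subgroup G} (hX : X ≠ ⊤)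
    (hNX : normalizer ((S : Subgroup G) : Set G) ≤ X) (hSE : (S : Subgroup G) ≤ EE X)
    {Y : Subgroup G} (hY : Y ≤ EE X ⊓ centralizer ({t} : Set G))
    (hN : EE X ⊓ centralizer ({t} : Set G) ≤ normalizer (Y : Set G)) (hodd : ¬ 2 ∣ Nat.card Y) :
    Y ≤ centralizer (EE X : Set G) := by
  have hSX : (S : Subgroup G) ≤ X := le_trans le_normalizer hNX
  have htX : t ∈ X := hSX h.mem
  have hYX : Y ≤ X := hY.trans (inf_le_left.trans (EE_le X))
  have key : Y.subgroupOf X ≤ pPrimeCore 2 X := by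
    refine SimpleLayer.le_core (S := S.subtype hSX) (t := ⟨t, htX⟩) ?_ ?_ ?_ ?_ ?_ ?_ ?_ ?_ ?_ ?_ ?_
    · intro a ha b hb
      exact Subtype.ext (h.comm a ha b hb)
    · intro a ha
      exact Subtype.ext (h.sq a ha)
    · rw [← h.card]
      exact Nat.card_congr (Subgroup.subgroupOfEquivOfLe hSX).toEquiv
    · exact h.mem
    · intro h1; exact h.ne (congrArg Subtype.val h1)
    · intro s hs hs1
      obtain ⟨n, hn, hns⟩ := h.trans s hs (fun h1 => hs1 (Subtype.ext h1))
      exact ⟨⟨n, hNX hn⟩, Subtype.ext hns⟩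
    · intro s hs
      obtain ⟨x, hx, hxs⟩ := hSE (show (s : G) ∈ (S : Subgroup G) from hs)
      have h1 : x = s := Subtype.ext hxs
      rw [← h1]; exact hx
    · intro K hK
      exact TypeSylow.wType_of_isComponent_quotient hind h.comm X
        (lt_of_le_of_ne (Subgroup.card_le_card_group X)
          (fun h1 => hX (Subgroup.eq_top_of_card_eq X h1))) hK
    · intro y hy
      obtain ⟨⟨x, hx, hxy⟩, h2⟩ := mem_inf.1 (hY (mem_subgroupOf.1 hy))
      refine mem_inf.2 ⟨?_, ?_⟩
      · have h1 : x = y := Subtype.ext hxy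
        rw [← h1]; exact hx
      · rw [mem_centralizer_singleton_iff] at h2 ⊢
        exact Subtype.ext h2
    · intro c hc
      have h1 : (c : G) ∈ normalizer (Y : Set G) := by
        apply hN
        refine mem_inf.2 ⟨⟨c, hc.1, rfl⟩, ?_⟩
        rw [mem_centralizer_singleton_iff]
        exact congrArg Subtype.val (mem_centralizer_singleton_iff.1 hc.2)
      rw [mem_normalizer_iff] at h1 ⊢
      intro y
      rw [mem_subgroupOf, mem_subgroupOf]
      exact h1 y
    · rw [Nat.card_congr (Subgroup.subgroupOfEquivOfLe hYX).toEquiv]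
      exact hodd
  intro y hy
  have h1 : y ∈ OO X := ⟨⟨y, hYX hy⟩, key (mem_subgroupOf.2 hy), rfl⟩
  rw [mem_centralizer_iff]
  intro e he
  exact (EE_le_centralizer_OO hFT X e he y h1).symm

/-- **The core of an involution centralizer of type B is trivial.** The functor (balance) is needed only if
`|K| ≠ 60`. -/
theorem core_eq_bot {G : Type u} [Group G] [Finite G] [IsSimpleGroup G] {S : Sylow 2 G} {t : G}
    (h : Data S t) (hFT : ∀ Y : Subgroup G, ¬ 2 ∣ Nat.card Y → Group.IsSolvable Y)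
    (hind : TypeSylow.Ind.{u} (Nat.card G)) {C : Subgroup G} (hC : C = centralizer ({t} : Set G))
    {T : Sylow 2 (C ⧸ pPrimeCore 2 C)} {K : Subgroup (C ⧸ pPrimeCore 2 C)}
    (hT : (T : Subgroup (C ⧸ pPrimeCore 2 C)) =
      ((S : Subgroup G).subgroupOf C).map (QuotientGroup.mk' (pPrimeCore 2 C)))
    (hK : TypeB T K) (hF : Nat.card K ≠ 60 → Dichotomy.Functor.Fun G) :
    centralizerPPrimeCore 2 t = ⊥ := by
  by_cases h60 : Nat.card K = 60
  · refine EndgameFive.Hyp.core_eq_bot (S := S) { toData := h, ft := hFT, inv := ?_, si := ?_ }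
    · intro Y hY hSY hodd
      exact CentB.inv hC hT hK (fun v hv hvK hv1 => inf_le hK h60 hv hvK hv1)
        (by rw [hC]; exact hY) hSY hodd
    · intro X hX hNX hSE Y hY hN hodd
      exact si_of_ind h hFT hind hX hNX hSE hY hN hodd
  · refine Endgame.core_eq_bot_of_gen h (hF h60) ?_
    intro X hX hV
    rw [← hC]
    exact CentB.gen h hC hT hK h60 hX hV

end Cfsg.Agent.Walter.Kill
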