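import Mathlib

/-!
# Abelian Sylow 2-subgroups: the fusion part

`V` is an elementary abelian 2-group on which a group `W` of odd order acts irreducibly,
`V = X × T`, and some elements of `W` which are trivial on `X` are transitive on the
nonidentity elements of `T`, `4 ≤ |T|`.  If any two `W`-conjugates of the pair `(X, T)` are
equal, commuting (`T' ≤ X`, `T ≤ X'`) or disjoint (`X ∩ X' = 1`), then either all conjugates
commute, or `|V| = 8`.
-/

open Pointwise

namespace Cfsg.Agent.Walter.Fusion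

section Swap

variable {W : Type*} [Group W]

/-- In a group of odd order no element interchanges two distinct points. -/
theorem swap_eq {α : Type*} [MulAction W α] (hW : Odd (Nat.card W)) {w : W} {a b : α}
    (h1 : w • a = b) (h2 : w • b = a) : a = b := by
  have hodd : Odd (orderOf w) := hW.of_dvd_nat (orderOf_dvd_natCard w)
  obtain ⟨k, hk⟩ := hodd
  have h3 : (w ^ 2) • a = a := by rw [pow_two, mul_smul, h1, h2]
  have h4 : ∀ n : ℕ, ((w ^ 2) ^ n) • a = a := by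
    intro n
    induction n with
    | zero => simp
    | succ n ih => rw [pow_succ, mul_smul, h3, ih]
  have h5 : w ^ (2 * k + 1) = 1 := by rw [← hk, pow_orderOf_eq_one]
  have h6 : w ^ (2 * k + 1) • a = b := by
    rw [pow_succ', mul_smul, pow_mul, h4, h1]
  rw [h5, one_smul] at h6
  exact h6

end Swap

variable {V W : Type*} [CommGroup V] [Group W] [MulDistribMulAction W V]

/-- The elements of `W` trivial on `X` are transitive on `T \ {1}`. -/
def Rot (W : Type*) [Group W] [MulDistribMulAction W V] (X T : Subgroup V) : Prop :=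
  ∀ s ∈ T, s ≠ 1 → ∀ t ∈ T, t ≠ 1 → ∃ d : W, (∀ x ∈ X, d • x = x) ∧ d • s = t

section Card

variable [Finite V]

theorem card_mul_le {A B : Subgroup V} (h : Disjoint A B) :
    Nat.card A * Nat.card B ≤ Nat.card V := by
  rw [← Nat.card_prod]
  exact Nat.card_le_card_of_injective _ (Subgroup.mul_injective_of_disjoint h)

theorem card_mul_le_sup {A B C : Subgroup V} (h : Disjoint A B) (hA : A ≤ C) (hB : B ≤ C) :
    Nat.card A * Nat.card B ≤ Nat.card C := by
  rw [← Nat.card_prod]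
  refine Nat.card_le_card_of_injective
    (fun g : A × B => (⟨g.1 * g.2, C.mul_mem (hA g.1.2) (hB g.2.2)⟩ : C)) ?_
  intro g g' hg
  exact Subgroup.mul_injective_of_disjoint h (Subtype.ext_iff.1 hg)

omit [Finite V] in
theorem card_mul_eq {A B : Subgroup V} (h : IsCompl A B) :
    Nat.card A * Nat.card B = Nat.card V := by
  rw [← Nat.card_prod]
  refine Nat.card_eq_of_bijective (fun g : A × B => (g.1 * g.2 : V))
    ⟨Subgroup.mul_injective_of_disjoint h.disjoint, ?_⟩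
  intro v
  have hv : v ∈ A ⊔ B := by rw [h.sup_eq_top]; trivial
  obtain ⟨a, ha, b, hb, rfl⟩ := Subgroup.mem_sup.1 hv
  exact ⟨(⟨a, ha⟩, ⟨b, hb⟩), rfl⟩

end Card

theorem smul_inf (w : W) (A B : Subgroup V) : w • (A ⊓ B) = w • A ⊓ w • B := by
  ext v
  simp [Subgroup.mem_pointwise_smul_iff_inv_smul_mem]

theorem smul_le_smul {w : W} {A B : Subgroup V} (h : A ≤ B) : w • A ≤ w • B :=
  Subgroup.pointwise_smul_le_pointwise_smul_iff.2 h

theorem card_smul (w : W) (A : Subgroup V) : Nat.card (w • A : Subgroup V) = Nat.card A := by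
  exact (Nat.card_congr (Subgroup.equivSMul w A).toEquiv).symm

theorem smul_bot' (w : W) : w • (⊥ : Subgroup V) = ⊥ := by
  ext v
  simp [Subgroup.mem_bot]

/-- Two conjugates of `(X, T)` are equal, commuting or disjoint. -/
def Bal (W : Type*) [Group W] [MulDistribMulAction W V] (X T : Subgroup V) : Prop :=
  ∀ w : W, (w • X = X ∧ w • T = T) ∨ (w • T ≤ X ∧ T ≤ w • X) ∨ X ⊓ w • X = ⊥

theorem Bal.pair {X T : Subgroup V} (h : Bal W X T) (w w' : W) :
    (w • X = w' • X ∧ w • T = w' • T) ∨ (w • T ≤ w' • X ∧ w' • T ≤ w • X) ∨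
      w' • X ⊓ w • X = ⊥ := by
  rcases h (w'⁻¹ * w) with h1 | h1 | h1
  · left
    rw [mul_smul, mul_smul, inv_smul_eq_iff, inv_smul_eq_iff] at h1
    exact h1
  · right; left
    rw [mul_smul, mul_smul] at h1
    have h2 := smul_le_smul (w := w') h1.1
    have h3 := smul_le_smul (w := w') h1.2
    rw [smul_inv_smul] at h2 h3
    exact ⟨h2, h3⟩
  · right; right
    rw [mul_smul] at h1
    have h2 : w' • (X ⊓ w'⁻¹ • w • X) = w' • (⊥ : Subgroup V) := by rw [h1]
    rw [smul_inf, smul_inv_smul, smul_bot'] at h2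
    exact h2

section Prod

variable [Finite V]

/-- If two distinct conjugates commute then any two are equal or commute. -/
theorem prod_of_comm (hW : Odd (Nat.card W)) {X T : Subgroup V} (hc : IsCompl X T)
    (hT : T ≠ ⊥) (hbal : Bal W X T) {w : W} (h1 : w • T ≤ X) (h2 : T ≤ w • X) (w' : W) :
    (w' • X = X ∧ w' • T = T) ∨ (w' • T ≤ X ∧ T ≤ w' • X) := by
  have hTX : T ⊓ X = ⊥ := by rw [inf_comm]; exact hc.inf_eq_bot
  -- the third conjugate
  have h3 : (w * w) • T ≤ w • X := by rw [mul_smul]; exact smul_le_smul h1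
  have h4 : w • T ≤ (w * w) • X := by rw [mul_smul]; exact smul_le_smul h2
  have hwT : w • T ≠ ⊥ := by
    intro h
    apply hT
    have := congrArg (fun Y => w⁻¹ • Y) h
    simpa [smul_bot'] using this
  have h5 : (w * w) • T ≤ X := by
    rcases hbal (w * w) with h | h | h
    · exfalso
      have h6 : T = w • T := swap_eq hW (w := w) rfl (by rw [← mul_smul]; exact h.2)
      apply hT
      rw [eq_bot_iff, ← hTX]
      exact le_inf le_rfl (h6.le.trans h1)
    · exact h.1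
    · exfalso
      apply hwT
      rw [eq_bot_iff, ← h]
      exact le_inf h1 h4
  have hdisj : Disjoint (w • T) ((w * w) • T) := by
    rw [disjoint_iff, eq_bot_iff]
    have h6 : w • (T ⊓ X) = (⊥ : Subgroup V) := by rw [hTX, smul_bot']
    rw [smul_inf] at h6
    rw [← h6]
    exact inf_le_inf_left _ h3
  have h7 := card_mul_le_sup hdisj h1 h5
  rw [card_smul, card_smul] at h7
  rcases hbal w' with h | h | h
  · exact Or.inl h
  · exact Or.inr h
  · exfalso
    have h8 := card_mul_le (disjoint_iff.2 h)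
    rw [card_smul, ← card_mul_eq hc] at h8
    have h9 : 0 < Nat.card X := Nat.card_pos
    have h10 : Nat.card X ≤ Nat.card T := Nat.le_of_mul_le_mul_left h8 h9
    have h11 : 1 < Nat.card T := (Subgroup.one_lt_card_iff_ne_bot T).2 hT
    nlinarith

end Prod

section TI

/-- Distinct conjugates of `X` are disjoint. -/
def TI (W : Type*) [Group W] [MulDistribMulAction W V] (X T : Subgroup V) : Prop :=
  ∀ w : W, (w • X = X ∧ w • T = T) ∨ X ⊓ w • X = ⊥

variable {X T : Subgroup V}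

theorem TI.fix (h : TI W X T) (hX : X ≠ ⊥) {d : W} (hd : ∀ x ∈ X, d • x = x) :
    d • X = X ∧ d • T = T := by
  rcases h d with h1 | h1
  · exact h1
  · exfalso
    apply hX
    rw [eq_bot_iff, ← h1]
    refine le_inf le_rfl ?_
    intro x hx
    rw [Subgroup.mem_pointwise_smul_iff_inv_smul_mem]
    have : d⁻¹ • x = x := by rw [inv_smul_eq_iff, hd x hx]
    rw [this]; exact hx

theorem TI.eq_of_mem (h : TI W X T) {w : W} {v : V} (hv : v ∈ X) (hv' : v ∈ w • X)
    (hne : v ≠ 1) : w • X = X ∧ w • T = T := by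
  rcases h w with h1 | h1
  · exact h1
  · exfalso
    apply hne
    rw [← Subgroup.mem_bot, ← h1]
    exact ⟨hv, hv'⟩

theorem TI.eq_of_mem' (h : TI W X T) {w w' : W} {v : V} (hv : v ∈ w • X) (hv' : v ∈ w' • X)
    (hne : v ≠ 1) : w • X = w' • X ∧ w • T = w' • T := by
  have h1 := h.eq_of_mem (w := w⁻¹ * w') (v := w⁻¹ • v)
    ((Subgroup.mem_pointwise_smul_iff_inv_smul_mem).1 hv)
    (by
      rw [mul_smul]
      exact Subgroup.smul_mem_pointwise_smul _ _ _ hv')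
    (by
      intro h2
      apply hne
      rw [inv_smul_eq_iff, smul_one] at h2
      exact h2)
  rw [mul_smul, mul_smul, inv_smul_eq_iff, inv_smul_eq_iff] at h1
  exact ⟨h1.1.symm, h1.2.symm⟩

/-- The swap lemma. -/
theorem TI.star (hW : Odd (Nat.card W)) (h : TI W X T) (hX : X ≠ ⊥) {w d : W}
    (hd : ∀ x ∈ X, d • x = x) {v : V} (hv : v ∈ w • X) (hv' : d • v ∈ w⁻¹ • X)
    (hne : v ≠ 1) : w • X = X := by
  have h1 : (w * d) • X = w • X := by rw [mul_smul, (h.fix hX hd).1]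
  have h2 : w • d • v ∈ X := by
    rw [Subgroup.mem_pointwise_smul_iff_inv_smul_mem, inv_inv] at hv'
    exact hv'
  have h3 : w • d • v ∈ (w * d * w) • X := by
    rw [mul_smul, mul_smul]
    exact Subgroup.smul_mem_pointwise_smul _ _ _ (Subgroup.smul_mem_pointwise_smul _ _ _ hv)
  have h4 : w • d • v ≠ 1 := by
    rw [← mul_smul]
    intro h5
    apply hne
    rw [← smul_one (w * d), smul_left_cancel_iff] at h5
    exact h5
  have h5 := (h.eq_of_mem h2 h3 h4).1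
  have h6 : X = w • X := swap_eq hW (w := w * d) h1 (by rw [← mul_smul]; exact h5)
  exact h6.symm

theorem mem_inv_smul {w : W} {v : V} : v ∈ w⁻¹ • X ↔ w • v ∈ X := by
  rw [Subgroup.mem_pointwise_smul_iff_inv_smul_mem, inv_inv]

theorem inv_smul_ne {w : W} (h : w • X ≠ X) : w⁻¹ • X ≠ X := by
  intro h1
  apply h
  rw [inv_smul_eq_iff] at h1
  exact h1.symm

/-- Swap I: `w X ∩ T` and `w⁻¹ X ∩ T` are not both nontrivial. -/
theorem TI.swap1 (hW : Odd (Nat.card W)) (h : TI W X T) (hX : X ≠ ⊥) (hD : Rot W X T) {w : W}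
    (hw : w • X ≠ X) (h1 : w • X ⊓ T ≠ ⊥) : w⁻¹ • X ⊓ T = ⊥ := by
  by_contra h2
  obtain ⟨⟨v, hv⟩, hv1⟩ := (Subgroup.ne_bot_iff_exists_ne_one).1 h1
  obtain ⟨⟨v', hv'⟩, hv1'⟩ := (Subgroup.ne_bot_iff_exists_ne_one).1 h2
  have hv1 : v ≠ 1 := fun e => hv1 (Subtype.ext e)
  have hv1' : v' ≠ 1 := fun e => hv1' (Subtype.ext e)
  obtain ⟨d, hd, hdv⟩ := hD v hv.2 hv1 v' hv'.2 hv1'
  exact hw (h.star hW hX hd hv.1 (by rw [hdv]; exact hv'.1) hv1)

section FiniteV

variable [Finite V]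

/-- If `w X ∩ T = 1` then every coset `z T`, `z ∈ X`, meets `w X`. -/
theorem lift (hc : IsCompl X T) {w : W} (h : w • X ⊓ T = ⊥) (z : V) :
    ∃ t ∈ T, z * t ∈ w • X := by
  have h1 : Function.Injective (fun g : (w • X : Subgroup V) × T => (g.1 * g.2 : V)) :=
    Subgroup.mul_injective_of_disjoint (disjoint_iff.2 h)
  have h2 : Function.Bijective (fun g : (w • X : Subgroup V) × T => (g.1 * g.2 : V)) := by
    have := Fintype.ofFinite V
    have := Fintype.ofFinite ((w • X : Subgroup V) × T)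
    rw [Fintype.bijective_iff_injective_and_card]
    refine ⟨h1, ?_⟩
    rw [← Nat.card_eq_fintype_card, ← Nat.card_eq_fintype_card, Nat.card_prod, card_smul,
      card_mul_eq hc]
  obtain ⟨⟨⟨v, hv⟩, ⟨t, ht⟩⟩, hg⟩ := h2.2 z
  refine ⟨t⁻¹, T.inv_mem ht, ?_⟩
  have : z * t⁻¹ = v := by
    rw [← hg]
    simp
  rw [this]; exact hv

/-- Swap II: `w X ∩ T` and `w⁻¹ X ∩ T` are not both trivial if `w X ≠ X`. -/
theorem TI.swap2 (hW : Odd (Nat.card W)) (h : TI W X T) (hX : X ≠ ⊥) (hc : IsCompl X T)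
    (hD : Rot W X T) {w : W} (hw : w • X ≠ X) (h1 : w • X ⊓ T = ⊥) : w⁻¹ • X ⊓ T ≠ ⊥ := by
  intro h2
  obtain ⟨⟨z, hz⟩, hz1⟩ := (Subgroup.ne_bot_iff_exists_ne_one).1 hX
  have hz1 : z ≠ 1 := fun e => hz1 (Subtype.ext e)
  obtain ⟨t, ht, hv⟩ := lift hc h1 z
  obtain ⟨t', ht', hv'⟩ := lift hc h2 z
  have hne : ∀ s, s ∈ T → ∀ w' : W, w' • X ≠ X → z * s ∈ w' • X → s ≠ 1 := by
    intro s _ w' hw' hs e
    rw [e, mul_one] at hs
    exact hw' (h.eq_of_mem hz hs hz1).1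
  obtain ⟨d, hd, hdv⟩ := hD t ht (hne t ht w hw hv) t' ht' (hne t' ht' w⁻¹ (inv_smul_ne hw) hv')
  refine hw (h.star hW hX hd hv ?_ ?_)
  · rw [smul_mul', hd z hz, hdv]; exact hv'
  · intro e
    have h3 : z ∈ X ⊓ T := ⟨hz, by
      have : z = t⁻¹ := eq_inv_of_mul_eq_one_left e
      rw [this]; exact T.inv_mem ht⟩
    rw [hc.inf_eq_bot, Subgroup.mem_bot] at h3
    exact hz1 h3

theorem TI.cover (h : TI W X T) (hX : X ≠ ⊥) (hc : IsCompl X T) (hD : Rot W X T) {w0 : W}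
    (hw0 : w0 • X ≠ X) (hw0' : w0 • X ⊓ T = ⊥) {z t : V} (hz : z ∈ X) (hz1 : z ≠ 1)
    (ht : t ∈ T) (ht1 : t ≠ 1) : ∃ w : W, w • X ≠ X ∧ w • X ⊓ T = ⊥ ∧ z * t ∈ w • X := by
  obtain ⟨t0, ht0, hv⟩ := lift hc hw0' z
  have ht01 : t0 ≠ 1 := by
    intro e
    rw [e, mul_one] at hv
    exact hw0 (h.eq_of_mem hz hv hz1).1
  obtain ⟨d, hd, hdt⟩ := hD t0 ht0 ht01 t ht ht1
  obtain ⟨hdX, hdT⟩ := h.fix hX hd
  refine ⟨d * w0, ?_, ?_, ?_⟩
  · intro e
    apply hw0
    rw [mul_smul] at e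
    have e2 : d • w0 • X = d • X := by rw [e, hdX]
    exact smul_left_cancel _ e2
  · have e : d • (w0 • X ⊓ T) = (⊥ : Subgroup V) := by rw [hw0', smul_bot']
    rw [smul_inf, hdT, ← mul_smul] at e
    exact e
  · rw [mul_smul]
    have e : d • (z * t0) = z * t := by rw [smul_mul', hd z hz, hdt]
    rw [← e]
    exact Subgroup.smul_mem_pointwise_smul _ _ _ hv

omit [Finite V] in
theorem ncard_ne_one (A : Subgroup V) : ((A : Set V) \ {1}).ncard = Nat.card A - 1 := by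
  rw [Set.ncard_sdiff_singleton_of_mem (SetLike.mem_coe.2 A.one_mem)]
  rfl

variable [Finite W]

theorem TI.countB (h : TI W X T) (hX : X ≠ ⊥) (hc : IsCompl X T) (hD : Rot W X T) {w0 : W}
    (hw0 : w0 • X ≠ X) (hw0' : w0 • X ⊓ T = ⊥) :
    (Nat.card T - 1) * {w : W | w • X = X}.ncard ≤
      {w : W | w • X ≠ X ∧ w • X ⊓ T = ⊥}.ncard := by
  classical
  obtain ⟨⟨z, hz⟩, hz1⟩ := (Subgroup.ne_bot_iff_exists_ne_one).1 hX
  have hz1 : z ≠ 1 := fun e => hz1 (Subtype.ext e)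
  have hcov : ∀ t : V, ∃ w : W, t ∈ T → t ≠ 1 →
      w • X ≠ X ∧ w • X ⊓ T = ⊥ ∧ z * t ∈ w • X := by
    intro t
    by_cases ht : t ∈ T
    · by_cases ht1 : t = 1
      · exact ⟨1, fun _ h' => absurd ht1 h'⟩
      · obtain ⟨w, hw⟩ := h.cover hX hc hD hw0 hw0' hz hz1 ht ht1
        exact ⟨w, fun _ _ => hw⟩
    · exact ⟨1, fun h' => absurd h' ht⟩
  choose c hcc using hcov
  rw [← ncard_ne_one, ← Set.ncard_prod]
  refine Set.ncard_le_ncard_of_injOn (fun p : V × W => c p.1 * p.2) ?_ ?_ (Set.toFinite _)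
  · rintro ⟨t, w⟩ ⟨⟨ht, ht1⟩, hw⟩
    have h1 := hcc t ht ht1
    have hw : w • X = X := hw
    simp only [Set.mem_ofPred_eq, mul_smul, hw]
    exact ⟨h1.1, h1.2.1⟩
  · rintro ⟨t, w⟩ ⟨⟨ht, ht1⟩, hw⟩ ⟨t', w'⟩ ⟨⟨ht', ht1'⟩, hw'⟩ heq
    simp only at heq ht ht' ht1 ht1'
    have hw : w • X = X := hw
    have hw' : w' • X = X := hw'
    have h1 := hcc t ht ht1
    have h2 := hcc t' ht' ht1'
    have h3 : c t • X = c t' • X := by
      have := congrArg (fun g : W => g • X) heq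
      simp only [mul_smul, hw, hw'] at this
      exact this
    have h4 : (z * t)⁻¹ * (z * t') ∈ c t • X ⊓ T := by
      refine ⟨(c t • X).mul_mem ((c t • X).inv_mem h1.2.2) (h3 ▸ h2.2.2), ?_⟩
      have : (z * t)⁻¹ * (z * t') = t⁻¹ * t' := by
        rw [mul_inv]
        rw [mul_comm z⁻¹ t⁻¹, mul_assoc, inv_mul_cancel_left]
      rw [this]
      exact T.mul_mem (T.inv_mem ht) ht'
    rw [h1.2.1, Subgroup.mem_bot, inv_mul_eq_one, mul_right_inj] at h4
    subst h4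
    rw [mul_right_inj] at heq
    rw [heq]

theorem TI.countC (h : TI W X T) :
    Nat.card W * (Nat.card X - 1) ≤ (Nat.card V - 1) * {w : W | w • X = X}.ncard := by
  classical
  have hcov : ∀ v : V, ∃ w : W, ∀ w' : W, v ≠ 1 → v ∈ w' • X → w' • X = w • X := by
    intro v
    by_cases hv : ∃ w : W, v ∈ w • X
    · obtain ⟨w, hw⟩ := hv
      exact ⟨w, fun w' hv1 hw' => (h.eq_of_mem' hw' hw hv1).1⟩
    · exact ⟨1, fun w' _ hw' => absurd ⟨w', hw'⟩ hv⟩
  choose c hcc using hcov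
  have e1 : (Set.univ : Set W).ncard = Nat.card W := Set.ncard_univ W
  have e2 : ((Set.univ : Set V) \ {1}).ncard = Nat.card V - 1 := by
    rw [Set.ncard_sdiff_singleton_of_mem (Set.mem_univ _), Set.ncard_univ]
  rw [← ncard_ne_one, ← e1, ← e2, ← Set.ncard_prod, ← Set.ncard_prod]
  refine Set.ncard_le_ncard_of_injOn
    (fun p : W × V => (p.1 • p.2, (c (p.1 • p.2))⁻¹ * p.1)) ?_ ?_ (Set.toFinite _)
  · rintro ⟨w, x⟩ ⟨-, hx, hx1⟩
    simp only [SetLike.mem_coe, Set.mem_singleton_iff] at hx hx1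
    have h1 : w • x ≠ 1 := by
      intro e
      apply hx1
      rw [← smul_one w, smul_left_cancel_iff] at e
      exact e
    refine ⟨⟨Set.mem_univ _, h1⟩, ?_⟩
    have h2 := hcc (w • x) w h1 (Subgroup.smul_mem_pointwise_smul _ _ _ hx)
    simp only [Set.mem_ofPred_eq, mul_smul]
    rw [h2, inv_smul_smul]
  · rintro ⟨w, x⟩ ⟨-, hx, hx1⟩ ⟨w', x'⟩ ⟨-, hx', hx1'⟩ heq
    simp only [Prod.mk.injEq] at heq
    obtain ⟨h1, h2⟩ := heq
    rw [h1, mul_right_inj] at h2
    subst h2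
    rw [smul_left_cancel_iff] at h1
    rw [h1]

/-- In the disjoint case `|X| = 2`. -/
theorem TI.card_eq_two (hW : Odd (Nat.card W)) (h : TI W X T) (hX : X ≠ ⊥) (hT : T ≠ ⊥)
    (hc : IsCompl X T) (hD : Rot W X T) {w0 : W} (hw0 : w0 • X ≠ X) :
    Nat.card X = 2 ∧ (∃ w : W, w • X ≠ X ∧ w • X ⊓ T ≠ ⊥) ∧
      (∃ w : W, w • X ≠ X ∧ w • X ⊓ T = ⊥) := by
  have hA : ∃ w : W, w • X ≠ X ∧ w • X ⊓ T ≠ ⊥ := by
    by_cases h1 : w0 • X ⊓ T = ⊥
    · exact ⟨w0⁻¹, inv_smul_ne hw0, h.swap2 hW hX hc hD hw0 h1⟩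
    · exact ⟨w0, hw0, h1⟩
  have hB : ∃ w : W, w • X ≠ X ∧ w • X ⊓ T = ⊥ := by
    obtain ⟨w, hw, hw1⟩ := hA
    exact ⟨w⁻¹, inv_smul_ne hw, h.swap1 hW hX hD hw hw1⟩
  refine ⟨?_, hA, hB⟩
  obtain ⟨w1, hw1, hw1'⟩ := hB
  have hcB := h.countB hX hc hD hw1 hw1'
  have hcC := h.countC
  have hAB : {w : W | w • X ≠ X ∧ w • X ⊓ T ≠ ⊥}.ncard =
      {w : W | w • X ≠ X ∧ w • X ⊓ T = ⊥}.ncard := by
    have : {w : W | w • X ≠ X ∧ w • X ⊓ T = ⊥} =
        (fun w : W => w⁻¹) '' {w : W | w • X ≠ X ∧ w • X ⊓ T ≠ ⊥} := by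
      ext w
      constructor
      · rintro ⟨h1, h2⟩
        exact ⟨w⁻¹, ⟨inv_smul_ne h1, h.swap2 hW hX hc hD h1 h2⟩, inv_inv w⟩
      · rintro ⟨w', ⟨h1, h2⟩, rfl⟩
        exact ⟨inv_smul_ne h1, h.swap1 hW hX hD h1 h2⟩
    rw [this, Set.ncard_image_of_injective _ inv_injective]
  have hsplit : Nat.card W = {w : W | w • X = X}.ncard +
      ({w : W | w • X ≠ X ∧ w • X ⊓ T ≠ ⊥}.ncard +
        {w : W | w • X ≠ X ∧ w • X ⊓ T = ⊥}.ncard) := by
    have hd1 : Disjoint {w : W | w • X ≠ X ∧ w • X ⊓ T ≠ ⊥}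
        {w : W | w • X ≠ X ∧ w • X ⊓ T = ⊥} := by
      rw [Set.disjoint_left]
      rintro w h1 h2
      exact h1.2 h2.2
    have hd2 : Disjoint {w : W | w • X = X} ({w : W | w • X ≠ X ∧ w • X ⊓ T ≠ ⊥} ∪
        {w : W | w • X ≠ X ∧ w • X ⊓ T = ⊥}) := by
      rw [Set.disjoint_left]
      rintro w h1 (h2 | h2)
      · exact h2.1 h1
      · exact h2.1 h1
    have hu : (Set.univ : Set W) = {w : W | w • X = X} ∪
        ({w : W | w • X ≠ X ∧ w • X ⊓ T ≠ ⊥} ∪ {w : W | w • X ≠ X ∧ w • X ⊓ T = ⊥}) := by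
      ext w
      by_cases h1 : w • X = X
      · simp [h1]
      · by_cases h2 : w • X ⊓ T = ⊥
        · simp [h1, h2]
        · simp [h1, h2]
    rw [← Set.ncard_univ, hu, Set.ncard_union_eq hd2 (Set.toFinite _) (Set.toFinite _),
      Set.ncard_union_eq hd1 (Set.toFinite _) (Set.toFinite _)]
  have hH : 0 < {w : W | w • X = X}.ncard := by
    rw [Set.ncard_pos (Set.toFinite _)]
    exact ⟨1, one_smul _ _⟩
  have hX2 : 1 < Nat.card X := (Subgroup.one_lt_card_iff_ne_bot X).2 hX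
  have hT2 : 1 < Nat.card T := (Subgroup.one_lt_card_iff_ne_bot T).2 hT
  have hV := card_mul_eq hc
  rw [hAB] at hsplit
  generalize {w : W | w • X = X}.ncard = H at *
  generalize {w : W | w • X ≠ X ∧ w • X ⊓ T = ⊥}.ncard = B at *
  rw [hsplit, ← hV] at hcC
  generalize Nat.card X = x at *
  generalize Nat.card T = t at *
  obtain ⟨x, rfl⟩ : ∃ y, x = y + 2 := ⟨x - 2, by omega⟩
  obtain ⟨t, rfl⟩ : ∃ y, t = y + 2 := ⟨t - 2, by omega⟩
  have e1 : x + 2 - 1 = x + 1 := by omega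
  have e2 : t + 2 - 1 = t + 1 := by omega
  have e3 : (x + 2) * (t + 2) - 1 = x * t + 2 * x + 2 * t + 3 := by
    have : (x + 2) * (t + 2) = x * t + 2 * x + 2 * t + 4 := by ring
    omega
  rw [e1, e3] at hcC
  rw [e2] at hcB
  have e4 : (H + ((t + 1) * H + (t + 1) * H)) * (x + 1) ≤ (H + (B + B)) * (x + 1) := by
    gcongr
  have e5 : H * ((1 + ((t + 1) + (t + 1))) * (x + 1)) ≤ H * (x * t + 2 * x + 2 * t + 3) := by
    calc H * ((1 + ((t + 1) + (t + 1))) * (x + 1))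
        = (H + ((t + 1) * H + (t + 1) * H)) * (x + 1) := by ring
      _ ≤ _ := e4
      _ ≤ _ := hcC
      _ = _ := by ring
  have e6 := Nat.le_of_mul_le_mul_left e5 hH
  have e7 : x = 0 := by
    by_contra hx
    have : 0 < x := Nat.pos_of_ne_zero hx
    nlinarith
  omega

omit [Finite V] [Finite W] in
theorem eq_of_card_two (h2 : Nat.card X = 2) {a : V} (ha : a ∈ X) (ha1 : a ≠ 1) {x : V}
    (hx : x ∈ X) (hx1 : x ≠ 1) : x = a := by
  obtain ⟨y, -, hy⟩ := (Nat.card_eq_two_iff' (1 : X)).1 h2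
  have h3 := hy ⟨a, ha⟩ (fun e => ha1 (congrArg Subtype.val e))
  have h4 := hy ⟨x, hx⟩ (fun e => hx1 (congrArg Subtype.val e))
  exact congrArg Subtype.val (h4.trans h3.symm)

/-- In the disjoint case `W` is transitive on `V \ {1}`. -/
theorem TI.trans (hW : Odd (Nat.card W)) (h : TI W X T) (hX : X ≠ ⊥) (hT : T ≠ ⊥)
    (hc : IsCompl X T) (hD : Rot W X T) {w0 : W} (hw0 : w0 • X ≠ X) {a : V} (ha : a ∈ X)
    (ha1 : a ≠ 1) {v : V} (hv : v ≠ 1) : ∃ w : W, w • a = v := by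
  obtain ⟨h2, ⟨wA, hA, hA'⟩, ⟨wB, hB, hB'⟩⟩ := h.card_eq_two hW hX hT hc hD hw0
  have hconj : ∀ (w : W) (u : V), u ∈ w • X → u ≠ 1 → u = w • a := by
    intro w u hu hu1
    rw [Subgroup.mem_pointwise_smul_iff_inv_smul_mem] at hu
    have h3 : w⁻¹ • u ≠ 1 := by
      intro e
      apply hu1
      rw [inv_smul_eq_iff, smul_one] at e
      exact e
    have h4 := eq_of_card_two h2 ha ha1 hu h3
    rw [inv_smul_eq_iff] at h4
    exact h4
  have hvt : v ∈ X ⊔ T := by rw [hc.sup_eq_top]; trivial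
  obtain ⟨x, hx, t, ht, rfl⟩ := Subgroup.mem_sup.1 hvt
  by_cases ht1 : t = 1
  · subst ht1
    rw [mul_one] at hv ⊢
    exact ⟨1, by rw [one_smul]; exact (eq_of_card_two h2 ha ha1 hx hv).symm⟩
  · by_cases hx1 : x = 1
    · subst hx1
      rw [one_mul]
      obtain ⟨⟨u, hu⟩, hu1⟩ := (Subgroup.ne_bot_iff_exists_ne_one).1 hA'
      have hu1 : u ≠ 1 := fun e => hu1 (Subtype.ext e)
      obtain ⟨d, hd, hdu⟩ := hD u hu.2 hu1 t ht ht1
      refine ⟨d * wA, ?_⟩
      rw [mul_smul, ← hconj wA u hu.1 hu1, hdu]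
    · obtain ⟨w, -, -, hw⟩ := h.cover hX hc hD hB hB' hx hx1 ht ht1
      exact ⟨w, (hconj w _ hw hv).symm⟩

/-- In the disjoint case we get a tournament on `V \ {1}`. -/
theorem TI.tournament (hW : Odd (Nat.card W)) (h : TI W X T) (hX : X ≠ ⊥) (hT : T ≠ ⊥)
    (hc : IsCompl X T) (hD : Rot W X T) {w0 : W} (hw0 : w0 • X ≠ X) {a : V} (ha : a ∈ X)
    (ha1 : a ≠ 1) {w w' : W} (hne : w • a ≠ w' • a) : w • a ∈ w' • T ↔ w' • a ∉ w • T := by
  obtain ⟨h2, -, -⟩ := h.card_eq_two hW hX hT hc hD hw0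
  have hconj : ∀ (w : W) (u : V), u ∈ w • X → u ≠ 1 → u = w • a := by
    intro w u hu hu1
    rw [Subgroup.mem_pointwise_smul_iff_inv_smul_mem] at hu
    have h3 : w⁻¹ • u ≠ 1 := by
      intro e
      apply hu1
      rw [inv_smul_eq_iff, smul_one] at e
      exact e
    have h4 := eq_of_card_two h2 ha ha1 hu h3
    rw [inv_smul_eq_iff] at h4
    exact h4
  have hsm : ∀ w : W, w • a ≠ 1 := by
    intro w e
    apply ha1
    rw [← smul_one w, smul_left_cancel_iff] at e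
    exact e
  have hkey : ∀ w : W, w • X ⊓ T ≠ ⊥ ↔ w • a ∈ T := by
    intro w
    constructor
    · intro h3
      obtain ⟨⟨u, hu⟩, hu1⟩ := (Subgroup.ne_bot_iff_exists_ne_one).1 h3
      have hu1 : u ≠ 1 := fun e => hu1 (Subtype.ext e)
      rw [← hconj w u hu.1 hu1]
      exact hu.2
    · intro h3 h4
      apply hsm w
      rw [← Subgroup.mem_bot, ← h4]
      exact ⟨Subgroup.smul_mem_pointwise_smul _ _ _ ha, h3⟩
  -- the base case
  have hbase : ∀ w : W, w • a ≠ a → (w • a ∈ T ↔ a ∉ w • T) := by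
    intro w hwa
    have hw : w • X ≠ X := by
      intro e
      apply hwa
      have : w • a ∈ X := by
        rw [← e]; exact Subgroup.smul_mem_pointwise_smul _ _ _ ha
      exact eq_of_card_two h2 ha ha1 this (hsm w)
    rw [Subgroup.mem_pointwise_smul_iff_inv_smul_mem, ← hkey w, ← hkey w⁻¹, not_not]
    constructor
    · intro h3
      exact h.swap1 hW hX hD hw h3
    · intro h3
      have h4 := h.swap2 hW hX hc hD (inv_smul_ne hw) h3
      rw [inv_inv] at h4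
      exact h4
  have h3 := hbase (w'⁻¹ * w) (by
    intro e
    apply hne
    rw [mul_smul, inv_smul_eq_iff] at e
    exact e)
  rw [mul_smul, mul_smul, Subgroup.mem_pointwise_smul_iff_inv_smul_mem] at h3
  rw [Subgroup.mem_pointwise_smul_iff_inv_smul_mem, h3, inv_inv]

end FiniteV

end TI

section Eight

variable [Finite V]

omit [CommGroup V] in
theorem exists_notMem {A : Finset V} (h : A.card < Nat.card V) : ∃ v, v ∉ A := by
  classical
  have := Fintype.ofFinite V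
  by_contra h1
  push Not at h1
  have : A = Finset.univ := Finset.eq_univ_of_forall h1
  rw [this, Finset.card_univ, ← Nat.card_eq_fintype_card] at h
  exact lt_irrefl _ h

/-- A family of hyperplanes `F v`, `v ≠ 1`, with `u ∈ F v ↔ v ∉ F u` for `u ≠ v`, exists only
for `|V| ≤ 8`. -/
theorem card_le_eight (hV : ∀ v : V, v ^ 2 = 1) (F : V → Subgroup V)
    (hF : ∀ v, v ≠ 1 → (F v).index = 2)
    (htour : ∀ u v, u ≠ 1 → v ≠ 1 → u ≠ v → (u ∈ F v ↔ v ∉ F u)) : Nat.card V ≤ 8 := by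
  classical
  by_contra hlt
  push Not at hlt
  have hmm : ∀ v : V, v * v = 1 := fun v => by rw [← pow_two]; exact hV v
  have hinv : ∀ v : V, v⁻¹ = v := fun v => inv_eq_of_mul_eq_one_left (hmm v)
  obtain ⟨a, ha⟩ := exists_notMem (V := V) (A := {1}) (by
    simp only [Finset.card_singleton]; omega)
  obtain ⟨b, hb⟩ := exists_notMem (V := V) (A := {1, a})
    (lt_of_le_of_lt Finset.card_le_two (by omega))
  obtain ⟨x, hx⟩ := exists_notMem (V := V) (A := {1, a, b, a * b})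
    (lt_of_le_of_lt Finset.card_le_four (by omega))
  obtain ⟨y, hy⟩ := exists_notMem (V := V)
    (A := {1, a, b, a * b} ∪ {x, x * a, x * b, x * (a * b)})
    (lt_of_le_of_lt (Finset.card_union_le _ _)
      (lt_of_le_of_lt (add_le_add Finset.card_le_four Finset.card_le_four) (by omega)))
  simp only [Finset.mem_singleton, Finset.mem_insert, Finset.mem_union, not_or] at ha hb hx hy
  obtain ⟨hb1, hba⟩ := hb
  obtain ⟨hx1, hxa, hxb, hxc⟩ := hx
  obtain ⟨⟨hy1, hya, hyb, hyc⟩, hyx, hyxa, hyxb, hyxc⟩ := hy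
  have hc1 : a * b ≠ 1 := by
    intro e
    apply hba
    rw [eq_comm, ← hinv b, eq_inv_iff_mul_eq_one]
    exact e
  have key : ∀ z : V, z ≠ 1 → z ≠ a → z ≠ b → z ≠ a * b →
      (z ∈ F (a * b) ↔ ¬ (z ∈ F a ↔ z ∈ F b)) := by
    intro z hz1 hza hzb hzc
    have h1 := htour z (a * b) hz1 hc1 hzc
    have h2 := htour z a hz1 ha hza
    have h3 := htour z b hz1 hb1 hzb
    have h4 := Subgroup.mul_mem_iff_of_index_two (hF z hz1) (a := a) (b := b)
    tauto
  have hxy : ∀ z : V, x * y = z → y = x * z := by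
    intro z e
    rw [← e, ← mul_assoc, hmm, one_mul]
  have h1 := key x hx1 hxa hxb hxc
  have h2 := key y hy1 hya hyb hyc
  have h3 := key (x * y) (fun e => hyx (by rw [hxy _ e, mul_one])) (fun e => hyxa (hxy _ e))
    (fun e => hyxb (hxy _ e)) (fun e => hyxc (hxy _ e))
  have h4 := Subgroup.mul_mem_iff_of_index_two (hF a ha) (a := x) (b := y)
  have h5 := Subgroup.mul_mem_iff_of_index_two (hF b hb1) (a := x) (b := y)
  have h6 := Subgroup.mul_mem_iff_of_index_two (hF (a * b) hc1) (a := x) (b := y)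
  rw [h6, h1, h2, h4, h5] at h3
  clear h1 h2 h4 h5 h6 key
  by_cases p1 : x ∈ F a <;> by_cases p2 : x ∈ F b <;> by_cases p3 : y ∈ F a <;>
    by_cases p4 : y ∈ F b <;> simp [p1, p2, p3, p4] at h3

end Eight

section Main

variable [Finite V] {X T : Subgroup V}

omit [Finite V] in
/-- A homocyclic group with a proper elementary direct factor is elementary: if every
`W`-invariant elementary subgroup is trivial or contains all involutions, and `V = X × T` with
`T ≠ 1` elementary, then `V` is elementary. -/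
theorem elementary (h2 : IsPGroup 2 V)
    (hirr : ∀ Y : Subgroup V, (∀ y ∈ Y, y ^ 2 = 1) → (∀ w : W, w • Y = Y) →
      Y = ⊥ ∨ ∀ v : V, v ^ 2 = 1 → v ∈ Y)
    (hc : IsCompl X T) (hT : T ≠ ⊥) (hTe : ∀ t ∈ T, t ^ 2 = 1) (v : V) : v ^ 2 = 1 := by
  -- the subgroup of the squares of exponent 2
  let Y : Subgroup V :=
    { carrier := {v | v ^ 2 = 1 ∧ ∃ u : V, u ^ 2 = v}
      one_mem' := ⟨one_pow 2, 1, one_pow 2⟩
      mul_mem' := by
        rintro a b ⟨ha, u, hu⟩ ⟨hb, u', hu'⟩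
        exact ⟨by rw [mul_pow, ha, hb, one_mul], u * u', by rw [mul_pow, hu, hu']⟩
      inv_mem' := by
        rintro a ⟨ha, u, hu⟩
        exact ⟨by rw [inv_pow, ha, inv_one], u⁻¹, by rw [inv_pow, hu]⟩ }
  have hYe : ∀ y ∈ Y, y ^ 2 = 1 := fun y hy => hy.1
  have hYle : ∀ w : W, w • Y ≤ Y := by
    intro w y hy
    rw [Subgroup.mem_pointwise_smul_iff_inv_smul_mem] at hy
    obtain ⟨h1, u, hu⟩ := hy
    refine ⟨?_, w • u, ?_⟩
    · rw [← smul_pow', inv_smul_eq_iff, smul_one] at h1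
      exact h1
    · rw [← smul_pow', hu, smul_inv_smul]
  have hYw : ∀ w : W, w • Y = Y := by
    intro w
    refine le_antisymm (hYle w) ?_
    have := smul_le_smul (w := w) (hYle w⁻¹)
    rw [smul_inv_smul] at this
    exact this
  rcases hirr Y hYe hYw with h | h
  · -- no square of order two
    by_contra hv
    obtain ⟨k, hk⟩ := (IsPGroup.iff_orderOf.1 h2) v
    have hk2 : 2 ≤ k := by
      by_contra hlt
      apply hv
      rw [← orderOf_dvd_iff_pow_eq_one, hk]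
      calc 2 ^ k ∣ 2 ^ 1 := Nat.pow_dvd_pow 2 (by omega)
        _ = 2 := pow_one 2
    have h3 : v ^ 2 ^ (k - 1) ∈ Y := by
      refine ⟨?_, v ^ 2 ^ (k - 2), ?_⟩
      · rw [← pow_mul, ← pow_succ, show k - 1 + 1 = k by omega, ← hk, pow_orderOf_eq_one]
      · rw [← pow_mul, ← pow_succ, show k - 2 + 1 = k - 1 by omega]
    rw [h, Subgroup.mem_bot, ← orderOf_dvd_iff_pow_eq_one, hk] at h3
    have := (Nat.pow_dvd_pow_iff_le_right (by norm_num : 1 < 2)).1 h3
    omega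
  · exfalso
    obtain ⟨⟨t, ht⟩, ht1⟩ := (Subgroup.ne_bot_iff_exists_ne_one).1 hT
    have ht1 : t ≠ 1 := fun e => ht1 (Subtype.ext e)
    obtain ⟨-, u, hu⟩ := h t (hTe t ht)
    have hut : u ∈ X ⊔ T := by rw [hc.sup_eq_top]; trivial
    obtain ⟨x, hx, s, hs, rfl⟩ := Subgroup.mem_sup.1 hut
    rw [mul_pow, hTe s hs, mul_one] at hu
    apply ht1
    rw [← Subgroup.mem_bot, ← hc.inf_eq_bot]
    exact ⟨hu ▸ X.pow_mem hx 2, ht⟩

variable [Finite W]

/-- The disjoint case: `|V| = 8`. -/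
theorem TI.card_eight (hW : Odd (Nat.card W)) (hV : ∀ v : V, v ^ 2 = 1) (h : TI W X T)
    (hX : X ≠ ⊥) (hT : 4 ≤ Nat.card T) (hc : IsCompl X T) (hD : Rot W X T) {w0 : W}
    (hw0 : w0 • X ≠ X) : Nat.card V = 8 ∧ Nat.card T = 4 ∧ Nat.card X = 2 := by
  classical
  have hT' : T ≠ ⊥ := by
    rw [← Subgroup.one_lt_card_iff_ne_bot]
    omega
  obtain ⟨h2, -, -⟩ := h.card_eq_two hW hX hT' hc hD hw0
  obtain ⟨⟨a, ha⟩, ha1⟩ := (Subgroup.ne_bot_iff_exists_ne_one).1 hX
  have ha1 : a ≠ 1 := fun e => ha1 (Subtype.ext e)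
  have hcard := card_mul_eq hc
  rw [h2] at hcard
  have htr : ∀ v : V, ∃ w : W, v ≠ 1 → w • a = v := by
    intro v
    by_cases hv : v = 1
    · exact ⟨1, fun e => absurd hv e⟩
    · obtain ⟨w, hw⟩ := h.trans hW hX hT' hc hD hw0 ha ha1 hv
      exact ⟨w, fun _ => hw⟩
  choose c hcc using htr
  have h8 : Nat.card V ≤ 8 := by
    refine card_le_eight hV (fun v => c v • T) ?_ ?_
    · intro v _
      have h3 := Subgroup.card_mul_index (c v • T)
      rw [card_smul, ← hcard, mul_comm] at h3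
      exact Nat.eq_of_mul_eq_mul_right (by omega) h3
    · intro u v hu hv huv
      have h3 := h.tournament hW hX hT' hc hD hw0 ha ha1 (w := c u) (w' := c v)
        (by rw [hcc u hu, hcc v hv]; exact huv)
      rw [hcc u hu, hcc v hv] at h3
      exact h3
  exact ⟨by omega, by omega, h2⟩

/-- The fusion theorem for abelian Sylow 2-subgroups. -/
theorem dichotomy (hW : Odd (Nat.card W)) (hV : ∀ v : V, v ^ 2 = 1)
    (hirr : ∀ Y : Subgroup V, (∀ w : W, w • Y = Y) → Y = ⊥ ∨ Y = ⊤)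
    (hc : IsCompl X T) (hX : X ≠ ⊥) (hT : 4 ≤ Nat.card T) (hD : Rot W X T)
    (hbal : Bal W X T) :
    ((∀ w : W, (w • X = X ∧ w • T = T) ∨ (w • T ≤ X ∧ T ≤ w • X)) ∧
      ∃ w : W, w • T ≤ X ∧ T ≤ w • X) ∨
    (Nat.card V = 8 ∧ Nat.card T = 4 ∧ Nat.card X = 2 ∧ TI W X T ∧
      (∀ u v : V, u ≠ 1 → v ≠ 1 → ∃ w : W, w • u = v) ∧
      (∀ a ∈ X, a ≠ 1 → ∀ w w' : W, w • a ≠ w' • a →
        (w • a ∈ w' • T ↔ w' • a ∉ w • T))) := by
  have hT' : T ≠ ⊥ := by
    rw [← Subgroup.one_lt_card_iff_ne_bot]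
    omega
  by_cases hcomm : ∃ w : W, w • T ≤ X ∧ T ≤ w • X
  · left
    refine ⟨?_, hcomm⟩
    obtain ⟨w, h1, h2⟩ := hcomm
    exact prod_of_comm hW hc hT' hbal h1 h2
  · right
    have hTI : TI W X T := by
      intro w
      rcases hbal w with h | h | h
      · exact Or.inl h
      · exact absurd ⟨w, h⟩ hcomm
      · exact Or.inr h
    have hw0 : ∃ w0 : W, w0 • X ≠ X := by
      by_contra h
      push Not at h
      rcases hirr X h with h1 | h1
      · exact hX h1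
      · apply hT'
        rw [eq_bot_iff, ← hc.inf_eq_bot, h1]
        exact le_inf le_top le_rfl
    obtain ⟨w0, hw0⟩ := hw0
    obtain ⟨h8, h4, h2⟩ := hTI.card_eight hW hV hX hT hc hD hw0
    refine ⟨h8, h4, h2, hTI, ?_, ?_⟩
    · intro u v hu hv
      obtain ⟨⟨a, ha⟩, ha1⟩ := (Subgroup.ne_bot_iff_exists_ne_one).1 hX
      have ha1 : a ≠ 1 := fun e => ha1 (Subtype.ext e)
      obtain ⟨w, hw⟩ := hTI.trans hW hX hT' hc hD hw0 ha ha1 hu
      obtain ⟨w', hw'⟩ := hTI.trans hW hX hT' hc hD hw0 ha ha1 hv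
      exact ⟨w' * w⁻¹, by rw [mul_smul, ← hw, inv_smul_smul, hw']⟩
    · intro a ha ha1 w w' hne
      exact hTI.tournament hW hX hT' hc hD hw0 ha ha1 hne

end Main

section ProdCase

variable {X T : Subgroup V}

/-- Any two conjugates of `(X, T)` are equal or commute. -/
def ProdC (W : Type*) [Group W] [MulDistribMulAction W V] (X T : Subgroup V) : Prop :=
  ∀ w : W, (w • X = X ∧ w • T = T) ∨ (w • T ≤ X ∧ T ≤ w • X)

theorem ProdC.pair (h : ProdC W X T) (w w' : W) :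
    (w • X = w' • X ∧ w • T = w' • T) ∨ (w • T ≤ w' • X ∧ w' • T ≤ w • X) := by
  rcases h (w'⁻¹ * w) with h1 | h1
  · left
    rw [mul_smul, mul_smul, inv_smul_eq_iff, inv_smul_eq_iff] at h1
    exact h1
  · right
    rw [mul_smul, mul_smul] at h1
    have h2 := smul_le_smul (w := w') h1.1
    have h3 := smul_le_smul (w := w') h1.2
    rw [smul_inv_smul] at h2 h3
    exact ⟨h2, h3⟩

theorem smul_inf_eq_bot (hc : IsCompl X T) (w : W) : w • X ⊓ w • T = ⊥ := by
  rw [← smul_inf, hc.inf_eq_bot, smul_bot']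

theorem ProdC.le_of_ne (h : ProdC W X T) {w w' : W} (hne : w • T ≠ w' • T) :
    w • T ≤ w' • X := by
  rcases h.pair w w' with h1 | h1
  · exact absurd h1.2 hne
  · exact h1.1

theorem iSup_eq_top (hirr : ∀ Y : Subgroup V, (∀ w : W, w • Y = Y) → Y = ⊥ ∨ Y = ⊤)
    (hT : T ≠ ⊥) : ⨆ w : W, w • T = ⊤ := by
  have hle : ∀ w : W, w • (⨆ w : W, w • T) ≤ ⨆ w : W, w • T := by
    intro w
    rw [Subgroup.pointwise_smul_subset_iff]
    refine iSup_le fun w' => ?_
    rw [← Subgroup.pointwise_smul_subset_iff, ← mul_smul]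
    exact le_iSup (fun w : W => w • T) (w * w')
  have hinv : ∀ w : W, w • (⨆ w : W, w • T) = ⨆ w : W, w • T := by
    intro w
    refine le_antisymm (hle w) ?_
    have := smul_le_smul (w := w) (hle w⁻¹)
    rw [smul_inv_smul] at this
    exact this
  rcases hirr _ hinv with h | h
  · exfalso
    apply hT
    rw [eq_bot_iff, ← h]
    exact (le_of_eq (one_smul W T).symm).trans (le_iSup (fun w : W => w • T) 1)
  · exact h

theorem ProdC.X_eq (h : ProdC W X T) (hc : IsCompl X T)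
    (hirr : ∀ Y : Subgroup V, (∀ w : W, w • Y = Y) → Y = ⊥ ∨ Y = ⊤) (hT : T ≠ ⊥) :
    X = ⨆ w : {w : W // w • T ≠ T}, (w : W) • T := by
  have hZ : (⨆ w : {w : W // w • T ≠ T}, (w : W) • T) ≤ X := by
    refine iSup_le fun w => ?_
    have := h.le_of_ne (w := (w : W)) (w' := 1) (by rw [one_smul]; exact w.2)
    rwa [one_smul] at this
  have htop : (⨆ w : {w : W // w • T ≠ T}, (w : W) • T) ⊔ T = ⊤ := by
    rw [eq_top_iff, ← iSup_eq_top hirr hT]
    refine iSup_le fun w => ?_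
    by_cases hw : w • T = T
    · rw [hw]; exact le_sup_right
    · exact (le_iSup (fun w : {w : W // w • T ≠ T} => (w : W) • T) ⟨w, hw⟩).trans le_sup_left
  have h1 := sup_inf_assoc_of_le T hZ
  rw [htop, top_inf_eq, inf_comm, hc.inf_eq_bot, sup_bot_eq] at h1
  exact h1

theorem ProdC.indep (h : ProdC W X T) (hc : IsCompl X T) :
    iSupIndep (fun Y : MulAction.orbit W T => (Y : Subgroup V)) := by
  rintro ⟨_, ⟨w, rfl⟩⟩
  have h0 : Disjoint (w • T) (w • X) := by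
    rw [disjoint_iff, inf_comm]
    exact smul_inf_eq_bot hc w
  refine h0.mono_right ?_
  · refine iSup_le fun Y => iSup_le fun hY => ?_
    obtain ⟨_, ⟨w', rfl⟩⟩ := Y
    exact h.le_of_ne (fun e => hY (Subtype.ext e))

theorem orbit_odd (hW : Odd (Nat.card W)) (T : Subgroup V) :
    Odd (Nat.card (MulAction.orbit W T)) := by
  rw [Nat.card_coe_set_eq, ← MulAction.index_stabilizer]
  exact hW.of_dvd_nat (Subgroup.index_dvd_card _)

theorem ProdC.three_le [Finite V] (hW : Odd (Nat.card W)) (hc : IsCompl X T)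
    (hT : T ≠ ⊥) (hw : ∃ w : W, w • T ≤ X ∧ T ≤ w • X) :
    3 ≤ Nat.card (MulAction.orbit W T) := by
  obtain ⟨w, h1, -⟩ := hw
  have hne : w • T ≠ T := by
    intro e
    apply hT
    rw [eq_bot_iff, ← hc.inf_eq_bot]
    exact le_inf (e ▸ h1) le_rfl
  have : Finite (MulAction.orbit W T) := Finite.of_injective (fun Y => (Y : Subgroup V))
    Subtype.val_injective
  have h2 : 1 < Nat.card (MulAction.orbit W T) := by
    rw [Finite.one_lt_card_iff_nontrivial]
    exact ⟨⟨w • T, ⟨w, rfl⟩⟩, ⟨T, MulAction.mem_orbit_self T⟩, fun e => hne (congrArg Subtype.val e)⟩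
  obtain ⟨k, hk⟩ := orbit_odd hW T
  omega

end ProdCase

end Cfsg.Agent.Walter.Fusion
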