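import Mathlib
import Cfsg.Prelude.Def_Local
import Cfsg.Agent.Lib.Cores
import Cfsg.Agent.SignalizersComponents.Components
import Cfsg.Agent.SignalizersComponents.ComponentImage

/-!
# Pairs attached to the components of a group, abstract part

`f : A →* Y` is an injective homomorphism of a commutative 2-group into a finite group `Y`. For a component `K`
of `Y` we consider the pair `T = f⁻¹(K)`, `Q = f⁻¹(C_Y(K))`. We compare the pairs of `Y` with the pairs of
`C_Y(f u) / O(C_Y(f u))`.
-/

set_option autoImplicit false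

namespace Cfsg.Agent.Walter.PairsAbs

open Subgroup Cfsg
open Cfsg.Agent.SignalizersComponents.Components

/-- the part of `A` inside `K` -/
def TT {A Y : Type*} [Group A] [Group Y] (f : A →* Y) (K : Subgroup Y) : Subgroup A := K.comap f

/-- the part of `A` centralising `K` -/
def QQ {A Y : Type*} [Group A] [Group Y] (f : A →* Y) (K : Subgroup Y) : Subgroup A :=
  (centralizer (K : Set Y)).comap f

/-- the structure of `Y` needed: every component `K` is simple, `A` induces inner automorphisms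
(coming from `A ∩ K`) on `K`, and `A` is generated by `A ∩ O₂(Y)` and the `A ∩ K`. -/
structure Str {A Y : Type*} [Group A] [Group Y] (f : A →* Y) : Prop where
  inj : Function.Injective f
  simple : ∀ K : Subgroup Y, IsComponent K → IsSimpleGroup K
  split : ∀ K : Subgroup Y, IsComponent K → TT f K ⊔ QQ f K = ⊤
  ne_bot : ∀ K : Subgroup Y, IsComponent K → TT f K ≠ ⊥
  gen : (pCore 2 Y).comap f ⊔ ⨆ K : {K : Subgroup Y // IsComponent K}, TT f (K : Subgroup Y) = ⊤

section basic

variable {A Y : Type*} [CommGroup A] [Group Y]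

theorem mem_TT {f : A →* Y} {K : Subgroup Y} {a : A} : a ∈ TT f K ↔ f a ∈ K := Iff.rfl

theorem mem_QQ {f : A →* Y} {K : Subgroup Y} {a : A} :
    a ∈ QQ f K ↔ ∀ k ∈ K, k * f a = f a * k := by
  unfold QQ
  rw [mem_comap, mem_centralizer_iff]
  rfl

/-- the squeeze: complements between complements are equal -/
theorem squeeze {T T' Q Q' : Subgroup A} (h1 : T ≤ T') (h2 : Q ≤ Q') (h3 : T ⊔ Q = ⊤)
    (h4 : T' ⊓ Q' = ⊥) : T' = T ∧ Q' = Q := by
  constructor
  · refine le_antisymm ?_ h1
    intro t ht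
    obtain ⟨x, hx, y, hy, rfl⟩ := Subgroup.mem_sup.1 (h3 ▸ mem_top t : t ∈ T ⊔ Q)
    have h5 : y ∈ T' ⊓ Q' := by
      refine ⟨?_, h2 hy⟩
      have := T'.mul_mem (T'.inv_mem (h1 hx)) ht
      simpa using this
    rw [h4, mem_bot] at h5
    rw [h5, mul_one]
    exact hx
  · refine le_antisymm ?_ h2
    intro t ht
    obtain ⟨x, hx, y, hy, rfl⟩ := Subgroup.mem_sup.1 (h3 ▸ mem_top t : t ∈ T ⊔ Q)
    have h5 : x ∈ T' ⊓ Q' := by
      refine ⟨h1 hx, ?_⟩
      have := Q'.mul_mem ht (Q'.inv_mem (h2 hy))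
      simpa using this
    rw [h4, mem_bot] at h5
    rw [h5, one_mul]
    exact hy

omit [CommGroup A] in
theorem center_eq_bot_of_component {K : Subgroup Y} (hK : IsComponent K) [IsSimpleGroup K] :
    center K = ⊥ := by
  rcases (inferInstance : (center K).Normal).eq_bot_or_eq_top with h | h
  · exact h
  · exfalso
    apply Cfsg.Agent.SignalizersComponents.ComponentImage.commutator_ne_bot hK
    rw [commutator_eq_bot_iff_le_centralizer]
    intro x hx
    rw [mem_centralizer_iff]
    intro y hy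
    have h1 : (⟨x, hx⟩ : K) ∈ center K := h ▸ mem_top _
    exact congrArg Subtype.val (mem_center_iff.1 h1 ⟨y, hy⟩)

omit [CommGroup A] in
theorem inf_centralizer_eq_bot {K : Subgroup Y} (hK : IsComponent K) [IsSimpleGroup K] :
    K ⊓ centralizer (K : Set Y) = ⊥ := by
  rw [eq_bot_iff]
  rintro x ⟨hx, hx2⟩
  have h1 : (⟨x, hx⟩ : K) ∈ center K := by
    rw [mem_center_iff]
    intro y
    exact Subtype.ext ((mem_centralizer_iff.1 hx2) y y.2)
  rw [center_eq_bot_of_component hK, mem_bot] at h1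
  rw [mem_bot]
  exact congrArg Subtype.val h1

theorem TT_inf_QQ {f : A →* Y} (hf : Function.Injective f) {K : Subgroup Y} (hK : IsComponent K)
    [IsSimpleGroup K] : TT f K ⊓ QQ f K = ⊥ := by
  unfold TT QQ
  rw [← comap_inf, inf_centralizer_eq_bot hK]
  exact (MonoidHom.ker_eq_bot_iff f).2 hf

end basic

section centralizer

variable {A Y : Type*} [CommGroup A] [Group Y]

/-- the centralizer of `f u` -/
abbrev ZC (f : A →* Y) (u : A) : Subgroup Y := centralizer ({f u} : Set Y)

/-- the homomorphism `A → C_Y(f u)` -/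
def cen (f : A →* Y) (u : A) : A →* ZC f u :=
  f.codRestrict _ fun a => by
    rw [mem_centralizer_singleton_iff, ← map_mul, ← map_mul, mul_comm]

@[simp] theorem coe_cen (f : A →* Y) (u a : A) : (cen f u a : Y) = f a := rfl

/-- the homomorphism `A → C_Y(f u) / O(C_Y(f u))` -/
def cenq (f : A →* Y) (u : A) : A →* ZC f u ⧸ pPrimeCore 2 (ZC f u) :=
  (QuotientGroup.mk' _).comp (cen f u)

/-- the projection `C_Y(f u) → C_Y(f u) / O(C_Y(f u))` -/
abbrev pr (f : A →* Y) (u : A) : ZC f u →* ZC f u ⧸ pPrimeCore 2 (ZC f u) :=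
  QuotientGroup.mk' (pPrimeCore 2 (ZC f u))

theorem cenq_apply (f : A →* Y) (u a : A) : cenq f u a = pr f u (cen f u a) := rfl

/-- an element with an odd power equal to one in a 2-group is trivial -/
theorem eq_one_of_pow_odd (hA : IsPGroup 2 A) {a : A} {n : ℕ} (hn : ¬ 2 ∣ n)
    (h : a ^ n = 1) : a = 1 := by
  obtain ⟨k, hk⟩ := hA a
  have h1 : orderOf a ∣ n := orderOf_dvd_of_pow_eq_one h
  have h2 : orderOf a ∣ 2 ^ k := orderOf_dvd_of_pow_eq_one hk
  have h3 : Nat.Coprime n (2 ^ k) :=
    Nat.Coprime.pow_right _ ((Nat.Prime.coprime_iff_not_dvd Nat.prime_two).2 hn).symm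
  rw [← orderOf_eq_one_iff]
  exact Nat.eq_one_of_dvd_coprimes h3 h1 h2

/-- an element of the odd core has an odd power equal to one -/
theorem exists_odd_pow {Z : Type*} [Group Z] [Finite Z] {z : Z} (hz : z ∈ pPrimeCore 2 Z) :
    ∃ n : ℕ, ¬ 2 ∣ n ∧ z ^ n = 1 := by
  refine ⟨Nat.card (pPrimeCore 2 Z), ?_, ?_⟩
  · exact (Nat.Prime.coprime_iff_not_dvd Nat.prime_two).1 (Lib.Cores.pPrimeCore_coprime 2).symm
  · have := pow_card_eq_one' (x := (⟨z, hz⟩ : pPrimeCore 2 Z))
    exact congrArg Subtype.val this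

theorem cenq_injective [Finite Y] (hA : IsPGroup 2 A) {f : A →* Y} (hf : Function.Injective f)
    (u : A) : Function.Injective (cenq f u) := by
  rw [injective_iff_map_eq_one]
  intro a ha
  rw [cenq_apply, QuotientGroup.mk'_apply, QuotientGroup.eq_one_iff] at ha
  obtain ⟨n, hn, h1⟩ := exists_odd_pow ha
  refine eq_one_of_pow_odd hA hn ?_
  apply hf
  have := congrArg Subtype.val h1
  rw [map_pow, map_one]
  exact this

/-- **Down.** A component centralised by `u` gives a component of `C_Y(f u) / O(C_Y(f u))` with the same pair. -/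
theorem down [Finite Y] (hA : IsPGroup 2 A) {f : A →* Y} (hf : Str f) {K : Subgroup Y}
    (hK : IsComponent K) {u : A} (hu : u ∈ QQ f K) :
    ∃ K' : Subgroup (ZC f u ⧸ pPrimeCore 2 (ZC f u)),
      IsComponent K' ∧ IsSimpleGroup K' ∧ TT (cenq f u) K' = TT f K ∧ QQ (cenq f u) K' = QQ f K := by
  have hs := hf.simple K hK
  have hKZ : K ≤ ZC f u := by
    intro k hk
    rw [mem_centralizer_singleton_iff]
    exact mem_QQ.1 hu k hk
  have hcomp : IsComponent (K.subgroupOf (ZC f u)) := isComponent_subgroupOf hKZ hK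
  have hsZ : IsSimpleGroup (K.subgroupOf (ZC f u)) :=
    (MulEquiv.isSimpleGroup_congr (Subgroup.subgroupOfEquivOfLe hKZ)).2 hs
  -- `K` meets the core trivially
  have hinf : K.subgroupOf (ZC f u) ⊓ pPrimeCore 2 (ZC f u) = ⊥ := by
    have hn : ((pPrimeCore 2 (ZC f u)).subgroupOf (K.subgroupOf (ZC f u))).Normal := inferInstance
    rcases hn.eq_bot_or_eq_top with h | h
    · rw [subgroupOf_eq_bot] at h
      rw [inf_comm]
      exact h.eq_bot
    · exfalso
      rw [subgroupOf_eq_top] at h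
      apply hf.ne_bot K hK
      rw [eq_bot_iff]
      intro a ha
      have h1 : cen f u a ∈ K.subgroupOf (ZC f u) := mem_subgroupOf.2 ha
      obtain ⟨n, hn, h2⟩ := exists_odd_pow (h h1)
      rw [mem_bot]
      refine eq_one_of_pow_odd hA hn ?_
      apply hf.inj
      have := congrArg Subtype.val h2
      rw [map_pow, map_one]
      exact this
  have hinj : Function.Injective ((pr f u).subgroupMap (K.subgroupOf (ZC f u))) := by
    rw [injective_iff_map_eq_one]
    intro x hx
    have h1 : pr f u x = 1 := congrArg Subtype.val hx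
    rw [QuotientGroup.mk'_apply, QuotientGroup.eq_one_iff] at h1
    have h2 : (x : ZC f u) ∈ K.subgroupOf (ZC f u) ⊓ pPrimeCore 2 (ZC f u) := ⟨x.2, h1⟩
    rw [hinf, mem_bot] at h2
    exact Subtype.ext h2
  let e : K.subgroupOf (ZC f u) ≃* (K.subgroupOf (ZC f u)).map (pr f u) :=
    MulEquiv.ofBijective ((pr f u).subgroupMap (K.subgroupOf (ZC f u))) ⟨hinj, (pr f u).subgroupMap_surjective _⟩
  have hc' : IsComponent ((K.subgroupOf (ZC f u)).map (pr f u)) :=
    ⟨hcomp.1.map (QuotientGroup.mk'_surjective _), isQuasisimple_of_mulEquiv e hcomp.2⟩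
  have hs' : IsSimpleGroup ((K.subgroupOf (ZC f u)).map (pr f u)) := (MulEquiv.isSimpleGroup_congr e).1 hsZ
  refine ⟨(K.subgroupOf (ZC f u)).map (pr f u), hc', hs', ?_⟩
  refine squeeze ?_ ?_ (hf.split K hK) (TT_inf_QQ (cenq_injective hA hf.inj u) hc')
  · intro a ha
    exact mem_map_of_mem (pr f u) (mem_subgroupOf.2 ha : cen f u a ∈ K.subgroupOf (ZC f u))
  · intro a ha
    rw [mem_QQ] at ha ⊢
    rintro _ ⟨k, hk, rfl⟩
    rw [cenq_apply, ← map_mul, ← map_mul]
    congr 1
    exact Subtype.ext (ha k (mem_subgroupOf.1 hk))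

/-- **Up.** A component of `C_Y(f a) / O(C_Y(f a))` lies under a component of `Y`. -/
theorem up [Finite Y] (hA : IsPGroup 2 A) {f : A →* Y} (hf : Str f) {a : A}
    {K : Subgroup (ZC f a ⧸ pPrimeCore 2 (ZC f a))}
    (hK : IsComponent K) [IsSimpleGroup K] (hT : TT (cenq f a) K ≠ ⊥) :
    ∃ J : Subgroup Y, IsComponent J ∧ TT (cenq f a) K ≤ TT f J ∧
      (TT (cenq f a) K = TT f J → a ∈ QQ f J ∧ QQ (cenq f a) K = QQ f J) := by
  have hTQ := TT_inf_QQ (cenq_injective hA hf.inj a) hK
  -- some component `J` with `K ≤ π (J ∩ Z)`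
  obtain ⟨J, hJ, hKJ⟩ : ∃ J : Subgroup Y, IsComponent J ∧ K ≤ (J.subgroupOf (ZC f a)).map (pr f a) := by
    by_contra hcon
    push Not at hcon
    apply hT
    have h1 : QQ (cenq f a) K = ⊤ := by
      rw [eq_top_iff, ← hf.gen]
      refine sup_le ?_ (iSup_le ?_)
      · intro s hs
        have hn : (((pCore 2 Y).subgroupOf (ZC f a)).map (pr f a)).Normal :=
          Subgroup.Normal.map inferInstance (pr f a) (QuotientGroup.mk'_surjective _)
        have h2 : IsPGroup 2 (((pCore 2 Y).subgroupOf (ZC f a)).map (pr f a)) := by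
          refine IsPGroup.map ?_ (pr f a)
          exact (Lib.Cores.pCore_isPGroup (G := Y) 2).comap_of_injective _ (ZC f a).subtype_injective
        have h3 : ⁅K, ((pCore 2 Y).subgroupOf (ZC f a)).map (pr f a)⁆ = ⊥ := by
          refine component_commutator_solvable hK ?_ ?_
          · rw [normalizer_eq_top_iff.mpr hn]; exact le_top
          · have := h2.isNilpotent
            infer_instance
        rw [mem_QQ]
        intro k hk
        have h4 : cenq f a s ∈ ((pCore 2 Y).subgroupOf (ZC f a)).map (pr f a) :=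
          mem_map_of_mem (pr f a) (mem_subgroupOf.2 hs : cen f a s ∈ (pCore 2 Y).subgroupOf (ZC f a))
        rw [commutator_comm, commutator_eq_bot_iff_le_centralizer] at h3
        exact (mem_centralizer_iff.1 (h3 h4)) k hk
      · rintro ⟨J, hJ⟩ s hs
        have hsub : ((J.subgroupOf (ZC f a)).map (pr f a)).IsSubnormal :=
          (hJ.1.subgroupOf).map (QuotientGroup.mk'_surjective _)
        rcases component_le_or_commutator_eq_bot hK hsub with h | h
        · exact absurd h (hcon J hJ)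
        · rw [mem_QQ]
          intro k hk
          have h4 : cenq f a s ∈ (J.subgroupOf (ZC f a)).map (pr f a) :=
            mem_map_of_mem (pr f a) (mem_subgroupOf.2 hs : cen f a s ∈ J.subgroupOf (ZC f a))
          rw [commutator_comm, commutator_eq_bot_iff_le_centralizer] at h
          exact (mem_centralizer_iff.1 (h h4)) k hk
    rw [h1, inf_top_eq] at hTQ
    exact hTQ
  have hsJ := hf.simple J hJ
  have hQle : QQ f J ≤ QQ (cenq f a) K := by
    intro q hq
    rw [mem_QQ]
    intro k hk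
    obtain ⟨x, hx, rfl⟩ := hKJ hk
    rw [cenq_apply, ← map_mul, ← map_mul]
    congr 1
    exact Subtype.ext (mem_QQ.1 hq x (mem_subgroupOf.1 hx))
  have hTle : TT (cenq f a) K ≤ TT f J := by
    intro s hs
    obtain ⟨t, ht, q, hq, rfl⟩ :=
      Subgroup.mem_sup.1 ((hf.split J hJ) ▸ mem_top s : s ∈ TT f J ⊔ QQ f J)
    have h1 : cenq f a (t * q) ∈ (J.subgroupOf (ZC f a)).map (pr f a) := hKJ hs
    have h2 : cenq f a t ∈ (J.subgroupOf (ZC f a)).map (pr f a) :=
      mem_map_of_mem (pr f a) (mem_subgroupOf.2 ht : cen f a t ∈ J.subgroupOf (ZC f a))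
    have h3 : cenq f a q ∈ (J.subgroupOf (ZC f a)).map (pr f a) := by
      have := mul_mem (inv_mem h2) h1
      rwa [map_mul, inv_mul_cancel_left] at this
    obtain ⟨m, hm, hmq⟩ := h3
    have h4 : m⁻¹ * cen f a q ∈ pPrimeCore 2 (ZC f a) := by
      rw [cenq_apply] at hmq
      exact QuotientGroup.eq.1 hmq
    obtain ⟨n, hn, h5⟩ := exists_odd_pow h4
    have hcomm : Commute ((m : Y)⁻¹) (f q) := by
      have : (m : Y) * f q = f q * m := mem_QQ.1 hq m (mem_subgroupOf.1 hm)
      exact Commute.inv_left this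
    have h6 : ((m : Y)⁻¹ * f q) ^ n = 1 := congrArg Subtype.val h5
    rw [hcomm.mul_pow] at h6
    have h7 : f (q ^ n) ∈ J ⊓ centralizer (J : Set Y) := by
      constructor
      · rw [map_pow]
        have h8 : f q ^ n = (((m : Y)⁻¹) ^ n)⁻¹ := by
          rw [eq_inv_iff_mul_eq_one, (hcomm.pow_pow n n).eq.symm]
          exact h6
        rw [h8]
        exact J.inv_mem (J.pow_mem (J.inv_mem (mem_subgroupOf.1 hm)) n)
      · exact (QQ f J).pow_mem hq n
    rw [inf_centralizer_eq_bot hJ, mem_bot] at h7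
    have h8 : q ^ n = 1 := hf.inj (by rw [h7, map_one])
    have h9 : q = 1 := eq_one_of_pow_odd hA hn h8
    rw [h9, mul_one]
    exact ht
  refine ⟨J, hJ, hTle, ?_⟩
  intro hEq
  constructor
  · obtain ⟨t, ht, q, hq, htq⟩ :=
      Subgroup.mem_sup.1 ((hf.split J hJ) ▸ mem_top a : a ∈ TT f J ⊔ QQ f J)
    have h1 : a ∈ QQ (cenq f a) K := by
      rw [mem_QQ]
      intro k hk
      obtain ⟨x, hx, rfl⟩ := hKJ hk
      rw [cenq_apply, ← map_mul, ← map_mul]
      congr 1
      exact Subtype.ext (mem_centralizer_singleton_iff.1 x.2)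
    have h2 : t ∈ TT (cenq f a) K ⊓ QQ (cenq f a) K := by
      refine ⟨hEq ▸ ht, ?_⟩
      have h3 := (QQ (cenq f a) K).mul_mem h1 ((QQ (cenq f a) K).inv_mem (hQle hq))
      have h4 : t = a * q⁻¹ := by rw [← htq, mul_inv_cancel_right]
      exact Set.mem_of_eq_of_mem h4 h3
    rw [hTQ, mem_bot] at h2
    have h5 : a = q := by rw [← htq, h2, one_mul]
    exact Set.mem_of_eq_of_mem h5 hq
  · exact (squeeze (le_of_eq hEq.symm) hQle (hf.split J hJ) hTQ).2

end centralizer

end Cfsg.Agent.Walter.PairsAbs
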