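import Mathlib
import Cfsg.Prelude.Def_Local
import Cfsg.Agent.Lib.Cores
import Cfsg.Agent.PLocal.CoprimeLift
import Cfsg.Agent.Walter.PairsAbs

/-!
# Pairs attached to the components of centralizers of involutions

`A` is a commutative 2-subgroup of the finite group `G` such that the groups `C_G(b) / O(C_G(b))`, `b ∈ A`, have
the structure `PairsAbs.Str`. A pair `(T, Q)` of `b` is `T = A ∩ K`, `Q = C_A(K)` for a component `K` of
`C_G(b) / O(C_G(b))`.
-/

set_option autoImplicit false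

namespace Cfsg.Agent.Walter.PairsGroup

open Subgroup Cfsg
open Cfsg.Agent.SignalizersComponents.Components
open Cfsg.Agent.Walter.PairsAbs
open scoped IsMulCommutative Pointwise

section iso

/-- A surjective homomorphism with kernel of odd order induces an isomorphism modulo cores. -/
theorem exists_coreIso {H Z : Type*} [Group H] [Group Z] [Finite H] (φ : H →* Z)
    (hφ : Function.Surjective φ) (hker : ¬ 2 ∣ Nat.card φ.ker) :
    ∃ e : (H ⧸ pPrimeCore 2 H) ≃* (Z ⧸ pPrimeCore 2 Z),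
      ∀ x : H, e (QuotientGroup.mk' _ x) = QuotientGroup.mk' _ (φ x) := by
  have : Finite Z := Finite.of_surjective φ hφ
  have h1 : ((QuotientGroup.mk' (pPrimeCore 2 Z)).comp φ).ker = pPrimeCore 2 H := by
    rw [← MonoidHom.comap_ker, QuotientGroup.ker_mk']
    apply le_antisymm
    · refine Lib.Cores.le_pPrimeCore inferInstance ?_
      have h2 : Nat.card ((pPrimeCore 2 Z).comap φ) = Nat.card φ.ker * Nat.card (pPrimeCore 2 Z) := by
        have h3 := Subgroup.card_mul_index ((pPrimeCore 2 Z).comap φ)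
        rw [index_comap_of_surjective _ hφ] at h3
        have h4 := Subgroup.card_mul_index (pPrimeCore 2 Z)
        have h5 : Nat.card H = Nat.card φ.ker * Nat.card Z := by
          have h6 := Subgroup.card_mul_index φ.ker
          rw [Subgroup.index_ker, MonoidHom.range_eq_top.2 hφ, Nat.card_congr topEquiv.toEquiv] at h6
          exact h6.symm
        have h7 : 0 < (pPrimeCore 2 Z).index := Nat.pos_of_ne_zero index_ne_zero_of_finite
        apply Nat.eq_of_mul_eq_mul_right h7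
        rw [h3, h5, ← h4, mul_assoc]
      rw [h2]
      exact Nat.Coprime.mul_left ((Nat.Prime.coprime_iff_not_dvd Nat.prime_two).2 hker).symm
        (Lib.Cores.pPrimeCore_coprime 2)
    · rw [← map_le_iff_le_comap]
      refine Lib.Cores.le_pPrimeCore ((Lib.Cores.pPrimeCore_normal 2).map φ hφ) ?_
      exact (Lib.Cores.pPrimeCore_coprime (G := H) 2).coprime_dvd_left (card_map_dvd _ _)
  have hs : Function.Surjective ((QuotientGroup.mk' (pPrimeCore 2 Z)).comp φ) :=
    (QuotientGroup.mk'_surjective _).comp hφ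
  exact ⟨(QuotientGroup.quotientMulEquivOfEq h1.symm).trans
    (QuotientGroup.quotientKerEquivOfSurjective _ hs), fun x => rfl⟩

variable {A Y Y' : Type*} [CommGroup A] [Group Y] [Group Y']

theorem TT_equiv (e : Y ≃* Y') {f : A →* Y} {f' : A →* Y'} (h : ∀ a, e (f a) = f' a)
    (K : Subgroup Y) : TT f' (K.map e.toMonoidHom) = TT f K := by
  ext a
  rw [mem_TT, mem_TT, ← h a]
  constructor
  · rintro ⟨k, hk, hke⟩
    have : k = f a := e.injective hke
    rwa [← this]
  · intro hk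
    exact ⟨f a, hk, rfl⟩

theorem QQ_equiv (e : Y ≃* Y') {f : A →* Y} {f' : A →* Y'} (h : ∀ a, e (f a) = f' a)
    (K : Subgroup Y) : QQ f' (K.map e.toMonoidHom) = QQ f K := by
  ext a
  rw [mem_QQ, mem_QQ, ← h a]
  constructor
  · intro hk k hkK
    have h1 : e k * e (f a) = e (f a) * e k := hk (e k) ⟨k, hkK, rfl⟩
    rw [← map_mul, ← map_mul] at h1
    exact e.injective h1
  · rintro hk _ ⟨k, hkK, rfl⟩
    change e k * e (f a) = e (f a) * e k
    rw [← map_mul, ← map_mul, hk k hkK]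

end iso

variable {G : Type*} [Group G]

/-- `C_G(b) / O(C_G(b))` -/
abbrev CQ (b : G) : Type _ :=
  centralizer ({b} : Set G) ⧸ pPrimeCore 2 (centralizer ({b} : Set G))

section defs

variable (A : Subgroup G) [IsMulCommutative A]

theorem mem_centralizer_of_mem (a b : A) : (a : G) ∈ centralizer ({(b : G)} : Set G) := by
  rw [mem_centralizer_singleton_iff]
  exact congrArg Subtype.val (mul_comm a b)

/-- the map `A → C_G(b)` -/
def toC (b : A) : A →* centralizer ({(b : G)} : Set G) :=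
  A.subtype.codRestrict _ fun a => mem_centralizer_of_mem A a b

/-- the map `A → C_G(b) / O(C_G(b))` -/
def toCQ (b : A) : A →* CQ (b : G) := (QuotientGroup.mk' _).comp (toC A b)

theorem toCQ_apply (b a : A) : toCQ A b a = QuotientGroup.mk' _ (toC A b a) := rfl

@[simp] theorem coe_toC (b a : A) : (toC A b a : G) = a := rfl

/-- `(T, Q)` is the pair of a component of `C_G(b) / O(C_G(b))`. -/
def IsPair (b : A) (T Q : Subgroup A) : Prop :=
  ∃ K : Subgroup (CQ (b : G)), IsComponent K ∧ TT (toCQ A b) K = T ∧ QQ (toCQ A b) K = Q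

end defs

variable [Finite G] {A : Subgroup G} [IsMulCommutative A]

/-- the isomorphism between `C_G(⟨a, u⟩)` and the centralizer of `u` in `C_G(a) / O(C_G(a))`, modulo cores -/
theorem exists_iso (hA : IsPGroup 2 A) (a u : A) (D : Subgroup G)
    (hD : ∀ x, x ∈ D ↔ x ∈ centralizer ({(a : G)} : Set G) ∧ x ∈ centralizer ({(u : G)} : Set G))
    (g : A →* D) (hg : ∀ s, (g s : G) = s) :
    ∃ e : (D ⧸ pPrimeCore 2 D) ≃* (ZC (toCQ A a) u ⧸ pPrimeCore 2 (ZC (toCQ A a) u)),
      ∀ s, e (QuotientGroup.mk' _ (g s)) = cenq (toCQ A a) u s := by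
  let C : Subgroup G := centralizer ({(a : G)} : Set G)
  have hDC : D ≤ C := fun x hx => ((hD x).1 hx).1
  let φ : D →* ZC (toCQ A a) u :=
    ((QuotientGroup.mk' (pPrimeCore 2 C)).comp (inclusion hDC)).codRestrict _ (by
      intro x
      rw [mem_centralizer_singleton_iff]
      change QuotientGroup.mk' _ _ * QuotientGroup.mk' _ _ = QuotientGroup.mk' _ _ * QuotientGroup.mk' _ _
      rw [← map_mul, ← map_mul]
      congr 1
      apply Subtype.ext
      exact mem_centralizer_singleton_iff.1 ((hD x).1 x.2).2)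
  have hφ : ∀ x : D, ((φ x : ZC (toCQ A a) u) : CQ (a : G)) =
    QuotientGroup.mk' (pPrimeCore 2 C) (inclusion hDC x) := fun x => rfl
  have hodd : (Nat.card (pPrimeCore 2 C)).Coprime 2 := Lib.Cores.pPrimeCore_coprime 2
  have hsurj : Function.Surjective φ := by
    rintro ⟨y, hy⟩
    obtain ⟨y, rfl⟩ := QuotientGroup.mk'_surjective _ y
    have h2 : Fact (Nat.Prime 2) := ⟨Nat.prime_two⟩
    have hP : IsPGroup 2 (zpowers (toC A a u)) := by
      have h3 : IsPGroup 2 (zpowers u) := hA.to_subgroup _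
      have h4 := h3.map (toC A a)
      rwa [MonoidHom.map_zpowers] at h4
    have hcomm : QuotientGroup.mk' (pPrimeCore 2 C) (toC A a u) * QuotientGroup.mk' (pPrimeCore 2 C) y =
        QuotientGroup.mk' (pPrimeCore 2 C) y * QuotientGroup.mk' (pPrimeCore 2 C) (toC A a u) :=
      (mem_centralizer_singleton_iff.1 hy).symm
    obtain ⟨m, hm, hmy⟩ := PLocal.CoprimeLift.exists_commuting_lift (pPrimeCore 2 C)
      (zpowers (toC A a u)) hodd hP y (by
        intro x hx
        rw [← QuotientGroup.ker_mk' (pPrimeCore 2 C), MonoidHom.mem_ker]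
        obtain ⟨k, rfl⟩ := mem_zpowers_iff.1 hx
        have h5 : Commute (QuotientGroup.mk' (pPrimeCore 2 C) (toC A a u) ^ k)
            (QuotientGroup.mk' (pPrimeCore 2 C) y) := Commute.zpow_left hcomm k
        simp only [map_mul, map_inv, map_zpow]
        rw [h5.eq]
        group)
    have h6 : ((m * y : C) : G) ∈ D := by
      rw [hD]
      refine ⟨(m * y).2, ?_⟩
      rw [mem_centralizer_singleton_iff]
      exact (congrArg Subtype.val (hmy _ (mem_zpowers _))).symm
    refine ⟨⟨_, h6⟩, ?_⟩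
    apply Subtype.ext
    rw [hφ]
    change QuotientGroup.mk' (pPrimeCore 2 C) (m * y) = _
    rw [map_mul, show QuotientGroup.mk' (pPrimeCore 2 C) m = 1 from (QuotientGroup.eq_one_iff m).2 hm,
      one_mul]
  have hker : ¬ 2 ∣ Nat.card φ.ker := by
    have h1 : φ.ker.map (inclusion hDC) ≤ pPrimeCore 2 C := by
      rintro _ ⟨x, hx, rfl⟩
      have h2 : (φ x : CQ (a : G)) = 1 := congrArg Subtype.val (MonoidHom.mem_ker.1 hx)
      rw [hφ] at h2
      exact (QuotientGroup.eq_one_iff _).1 h2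
    have h3 : Nat.card (φ.ker.map (inclusion hDC)) = Nat.card φ.ker :=
      Subgroup.card_map_of_injective (inclusion_injective hDC)
    have h4 := card_dvd_of_le h1
    rw [h3] at h4
    intro h5
    exact (Nat.Prime.coprime_iff_not_dvd Nat.prime_two).1 hodd.symm (h5.trans h4)
  obtain ⟨e, he⟩ := exists_coreIso φ hsurj hker
  refine ⟨e, fun s => ?_⟩
  rw [he, cenq_apply]
  congr 1
  apply Subtype.ext
  rw [hφ, coe_cen, toCQ_apply]
  congr 1
  exact Subtype.ext (hg s)

/-- **Persistence.** A pair with `T` of maximal order is a pair of every non-identity element of `Q`. -/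
theorem persist (hA : IsPGroup 2 A) (hStr : ∀ b : A, b ≠ 1 → Str (toCQ A b)) {a : A} (ha : a ≠ 1)
    {T Q : Subgroup A} (h : IsPair A a T Q)
    (hmax : ∀ (b : A) (T' Q' : Subgroup A), b ≠ 1 → IsPair A b T' Q' → Nat.card T' ≤ Nat.card T)
    {u : A} (hu : u ∈ Q) (hu1 : u ≠ 1) : IsPair A u T Q := by
  obtain ⟨K, hK, rfl, rfl⟩ := h
  obtain ⟨K1, hK1, hs1, hT1, hQ1⟩ := down hA (hStr a ha) hK hu
  let D : Subgroup G := centralizer ({(a : G)} : Set G) ⊓ centralizer ({(u : G)} : Set G)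
  let g : A →* D := A.subtype.codRestrict D fun s =>
    ⟨mem_centralizer_of_mem A s a, mem_centralizer_of_mem A s u⟩
  obtain ⟨e1, he1⟩ := exists_iso hA a u D (fun x => Iff.rfl) g (fun s => rfl)
  obtain ⟨e2, he2⟩ := exists_iso hA u a D (fun x => and_comm) g (fun s => rfl)
  let e := e1.symm.trans e2
  have he : ∀ s, e (cenq (toCQ A a) u s) = cenq (toCQ A u) a s := by
    intro s
    change e2 (e1.symm (cenq (toCQ A a) u s)) = _
    rw [← he1 s, e1.symm_apply_apply, he2 s]
  have hK2 := isComponent_map_equiv e hK1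
  have hs2 : IsSimpleGroup (K1.map e.toMonoidHom) :=
    (MulEquiv.isSimpleGroup_congr (e.subgroupMap K1)).1 hs1
  have hT2 := TT_equiv e he K1
  have hQ2 := QQ_equiv e he K1
  obtain ⟨J, hJ, hle, hcon⟩ := up hA (hStr u hu1) hK2 (by
    rw [hT2, hT1]; exact (hStr a ha).ne_bot K hK)
  rw [hT2, hT1] at hle hcon
  have h1 := hmax u _ _ hu1 ⟨J, hJ, rfl, rfl⟩
  have hfin : Finite (TT (toCQ A u) J) := inferInstance
  have h2 : TT (toCQ A a) K = TT (toCQ A u) J := eq_of_le_of_card_ge hle h1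
  obtain ⟨-, h4⟩ := hcon h2
  rw [hQ2, hQ1] at h4
  exact ⟨J, hJ, h2.symm, h4.symm⟩

/-- **Trichotomy** (L-balance for maximal pairs). -/
theorem trichotomy (hA : IsPGroup 2 A) (hStr : ∀ b : A, b ≠ 1 → Str (toCQ A b))
    {a a' : A} (ha : a ≠ 1) (ha' : a' ≠ 1)
    {T Q T' Q' : Subgroup A} (h : IsPair A a T Q) (h' : IsPair A a' T' Q')
    (hmax : ∀ (b : A) (T'' Q'' : Subgroup A), b ≠ 1 → IsPair A b T'' Q'' → Nat.card T'' ≤ Nat.card T)
    (hmax' : ∀ (b : A) (T'' Q'' : Subgroup A), b ≠ 1 → IsPair A b T'' Q'' →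
      Nat.card T'' ≤ Nat.card T') :
    (T' = T ∧ Q' = Q) ∨ (T' ≤ Q ∧ T ≤ Q') ∨ Q ⊓ Q' = ⊥ := by
  by_cases hQ : Q ⊓ Q' = ⊥
  · exact Or.inr (Or.inr hQ)
  rw [← Ne, ne_bot_iff_exists_ne_one] at hQ
  obtain ⟨⟨u, hu⟩, hu1⟩ := hQ
  have hu1' : u ≠ 1 := fun hh => hu1 (Subtype.ext hh)
  obtain ⟨J, hJ, rfl, rfl⟩ := persist hA hStr ha h hmax hu.1 hu1'
  obtain ⟨J', hJ', rfl, rfl⟩ := persist hA hStr ha' h' hmax' hu.2 hu1'
  by_cases hne : J' = J
  · exact Or.inl ⟨by rw [hne], by rw [hne]⟩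
  · refine Or.inr (Or.inl ⟨?_, ?_⟩)
    · exact comap_mono (component_le_centralizer_of_ne hJ' hJ hne)
    · exact comap_mono (component_le_centralizer_of_ne hJ hJ' (Ne.symm hne))

omit [Finite G] in
/-- Conjugation: `N_G(A)` permutes the pairs. -/
theorem IsPair.smul {a : A} {T Q : Subgroup A} (h : IsPair A a T Q) (w : MulAut A) {n : G}
    (hn : ∀ s : A, ((w s : A) : G) = n * s * n⁻¹) : IsPair A (w a) (w • T) (w • Q) := by
  obtain ⟨K, hK, rfl, rfl⟩ := h
  have hc : (centralizer ({(a : G)} : Set G)).map (MulAut.conj n).toMonoidHom =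
      centralizer ({((w a : A) : G)} : Set G) := by
    rw [hn]
    ext x
    rw [mem_centralizer_singleton_iff]
    constructor
    · rintro ⟨y, hy, rfl⟩
      have hy' := mem_centralizer_singleton_iff.1 hy
      change n * y * n⁻¹ * (n * a * n⁻¹) = n * a * n⁻¹ * (n * y * n⁻¹)
      calc n * y * n⁻¹ * (n * a * n⁻¹) = n * (y * a) * n⁻¹ := by group
        _ = n * (a * y) * n⁻¹ := by rw [hy']
        _ = n * a * n⁻¹ * (n * y * n⁻¹) := by group
    · intro hx
      refine ⟨n⁻¹ * x * n, ?_, ?_⟩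
      · rw [SetLike.mem_coe, mem_centralizer_singleton_iff]
        calc n⁻¹ * x * n * a = n⁻¹ * (x * (n * a * n⁻¹)) * n := by group
          _ = n⁻¹ * (n * a * n⁻¹ * x) * n := by rw [hx]
          _ = a * (n⁻¹ * x * n) := by group
      · change n * (n⁻¹ * x * n) * n⁻¹ = x
        group
  let e0 : centralizer ({(a : G)} : Set G) ≃* centralizer ({((w a : A) : G)} : Set G) :=
    ((MulAut.conj n).subgroupMap _).trans (MulEquiv.subgroupCongr hc)
  have he0 : ∀ x, ((e0 x : centralizer ({((w a : A) : G)} : Set G)) : G) = n * x * n⁻¹ := fun x => rfl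
  let e : CQ (a : G) ≃* CQ ((w a : A) : G) :=
    QuotientGroup.congr _ _ e0 (Lib.Cores.map_equiv_pPrimeCore e0 2)
  have he : ∀ s : A, e (toCQ A a s) = toCQ A (w a) (w s) := by
    intro s
    change QuotientGroup.mk' _ (e0 (toC A a s)) = QuotientGroup.mk' _ (toC A (w a) (w s))
    congr 1
    apply Subtype.ext
    rw [he0, coe_toC, coe_toC, hn]
  refine ⟨K.map e.toMonoidHom, isComponent_map_equiv e hK, ?_, ?_⟩
  · have h1 := TT_equiv (A := A) e (f := toCQ A a) (f' := (toCQ A (w a)).comp w.toMonoidHom) he K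
    ext s
    have h2 : s ∈ TT (toCQ A (w a)) (K.map e.toMonoidHom) ↔
        w⁻¹ s ∈ TT ((toCQ A (w a)).comp w.toMonoidHom) (K.map e.toMonoidHom) := by
      rw [mem_TT, mem_TT]
      change _ ↔ toCQ A (w a) (w (w⁻¹ s)) ∈ _
      rw [MulAut.apply_inv_self]
    rw [h2, h1, mem_pointwise_smul_iff_inv_smul_mem]
    rfl
  · have h1 := QQ_equiv (A := A) e (f := toCQ A a) (f' := (toCQ A (w a)).comp w.toMonoidHom) he K
    ext s
    have h2 : s ∈ QQ (toCQ A (w a)) (K.map e.toMonoidHom) ↔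
        w⁻¹ s ∈ QQ ((toCQ A (w a)).comp w.toMonoidHom) (K.map e.toMonoidHom) := by
      rw [mem_QQ, mem_QQ]
      change _ ↔ ∀ k ∈ _, k * toCQ A (w a) (w (w⁻¹ s)) = toCQ A (w a) (w (w⁻¹ s)) * k
      rw [MulAut.apply_inv_self]
    rw [h2, h1, mem_pointwise_smul_iff_inv_smul_mem]
    rfl

end Cfsg.Agent.Walter.PairsGroup
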