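import Mathlib
import Cfsg.Prelude.Def_Local
import Cfsg.Agent.Lib.Cores
import Cfsg.Agent.Walter.AbStruct
import Cfsg.Agent.Walter.Fusion
import Cfsg.Agent.Walter.PairsGroup

/-!
# Pairs for an abelian Sylow 2-subgroup

For an abelian Sylow 2-subgroup `S` of `G` the groups `C_G(b) / O(C_G(b))`, `b ∈ S`, have the structure
`PairsAbs.Str`; the rotations of a component lift to `N_G(S)`.
-/

set_option autoImplicit false

namespace Cfsg.Agent.Walter.PairsStr

open Subgroup Cfsg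
open Cfsg.Agent.SignalizersComponents.Components
open Cfsg.Agent.Walter.PairsAbs Cfsg.Agent.Walter.PairsGroup
open scoped IsMulCommutative Pointwise

variable {G : Type*} [Group G] [Finite G] (S : Sylow 2 G) [IsMulCommutative (S : Subgroup G)]

/-- the image of `S` is a Sylow subgroup of `C_G(b) / O(C_G(b))` -/
theorem exists_sylow (b : (S : Subgroup G)) :
    ∃ P : Sylow 2 (CQ (b : G)), (P : Subgroup (CQ (b : G))) = (toCQ (S : Subgroup G) b).range := by
  have hle : (S : Subgroup G) ≤ centralizer ({(b : G)} : Set G) := fun s hs =>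
    mem_centralizer_of_mem (S : Subgroup G) ⟨s, hs⟩ b
  refine ⟨(S.subtype hle).mapSurjective (QuotientGroup.mk'_surjective
    (pPrimeCore 2 (centralizer ({(b : G)} : Set G)))), ?_⟩
  rw [Sylow.coe_mapSurjective, Sylow.coe_subtype]
  ext x
  constructor
  · rintro ⟨y, hy, rfl⟩
    exact ⟨⟨y, mem_subgroupOf.1 hy⟩, rfl⟩
  · rintro ⟨s, rfl⟩
    exact ⟨toC (S : Subgroup G) b s, mem_subgroupOf.2 s.2, rfl⟩

theorem toCQ_injective (b : (S : Subgroup G)) : Function.Injective (toCQ (S : Subgroup G) b) := by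
  rw [injective_iff_map_eq_one]
  intro a ha
  rw [toCQ_apply, QuotientGroup.mk'_apply, QuotientGroup.eq_one_iff] at ha
  obtain ⟨n, hn, h1⟩ := exists_odd_pow ha
  refine eq_one_of_pow_odd S.2 hn ?_
  apply Subtype.ext
  have := congrArg Subtype.val h1
  simpa using this

theorem core_eq_bot (b : G) : pPrimeCore 2 (CQ b) = ⊥ := Lib.Cores.pPrimeCore_quotient_pPrimeCore 2

omit [Finite G] in
theorem range_comm (b : (S : Subgroup G)) {P : Sylow 2 (CQ (b : G))}
    (hP : (P : Subgroup (CQ (b : G))) = (toCQ (S : Subgroup G) b).range) :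
    ∀ x ∈ (P : Subgroup (CQ (b : G))), ∀ y ∈ (P : Subgroup (CQ (b : G))), x * y = y * x := by
  rw [hP]
  rintro _ ⟨s, rfl⟩ _ ⟨t, rfl⟩
  rw [← map_mul, ← map_mul, mul_comm]

/-- The structure of `C_G(b) / O(C_G(b))`. -/
theorem str (b : (S : Subgroup G)) : Str (toCQ (S : Subgroup G) b) := by
  obtain ⟨P, hP⟩ := exists_sylow S b
  have hO := core_eq_bot (b : G)
  have hcomm := range_comm S b hP
  have hinj := toCQ_injective S b
  refine ⟨hinj, fun K hK => AbStruct.isSimpleGroup hO hcomm hK, ?_, ?_, ?_⟩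
  · intro K hK
    rw [eq_top_iff]
    intro s _
    have hs : toCQ (S : Subgroup G) b s ∈ (P : Subgroup (CQ (b : G))) := by
      rw [hP]; exact ⟨s, rfl⟩
    obtain ⟨k, hk, c, hc, hkc⟩ := AbStruct.exists_inner hO hcomm hK hs
    rw [mem_inf, hP] at hk hc
    obtain ⟨⟨t, rfl⟩, ht⟩ := hk
    obtain ⟨⟨q, rfl⟩, hq⟩ := hc
    rw [← map_mul] at hkc
    rw [hinj hkc]
    exact Subgroup.mul_mem_sup ht hq
  · intro K hK h
    apply AbStruct.inf_ne_bot hO P hK
    rw [eq_bot_iff]
    rintro x ⟨hx1, hx2⟩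
    rw [SetLike.mem_coe, hP] at hx1
    obtain ⟨s, rfl⟩ := hx1
    have h1 : s ∈ TT (toCQ (S : Subgroup G) b) K := hx2
    rw [h, mem_bot] at h1
    rw [h1, map_one]
    exact one_mem _
  · have h1 := AbStruct.sylow_eq hO hcomm
    rw [eq_top_iff]
    have h2 : (toCQ (S : Subgroup G) b).range ≤
        ((pCore 2 (CQ (b : G))).comap (toCQ (S : Subgroup G) b) ⊔
          ⨆ K : {K : Subgroup (CQ (b : G)) // IsComponent K},
            TT (toCQ (S : Subgroup G) b) (K : Subgroup (CQ (b : G)))).map (toCQ (S : Subgroup G) b) := by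
      rw [← hP, h1, Subgroup.map_sup, Subgroup.map_iSup]
      refine sup_le_sup ?_ (iSup_mono fun K => ?_)
      · intro x hx
        have h3 : x ∈ (toCQ (S : Subgroup G) b).range := by
          rw [← hP]; exact Lib.Cores.pCore_le_sylow P hx
        obtain ⟨s, rfl⟩ := h3
        exact ⟨s, hx, rfl⟩
      · rintro x ⟨hx1, hx2⟩
        rw [SetLike.mem_coe, hP] at hx1
        obtain ⟨s, rfl⟩ := hx1
        exact ⟨s, hx2, rfl⟩
    intro s _
    obtain ⟨t, ht, hts⟩ := h2 ⟨s, rfl⟩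
    rwa [hinj hts] at ht

omit [Finite G] in
/-- `C_G(b)` centralises `b`: `b ∈ Q` for every pair of `b`. -/
theorem IsPair.self_mem {A : Subgroup G} [IsMulCommutative A] {b : A} {T Q : Subgroup A}
    (h : IsPair A b T Q) : b ∈ Q := by
  obtain ⟨K, hK, rfl, rfl⟩ := h
  rw [mem_QQ]
  intro k _
  obtain ⟨x, rfl⟩ := QuotientGroup.mk'_surjective _ k
  rw [toCQ_apply, ← map_mul, ← map_mul]
  congr 1
  exact Subtype.ext (mem_centralizer_singleton_iff.1 x.2)

theorem IsPair.isCompl {b : (S : Subgroup G)} {T Q : Subgroup (S : Subgroup G)}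
    (h : IsPair (S : Subgroup G) b T Q) : IsCompl Q T := by
  obtain ⟨K, hK, rfl, rfl⟩ := h
  have hs := (str S b).simple K hK
  rw [isCompl_iff, disjoint_iff, codisjoint_iff, inf_comm, sup_comm]
  exact ⟨TT_inf_QQ (str S b).inj hK, (str S b).split K hK⟩

/-- the automorphisms of `S` induced by `N_G(S)` -/
abbrev W : Subgroup (MulAut (S : Subgroup G)) := (S : Subgroup G).normalizerMonoidHom.range

/-- an element of `K` normalising `S ∩ K` lifts to an element of `C_G(b) ∩ N_G(S)` -/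
theorem exists_lift {b : (S : Subgroup G)} {K : Subgroup (CQ (b : G))} (hK : IsComponent K)
    {n : CQ (b : G)} (hn : n ∈ K)
    (hnorm : ∀ s ∈ TT (toCQ (S : Subgroup G) b) K, n * toCQ (S : Subgroup G) b s * n⁻¹ ∈
      (toCQ (S : Subgroup G) b).range) :
    ∃ w : W S, ∀ s : (S : Subgroup G),
      toCQ (S : Subgroup G) b (w • s) = n * toCQ (S : Subgroup G) b s * n⁻¹ := by
  have hf := str S b
  set f := toCQ (S : Subgroup G) b with hfdef
  have hQn : ∀ q ∈ QQ f K, n * f q * n⁻¹ = f q := by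
    intro q hq
    rw [mem_QQ] at hq
    rw [hq n hn]
    group
  have hall : ∀ s, n * f s * n⁻¹ ∈ f.range := by
    intro s
    obtain ⟨t, ht, q, hq, rfl⟩ := Subgroup.mem_sup.1 ((hf.split K hK) ▸ mem_top s : s ∈ TT f K ⊔ QQ f K)
    rw [map_mul, show n * (f t * f q) * n⁻¹ = (n * f t * n⁻¹) * (n * f q * n⁻¹) by group, hQn q hq]
    exact mul_mem (hnorm t ht) ⟨q, rfl⟩
  obtain ⟨g, rfl⟩ := QuotientGroup.mk'_surjective (pPrimeCore 2 (centralizer ({(b : G)} : Set G))) n
  have h2 : Fact (Nat.Prime 2) := ⟨Nat.prime_two⟩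
  have hle : (S : Subgroup G) ≤ centralizer ({(b : G)} : Set G) := fun s hs =>
    mem_centralizer_of_mem (S : Subgroup G) ⟨s, hs⟩ b
  obtain ⟨m, hm, hmg⟩ := PLocal.CoprimeLift.exists_normalizing_lift
    (pPrimeCore 2 (centralizer ({(b : G)} : Set G)))
    ((S : Subgroup G).subgroupOf (centralizer ({(b : G)} : Set G)))
    (Lib.Cores.pPrimeCore_coprime 2) (S.2.comap_subtype) g (by
      intro x hx
      obtain ⟨t, ht⟩ := hall ⟨x, mem_subgroupOf.1 hx⟩
      have h3 : QuotientGroup.mk' (pPrimeCore 2 (centralizer ({(b : G)} : Set G)))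
          (toC (S : Subgroup G) b t) = QuotientGroup.mk' _ (g * x * g⁻¹) := by
        change f t = _
        rw [ht]
        rfl
      have h4 : (toC (S : Subgroup G) b t)⁻¹ * (g * x * g⁻¹) ∈
          pPrimeCore 2 (centralizer ({(b : G)} : Set G)) := QuotientGroup.eq.1 h3
      have h5 : g * x * g⁻¹ = toC (S : Subgroup G) b t *
          ((toC (S : Subgroup G) b t)⁻¹ * (g * x * g⁻¹)) := by group
      rw [h5]
      exact Subgroup.mul_mem_sup (mem_subgroupOf.2 t.2) h4)
  have hN : ((m * g : centralizer ({(b : G)} : Set G)) : G) ∈ normalizer ((S : Subgroup G) : Set G) := by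
    have h6 : ∀ x : G, x ∈ (S : Subgroup G) →
        ((m * g : centralizer ({(b : G)} : Set G)) : G) * x *
          ((m * g : centralizer ({(b : G)} : Set G)) : G)⁻¹ ∈ (S : Subgroup G) := by
      intro x hx
      have h7 : (⟨x, hle hx⟩ : centralizer ({(b : G)} : Set G)) ∈
          (S : Subgroup G).subgroupOf (centralizer ({(b : G)} : Set G)) := mem_subgroupOf.2 hx
      exact mem_subgroupOf.1 ((mem_normalizer_iff.1 hmg _).1 h7)
    exact mem_normalizer_fintype (fun x hx => h6 x hx)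
  refine ⟨⟨(S : Subgroup G).normalizerMonoidHom ⟨_, hN⟩, ⟨_, rfl⟩⟩, ?_⟩
  intro s
  change QuotientGroup.mk' (pPrimeCore 2 (centralizer ({(b : G)} : Set G))) _ =
    QuotientGroup.mk' (pPrimeCore 2 (centralizer ({(b : G)} : Set G))) g *
      QuotientGroup.mk' (pPrimeCore 2 (centralizer ({(b : G)} : Set G))) (toC (S : Subgroup G) b s) *
      (QuotientGroup.mk' (pPrimeCore 2 (centralizer ({(b : G)} : Set G))) g)⁻¹
  have h8 : toC (S : Subgroup G) b (((⟨(S : Subgroup G).normalizerMonoidHom ⟨_, hN⟩, ⟨_, rfl⟩⟩ : W S)) • s) =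
      (m * g) * toC (S : Subgroup G) b s * (m * g)⁻¹ := by
    apply Subtype.ext
    rfl
  rw [h8]
  have h9 : QuotientGroup.mk' (pPrimeCore 2 (centralizer ({(b : G)} : Set G))) m = 1 :=
    (QuotientGroup.eq_one_iff m).2 hm
  simp only [map_mul, map_inv, h9, one_mul]

/-- The components give rotations. -/
theorem rot {b : (S : Subgroup G)} {K : Subgroup (CQ (b : G))} (hK : IsComponent K)
    (hF : ∀ P : Sylow 2 K, (∀ x ∈ (P : Subgroup K), ∀ y ∈ (P : Subgroup K), x * y = y * x) →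
      ∀ x ∈ (P : Subgroup K), x ≠ 1 → ∀ y ∈ (P : Subgroup K), y ≠ 1 →
        ∃ n ∈ normalizer ((P : Subgroup K) : Set K), n * x * n⁻¹ = y) :
    Fusion.Rot (W S) (QQ (toCQ (S : Subgroup G) b) K) (TT (toCQ (S : Subgroup G) b) K) := by
  intro s hs hs1 t ht ht1
  have hf := str S b
  obtain ⟨P, hP⟩ := exists_sylow S b
  obtain ⟨R, hR⟩ := AbStruct.exists_sylow P hK
  have hcomm : ∀ x ∈ (R : Subgroup K), ∀ y ∈ (R : Subgroup K), x * y = y * x := by
    rw [hR]
    exact AbStruct.comm_subgroupOf (range_comm S b hP)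
  have hmem : ∀ s' (hs' : s' ∈ TT (toCQ (S : Subgroup G) b) K),
      (⟨toCQ (S : Subgroup G) b s', hs'⟩ : K) ∈ (R : Subgroup K) := by
    intro s' hs'
    rw [hR, mem_subgroupOf, hP]
    exact ⟨s', rfl⟩
  have hne : ∀ s' (hs' : s' ∈ TT (toCQ (S : Subgroup G) b) K), s' ≠ 1 →
      (⟨toCQ (S : Subgroup G) b s', hs'⟩ : K) ≠ 1 := by
    intro s' hs' h1 h2
    apply h1
    apply hf.inj
    rw [map_one]
    exact congrArg Subtype.val h2
  obtain ⟨n, hn, hnst⟩ := hF R hcomm _ (hmem s hs) (hne s hs hs1) _ (hmem t ht) (hne t ht ht1)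
  obtain ⟨w, hw⟩ := exists_lift S hK n.2 (by
    intro s' hs'
    have h1 := (mem_normalizer_iff.1 hn _).1 (hmem s' hs')
    rw [hR, mem_subgroupOf, hP] at h1
    exact h1)
  refine ⟨w, ?_, ?_⟩
  · intro q hq
    apply hf.inj
    rw [hw, (mem_QQ.1 hq n n.2)]
    group
  · apply hf.inj
    rw [hw]
    exact congrArg Subtype.val hnst

/-- `Bal`: L-balance for the pairs of maximal order. -/
theorem bal {b : (S : Subgroup G)} (hb : b ≠ 1) {T Q : Subgroup (S : Subgroup G)}
    (h : IsPair (S : Subgroup G) b T Q)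
    (hmax : ∀ (b' : (S : Subgroup G)) (T' Q' : Subgroup (S : Subgroup G)), b' ≠ 1 →
      IsPair (S : Subgroup G) b' T' Q' → Nat.card T' ≤ Nat.card T) : Fusion.Bal (W S) Q T := by
  intro w
  obtain ⟨w, ⟨n, rfl⟩⟩ := w
  set w' := (S : Subgroup G).normalizerMonoidHom n with hw'
  have h1 : IsPair (S : Subgroup G) (w' b) (w' • T) (w' • Q) := h.smul w' (n := n) (fun s => rfl)
  have hcard : Nat.card (w' • T : Subgroup (S : Subgroup G)) = Nat.card T :=
    (Nat.card_congr (Subgroup.equivSMul w' T).toEquiv).symm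
  have hb' : w' b ≠ 1 := by
    intro h2
    apply hb
    exact (map_eq_one_iff w' w'.injective).1 h2
  have h3 := trichotomy S.2 (fun b _ => str S b) hb hb' h h1 hmax (by
    intro b'' T'' Q'' hb'' h''
    rw [hcard]
    exact hmax b'' T'' Q'' hb'' h'')
  rcases h3 with h3 | h3 | h3
  · exact Or.inl ⟨h3.2, h3.1⟩
  · exact Or.inr (Or.inl h3)
  · exact Or.inr (Or.inr h3)

/-- There is a pair of maximal order, if there is a component. -/
theorem exists_max (h : ∃ (b : (S : Subgroup G)) (T Q : Subgroup (S : Subgroup G)), b ≠ 1 ∧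
    IsPair (S : Subgroup G) b T Q) :
    ∃ (b : (S : Subgroup G)) (T Q : Subgroup (S : Subgroup G)), b ≠ 1 ∧
      IsPair (S : Subgroup G) b T Q ∧
      ∀ (b' : (S : Subgroup G)) (T' Q' : Subgroup (S : Subgroup G)), b' ≠ 1 →
        IsPair (S : Subgroup G) b' T' Q' → Nat.card T' ≤ Nat.card T := by
  classical
  let P : ((↥(S : Subgroup G)) × (Subgroup (S : Subgroup G)) × (Subgroup (S : Subgroup G))) → Prop :=
    fun p => p.1 ≠ 1 ∧ IsPair (S : Subgroup G) p.1 p.2.1 p.2.2
  obtain ⟨b, T, Q, h1⟩ := h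
  obtain ⟨p, hp, hmax⟩ := Set.exists_max_image {p | P p} (fun p => Nat.card p.2.1)
    (Set.toFinite _) ⟨(b, T, Q), h1⟩
  exact ⟨p.1, p.2.1, p.2.2, hp.1, hp.2, fun b' T' Q' hb' h' => hmax (b', T', Q') ⟨hb', h'⟩⟩

end Cfsg.Agent.Walter.PairsStr
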