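import Mathlib
import Cfsg.Prelude.Def_Local
import Cfsg.Agent.Lib.Cores
import Cfsg.Agent.Lib.PComponents
import Cfsg.Agent.S0542
import Cfsg.Agent.S1270
import Cfsg.Agent.SignalizersComponents.Components
import Cfsg.Agent.SignalizersComponents.CompBasic
import Cfsg.Agent.SignalizersComponents.ComponentImage
import Cfsg.Agent.SignalizersComponents.PCompQuot
import Cfsg.Agent.SignalizersComponents.RelSylow

/-!
# Components of groups with abelian Sylow 2-subgroups
-/

set_option autoImplicit false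

namespace Cfsg.Agent.Walter.ProductComp

open Subgroup Cfsg
open Cfsg.Agent.SignalizersComponents
open Cfsg.Agent.Lib.PComponents

/-! ### Central 2-elements -/

section Center

open scoped IsMulCommutative in
/-- A perfect group with abelian Sylow 2-subgroups has a centre of odd order. -/
theorem eq_one_of_mem_center {K : Type*} [Group K] [Finite K] (hK : Group.IsPerfect K)
    (T : Sylow 2 K) (hT : ∀ x ∈ (T : Subgroup K), ∀ y ∈ (T : Subgroup K), x * y = y * x)
    {z : K} (hz : z ∈ center K) (hzT : z ∈ (T : Subgroup K)) : z = 1 := by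
  have hcomm : IsMulCommutative (T : Subgroup K) :=
    ⟨⟨fun a b => Subtype.ext (hT a a.2 b b.2)⟩⟩
  have key : ∀ (k : ℕ) (g₀ : K), g₀⁻¹ * z ^ k * g₀ ∈ (T : Subgroup K) →
      g₀⁻¹ * z ^ k * g₀ = z ^ k := by
    intro k g₀ _
    have h1 : z ^ k ∈ center K := pow_mem hz k
    have h2 := mem_center_iff.1 h1 g₀⁻¹
    rw [h2, mul_assoc, inv_mul_cancel, mul_one]
  have h1 := MonoidHom.transfer_eq_pow (MonoidHom.id (T : Subgroup K)) z key
  have h2 := CompBasic.hom_eq_one_of_perfect hK
    (MonoidHom.transfer (MonoidHom.id (T : Subgroup K))) z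
  rw [h2] at h1
  have h3 : z ^ (T : Subgroup K).index = 1 := (congrArg Subtype.val h1).symm
  obtain ⟨n, hn⟩ := T.isPGroup' ⟨z, hzT⟩
  have h4 : z ^ 2 ^ n = 1 := by simpa using congrArg Subtype.val hn
  have h5 : Nat.Coprime (T : Subgroup K).index (2 ^ n) :=
    Nat.Coprime.pow_right n (Nat.Coprime.symm (Nat.prime_two.coprime_iff_not_dvd.2 T.not_dvd_index))
  have h6 := orderOf_dvd_of_pow_eq_one h3
  have h7 := orderOf_dvd_of_pow_eq_one h4
  exact orderOf_eq_one_iff.1 (Nat.eq_one_of_dvd_coprimes h5 h6 h7)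

end Center

theorem mem_norm_iff {H : Type*} [Group H] {L : Subgroup H} {g : H} :
    g ∈ normalizer (L : Set H) ↔ L.map (MulAut.conj g).toMonoidHom = L :=
  mem_normalizer_iff_map_conj_eq

section Comp

variable {H : Type*} [Group H] [Finite H] (S : Sylow 2 H)
  (hS : ∀ x ∈ (S : Subgroup H), ∀ y ∈ (S : Subgroup H), x * y = y * x)

include hS in
/-- All 2-subgroups are abelian. -/
theorem comm_of_isPGroup {T : Subgroup H} (hT : IsPGroup 2 T) :
    ∀ x ∈ T, ∀ y ∈ T, x * y = y * x := by
  obtain ⟨P, hP⟩ := hT.exists_le_sylow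
  obtain ⟨g, hg⟩ := MulAction.exists_smul_eq H P S
  intro x hx y hy
  have key : ∀ x ∈ T, g * x * g⁻¹ ∈ (S : Subgroup H) := by
    intro x hx
    rw [← hg]
    exact Subgroup.smul_mem_pointwise_smul x (MulAut.conj g) (P : Subgroup H) (hP hx)
  have h1 := hS _ (key x hx) _ (key y hy)
  have h2 : g * (x * y) * g⁻¹ = g * (y * x) * g⁻¹ := by
    calc g * (x * y) * g⁻¹ = g * x * g⁻¹ * (g * y * g⁻¹) := by group
      _ = g * y * g⁻¹ * (g * x * g⁻¹) := h1
      _ = g * (y * x) * g⁻¹ := by group
  simpa using h2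

include hS in
/-- central elements of order 2 in components -/
theorem eq_one_of_mem_component {L : Subgroup H} (hL : Group.IsPerfect L) {x : H} (hx : x ∈ L)
    (hxc : x ∈ centralizer (L : Set H)) (hx2 : x * x = 1) : x = 1 := by
  have hz : (⟨x, hx⟩ : L) ∈ center L := by
    rw [mem_center_iff]
    intro y
    exact Subtype.ext (mem_centralizer_iff.1 hxc y y.2)
  have hp : IsPGroup 2 (zpowers (⟨x, hx⟩ : L)) := by
    rintro ⟨y, hy⟩
    obtain ⟨n, rfl⟩ := mem_zpowers_iff.1 hy
    refine ⟨1, Subtype.ext ?_⟩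
    show ((⟨x, hx⟩ : L) ^ n) ^ 2 ^ 1 = 1
    rw [pow_one, ← zpow_natCast, ← zpow_mul, mul_comm, zpow_mul, zpow_natCast, pow_two]
    have : (⟨x, hx⟩ : L) * ⟨x, hx⟩ = 1 := Subtype.ext hx2
    rw [this, one_zpow]
  obtain ⟨T, hT⟩ := hp.exists_le_sylow
  have h1 := eq_one_of_mem_center hL T (by
    intro a ha b hb
    have h2 : IsPGroup 2 ((T : Subgroup L).map L.subtype) := T.isPGroup'.map _
    exact Subtype.ext (comm_of_isPGroup S hS h2 a ⟨a, ha, rfl⟩ b ⟨b, hb, rfl⟩)) hz
    (hT (mem_zpowers _))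
  exact congrArg Subtype.val h1

include hS in
/-- Two components with a common involution are equal. -/
theorem comp_eq_of_mem {K L : Subgroup H} (hK : IsComponent K) (hL : IsComponent L) {x : H}
    (hxK : x ∈ K) (hxL : x ∈ L) (hx2 : x * x = 1) (hx1 : x ≠ 1) : K = L := by
  by_contra hne
  have h1 := Components.component_le_centralizer_of_ne hK hL hne
  exact hx1 (eq_one_of_mem_component S hS hL.2.1 hxL (h1 hxK) hx2)

include hS in
/-- `S` normalises every component of even order. -/
theorem sylow_le_normalizer {L : Subgroup H} (hL : IsComponent L) (h2 : 2 ∣ Nat.card L) :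
    (S : Subgroup H) ≤ normalizer (L : Set H) := by
  obtain ⟨T, hT⟩ := Cfsg.Agent.S0542.result 2 L hL.1 S
  have hTne : (T : Subgroup L) ≠ ⊥ := T.ne_bot_of_dvd_card h2
  -- an involution of `T`
  have h2T : 2 ∣ Nat.card (T : Subgroup L) := by
    obtain ⟨n, hn⟩ := IsPGroup.iff_card.1 T.isPGroup'
    rcases Nat.eq_zero_or_pos n with h | h
    · rw [h, pow_zero] at hn
      exact absurd (eq_bot_of_card_eq _ hn) hTne
    · rw [hn]
      exact dvd_pow_self 2 (by omega)
  obtain ⟨t, ht⟩ := exists_prime_orderOf_dvd_card' 2 h2T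
  have htS : ((t : L) : H) ∈ (S : Subgroup H) := by
    have : (t : L) ∈ (S : Subgroup H).subgroupOf L := by rw [← hT]; exact t.2
    exact this
  have ht2 : ((t : L) : H) * ((t : L) : H) = 1 := by
    have h3 := pow_orderOf_eq_one t
    rw [ht] at h3
    have h4 := congrArg (fun z : (T : Subgroup L) => ((z : L) : H)) h3
    simpa [pow_two] using h4
  have ht1 : ((t : L) : H) ≠ 1 := by
    intro h
    have h3 : t = 1 := by
      apply Subtype.ext
      apply Subtype.ext
      exact h
    rw [h3, orderOf_one] at ht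
    omega
  intro s hs
  rw [mem_norm_iff]
  have hLs := Components.isComponent_conj s hL
  refine comp_eq_of_mem S hS hLs hL (x := ((t : L) : H)) ?_ (t : L).2 ht2 ht1
  refine ⟨((t : L) : H), (t : L).2, ?_⟩
  show s * ((t : L) : H) * s⁻¹ = _
  rw [hS s hs _ htS, mul_inv_cancel_right]

include hS in
/-- The conjugates of an even component are conjugates under `N(S)`. -/
theorem exists_normalizer_conj {U : Subgroup H} (hU : IsComponent U) (h2 : 2 ∣ Nat.card U) (g : H) :
    ∃ n ∈ normalizer ((S : Subgroup H) : Set H),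
      U.map (MulAut.conj g).toMonoidHom = U.map (MulAut.conj n).toMonoidHom := by
  set L := U.map (MulAut.conj g).toMonoidHom with hLdef
  have hL : IsComponent L := Components.isComponent_conj g hU
  have hLc : 2 ∣ Nat.card L := by
    rw [hLdef, card_map_of_injective (MulAut.conj g).injective]; exact h2
  have h3 := sylow_le_normalizer S hS hL hLc
  have h4 := sylow_le_normalizer S hS hU h2
  have hpn : ¬ 2 ∣ (S : Subgroup H).relIndex (normalizer (L : Set H)) := fun h =>
    S.not_dvd_index (h.trans (relIndex_dvd_index_of_le h3))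
  have hmax : RelSylow.IsMaxP 2 (normalizer (L : Set H)) (S : Subgroup H) :=
    RelSylow.isMaxP_of_not_dvd S.isPGroup' h3 hpn
  have hSg : (S : Subgroup H).map (MulAut.conj g).toMonoidHom ≤ normalizer (L : Set H) := by
    rintro _ ⟨s, hs, rfl⟩
    rw [mem_norm_iff]
    have h5 := mem_norm_iff.1 (h4 hs)
    rw [hLdef, Subgroup.map_map]
    have h6 : (MulAut.conj ((MulAut.conj g).toMonoidHom s)).toMonoidHom.comp
        (MulAut.conj g).toMonoidHom = (MulAut.conj g).toMonoidHom.comp
        (MulAut.conj s).toMonoidHom := by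
      ext x
      simp [mul_assoc]
    rw [h6, ← Subgroup.map_map, h5]
  obtain ⟨c, hc, hle⟩ := hmax.exists_conj_le (S.isPGroup'.map (MulAut.conj g).toMonoidHom) hSg
  refine ⟨c * g, ?_, ?_⟩
  · rw [mem_norm_iff]
    refine eq_of_le_of_card_ge ?_ (RelSylow.card_map_conj (S : Subgroup H) (c * g)).ge
    rw [map_mul]
    rw [Subgroup.map_map] at hle
    exact hle
  · have h5 := mem_norm_iff.1 hc
    rw [← h5, hLdef, Subgroup.map_map, map_mul]
    rfl

end Comp

/-! ### Components along homomorphisms with kernel of odd order -/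

section Transfer

variable {H Q : Type*} [Group H] [Finite H] [Group Q] [Finite Q] (φ : H →* Q)
  (hφ : φ.ker ≤ pPrimeCore 2 H) (hQ : pPrimeCore 2 Q = ⊥) {K : Subgroup Q} (hK : IsComponent K)
  (hKr : K ≤ φ.range)

include hφ hQ hK hKr in
theorem map_pElem_comap' : (pElem 2 (K.comap φ)).map φ = K := by
  apply le_antisymm
  · refine (map_mono (pElem_le _)).trans ?_
    exact map_comap_le _ _
  · have h0 := pElem_component hQ hK
    conv_lhs => rw [← h0]
    refine (Subgroup.closure_le _).mpr ?_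
    rintro c ⟨hc, n, hn⟩
    obtain ⟨y, rfl⟩ := hKr hc
    set m := Nat.card (pPrimeCore 2 H) with hm
    have hcop : m.Coprime (2 ^ n) := Nat.Coprime.pow_right n (Lib.Cores.pPrimeCore_coprime 2)
    have hyW : y ^ 2 ^ n ∈ pPrimeCore 2 H := by
      apply hφ
      rw [MonoidHom.mem_ker, map_pow]
      exact hn
    have h1 : (y ^ m) ^ 2 ^ n = 1 := by
      rw [← pow_mul, mul_comm, pow_mul]
      have := pow_card_eq_one' (x := (⟨y ^ 2 ^ n, hyW⟩ : pPrimeCore 2 H))
      exact congrArg Subtype.val this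
    have h2 : y ^ m ∈ pElem 2 (K.comap φ) :=
      mem_pElem (pow_mem (show y ∈ K.comap φ from hc) m) (n := n) h1
    have h3 : (φ y) ^ m ∈ (pElem 2 (K.comap φ)).map φ := ⟨y ^ m, h2, map_pow _ _ _⟩
    have h7 := Nat.gcd_eq_gcd_ab m (2 ^ n)
    rw [hcop] at h7
    have h8 : φ y = ((φ y) ^ m) ^ (Nat.gcdA m (2 ^ n)) *
        ((φ y) ^ (2 ^ n)) ^ (Nat.gcdB m (2 ^ n)) := by
      rw [← zpow_natCast, ← zpow_natCast, ← zpow_mul, ← zpow_mul, ← zpow_add, ← h7]
      simp
    rw [h8, hn, one_zpow, mul_one]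
    exact zpow_mem h3 _

include hφ hQ hK hKr in
theorem isComponent_map :
    IsComponent ((K.comap φ).map (QuotientGroup.mk' (pPrimeCore 2 H))) := by
  refine ⟨(hK.1.comap φ).map (QuotientGroup.mk'_surjective _), ?_⟩
  let f : K.comap φ →* K := φ.subgroupComap K
  have hf : Function.Surjective f := by
    rintro ⟨k, hk⟩
    obtain ⟨h, rfl⟩ := hKr hk
    exact ⟨⟨h, hk⟩, rfl⟩
  let g : K.comap φ →* (K.comap φ).map (QuotientGroup.mk' (pPrimeCore 2 H)) :=
    (QuotientGroup.mk' (pPrimeCore 2 H)).subgroupMap (K.comap φ)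
  have hg : Function.Surjective g :=
    (QuotientGroup.mk' (pPrimeCore 2 H)).subgroupMap_surjective (K.comap φ)
  have hle : f.ker ≤ g.ker := by
    rintro ⟨x, hx⟩ hxf
    rw [MonoidHom.mem_ker] at hxf ⊢
    have h1 : φ x = 1 := congrArg Subtype.val hxf
    apply Subtype.ext
    exact (QuotientGroup.eq_one_iff x).2 (hφ h1)
  let e := (f.liftOfSurjective hf) ⟨g, hle⟩
  have he : ∀ x, e (f x) = g x := fun x => MonoidHom.liftOfRightInverse_comp_apply _ _ _ _ x
  have hes : Function.Surjective e := by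
    intro y
    obtain ⟨x, rfl⟩ := hg y
    exact ⟨f x, he x⟩
  refine ComponentImage.isQuasisimple_of_surjective hK.2 e hes ?_
  rw [nontrivial_iff_ne_bot]
  intro h0
  rw [Subgroup.map_eq_bot_iff, QuotientGroup.ker_mk'] at h0
  have h1 := prime_dvd_card_component hQ hK
  have h2 : Nat.card K ∣ Nat.card (K.comap φ) := card_dvd_of_surjective f hf
  have h3 := (h1.trans h2).trans (card_dvd_of_le h0)
  exact Nat.prime_two.coprime_iff_not_dvd.mp (Lib.Cores.pPrimeCore_coprime 2).symm h3

omit [Finite Q] in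
include hK in
theorem pElem_comap_map : pElem 2 (((K.comap φ).map (QuotientGroup.mk' (pPrimeCore 2 H))).comap
    (QuotientGroup.mk' (pPrimeCore 2 H))) = pElem 2 (K.comap φ) := by
  apply le_antisymm
  · have h1 := pElem_comap_le (p := 2) (hK.1.comap φ) rfl
    refine (Subgroup.closure_le _).mpr ?_
    rintro y ⟨hyY, n, hn⟩
    exact mem_pElem (h1 (mem_pElem hyY hn)) hn
  · exact pElem_mono (le_comap_map _ _)

include hφ hQ hK hKr in
theorem isPComponent_pElem : IsPComponent 2 (pElem 2 (K.comap φ)) := by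
  rw [← pElem_comap_map φ hK]
  exact (isPComponent_pElem_comap (isComponent_map φ hφ hQ hK hKr)).1

end Transfer

end Cfsg.Agent.Walter.ProductComp
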