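import Mathlib
import Cfsg.Prelude.Def_Local
import Cfsg.Agent.Lib.Cores
import Cfsg.Agent.S1270
import Cfsg.Agent.S1299
import Cfsg.Agent.SignalizersComponents.BalanceAux
import Cfsg.Agent.SignalizersComponents.CoreOfCentralizer
import Cfsg.Agent.Walter.Embed

/-!
# Product case of Walter's theorem: `k`-balance and the signalizer functor

`S` is an elementary abelian Sylow 2-subgroup of `G`, and `S` has a subgroup of index at most `q` centralising
`L`, for every component `L` of `C_G(b) / O(C_G(b))`, `1 ≠ b ∈ S`. Then `G` is `k`-balanced, `2 ^ k = 2 q`.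
-/

set_option autoImplicit false

namespace Cfsg.Agent.Walter.ProductBal

open Subgroup Cfsg
open Cfsg.Agent.SignalizersComponents
open Cfsg.Agent.SignalizersComponents.BalanceAux

variable {G : Type*} [Group G]

/-- the quotient `C_G(b) / O(C_G(b))` -/
abbrev Q (b : G) : Type _ :=
  ↥(centralizer ({b} : Set G)) ⧸ pPrimeCore 2 ↥(centralizer ({b} : Set G))

/-- the projection of `C_G(b)` on `C_G(b) / O(C_G(b))` -/
abbrev pr (b : G) : ↥(centralizer ({b} : Set G)) →* Q b :=
  QuotientGroup.mk' (pPrimeCore 2 ↥(centralizer ({b} : Set G)))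

/-- the elements of `S` which centralise `L ≤ C_G(b) / O(C_G(b))` -/
def cenS (S : Subgroup G) (b : G) (L : Subgroup (Q b)) : Subgroup G :=
  S ⊓ ((centralizer (L : Set (Q b))).comap (pr b)).map (centralizer ({b} : Set G)).subtype

theorem mem_cenS {S : Subgroup G} {b : G} {L : Subgroup (Q b)} {s : G} :
    s ∈ cenS S b L ↔ s ∈ S ∧ ∃ h : s ∈ centralizer ({b} : Set G),
      pr b ⟨s, h⟩ ∈ centralizer (L : Set (Q b)) := by
  constructor
  · rintro ⟨h1, y, hy, rfl⟩
    exact ⟨h1, y.2, hy⟩
  · rintro ⟨h1, h, h2⟩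
    exact ⟨h1, ⟨s, h⟩, h2, rfl⟩

theorem cenS_le {S : Subgroup G} {b : G} {L : Subgroup (Q b)} : cenS S b L ≤ S := inf_le_left

/-- a set-theoretic count: subgroups of small index meet large subgroups. -/
theorem inf_ne_bot_of_card [Finite G] {S A C : Subgroup G} (hA : A ≤ S) (hC : C ≤ S) {q : ℕ}
    (hq : q < Nat.card A) (hSC : Nat.card S ≤ q * Nat.card C) : C ⊓ A ≠ ⊥ := by
  intro h
  have h1 : C.relIndex A = Nat.card A := by
    rw [← inf_relIndex_right, h, relIndex_bot_left]
  have h2 : C.relIndex A ≤ C.relIndex S :=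
    relIndex_le_of_le_right hA (by
      rw [relIndex]; exact index_ne_zero_of_finite)
  have h3 : Nat.card C * C.relIndex S = Nat.card S := by
    have := relIndex_mul_relIndex (⊥ : Subgroup G) C S bot_le hC
    rwa [relIndex_bot_left, relIndex_bot_left] at this
  have h4 : 0 < Nat.card C := Nat.card_pos
  have h5 : C.relIndex S ≤ q := by
    refine Nat.le_of_mul_le_mul_left ?_ h4
    rw [h3, mul_comm]
    exact hSC
  omega

section

variable [Finite G]

theorem map_core_le {a b : G} (ha : orderOf a = 2) (hab : a ∈ centralizer ({b} : Set G)) :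
    ((centralizerPPrimeCore 2 a).subgroupOf (centralizer ({b} : Set G))).map (pr b) ≤
      centralizerPPrimeCore 2 (pr b ⟨a, hab⟩) := by
  have hNp := Lib.Cores.pPrimeCore_coprime (G := ↥(centralizer ({b} : Set G))) 2
  have hNp' : ¬ 2 ∣ Nat.card (pPrimeCore 2 ↥(centralizer ({b} : Set G))) :=
    (Nat.prime_two.coprime_iff_not_dvd).mp hNp.symm
  have hW := CoreOfCentralizer.card_centralizerPPrimeCore_coprime 2 a
  have hWa := CoreOfCentralizer.centralizerPPrimeCore_le 2 a
  have hWn := CoreOfCentralizer.centralizer_le_normalizer_centralizerPPrimeCore 2 a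
  apply le_centralizerPPrimeCore
  · rintro _ ⟨y, hy, rfl⟩
    rw [mem_centralizer_singleton_iff, ← map_mul, ← map_mul]
    congr 1
    exact Subtype.ext (mem_centralizer_singleton_iff.mp (hWa hy))
  · refine Nat.Coprime.coprime_dvd_left ?_ hW
    refine (card_dvd_of_surjective _ ((pr b).subgroupMap_surjective _)).trans ?_
    exact card_comap_dvd_of_injective _ _ (subtype_injective _)
  · intro y hy
    have hpa : IsPGroup 2 (zpowers (⟨a, hab⟩ : ↥(centralizer ({b} : Set G)))) :=
      isPGroup_zpowers_of_orderOf (by rw [← Subgroup.orderOf_coe]; exact ha)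
    obtain ⟨g, hg, rfl⟩ := CoreOfCentralizer.exists_centralizing_of_quotient
      (zpowers (⟨a, hab⟩ : ↥(centralizer ({b} : Set G)))) hpa
      (pPrimeCore 2 ↥(centralizer ({b} : Set G))) hNp' y (by
        intro c hc
        obtain ⟨n, rfl⟩ := mem_zpowers_iff.mp hc
        have h2 : Commute (pr b ⟨a, hab⟩) y := (mem_centralizer_singleton_iff.mp hy).symm
        have h3 := h2.zpow_left n
        show pr b (⟨a, hab⟩ ^ n) * y = y * pr b (⟨a, hab⟩ ^ n)
        rw [map_zpow]
        exact h3)
    have hga : (g : G) ∈ centralizer ({a} : Set G) := by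
      rw [mem_centralizer_singleton_iff]
      exact (congrArg Subtype.val (hg ⟨a, hab⟩ (mem_zpowers _))).symm
    have hgn : g ∈ normalizer (((centralizerPPrimeCore 2 a).subgroupOf
        (centralizer ({b} : Set G)) : Subgroup _) : Set ↥(centralizer ({b} : Set G))) := by
      rw [mem_normalizer_iff]
      intro y
      rw [mem_subgroupOf, mem_subgroupOf]
      exact mem_normalizer_iff.mp (hWn hga) y
    exact le_normalizer_map (pr b) ⟨g, hgn, rfl⟩

theorem orderOf_pr {a b : G} (ha : orderOf a = 2) (hab : a ∈ centralizer ({b} : Set G)) :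
    orderOf (pr b ⟨a, hab⟩) = 2 := by
  have hNp := Lib.Cores.pPrimeCore_coprime (G := ↥(centralizer ({b} : Set G))) 2
  apply orderOf_eq_prime
  · rw [← map_pow]
    have : (⟨a, hab⟩ : ↥(centralizer ({b} : Set G))) ^ 2 = 1 :=
      Subtype.ext (by rw [← ha]; exact pow_orderOf_eq_one a)
    rw [this, map_one]
  · intro h
    have h1 : (⟨a, hab⟩ : ↥(centralizer ({b} : Set G))) ∈ pPrimeCore 2 ↥(centralizer ({b} : Set G)) :=
      (QuotientGroup.eq_one_iff _).mp h
    have h2 : (⟨a, hab⟩ : ↥(centralizer ({b} : Set G))) ^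
        Nat.card (pPrimeCore 2 ↥(centralizer ({b} : Set G))) = 1 := by
      have := pow_card_eq_one' (x := (⟨_, h1⟩ : pPrimeCore 2 ↥(centralizer ({b} : Set G))))
      exact congrArg Subtype.val this
    have h3 := congrArg Subtype.val h2
    have h4 : orderOf a ∣ Nat.card (pPrimeCore 2 ↥(centralizer ({b} : Set G))) :=
      orderOf_dvd_of_pow_eq_one (by simpa using h3)
    rw [ha] at h4
    exact (Nat.prime_two.coprime_iff_not_dvd).mp hNp.symm h4

variable {S : Sylow 2 G} (hsq : ∀ x ∈ (S : Subgroup G), x * x = 1) {q k : ℕ} (hk : 2 ^ k = 2 * q)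
  (hcomp : ∀ b ∈ (S : Subgroup G), b ≠ 1 → ∀ L : Subgroup (Q b), IsComponent L →
    Nat.card (S : Subgroup G) ≤ q * Nat.card (cenS (S : Subgroup G) b L))

omit [Finite G] in
include hsq in
theorem comm_of_sq {x y : G} (hx : x ∈ (S : Subgroup G)) (hy : y ∈ (S : Subgroup G)) :
    x * y = y * x := by
  have h1 := hsq x hx
  have h2 := hsq y hy
  have h3 := hsq (x * y) (mul_mem hx hy)
  calc x * y = x * (x * y * (x * y)) * y := by rw [h3]; group
    _ = (x * x) * y * x * (y * y) := by group
    _ = y * x := by rw [h1, h2]; group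

omit [Finite G] in
include hsq in
theorem orderOf_of_sq {x : G} (hx : x ∈ (S : Subgroup G)) (hx1 : x ≠ 1) : orderOf x = 2 :=
  orderOf_eq_prime (by rw [pow_two]; exact hsq x hx) hx1

omit [Finite G] in
include hsq in
theorem mem_cen {x y : G} (hx : x ∈ (S : Subgroup G)) (hy : y ∈ (S : Subgroup G)) :
    x ∈ centralizer ({y} : Set G) := mem_centralizer_singleton_iff.2 (comm_of_sq hsq hx hy)

include hsq hk hcomp

theorem balance_S {A : Subgroup G} (hA : A ≤ (S : Subgroup G)) (hAc : Nat.card A = 2 ^ k) {b : G}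
    (hb : b ∈ (S : Subgroup G)) (hb1 : b ≠ 1) :
    signalizerDelta 2 A ⊓ centralizer ({b} : Set G) ≤ centralizerPPrimeCore 2 b := by
  have hq : 0 < q := by
    rcases Nat.eq_zero_or_pos q with h | h
    · rw [h, mul_zero] at hk
      exact absurd hk (by positivity)
    · exact h
  have hO := Lib.Cores.pPrimeCore_quotient_pPrimeCore (G := ↥(centralizer ({b} : Set G))) 2
  have hAb : ∀ a ∈ A, a ∈ centralizer ({b} : Set G) := fun a ha => mem_cen hsq (hA ha) hb
  have hΔ : ∀ a, ∀ (ha : a ∈ A), a ≠ 1 →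
      ((signalizerDelta 2 A).subgroupOf (centralizer ({b} : Set G))).map (pr b) ≤
        centralizerPPrimeCore 2 (pr b ⟨a, hAb a ha⟩) := by
    intro a ha ha1
    refine (map_mono (comap_mono (S1299.delta_le 2 ha ha1))).trans ?_
    exact map_core_le (orderOf_of_sq hsq (hA ha) ha1) (hAb a ha)
  obtain ⟨a₀, ha₀, ha₀1⟩ : ∃ a ∈ A, a ≠ 1 := by
    have h1 : A ≠ ⊥ := by
      intro h1
      rw [h1, card_bot] at hAc
      omega
    exact (bot_or_exists_ne_one A).resolve_left h1
  have ha₀2 := orderOf_pr (orderOf_of_sq hsq (hA ha₀) ha₀1) (hAb a₀ ha₀)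
  have key : ((signalizerDelta 2 A).subgroupOf (centralizer ({b} : Set G))).map (pr b) = ⊥ := by
    apply eq_bot_of_le_centralizer_components 2 hO
    · exact Nat.Coprime.coprime_dvd_left (card_dvd_of_le (hΔ a₀ ha₀ ha₀1))
        (CoreOfCentralizer.card_centralizerPPrimeCore_coprime 2 _)
    · exact (hΔ a₀ ha₀ ha₀1).trans (core_le_centralizer_pCore 2 _ ha₀2)
    · intro K hK
      have h1 := inf_ne_bot_of_card hA (cenS_le (L := K)) (q := q) (by rw [hAc, hk]; omega)
        (hcomp b hb hb1 K hK)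
      obtain ⟨a, ha, ha1⟩ := (bot_or_exists_ne_one _).resolve_left h1
      obtain ⟨_, hab, hac⟩ := mem_cenS.1 ha.1
      have ha2 := orderOf_pr (orderOf_of_sq hsq (hA ha.2) ha1) hab
      have h2 : ⁅K, zpowers (pr b ⟨a, hab⟩)⁆ ≠ K := by
        have h3 : ⁅K, zpowers (pr b ⟨a, hab⟩)⁆ = ⊥ := by
          rw [commutator_comm, commutator_eq_bot_iff_le_centralizer, zpowers_le]
          exact hac
        rw [h3]
        exact (Components.component_ne_bot hK).symm
      have h3 := Cfsg.Agent.S1270.result 2 hO _ ha2 K hK h2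
      rw [commutator_comm, commutator_eq_bot_iff_le_centralizer] at h3
      exact (hΔ a ha.2 ha1).trans h3
  rintro g ⟨hg1, hg2⟩
  have h1 : pr b ⟨g, hg2⟩ ∈
      ((signalizerDelta 2 A).subgroupOf (centralizer ({b} : Set G))).map (pr b) :=
    ⟨⟨g, hg2⟩, hg1, rfl⟩
  rw [key, mem_bot] at h1
  exact ⟨⟨g, hg2⟩, (QuotientGroup.eq_one_iff _).mp h1, rfl⟩

/-- `G` is `k`-balanced. -/
theorem isKBalanced : IsKBalanced 2 k G := by
  intro A hA hAc b hb hAb
  have hAcomm : ∀ x ∈ A, ∀ y ∈ A, x * y = y * x := by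
    intro x hx y hy
    have := hA.1.is_comm.comm (⟨x, hx⟩ : A) ⟨y, hy⟩
    exact congrArg Subtype.val this
  -- the group generated by `A` and `b`
  let B : Subgroup G :=
    { carrier := {x | x ∈ A ∨ x * b ∈ A}
      one_mem' := Or.inl A.one_mem
      mul_mem' := by
        rintro x y (hx | hx) (hy | hy)
        · exact Or.inl (A.mul_mem hx hy)
        · right
          rw [mul_assoc]
          exact A.mul_mem hx hy
        · right
          have h1 : x * y * b = x * b * (b⁻¹ * y * b) := by group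
          have h2 : b⁻¹ * y * b = y := by rw [mul_assoc, hAb y hy]; group
          rw [h1, h2]
          exact A.mul_mem hx hy
        · left
          have h1 : x * y = (x * b) * (b⁻¹ * (y * b) * b) * (b⁻¹ * b⁻¹) := by group
          have h2 : b⁻¹ * (y * b) * b = y * b := by rw [mul_assoc, hAb _ hy]; group
          have h3 : b⁻¹ * b⁻¹ = 1 := by
            rw [← mul_inv_rev, ← pow_two, ← hb, pow_orderOf_eq_one, inv_one]
          rw [h1, h2, h3, mul_one]
          exact A.mul_mem hx hy
      inv_mem' := by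
        rintro x (hx | hx)
        · exact Or.inl (A.inv_mem hx)
        · right
          have h0 : b⁻¹ * b⁻¹ = 1 := by
            rw [← mul_inv_rev, ← pow_two, ← hb, pow_orderOf_eq_one, inv_one]
          have h1 : x⁻¹ * b = b * (x * b)⁻¹ * b := by group
          have h2 : (x * b)⁻¹ * b = b * (x * b)⁻¹ := hAb _ (A.inv_mem hx)
          have h4 : b * b = 1 := by rw [← pow_two, ← hb, pow_orderOf_eq_one]
          have h3 : x⁻¹ * b = (x * b)⁻¹ := by
            rw [h1, mul_assoc, h2, ← mul_assoc, h4, one_mul]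
          rw [h3]
          exact A.inv_mem hx }
  have hAB : A ≤ B := fun x hx => Or.inl hx
  have hbb : b * b = 1 := by rw [← pow_two, ← hb, pow_orderOf_eq_one]
  have hbB : b ∈ B := Or.inr (by rw [hbb]; exact A.one_mem)
  have hBp : IsPGroup 2 B := by
    intro x
    refine ⟨1, Subtype.ext ?_⟩
    rw [pow_one]
    show (x : G) ^ 2 = 1
    rcases x.2 with hx | hx
    · exact hA.2 _ hx
    · have h1 : (x : G) = (x * b) * b := by rw [mul_assoc, hbb, mul_one]
      have h2 := hA.2 _ hx
      rw [h1, pow_two]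
      calc (x : G) * b * b * (x * b * b) = x * b * (b * (x * b)) * b := by group
        _ = x * b * (x * b * b) * b := by rw [hAb _ hx]
        _ = (x * b) ^ 2 * (b * b) := by rw [pow_two]; group
        _ = 1 := by rw [h2, hbb, one_mul]
  obtain ⟨P, hP⟩ := hBp.exists_le_sylow
  obtain ⟨g, hg⟩ := MulAction.exists_smul_eq G P S
  have hgB : ∀ x ∈ B, g * x * g⁻¹ ∈ (S : Subgroup G) := by
    intro x hx
    rw [← hg]
    exact Subgroup.smul_mem_pointwise_smul x (MulAut.conj g) (P : Subgroup G) (hP hx)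
  have hA' : A.map (MulAut.conj g).toMonoidHom ≤ (S : Subgroup G) := by
    rintro _ ⟨x, hx, rfl⟩
    exact hgB x (hAB hx)
  have hA'c : Nat.card (A.map (MulAut.conj g).toMonoidHom) = 2 ^ k := by
    rw [card_map_of_injective (MulAut.conj g).injective, hAc]
  have hb1 : g * b * g⁻¹ ≠ 1 := by
    rw [Ne, conj_eq_one_iff]
    rintro rfl
    rw [orderOf_one] at hb
    omega
  have h1 := balance_S hsq hk hcomp hA' hA'c (hgB b hbB) hb1
  rintro y ⟨hy1, hy2⟩
  have h2 : g * y * g⁻¹ ∈ signalizerDelta 2 (A.map (MulAut.conj g).toMonoidHom) ⊓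
      centralizer ({g * b * g⁻¹} : Set G) := by
    refine ⟨?_, ?_⟩
    · refine mem_iInf.mpr ?_
      rintro ⟨_, ⟨a, ha, rfl⟩, ha1⟩
      have ha1' : a ≠ 1 := by
        rintro rfl
        exact ha1 (map_one _)
      exact Embed.core_conj_le a g ⟨y, S1299.delta_le 2 ha ha1' hy1, rfl⟩
    · have h3 := mem_centralizer_singleton_iff.1 hy2
      refine mem_centralizer_singleton_iff.2 ?_
      calc g * y * g⁻¹ * (g * b * g⁻¹) = g * (y * b) * g⁻¹ := by group
        _ = g * (b * y) * g⁻¹ := by rw [h3]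
        _ = _ := by group
  have h3 := Embed.core_conj_le (g * b * g⁻¹) g⁻¹ ⟨_, h1 h2, rfl⟩
  have h4 : g⁻¹ * (g * b * g⁻¹) * g⁻¹⁻¹ = b := by group
  have h5 : (MulAut.conj g⁻¹).toMonoidHom (g * y * g⁻¹) = y := by
    show g⁻¹ * (g * y * g⁻¹) * g⁻¹⁻¹ = y
    group
  rw [h4, h5] at h3
  exact h3

end

end Cfsg.Agent.Walter.ProductBal
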