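import Mathlib
import Cfsg.Prelude.Def_Local
import Cfsg.Agent.Walter.ProductBal
import Cfsg.Agent.Transfer.ThompsonReduction
import Cfsg.Agent.SignalizersComponents.CoprimeGen
import Cfsg.Agent.Lib.CoprimeHyperplane

/-!
# Product case of Walter's theorem: the complete functor, and the groups `Δ(D)`

Continuation of `ProductBal`.
-/

set_option autoImplicit false

namespace Cfsg.Agent.Walter.ProductCore

open Subgroup Cfsg
open Cfsg.Agent.SignalizersComponents
open Cfsg.Agent.Walter.ProductBal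

variable {G : Type*} [Group G]

/-- the join of the `Δ(D)`, `D ≤ E` of order `c` -/
def WW (E : Subgroup G) (c : ℕ) : Subgroup G :=
  ⨆ D : {D : Subgroup G // D ≤ E ∧ Nat.card D = c}, signalizerDelta 2 (D : Subgroup G)

theorem le_WW {E D : Subgroup G} {c : ℕ} (hD : D ≤ E) (hc : Nat.card D = c) :
    signalizerDelta 2 D ≤ WW E c :=
  le_iSup (fun D : {D : Subgroup G // D ≤ E ∧ Nat.card D = c} =>
    signalizerDelta 2 (D : Subgroup G)) ⟨D, hD, hc⟩

theorem delta_conj_le (D : Subgroup G) (g : G) :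
    (signalizerDelta 2 D).map (MulAut.conj g).toMonoidHom ≤
      signalizerDelta 2 (D.map (MulAut.conj g).toMonoidHom) := by
  rintro _ ⟨y, hy, rfl⟩
  refine mem_iInf.mpr ?_
  rintro ⟨_, ⟨a, ha, rfl⟩, ha1⟩
  have ha1' : a ≠ 1 := by
    rintro rfl
    exact ha1 (map_one _)
  exact Embed.core_conj_le a g ⟨y, S1299.delta_le 2 ha ha1' hy, rfl⟩

theorem normalizer_le_normalizer_WW [Finite G] (E : Subgroup G) (c : ℕ) :
    normalizer (E : Set G) ≤ normalizer (WW E c : Set G) := by
  have key : ∀ g ∈ normalizer (E : Set G), (WW E c).map (MulAut.conj g).toMonoidHom ≤ WW E c := by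
    intro g hg
    rw [WW, Subgroup.map_iSup]
    refine iSup_le ?_
    rintro ⟨D, hD, hDc⟩
    refine (delta_conj_le D g).trans (le_WW ?_ ?_)
    · refine (map_mono hD).trans ?_
      exact (mem_normalizer_iff_map_conj_eq.1 hg).le
    · rw [card_map_of_injective (MulAut.conj g).injective, hDc]
  intro g hg
  rw [mem_normalizer_iff_map_conj_eq]
  exact eq_of_le_of_card_ge (key g hg) (RelSylow.card_map_conj (WW E c) g).ge

section

variable [Finite G] {S : Sylow 2 G} (hsq : ∀ x ∈ (S : Subgroup G), x * x = 1)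

omit [Finite G] in
include hsq in
theorem elementary {E : Subgroup G} (hE : E ≤ (S : Subgroup G)) : IsElementaryAbelian 2 E :=
  ⟨⟨⟨fun x y => Subtype.ext (comm_of_sq hsq (hE x.2) (hE y.2))⟩⟩,
    fun x hx => by rw [pow_two]; exact hsq x (hE hx)⟩

omit [Finite G] in
include hsq in
theorem le_centralizer {D E : Subgroup G} (hD : D ≤ (S : Subgroup G)) (hE : E ≤ (S : Subgroup G)) :
    E ≤ centralizer (D : Set G) := by
  intro x hx
  rw [mem_centralizer_iff]
  intro y hy
  exact comm_of_sq hsq (hD hy) (hE hx)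

theorem exists_le_card {D : Subgroup G} (hD : D ≤ (S : Subgroup G)) {k : ℕ}
    (hc : 2 ^ k ≤ Nat.card D) : ∃ D₀ ≤ D, Nat.card D₀ = 2 ^ k := by
  have hp : IsPGroup 2 D := S.isPGroup'.to_le hD
  obtain ⟨m, hm⟩ := IsPGroup.iff_card.mp hp
  rw [hm] at hc
  have hkm : k ≤ m := (Nat.pow_le_pow_iff_right one_lt_two).mp hc
  obtain ⟨D₁, hD₁⟩ := Sylow.exists_subgroup_card_pow_prime 2
    (show 2 ^ k ∣ Nat.card D by rw [hm]; exact pow_dvd_pow 2 hkm)
  refine ⟨D₁.map D.subtype, map_subtype_le D₁, ?_⟩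
  rw [card_map_of_injective D.subtype_injective, hD₁]

theorem core_odd (a : G) : ¬ 2 ∣ Nat.card (centralizerPPrimeCore 2 a) := fun h =>
  Nat.prime_two.coprime_iff_not_dvd.mp
    (CoreOfCentralizer.card_centralizerPPrimeCore_coprime 2 a).symm h

theorem delta_odd {D : Subgroup G} (hD : D ≠ ⊥) : ¬ 2 ∣ Nat.card (signalizerDelta 2 D) := by
  obtain ⟨d, hd, hd1⟩ := (bot_or_exists_ne_one D).resolve_left hD
  exact fun h => core_odd d (h.trans (card_dvd_of_le (S1299.delta_le 2 hd hd1)))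

include hsq in
omit [Finite G] in
theorem le_normalizer_delta {D E : Subgroup G} (hD : D ≤ (S : Subgroup G))
    (hE : E ≤ (S : Subgroup G)) : E ≤ normalizer (signalizerDelta 2 D : Set G) := by
  intro x hx
  have hxC : x ∈ centralizer (D : Set G) := le_centralizer hsq hD hE hx
  rw [mem_normalizer_iff]
  intro y
  refine ⟨fun hy => S1299.conj_mem_delta 2 hxC hy, fun hy => ?_⟩
  have h1 := S1299.conj_mem_delta 2 (inv_mem hxC) hy
  have h2 : x⁻¹ * (x * y * x⁻¹) * x⁻¹⁻¹ = y := by group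
  rwa [h2] at h1

omit [Finite G] in
include hsq in
theorem le_normalizer_core {E : Subgroup G} {b : G} (hb : b ∈ (S : Subgroup G))
    (hE : E ≤ (S : Subgroup G)) : E ≤ normalizer (centralizerPPrimeCore 2 b : Set G) := fun _ hx =>
  CoreOfCentralizer.centralizer_le_normalizer_centralizerPPrimeCore 2 b
    (mem_cen hsq (hE hx) hb)

variable {q k : ℕ} (hk : 2 ^ k = 2 * q)
  (hcomp : ∀ b ∈ (S : Subgroup G), b ≠ 1 → ∀ L : Subgroup (Q b), IsComponent L →
    Nat.card (S : Subgroup G) ≤ q * Nat.card (cenS (S : Subgroup G) b L))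

omit [Finite G] in
include hk in
theorem k_pos : 1 ≤ k := by
  rcases Nat.eq_zero_or_pos k with h | h
  · rw [h, pow_zero] at hk; omega
  · exact h

omit [Finite G] in
include hk in
theorem ne_bot_of_card {D : Subgroup G} (h : 2 ^ k ≤ Nat.card D) : D ≠ ⊥ := by
  rintro rfl
  rw [card_bot] at h
  have h1 := k_pos hk
  have := Nat.one_lt_two_pow (n := k) (by omega)
  omega

include hsq hk hcomp

theorem delta_inf_le {D F : Subgroup G} (hD : D ≤ (S : Subgroup G)) (hDc : 2 ^ k ≤ Nat.card D)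
    (hF : F ≤ (S : Subgroup G)) :
    signalizerDelta 2 D ⊓ centralizer (F : Set G) ≤ signalizerDelta 2 F := by
  obtain ⟨D₀, hD₀, hD₀c⟩ := exists_le_card hD hDc
  rintro x ⟨hx1, hx2⟩
  refine mem_iInf.mpr ?_
  rintro ⟨e, he, he1⟩
  refine balance_S hsq hk hcomp (hD₀.trans hD) hD₀c (hF he) he1
    ⟨S1299.delta_antitone 2 hD₀ hx1, ?_⟩
  refine mem_centralizer_singleton_iff.2 ?_
  exact (mem_centralizer_iff.1 hx2 e he).symm

theorem delta_le_WW {D E : Subgroup G} (hD : D ≤ (S : Subgroup G)) (hDc : 2 ^ k ≤ Nat.card D)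
    (hE : E ≤ (S : Subgroup G)) (hEc : 2 ^ (k + 1) ≤ Nat.card E) :
    signalizerDelta 2 D ≤ WW E (2 ^ k) := by
  have hE1 : E ≠ ⊥ := ne_bot_of_card hk (le_trans (Nat.pow_le_pow_right two_pos (Nat.le_succ k)) hEc)
  have h1 := Lib.CoprimeHyperplane.iSup_centralizer_hyperplane (elementary hsq hE) hE1
    (delta_odd (ne_bot_of_card hk hDc)) (le_normalizer_delta hsq hD hE)
  rw [← h1]
  refine iSup_le ?_
  rintro ⟨B, hBE, hBi⟩
  have h2 : Nat.card B * B.relIndex E = Nat.card E := by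
    have := relIndex_mul_relIndex (⊥ : Subgroup G) B E bot_le hBE
    rwa [relIndex_bot_left, relIndex_bot_left] at this
  have h3 : 2 ^ k ≤ Nat.card B := by
    rw [hBi] at h2
    rw [← h2, pow_succ] at hEc
    omega
  obtain ⟨D₀, hD₀, hD₀c⟩ := exists_le_card (hBE.trans hE) h3
  refine le_trans ?_ (le_WW (hD₀.trans hBE) hD₀c)
  refine le_trans ?_ (S1299.delta_antitone 2 hD₀)
  exact delta_inf_le hsq hk hcomp hD hDc (hBE.trans hE)

theorem WW_eq {E : Subgroup G} (hE : E ≤ (S : Subgroup G)) (hEc : 2 ^ (k + 1) ≤ Nat.card E) :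
    WW E (2 ^ k) = WW (S : Subgroup G) (2 ^ k) := by
  apply le_antisymm
  · refine iSup_le ?_
    rintro ⟨D, hD, hDc⟩
    exact le_WW (hD.trans hE) hDc
  · refine iSup_le ?_
    rintro ⟨D, hD, hDc⟩
    exact delta_le_WW hsq hk hcomp hD hDc.ge hE hEc

theorem normalizer_le {E : Subgroup G} (hE : E ≤ (S : Subgroup G))
    (hEc : 2 ^ (k + 1) ≤ Nat.card E) :
    normalizer (E : Set G) ≤ normalizer (WW (S : Subgroup G) (2 ^ k) : Set G) := by
  rw [← WW_eq hsq hk hcomp hE hEc]
  exact normalizer_le_normalizer_WW E _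

theorem WW_odd (hSc : 2 ^ (k + 2) ≤ Nat.card (S : Subgroup G))
    (hOO : ∀ X : Subgroup G, ¬ 2 ∣ Nat.card X → Group.IsSolvable X)
    (hSF : ∀ θ : G → Subgroup G, IsSignalizerFunctor 2 (S : Subgroup G) θ →
      (∀ a ∈ (S : Subgroup G), a ≠ 1 → Group.IsSolvable (θ a)) →
      ¬ 2 ∣ Nat.card ↥(⨆ a : {a : G // a ∈ (S : Subgroup G) ∧ a ≠ 1}, θ a)) :
    ¬ 2 ∣ Nat.card (WW (S : Subgroup G) (2 ^ k)) := by
  have hSA := elementary hsq (le_refl (S : Subgroup G))
  have hfun := S1299.result 2 k (k_pos hk) (isKBalanced hsq hk hcomp) (S : Subgroup G) hSA hSc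
    (fun a _ _ => hOO _ (core_odd a))
  have h1 := hSF _ hfun (fun a ha ha1 => hOO _ (hfun.2.1 a ha ha1))
  refine fun h => h1 (h.trans (card_dvd_of_le ?_))
  refine iSup_le ?_
  rintro ⟨D, hD, hDc⟩
  have hS4 : 2 ^ 2 ≤ Nat.card (S : Subgroup G) :=
    le_trans (Nat.pow_le_pow_right two_pos (by omega)) hSc
  refine (CoprimeGen.le_iSup_centralizer_ne_one hSA hS4 (delta_odd (ne_bot_of_card hk hDc.ge))
    (le_normalizer_delta hsq hD le_rfl)).trans ?_
  refine iSup_mono ?_
  rintro ⟨a, ha, ha1⟩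
  exact le_iSup (fun D : {D : Subgroup G // D ≤ (S : Subgroup G) ∧ Nat.card D = 2 ^ k} =>
    signalizerDelta 2 (D : Subgroup G) ⊓ centralizer {a}) ⟨D, hD, hDc⟩

end

/-- A subgroup which contains `N(S)`, `O(C(b))` and the centralisers in `C(b)` of the groups
`C_S(L)` contains `C(b)`. -/
theorem centralizer_le_of [Finite G] {S : Sylow 2 G} (hsq : ∀ x ∈ (S : Subgroup G), x * x = 1)
    {M : Subgroup G} {b : G} (hb : b ∈ (S : Subgroup G))
    (hstr : layer (Q b) ⊔ normalizer ((((S : Subgroup G).subgroupOf (centralizer {b})).map (pr b) :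
      Subgroup (Q b)) : Set (Q b)) = ⊤)
    (hNM : normalizer ((S : Subgroup G) : Set G) ≤ M) (hcore : centralizerPPrimeCore 2 b ≤ M)
    (hL : ∀ L : Subgroup (Q b), IsComponent L →
      centralizer {b} ⊓ centralizer (cenS (S : Subgroup G) b L : Set G) ≤ M) :
    centralizer {b} ≤ M := by
  have hle : (S : Subgroup G) ≤ centralizer ({b} : Set G) := fun x hx => mem_cen hsq hx hb
  have hcop := Lib.Cores.pPrimeCore_coprime (G := ↥(centralizer ({b} : Set G))) 2
  have h1 : layer (Q b) ⊔ normalizer ((((S : Subgroup G).subgroupOf (centralizer {b})).map (pr b) :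
      Subgroup (Q b)) : Set (Q b)) ≤ (M.subgroupOf (centralizer {b})).map (pr b) := by
    refine sup_le ?_ ?_
    · rw [Components.layer_le_iff]
      intro L hLc l hl
      have hp : IsPGroup 2 ((cenS (S : Subgroup G) b L).subgroupOf (centralizer {b})) :=
        (S.isPGroup'.to_le cenS_le).comap_of_injective _ (subtype_injective _)
      obtain ⟨g, hg, hgl⟩ := CoreOfCentralizer.exists_centralizing_of_quotient _ hp
        (pPrimeCore 2 ↥(centralizer ({b} : Set G)))
        (Nat.prime_two.coprime_iff_not_dvd.mp hcop.symm) l (by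
          intro a ha
          obtain ⟨_, h2, h3⟩ := mem_cenS.1 (mem_subgroupOf.1 ha)
          exact (mem_centralizer_iff.1 h3 l hl).symm)
      refine ⟨g, ?_, hgl⟩
      refine hL L hLc ⟨g.2, ?_⟩
      refine mem_centralizer_iff.2 ?_
      intro s hs
      exact congrArg Subtype.val (hg ⟨s, hle (cenS_le hs)⟩ (mem_subgroupOf.2 hs))
    · have hp : IsPGroup 2 ((S : Subgroup G).subgroupOf (centralizer {b})) :=
        S.isPGroup'.comap_of_injective _ (subtype_injective _)
      refine (Transfer.ThompsonReduction.normalizer_map_mk_le _ _ hp hcop).trans (map_mono ?_)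
      intro x hx
      refine hNM ?_
      rw [mem_normalizer_iff] at hx ⊢
      intro y
      constructor
      · intro hy
        have := (hx ⟨y, hle hy⟩).1 hy
        exact this
      · intro hy
        have hyC : y ∈ centralizer ({b} : Set G) := by
          have h2 := mul_mem (mul_mem (inv_mem x.2) (hle hy)) x.2
          have h3 : (x : G)⁻¹ * ((centralizer {b}).subtype x * y *
              ((centralizer {b}).subtype x)⁻¹) * x = y := by
            show (x : G)⁻¹ * (x * y * (x : G)⁻¹) * x = y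
            group
          rwa [h3] at h2
        exact (hx ⟨y, hyC⟩).2 hy
  rw [hstr, top_le_iff] at h1
  intro x hx
  have h2 : pr b ⟨x, hx⟩ ∈ (M.subgroupOf (centralizer {b})).map (pr b) := by
    rw [h1]; trivial
  obtain ⟨y, hy, hxy⟩ := h2
  have h3 : y⁻¹ * ⟨x, hx⟩ ∈ pPrimeCore 2 ↥(centralizer ({b} : Set G)) :=
    QuotientGroup.eq.1 hxy
  have h4 : (y : G)⁻¹ * x ∈ M := hcore ⟨_, h3, rfl⟩
  have h5 : (y : G) ∈ M := hy
  have := M.mul_mem h5 h4
  rwa [mul_inv_cancel_left] at this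

end Cfsg.Agent.Walter.ProductCore
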