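import Mathlib
import Cfsg.Prelude.Def_Local
import Cfsg.Agent.Walter.ProductCore

/-!
# Product case of Walter's theorem: all `Δ(D)`, `D ≤ S` of order at least `2 q`, are trivial

Continuation of `ProductCore`.
-/

set_option autoImplicit false

namespace Cfsg.Agent.Walter.ProductDelta

open Subgroup Cfsg
open Cfsg.Agent.SignalizersComponents
open Cfsg.Agent.Walter.ProductBal
open Cfsg.Agent.Walter.ProductCore

variable {G : Type*} [Group G] [Finite G]

/-- Either `G` has a strongly embedded subgroup, or `Δ(D) = 1` for all `D ≤ S` of order at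
least `2 q`. -/
theorem stronglyEmbedded_or_delta [IsSimpleGroup G] {S : Sylow 2 G}
    (hsq : ∀ x ∈ (S : Subgroup G), x * x = 1) {q : ℕ} (hq : 2 ≤ q)
    (hSq : 4 * (q * q) ≤ Nat.card (S : Subgroup G)) (hq2 : ∃ n, q = 2 ^ n)
    (hcomp : ∀ b ∈ (S : Subgroup G), b ≠ 1 → ∀ L : Subgroup (Q b), IsComponent L →
      Nat.card (S : Subgroup G) ≤ q * Nat.card (cenS (S : Subgroup G) b L))
    (hstr : ∀ b ∈ (S : Subgroup G), b ≠ 1 → layer (Q b) ⊔
      normalizer ((((S : Subgroup G).subgroupOf (centralizer {b})).map (pr b) :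
      Subgroup (Q b)) : Set (Q b)) = ⊤)
    (hOO : ∀ X : Subgroup G, ¬ 2 ∣ Nat.card X → Group.IsSolvable X)
    (hSF : ∀ θ : G → Subgroup G, IsSignalizerFunctor 2 (S : Subgroup G) θ →
      (∀ a ∈ (S : Subgroup G), a ≠ 1 → Group.IsSolvable (θ a)) →
      ¬ 2 ∣ Nat.card ↥(⨆ a : {a : G // a ∈ (S : Subgroup G) ∧ a ≠ 1}, θ a)) :
    (∃ M : Subgroup G, IsStronglyEmbedded M) ∨
      ∀ D : Subgroup G, D ≤ (S : Subgroup G) → 2 * q ≤ Nat.card D → signalizerDelta 2 D = ⊥ := by
  obtain ⟨n, hn⟩ := hq2
  have hk : 2 ^ (n + 1) = 2 * q := by rw [pow_succ, hn, mul_comm]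
  have hk2 : 2 ^ (n + 1 + 1) = 4 * q := by rw [pow_succ, hk]; ring
  have hk3 : 2 ^ (n + 1 + 2) ≤ Nat.card (S : Subgroup G) := by
    have : 2 ^ (n + 1 + 2) = 8 * q := by rw [pow_succ, hk2]; ring
    rw [this]
    refine le_trans ?_ hSq
    nlinarith
  have hodd := WW_odd hsq hk hcomp hk3 hOO hSF
  have hSne : (S : Subgroup G) ≠ ⊥ := by
    intro h
    rw [h, card_bot] at hSq
    nlinarith
  have h2S : 2 ∣ Nat.card (S : Subgroup G) := by
    obtain ⟨s, hs, hs1⟩ := (bot_or_exists_ne_one _).resolve_left hSne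
    have h1 := orderOf_of_sq hsq hs hs1
    have h2 : orderOf (⟨s, hs⟩ : (S : Subgroup G)) = 2 := by rw [← Subgroup.orderOf_coe]; exact h1
    have h3 := orderOf_dvd_natCard (⟨s, hs⟩ : (S : Subgroup G))
    rwa [h2] at h3
  have h2G : 2 ∣ Nat.card G := h2S.trans (card_subgroup_dvd_card _)
  by_cases hW : WW (S : Subgroup G) (2 ^ (n + 1)) = ⊥
  · right
    intro D hD hDc
    obtain ⟨D₀, hD₀, hD₀c⟩ := exists_le_card hD (k := n + 1) (by rw [hk]; exact hDc)
    rw [← le_bot_iff, ← hW]
    exact (S1299.delta_antitone 2 hD₀).trans (le_WW (hD₀.trans hD) hD₀c)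
  · left
    set W := WW (S : Subgroup G) (2 ^ (n + 1)) with hWdef
    refine ⟨normalizer (W : Set G), ?_⟩
    have hNM : normalizer ((S : Subgroup G) : Set G) ≤ normalizer (W : Set G) :=
      normalizer_le_normalizer_WW _ _
    have hS2 : ∀ E : Subgroup G, E ≤ (S : Subgroup G) → 4 * q ≤ Nat.card E →
        normalizer (E : Set G) ≤ normalizer (W : Set G) := by
      intro E hE hEc
      exact normalizer_le hsq hk hcomp hE (by rw [hk2]; exact hEc)
    refine Embed.isStronglyEmbedded_of_le S (fun x hx y hy => comm_of_sq hsq hx hy) ?_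
      (even_iff_two_dvd.2 h2G) hNM ?_
    · intro htop
      have hnorm : W.Normal := normalizer_eq_top_iff.1 htop
      rcases hnorm.eq_bot_or_eq_top with h | h
      · exact hW h
      · rw [h, card_top] at hodd
        exact hodd h2G
    · intro b hb hb2
      have hb1 : b ≠ 1 := by
        rintro rfl
        rw [orderOf_one] at hb2
        omega
      refine centralizer_le_of hsq hb (hstr b hb hb1) hNM ?_ ?_
      · rw [← Lib.CoprimeHyperplane.iSup_centralizer_hyperplane (elementary hsq le_rfl) hSne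
          (core_odd b) (le_normalizer_core hsq hb le_rfl)]
        refine iSup_le ?_
        rintro ⟨B, hBS, hBi⟩
        have h2 : Nat.card B * B.relIndex (S : Subgroup G) = Nat.card (S : Subgroup G) := by
          have := relIndex_mul_relIndex (⊥ : Subgroup G) B (S : Subgroup G) bot_le hBS
          rwa [relIndex_bot_left, relIndex_bot_left] at this
        rw [hBi] at h2
        refine inf_le_right.trans ((centralizer_le_normalizer _).trans (hS2 B hBS ?_))
        have h3 : 4 * (q * q) ≤ Nat.card B * 2 := by rw [h2]; exact hSq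
        nlinarith
      · intro L hL
        refine inf_le_right.trans ((centralizer_le_normalizer _).trans (hS2 _ cenS_le ?_))
        have h3 := hSq.trans (hcomp b hb hb1 L hL)
        have h4 : q * (4 * q) ≤ q * Nat.card (cenS (S : Subgroup G) b L) := by
          calc q * (4 * q) = 4 * (q * q) := by ring
            _ ≤ _ := h3
        exact Nat.le_of_mul_le_mul_left h4 (by omega)

end Cfsg.Agent.Walter.ProductDelta
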