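import Mathlib
import Cfsg.Prelude.Def_Local
import Cfsg.Agent.Walter.ProductDelta
import Cfsg.Agent.Walter.ProductComp

/-!
# Product case of Walter's theorem: the components `U i`
-/

set_option autoImplicit false

namespace Cfsg.Agent.Walter.ProductU

open Subgroup Cfsg
open Cfsg.Agent.SignalizersComponents
open Cfsg.Agent.Lib.PComponents
open Cfsg.Agent.Walter.ProductBal
open Cfsg.Agent.Walter.ProductCore
open Cfsg.Agent.Walter.ProductComp

variable {G : Type*} [Group G]

/-- the product of the other blocks -/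
def XX {ι : Type*} (A : ι → Subgroup G) (i : ι) : Subgroup G := ⨆ j : {j : ι // j ≠ i}, A j

/-- the image of `X` in `C_G(b) / O(C_G(b))` -/
def bar (b : G) (X : Subgroup G) : Subgroup (Q b) :=
  (X.subgroupOf (centralizer ({b} : Set G))).map (pr b)

/-- The hypotheses of the product case. -/
structure Blocks (S : Sylow 2 G) {ι : Type*} (A : ι → Subgroup G) (q : ℕ) : Prop where
  sq : ∀ x ∈ (S : Subgroup G), x * x = 1
  le : ∀ i, A i ≤ (S : Subgroup G)
  sup : ⨆ i, A i = (S : Subgroup G)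
  disj : ∀ i, A i ⊓ XX A i = ⊥
  card : ∀ i, Nat.card (A i) = q
  four : 4 ≤ q
  three : 3 ≤ Nat.card ι
  perm : ∀ g ∈ normalizer ((S : Subgroup G) : Set G), ∀ i,
    ∃ j, (A i).map (MulAut.conj g).toMonoidHom = A j
  comp : ∀ i, ∀ b ∈ XX A i, b ≠ 1 → ∃ K : Subgroup (Q b), IsComponent K ∧
    bar b (A i) ≤ K ∧ bar b (XX A i) ≤ centralizer (K : Set (Q b))
  bound : ∀ b ∈ (S : Subgroup G), b ≠ 1 → ∀ L : Subgroup (Q b), IsComponent L →
    Nat.card (S : Subgroup G) ≤ q * Nat.card (cenS (S : Subgroup G) b L)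
  str : ∀ b ∈ (S : Subgroup G), b ≠ 1 →
    layer (Q b) ⊔ normalizer (bar b (S : Subgroup G) : Set (Q b)) = ⊤

section

variable {S : Sylow 2 G} {ι : Type*} {A : ι → Subgroup G} {q : ℕ} (h : Blocks S A q)

include h

theorem Blocks.finite_index : Finite ι :=
  Nat.finite_of_card_ne_zero (by have := h.three; omega)

theorem Blocks.XX_le (i : ι) : XX A i ≤ (S : Subgroup G) := iSup_le fun j => h.le j

omit h in
theorem le_XX {i j : ι} (hij : j ≠ i) : A j ≤ XX A i :=
  le_iSup (fun j : {j : ι // j ≠ i} => A j) ⟨j, hij⟩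

omit h in
theorem card_mul_le [Finite G] {S A C : Subgroup G} (hA : A ≤ S) (hC : C ≤ S)
    (hAC : C ⊓ A = ⊥) : Nat.card A * Nat.card C ≤ Nat.card S := by
  by_contra hlt
  push Not at hlt
  have h1 : 0 < Nat.card C := Nat.card_pos
  have h2 : 0 < Nat.card A := Nat.card_pos
  refine inf_ne_bot_of_card hA hC (q := Nat.card A - 1) (by omega) ?_ hAC
  obtain ⟨c, hc⟩ : C ≤ S ∧ Nat.card C ∣ Nat.card S := ⟨hC, card_dvd_of_le hC⟩
  obtain ⟨d, hd⟩ := hc
  rw [hd, mul_comm] at hlt
  have h3 : d < Nat.card A := by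
    rw [mul_comm (Nat.card A), mul_comm d] at hlt
    exact lt_of_mul_lt_mul_left hlt (Nat.zero_le _)
  rw [hd, mul_comm]
  exact Nat.mul_le_mul_right _ (by omega)

theorem Blocks.A_ne_bot (i : ι) : A i ≠ ⊥ := by
  intro h1
  have h2 := h.card i
  have h3 := h.four
  rw [h1, card_bot] at h2
  omega

theorem Blocks.A_inj {i j : ι} (hij : A i = A j) : i = j := by
  by_contra hne
  have h1 := h.disj i
  have h2 : A i ≤ XX A i := by
    conv_lhs => rw [hij]
    exact le_XX (Ne.symm hne)
  rw [inf_eq_left.2 h2] at h1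
  exact h.A_ne_bot i h1

/-- there is a third index -/
theorem Blocks.exists_third (i j : ι) : ∃ k, k ≠ i ∧ k ≠ j := by
  have := h.finite_index
  classical
  have := Fintype.ofFinite ι
  have h3 := h.three
  rw [Nat.card_eq_fintype_card] at h3
  by_contra hcon
  push Not at hcon
  have h1 : (Finset.univ : Finset ι) ⊆ {i, j} := by
    intro k _
    rw [Finset.mem_insert, Finset.mem_singleton]
    by_cases hk : k = i
    · exact Or.inl hk
    · exact Or.inr (hcon k hk)
  have h2 := Finset.card_le_card h1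
  have h4 : (insert i ({j} : Finset ι)).card ≤ 2 := Finset.card_le_two
  rw [Finset.card_univ] at h2
  omega

theorem Blocks.nonempty : Nonempty ι := by
  rw [← not_isEmpty_iff]
  intro h1
  have h3 := h.three
  rw [Nat.card_of_isEmpty] at h3
  omega

theorem Blocks.XX_card [Finite G] (i : ι) : q * q ≤ Nat.card (XX A i) := by
  obtain ⟨j, hji, -⟩ := h.exists_third i i
  obtain ⟨k, hki, hkj⟩ := h.exists_third i j
  have h1 : A k ⊓ A j = ⊥ := by
    rw [eq_bot_iff, ← h.disj j, inf_comm]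
    exact inf_le_inf_left _ (le_XX hkj)
  have h2 := card_mul_le (le_XX (A := A) hji) (le_XX hki) h1
  rwa [h.card, h.card] at h2

theorem Blocks.S_card [Finite G] : 4 * (q * q) ≤ Nat.card (S : Subgroup G) := by
  obtain ⟨i⟩ := h.nonempty
  have h1 := card_mul_le (h.le i) (h.XX_le i) (by rw [inf_comm]; exact h.disj i)
  rw [h.card] at h1
  have h2 := h.XX_card i
  have h3 := h.four
  calc 4 * (q * q) ≤ q * Nat.card (XX A i) := Nat.mul_le_mul h3 h2
    _ ≤ _ := h1

theorem Blocks.q_pow [Finite G] : ∃ n, q = 2 ^ n := by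
  obtain ⟨i⟩ := h.nonempty
  have hp : IsPGroup 2 (A i) := S.isPGroup'.to_le (h.le i)
  obtain ⟨n, hn⟩ := IsPGroup.iff_card.1 hp
  exact ⟨n, by rw [← h.card i, hn]⟩

theorem Blocks.XX_conj {n : G} (hn : n ∈ normalizer ((S : Subgroup G) : Set G)) {i j : ι}
    (hij : (A i).map (MulAut.conj n).toMonoidHom = A j) :
    (XX A i).map (MulAut.conj n).toMonoidHom ≤ XX A j := by
  rw [XX, Subgroup.map_iSup]
  refine iSup_le ?_
  rintro ⟨k, hk⟩
  obtain ⟨l, hl⟩ := h.perm n hn k
  rw [hl]
  apply le_XX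
  rintro rfl
  apply hk
  apply h.A_inj
  exact map_injective (MulAut.conj n).injective (hl.trans hij.symm)

end

/-! ### The homomorphism `C_G(X) → C_G(b) / O(C_G(b))`, `b ∈ X` -/

theorem cent_le {X : Subgroup G} {b : G} (hb : b ∈ X) :
    centralizer (X : Set G) ≤ centralizer ({b} : Set G) :=
  centralizer_le (by rw [Set.singleton_subset_iff]; exact hb)

/-- the homomorphism `C_G(X) → C_G(b) / O(C_G(b))`, `b ∈ X` -/
def phi {X : Subgroup G} {b : G} (hb : b ∈ X) : centralizer (X : Set G) →* Q b :=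
  (pr b).comp (inclusion (cent_le hb))

section Phi

variable [Finite G]

theorem core_Q (b : G) : pPrimeCore 2 (Q b) = ⊥ :=
  Lib.Cores.pPrimeCore_quotient_pPrimeCore (G := ↥(centralizer ({b} : Set G))) 2

theorem ker_phi {X : Subgroup G} {b : G} (hb : b ∈ X) :
    (phi hb).ker ≤ pPrimeCore 2 (centralizer (X : Set G)) := by
  apply Lib.Cores.le_pPrimeCore inferInstance
  have h1 : (phi hb).ker = (pPrimeCore 2 ↥(centralizer ({b} : Set G))).comap
      (inclusion (cent_le hb)) := by
    unfold phi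
    rw [← MonoidHom.comap_ker, QuotientGroup.ker_mk']
  rw [h1]
  exact Nat.Coprime.coprime_dvd_left
    (card_comap_dvd_of_injective _ _ (inclusion_injective (cent_le hb)))
    (Lib.Cores.pPrimeCore_coprime 2)

theorem le_range_phi {X : Subgroup G} (hX : IsPGroup 2 X) {b : G} (hb : b ∈ X)
    (hXb : X ≤ centralizer ({b} : Set G)) {K : Subgroup (Q b)}
    (hK : bar b X ≤ centralizer (K : Set (Q b))) : K ≤ (phi hb).range := by
  intro k hk
  have hcop := Lib.Cores.pPrimeCore_coprime (G := ↥(centralizer ({b} : Set G))) 2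
  have hp : IsPGroup 2 (X.subgroupOf (centralizer {b})) :=
    hX.comap_of_injective _ (subtype_injective _)
  obtain ⟨g, hg, hgk⟩ := CoreOfCentralizer.exists_centralizing_of_quotient _ hp
    (pPrimeCore 2 ↥(centralizer ({b} : Set G)))
    (Nat.prime_two.coprime_iff_not_dvd.mp hcop.symm) k (by
      intro a ha
      exact (mem_centralizer_iff.1 (hK ⟨a, ha, rfl⟩) k hk).symm)
  have hgX : (g : G) ∈ centralizer (X : Set G) := by
    rw [mem_centralizer_iff]
    intro x hx
    exact congrArg Subtype.val (hg ⟨x, hXb hx⟩ (mem_subgroupOf.2 hx))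
  refine ⟨⟨g, hgX⟩, ?_⟩
  rw [← hgk]
  rfl

/-- the image of a Sylow 2-subgroup in a quotient is commutative -/
theorem exists_sylow_quotient {S : Sylow 2 G}
    (hS : ∀ x ∈ (S : Subgroup G), ∀ y ∈ (S : Subgroup G), x * y = y * x) {H : Subgroup G}
    (hSH : (S : Subgroup G) ≤ H) (N : Subgroup H) [N.Normal] :
    ∃ T : Sylow 2 (H ⧸ N), (∀ x ∈ (T : Subgroup (H ⧸ N)), ∀ y ∈ (T : Subgroup (H ⧸ N)),
      x * y = y * x) ∧ (T : Subgroup (H ⧸ N)) =
        ((S : Subgroup G).subgroupOf H).map (QuotientGroup.mk' N) := by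
  refine ⟨(S.subtype hSH).mapSurjective (QuotientGroup.mk'_surjective N), ?_, ?_⟩
  · rw [Sylow.coe_mapSurjective]
    rintro _ ⟨x, hx, rfl⟩ _ ⟨y, hy, rfl⟩
    rw [← map_mul, ← map_mul]
    congr 1
    exact Subtype.ext (hS x hx y hy)
  · rw [Sylow.coe_mapSurjective]
    rfl

end Phi

section Exists

variable [Finite G] {S : Sylow 2 G} {ι : Type*} {A : ι → Subgroup G} {q : ℕ} (h : Blocks S A q)

include h

omit [Finite G] in
theorem Blocks.comm {x y : G} (hx : x ∈ (S : Subgroup G)) (hy : y ∈ (S : Subgroup G)) :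
    x * y = y * x := comm_of_sq h.sq hx hy

omit [Finite G] in
theorem Blocks.A_le_cent (i : ι) : A i ≤ centralizer (XX A i : Set G) :=
  le_centralizer h.sq (h.XX_le i) (h.le i)

/-- the group `U i` attached to the component `K` of `C_G(b) / O(C_G(b))` -/
theorem Blocks.exists_U (i : ι) : ∃ U : Subgroup G, U ≤ centralizer (XX A i : Set G) ∧ A i ≤ U ∧
    Group.IsPerfect U ∧ ∀ b ∈ XX A i, b ≠ 1 → IsComponent (bar b U) := by
  set X := XX A i with hX
  set H := centralizer (X : Set G) with hH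
  have hSH : (S : Subgroup G) ≤ H := le_centralizer h.sq (h.XX_le i) le_rfl
  have hXp : IsPGroup 2 X := S.isPGroup'.to_le (h.XX_le i)
  -- for each `b` a 2-component of `C(X)`
  have key : ∀ b, ∀ hb : b ∈ X, b ≠ 1 → ∃ V : Subgroup H, IsPComponent 2 V ∧
      (A i).subgroupOf H ≤ V ∧ IsComponent (V.map (phi hb)) := by
    intro b hb hb1
    obtain ⟨K, hK, hAK, hXK⟩ := h.comp i b hb hb1
    have hXb : X ≤ centralizer ({b} : Set G) := fun x hx =>
      mem_cen h.sq (h.XX_le i hx) (h.XX_le i hb)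
    have hr := le_range_phi hXp hb hXb hXK
    refine ⟨pElem 2 (K.comap (phi hb)), isPComponent_pElem _ (ker_phi hb) (core_Q b) hK hr, ?_, ?_⟩
    · rintro ⟨a, haH⟩ ha
      have haA : a ∈ A i := ha
      refine mem_pElem (n := 1) ?_ ?_
      · exact hAK ⟨⟨a, cent_le hb haH⟩, haA, rfl⟩
      · apply Subtype.ext
        show a ^ 2 ^ 1 = 1
        rw [pow_one, pow_two]
        exact h.sq a (h.le i haA)
    · rw [map_pElem_comap' _ (ker_phi hb) (core_Q b) hK hr]
      exact hK
  -- uniqueness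
  obtain ⟨a, haA, ha1⟩ := (bot_or_exists_ne_one _).resolve_left (h.A_ne_bot i)
  have haS := h.le i haA
  have haH : a ∈ H := hSH haS
  have huniq : ∀ V W : Subgroup H, IsPComponent 2 V → IsPComponent 2 W →
      (A i).subgroupOf H ≤ V → (A i).subgroupOf H ≤ W → V = W := by
    intro V W hV hW hAV hAW
    apply pcomp_unique hV hW
    obtain ⟨T, hT, -⟩ := exists_sylow_quotient (fun x hx y hy => h.comm hx hy) hSH
      (pPrimeCore 2 H)
    have hmem : (⟨a, haH⟩ : H) ∈ (A i).subgroupOf H := haA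
    refine comp_eq_of_mem T hT hV.2.1 hW.2.1 (x := QuotientGroup.mk' _ (⟨a, haH⟩ : H))
      ⟨_, hAV hmem, rfl⟩ ⟨_, hAW hmem, rfl⟩ ?_ ?_
    · rw [← map_mul]
      have : (⟨a, haH⟩ : H) * ⟨a, haH⟩ = 1 := Subtype.ext (h.sq a haS)
      rw [this, map_one]
    · intro h1
      have h2 : (⟨a, haH⟩ : H) ∈ pPrimeCore 2 H := (QuotientGroup.eq_one_iff _).1 h1
      have h3 : orderOf (⟨a, haH⟩ : H) ∣ Nat.card (pPrimeCore 2 H) := by
        rw [← Subgroup.orderOf_mk _ h2]
        exact orderOf_dvd_natCard _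
      rw [Subgroup.orderOf_mk, orderOf_of_sq h.sq haS ha1] at h3
      exact Nat.prime_two.coprime_iff_not_dvd.mp (Lib.Cores.pPrimeCore_coprime 2).symm h3
  -- a nontrivial element of `X`
  obtain ⟨b, hb, hb1⟩ : ∃ b ∈ X, b ≠ 1 := by
    refine (bot_or_exists_ne_one _).resolve_left ?_
    obtain ⟨j, hji, -⟩ := h.exists_third i i
    intro h1
    apply h.A_ne_bot j
    rw [eq_bot_iff, ← h1]
    exact le_XX hji
  obtain ⟨V, hV, hAV, -⟩ := key b hb hb1
  refine ⟨V.map H.subtype, map_subtype_le V, ?_, ?_, ?_⟩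
  · intro x hx
    exact ⟨⟨x, hSH (h.le i hx)⟩, hAV hx, rfl⟩
  · have := PCompQuot.perfect_of_pComponent hV
    exact Group.IsPerfect.ofSurjective (f := (V.equivMapOfInjective H.subtype
      H.subtype_injective).toMonoidHom) (V.equivMapOfInjective H.subtype
      H.subtype_injective).surjective
  · intro c hc hc1
    obtain ⟨W, hW, hAW, hWc⟩ := key c hc hc1
    rw [huniq V W hV hW hAV hAW]
    have h1 : bar c (W.map H.subtype) = W.map (phi hc) := by
      ext y
      constructor
      · rintro ⟨x, ⟨w, hw, hwx⟩, rfl⟩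
        refine ⟨w, hw, ?_⟩
        show pr c (inclusion (cent_le hc) w) = pr c x
        congr 1
        exact Subtype.ext hwx
      · rintro ⟨w, hw, rfl⟩
        exact ⟨inclusion (cent_le hc) w, ⟨w, hw, rfl⟩, rfl⟩
    rw [h1]
    exact hWc

open scoped commutatorElement in
/-- `U i` centralises `O(C(b))` when `Δ` vanishes on large subgroups. -/
theorem Blocks.core_le_centralizer (hΔ : ∀ D : Subgroup G, D ≤ (S : Subgroup G) →
    2 * q ≤ Nat.card D → signalizerDelta 2 D = ⊥) {i : ι} {U : Subgroup G}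
    (hU1 : U ≤ centralizer (XX A i : Set G))
    (hU2 : ∀ b ∈ XX A i, b ≠ 1 → IsComponent (bar b U)) {b : G} (hb : b ∈ XX A i) (hb1 : b ≠ 1) :
    centralizerPPrimeCore 2 b ≤ centralizer (U : Set G) := by
  set X := XX A i with hX
  have hXS := h.XX_le i
  have hbS := hXS hb
  have hX1 : X ≠ ⊥ := by
    intro h1
    rw [h1, mem_bot] at hb
    exact hb1 hb
  rw [← Lib.CoprimeHyperplane.iSup_centralizer_hyperplane (elementary h.sq hXS) hX1
    (core_odd b) (le_normalizer_core h.sq hbS hXS)]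
  refine iSup_le ?_
  rintro ⟨B, hBX, hBi⟩
  -- the group `X' = B⟨b⟩`
  set X' := B ⊔ zpowers b with hX'
  have hX'X : X' ≤ X := sup_le hBX (by rwa [zpowers_le])
  have hX'c : 2 * q ≤ Nat.card X' := by
    have h2 : Nat.card B * B.relIndex X = Nat.card X := by
      have := relIndex_mul_relIndex (⊥ : Subgroup G) B X bot_le hBX
      rwa [relIndex_bot_left, relIndex_bot_left] at this
    rw [hBi] at h2
    have h3 := h.XX_card i
    rw [← hX, ← h2] at h3
    have h4 : Nat.card B ≤ Nat.card X' := card_le_of_le le_sup_left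
    have h5 := h.four
    nlinarith
  have hUb : U ≤ centralizer ({b} : Set G) := hU1.trans (cent_le hb)
  -- the group `Y`
  set Y := centralizerPPrimeCore 2 b ⊓ centralizer (X' : Set G) with hY
  have hle : centralizerPPrimeCore 2 b ⊓ centralizer ((B : Subgroup G) : Set G) ≤ Y := by
    refine le_inf inf_le_left ?_
    rintro y ⟨hy1, hy2⟩
    have h1 : X' ≤ centralizer ({y} : Set G) := by
      refine sup_le ?_ ?_
      · intro x hx
        exact mem_centralizer_singleton_iff.2 (mem_centralizer_iff.1 hy2 x hx)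
      · rw [zpowers_le]
        refine mem_centralizer_singleton_iff.2 ?_
        exact (mem_centralizer_singleton_iff.1
          (CoreOfCentralizer.centralizerPPrimeCore_le 2 b hy1)).symm
    refine mem_centralizer_iff.2 fun x hx => ?_
    exact mem_centralizer_singleton_iff.1 (h1 hx)
  refine hle.trans ?_
  have hYconj : ∀ u ∈ U, ∀ y ∈ Y, u * y * u⁻¹ ∈ Y := by
    rintro u hu y ⟨hy1, hy2⟩
    have h1 := CoreOfCentralizer.centralizer_le_normalizer_centralizerPPrimeCore 2 b (hUb hu)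
    refine ⟨(mem_normalizer_iff.1 h1 y).1 hy1, ?_⟩
    have h2 : u ∈ centralizer (X' : Set G) := centralizer_le hX'X (hU1 hu)
    exact Subgroup.mul_mem _ (Subgroup.mul_mem _ h2 hy2) (Subgroup.inv_mem _ h2)
  have hYodd : ¬ 2 ∣ Nat.card Y := fun h1 =>
    core_odd b (h1.trans (card_dvd_of_le inf_le_left))
  have key : ∀ u ∈ U, ∀ y ∈ Y, ⁅u, y⁆ ∈ signalizerDelta 2 X' := by
    intro u hu y hy
    refine mem_iInf.mpr ?_
    rintro ⟨c, hc, hc1⟩
    show ⁅u, y⁆ ∈ centralizerPPrimeCore 2 c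
    have hcX := hX'X hc
    have hUc : U ≤ centralizer ({c} : Set G) := hU1.trans (cent_le hcX)
    have hYc : Y ≤ centralizer ({c} : Set G) := inf_le_right.trans (cent_le hc)
    have hK := hU2 c hcX hc1
    have hn : bar c U ≤ normalizer (bar c Y : Set (Q c)) := by
      have h1 : ∀ v ∈ bar c U, ∀ z ∈ bar c Y, v * z * v⁻¹ ∈ bar c Y := by
        rintro _ ⟨v, hv, rfl⟩ _ ⟨z, hz, rfl⟩
        refine ⟨v * z * v⁻¹, hYconj _ hv _ hz, by simp only [map_mul, map_inv]⟩
      intro v hv
      rw [mem_normalizer_iff]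
      intro z
      refine ⟨h1 v hv z, fun hz => ?_⟩
      have h2 := h1 v⁻¹ (inv_mem hv) _ hz
      have h3 : v⁻¹ * (v * z * v⁻¹) * v⁻¹⁻¹ = z := by group
      rwa [h3] at h2
    have hnle : ¬ bar c U ≤ bar c Y := by
      intro h1
      have h2 := prime_dvd_card_component (core_Q c) hK
      have h3 : Nat.card (bar c Y) ∣ Nat.card Y := by
        refine (card_dvd_of_surjective _ ((pr c).subgroupMap_surjective _)).trans ?_
        exact card_comap_dvd_of_injective _ _ (subtype_injective _)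
      exact hYodd ((h2.trans (card_dvd_of_le h1)).trans h3)
    have h4 := S1270.component_comm_of_normalizes hK hn hnle
    have hup : pr c ⟨u, hUc hu⟩ ∈ bar c U := ⟨⟨u, hUc hu⟩, hu, rfl⟩
    have hyp : pr c ⟨y, hYc hy⟩ ∈ bar c Y := ⟨⟨y, hYc hy⟩, hy, rfl⟩
    have h5 := commutator_mem_commutator hup hyp
    rw [h4, mem_bot, ← map_commutatorElement] at h5
    exact ⟨_, (QuotientGroup.eq_one_iff _).1 h5, rfl⟩
  intro y hy
  refine mem_centralizer_iff.2 fun u hu => ?_
  have h1 := key u hu y hy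
  rw [hΔ X' (hX'X.trans hXS) hX'c, mem_bot, commutatorElement_eq_one_iff_mul_comm] at h1
  exact h1

/-- `U i` is a component of `C(b)`, `b ∈ X i`. -/
theorem Blocks.isComponent_U (hΔ : ∀ D : Subgroup G, D ≤ (S : Subgroup G) →
    2 * q ≤ Nat.card D → signalizerDelta 2 D = ⊥) {i : ι} {U : Subgroup G}
    (hU1 : U ≤ centralizer (XX A i : Set G)) (hU3 : Group.IsPerfect U)
    (hU2 : ∀ b ∈ XX A i, b ≠ 1 → IsComponent (bar b U)) {b : G} (hb : b ∈ XX A i) (hb1 : b ≠ 1) :
    IsComponent (U.subgroupOf (centralizer ({b} : Set G))) := by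
  have hUb : U ≤ centralizer ({b} : Set G) := hU1.trans (cent_le hb)
  have hcent := h.core_le_centralizer hΔ hU1 hU2 hb hb1
  have hK := hU2 b hb hb1
  set C := centralizer ({b} : Set G) with hC
  set U' := U.subgroupOf C with hU'
  have hO : pPrimeCore 2 C ≤ centralizer (U' : Set C) := by
    intro o ho
    rw [mem_centralizer_iff]
    intro u hu
    have h1 : (o : G) ∈ centralizerPPrimeCore 2 b := ⟨o, ho, rfl⟩
    exact Subtype.ext (mem_centralizer_iff.1 (hcent h1) u hu)
  have hperf : Group.IsPerfect U' :=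
    Group.IsPerfect.ofSurjective (f := (subgroupOfEquivOfLe hUb).symm.toMonoidHom)
      (subgroupOfEquivOfLe hUb).symm.surjective
  refine ⟨?_, ?_⟩
  · have h1 : ((bar b U).comap (pr b)).IsSubnormal := hK.1.comap _
    have h2 : (bar b U).comap (pr b) = U' ⊔ pPrimeCore 2 C := by
      rw [bar, comap_map_eq, QuotientGroup.ker_mk']
    rw [h2] at h1
    refine IsSubnormal.step U' (U' ⊔ pPrimeCore 2 C) le_sup_left h1 ?_
    rw [normal_subgroupOf_iff_le_normalizer le_sup_left]
    refine sup_le le_normalizer ?_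
    exact hO.trans (centralizer_le_normalizer _)
  · let f : U' →* bar b U := (pr b).subgroupMap U'
    have hf : Function.Surjective f := (pr b).subgroupMap_surjective U'
    have e : U' ⧸ f.ker ≃* bar b U := QuotientGroup.quotientKerEquivOfSurjective f hf
    refine PCompQuot.quasisimple_of_central_quotient hperf (N := f.ker) ?_
      (Components.isQuasisimple_of_mulEquiv e.symm hK.2)
    rintro ⟨x, hx⟩ hxf
    rw [MonoidHom.mem_ker] at hxf
    have h3 : x ∈ pPrimeCore 2 C := (QuotientGroup.eq_one_iff x).1 (congrArg Subtype.val hxf)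
    rw [mem_center_iff]
    rintro ⟨y, hy⟩
    exact Subtype.ext (mem_centralizer_iff.1 (hO h3) y hy)

end Exists

end Cfsg.Agent.Walter.ProductU
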