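import Mathlib
import Cfsg.Prelude.Def_Local
import Cfsg.Agent.Lib.Cores
import Cfsg.Agent.Walter.AbTypes
import Cfsg.Agent.Walter.ProductU
import Cfsg.Agent.Walter.PairsStr

/-!
# The fusion theorem for a simple group with abelian Sylow 2-subgroup

If some `C_G(b) / O(C_G(b))`, `1 ≠ b ∈ S`, has a component, then `S` is elementary and either `S` is
the product of at least three blocks permuted by `N_G(S)` (`ProductU.Blocks`), or `|S| = 8`, `N_G(S)` is
transitive on `S \ {1}` and every `C_G(b) / O(C_G(b))` has a component `K` with `|S ∩ K| = 4`.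
-/

set_option autoImplicit false

namespace Cfsg.Agent.Walter.PairsMain

open Subgroup Cfsg
open Cfsg.Agent.SignalizersComponents.Components
open Cfsg.Agent.Walter.PairsAbs Cfsg.Agent.Walter.PairsGroup Cfsg.Agent.Walter.PairsStr
open scoped IsMulCommutative Pointwise

universe u

section general

variable {G : Type*} [Group G] [Finite G] (S : Sylow 2 G) [IsMulCommutative (S : Subgroup G)]

theorem card_TT {b : (S : Subgroup G)} {K : Subgroup (CQ (b : G))} (P : Sylow 2 (CQ (b : G)))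
    (hP : (P : Subgroup (CQ (b : G))) = (toCQ (S : Subgroup G) b).range) :
    Nat.card (TT (toCQ (S : Subgroup G) b) K) = Nat.card ((P : Subgroup (CQ (b : G))) ⊓ K : Subgroup _) := by
  have h1 : (TT (toCQ (S : Subgroup G) b) K).map (toCQ (S : Subgroup G) b) =
      (P : Subgroup (CQ (b : G))) ⊓ K := by
    rw [hP]
    ext x
    constructor
    · rintro ⟨s, hs, rfl⟩
      exact ⟨⟨s, rfl⟩, hs⟩
    · rintro ⟨⟨s, rfl⟩, hs⟩
      exact ⟨s, hs, rfl⟩
  rw [← h1, Subgroup.card_map_of_injective (toCQ_injective S b)]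

/-- the order of `S` -/
theorem card_TT_mul_card_QQ {b : (S : Subgroup G)} {K : Subgroup (CQ (b : G))} (hK : IsComponent K) :
    Nat.card (TT (toCQ (S : Subgroup G) b) K) * Nat.card (QQ (toCQ (S : Subgroup G) b) K) =
      Nat.card (S : Subgroup G) := by
  have h := IsPair.isCompl S (b := b) ⟨K, hK, rfl, rfl⟩
  rw [mul_comm]
  exact Fusion.card_mul_eq h

omit [Finite G] [IsMulCommutative (S : Subgroup G)] in
theorem smul_mk (w : W S) : ∃ n ∈ normalizer ((S : Subgroup G) : Set G),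
    ∀ s : (S : Subgroup G), ((w • s : (S : Subgroup G)) : G) = n * s * n⁻¹ := by
  obtain ⟨w, ⟨n, rfl⟩⟩ := w
  exact ⟨n, n.2, fun s => rfl⟩

end general

section Main

variable {G : Type u} [Group G] [Finite G] (S : Sylow 2 G) [IsMulCommutative (S : Subgroup G)]

/-- a subgroup of `S` as a subgroup of `G` -/
abbrev up (Y : Subgroup (S : Subgroup G)) : Subgroup G := Y.map (S : Subgroup G).subtype

omit [Finite G] [IsMulCommutative (S : Subgroup G)] in
theorem mem_up {Y : Subgroup (S : Subgroup G)} {x : G} :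
    x ∈ up S Y ↔ ∃ h : x ∈ (S : Subgroup G), (⟨x, h⟩ : (S : Subgroup G)) ∈ Y := by
  constructor
  · rintro ⟨y, hy, rfl⟩
    exact ⟨y.2, hy⟩
  · rintro ⟨h, hx⟩
    exact ⟨⟨x, h⟩, hx, rfl⟩

omit [Finite G] in
theorem bar_up_le {b : (S : Subgroup G)} {Y : Subgroup (S : Subgroup G)} {K : Subgroup (CQ (b : G))}
    (h : Y ≤ K.comap (toCQ (S : Subgroup G) b)) : ProductU.bar (b : G) (up S Y) ≤ K := by
  rintro _ ⟨x, hx, rfl⟩
  obtain ⟨hxS, hxY⟩ := (mem_up S).1 (mem_subgroupOf.1 hx)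
  exact h hxY

theorem blocks {b : (S : Subgroup G)} {T Q : Subgroup (S : Subgroup G)} (hb : b ≠ 1)
    (hp : IsPair (S : Subgroup G) b T Q)
    (hmax : ∀ (b' : (S : Subgroup G)) (T' Q' : Subgroup (S : Subgroup G)), b' ≠ 1 →
      IsPair (S : Subgroup G) b' T' Q' → Nat.card T' ≤ Nat.card T)
    (hodd : Odd (Nat.card (W S))) (hV : ∀ v : (S : Subgroup G), v ^ 2 = 1)
    (hirr : ∀ Y : Subgroup (S : Subgroup G), (∀ w : W S, w • Y = Y) → Y = ⊥ ∨ Y = ⊤)
    (hT : 4 ≤ Nat.card T) (hprod : Fusion.ProdC (W S) Q T)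
    (hex : ∃ w : W S, w • T ≤ Q ∧ T ≤ w • Q) :
    ProductU.Blocks S (fun i : MulAction.orbit (W S) T => up S (i : Subgroup (S : Subgroup G)))
      (Nat.card T) := by
  have hc := IsPair.isCompl S hp
  have hT' : T ≠ ⊥ := by
    rw [← Subgroup.one_lt_card_iff_ne_bot]; omega
  have hinj : Function.Injective (S : Subgroup G).subtype := (S : Subgroup G).subtype_injective
  have hSup := Fusion.iSup_eq_top hirr hT'
  -- the product of the other blocks
  have hXX : ∀ w : W S, ProductU.XX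
      (fun i : MulAction.orbit (W S) T => up S (i : Subgroup (S : Subgroup G)))
      ⟨w • T, ⟨w, rfl⟩⟩ = up S (w • Q) := by
    intro w
    unfold ProductU.XX
    rw [← Subgroup.map_iSup]
    congr 1
    have hle : (⨆ j : {j : MulAction.orbit (W S) T // j ≠ ⟨w • T, ⟨w, rfl⟩⟩},
        ((j : MulAction.orbit (W S) T) : Subgroup (S : Subgroup G))) ≤ w • Q := by
      refine iSup_le ?_
      rintro ⟨⟨_, ⟨w', rfl⟩⟩, hj⟩
      refine hprod.le_of_ne ?_
      intro e
      exact hj (Subtype.ext e)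
    have h1 : w • T ⊔ (⨆ j : {j : MulAction.orbit (W S) T // j ≠ ⟨w • T, ⟨w, rfl⟩⟩},
        ((j : MulAction.orbit (W S) T) : Subgroup (S : Subgroup G))) = ⊤ := by
      rw [eq_top_iff, ← hSup]
      refine iSup_le fun w' => ?_
      by_cases he : w' • T = w • T
      · exact (le_of_eq he).trans le_sup_left
      · refine le_trans ?_ le_sup_right
        exact le_iSup (fun j : {j : MulAction.orbit (W S) T // j ≠ ⟨w • T, ⟨w, rfl⟩⟩} =>
          ((j : MulAction.orbit (W S) T) : Subgroup (S : Subgroup G)))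
          ⟨⟨w' • T, ⟨w', rfl⟩⟩, fun e => he (congrArg Subtype.val e)⟩
    have h2 : w • T ⊓ w • Q = ⊥ := by
      rw [inf_comm]; exact Fusion.smul_inf_eq_bot hc w
    exact ((squeeze le_rfl hle h1 h2).2).symm
  refine
    { sq := fun x hx => ?_
      le := ?_
      sup := ?_
      disj := ?_
      card := ?_
      four := hT
      three := Fusion.ProdC.three_le hodd hc hT' hex
      perm := ?_
      comp := ?_
      bound := ?_
      str := ?_ }
  · have := congrArg Subtype.val (hV ⟨x, hx⟩)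
    rw [pow_two] at this
    exact this
  · intro i
    exact map_subtype_le _
  · rw [← Subgroup.map_iSup]
    have h1 : (⨆ i : MulAction.orbit (W S) T, (i : Subgroup (S : Subgroup G))) = ⊤ := by
      rw [eq_top_iff, ← hSup]
      exact iSup_le fun w => le_iSup (fun i : MulAction.orbit (W S) T =>
        (i : Subgroup (S : Subgroup G))) ⟨w • T, ⟨w, rfl⟩⟩
    rw [h1, ← MonoidHom.range_eq_map, range_subtype]
  · rintro ⟨_, ⟨w, rfl⟩⟩
    rw [hXX w]
    change up S (w • T) ⊓ up S (w • Q) = ⊥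
    rw [← map_inf _ _ _ hinj, inf_comm]
    have h3 : w • Q ⊓ w • T = ⊥ := Fusion.smul_inf_eq_bot hc w
    exact (congrArg (Subgroup.map (S : Subgroup G).subtype) h3).trans (Subgroup.map_bot _)
  · rintro ⟨_, ⟨w, rfl⟩⟩
    change Nat.card (up S (w • T)) = Nat.card T
    exact (Subgroup.card_map_of_injective hinj).trans (Fusion.card_smul w T)
  · rintro g hg ⟨_, ⟨w, rfl⟩⟩
    let w' : W S := ⟨(S : Subgroup G).normalizerMonoidHom ⟨g, hg⟩, ⟨_, rfl⟩⟩
    refine ⟨⟨(w' * w) • T, ⟨w' * w, rfl⟩⟩, ?_⟩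
    change (up S (w • T)).map (MulAut.conj g).toMonoidHom = up S ((w' * w) • T)
    rw [mul_smul]
    ext x
    constructor
    · rintro ⟨_, ⟨y, hy, rfl⟩, rfl⟩
      exact ⟨w' • y, Subgroup.smul_mem_pointwise_smul _ _ _ hy, rfl⟩
    · rintro ⟨y, hy, rfl⟩
      obtain ⟨z, hz, rfl⟩ := hy
      exact ⟨z, ⟨z, hz, rfl⟩, rfl⟩
  · rintro ⟨_, ⟨w, rfl⟩⟩ x hx hx1
    rw [hXX w, mem_up] at hx
    obtain ⟨hxS, hx⟩ := hx
    obtain ⟨n, hn, hwn⟩ := smul_mk S w
    have hp' : IsPair (S : Subgroup G) ((w : MulAut (S : Subgroup G)) b)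
        ((w : MulAut (S : Subgroup G)) • T) ((w : MulAut (S : Subgroup G)) • Q) :=
      hp.smul (w : MulAut (S : Subgroup G)) hwn
    have hb' : (w : MulAut (S : Subgroup G)) b ≠ 1 := by
      intro h2
      apply hb
      exact (map_eq_one_iff _ (w : MulAut (S : Subgroup G)).injective).1 h2
    obtain ⟨K, hK, hKT, hKQ⟩ := persist S.2 (fun b _ => str S b) hb' hp' (by
      intro b'' T'' Q'' hb'' h''
      have := hmax b'' T'' Q'' hb'' h''
      rwa [← Fusion.card_smul w T] at this) (u := ⟨x, hxS⟩) hx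
      (fun e => hx1 (congrArg Subtype.val e))
    refine ⟨K, hK, ?_, ?_⟩
    · exact bar_up_le S (b := ⟨x, hxS⟩) (le_of_eq hKT.symm)
    · rw [hXX w]
      exact bar_up_le S (b := ⟨x, hxS⟩) (le_of_eq hKQ.symm)
  · intro x hx hx1 L hL
    have h1 := card_TT_mul_card_QQ S (b := ⟨x, hx⟩) hL
    have h2 := hmax ⟨x, hx⟩ _ _ (fun e => hx1 (congrArg Subtype.val e)) ⟨L, hL, rfl, rfl⟩
    rw [← h1]
    refine Nat.mul_le_mul h2 ?_
    have h3 : up S (QQ (toCQ (S : Subgroup G) ⟨x, hx⟩) L) ≤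
        ProductBal.cenS (S : Subgroup G) x L := by
      rintro _ ⟨y, hy, rfl⟩
      rw [ProductBal.mem_cenS]
      exact ⟨y.2, mem_centralizer_of_mem (S : Subgroup G) y ⟨x, hx⟩, hy⟩
    have h4 := Subgroup.card_le_of_le h3
    rwa [Subgroup.card_map_of_injective hinj] at h4
  · intro x hx hx1
    obtain ⟨P, hP⟩ := exists_sylow S ⟨x, hx⟩
    have h1 := AbTypes.layer_sup_normalizer (core_eq_bot x) (range_comm S ⟨x, hx⟩ hP)
    have h2 : (P : Subgroup (CQ x)) = ProductU.bar x (S : Subgroup G) := by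
      rw [hP]
      ext y
      constructor
      · rintro ⟨s, rfl⟩
        exact ⟨toC (S : Subgroup G) ⟨x, hx⟩ s, mem_subgroupOf.2 s.2, rfl⟩
      · rintro ⟨s, hs, rfl⟩
        exact ⟨⟨s, mem_subgroupOf.1 hs⟩, rfl⟩
    rw [h2] at h1
    exact h1

/-- **The fusion theorem.** -/
theorem blocks_or_eight
    (hrot : ∀ (b : (S : Subgroup G)) (K : Subgroup (CQ (b : G))), b ≠ 1 → IsComponent K →
      ∀ P : Sylow 2 K, (∀ x ∈ (P : Subgroup K), ∀ y ∈ (P : Subgroup K), x * y = y * x) →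
        (∀ x ∈ (P : Subgroup K), x * x = 1) ∧
        ∀ x ∈ (P : Subgroup K), x ≠ 1 → ∀ y ∈ (P : Subgroup K), y ≠ 1 →
        ∃ n ∈ normalizer ((P : Subgroup K) : Set K), n * x * n⁻¹ = y)
    (hodd : Odd (Nat.card (W S)))
    (hirr : ∀ Y : Subgroup (S : Subgroup G), (∀ y ∈ Y, y ^ 2 = 1) → (∀ w : W S, w • Y = Y) →
      Y = ⊥ ∨ ∀ v : (S : Subgroup G), v ^ 2 = 1 → v ∈ Y)
    (hcomp : ∃ (b : (S : Subgroup G)) (K : Subgroup (CQ (b : G))), b ≠ 1 ∧ IsComponent K) :
    (∀ x ∈ (S : Subgroup G), x * x = 1) ∧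
      ((∃ (ι : Type u) (A : ι → Subgroup G) (q : ℕ), ProductU.Blocks S A q) ∨
      (Nat.card (S : Subgroup G) = 8 ∧
        (∀ s ∈ (S : Subgroup G), s ≠ 1 → ∀ t ∈ (S : Subgroup G), t ≠ 1 →
          ∃ n ∈ normalizer ((S : Subgroup G) : Set G), n * s * n⁻¹ = t) ∧
        ∀ b : (S : Subgroup G), b ≠ 1 → ∃ K : Subgroup (CQ (b : G)), IsComponent K ∧
          Nat.card (TT (toCQ (S : Subgroup G) b) K) = 4 ∧
          Nat.card (QQ (toCQ (S : Subgroup G) b) K) = 2)) := by
  obtain ⟨b0, K0, hb0, hK0⟩ := hcomp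
  obtain ⟨b, T, Q, hb, hp, hmax⟩ := exists_max S ⟨b0, _, _, hb0, K0, hK0, rfl, rfl⟩
  have hc := IsPair.isCompl S hp
  have hbal := bal S hb hp hmax
  have hbQ : b ∈ Q := IsPair.self_mem hp
  obtain ⟨K, hK, hKT, hKQ⟩ := id hp
  have hrotK := hrot b K hb hK
  obtain ⟨P, hP⟩ := exists_sylow S b
  obtain ⟨R, hR⟩ := AbStruct.exists_sylow P hK
  have hRcomm : ∀ x ∈ (R : Subgroup K), ∀ y ∈ (R : Subgroup K), x * y = y * x := by
    rw [hR]
    exact AbStruct.comm_subgroupOf (range_comm S b hP)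
  have hTe : ∀ t ∈ T, t ^ 2 = 1 := by
    intro t ht
    rw [← hKT] at ht
    have h1 : (⟨toCQ (S : Subgroup G) b t, ht⟩ : K) ∈ (R : Subgroup K) := by
      rw [hR, mem_subgroupOf, hP]
      exact ⟨t, rfl⟩
    have h2 := (hrotK R hRcomm).1 _ h1
    apply toCQ_injective S b
    rw [map_pow, map_one, pow_two]
    exact congrArg Subtype.val h2
  have hT : 4 ≤ Nat.card T := by
    rw [← hKT, card_TT S P hP]
    refine Nat.le_of_dvd Nat.card_pos ?_
    exact AbTypes.four_dvd (core_eq_bot (b : G)) (range_comm S b hP) hK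
  have hT' : T ≠ ⊥ := by
    rw [← Subgroup.one_lt_card_iff_ne_bot]; omega
  have hX : Q ≠ ⊥ := by
    intro h
    rw [h, mem_bot] at hbQ
    exact hb hbQ
  have hD : Fusion.Rot (W S) Q T := by
    rw [← hKT, ← hKQ]
    exact rot S hK (fun P hP => (hrotK P hP).2)
  have hV : ∀ v : (S : Subgroup G), v ^ 2 = 1 := fun v =>
    Fusion.elementary (W := W S) S.2 hirr hc hT' hTe v
  have hirr' : ∀ Y : Subgroup (S : Subgroup G), (∀ w : W S, w • Y = Y) → Y = ⊥ ∨ Y = ⊤ := by
    intro Y hY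
    rcases hirr Y (fun y _ => hV y) hY with h | h
    · exact Or.inl h
    · exact Or.inr (eq_top_iff.2 fun v _ => h v (hV v))
  refine ⟨fun x hx => ?_, ?_⟩
  · have := congrArg Subtype.val (hV ⟨x, hx⟩)
    rw [pow_two] at this
    exact this
  rcases Fusion.dichotomy hodd hV hirr' hc hX hT hD hbal with ⟨h1, h2⟩ | ⟨h8, h4, h2, -, htr, -⟩
  · left
    exact ⟨_, _, _, blocks S hb hp hmax hodd hV hirr' hT h1 h2⟩
  · right
    refine ⟨h8, ?_, ?_⟩
    · intro s hs hs1 t ht ht1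
      obtain ⟨w, hw⟩ := htr ⟨s, hs⟩ ⟨t, ht⟩ (fun e => hs1 (congrArg Subtype.val e))
        (fun e => ht1 (congrArg Subtype.val e))
      obtain ⟨n, hn, hwn⟩ := smul_mk S w
      refine ⟨n, hn, ?_⟩
      have h3 := hwn ⟨s, hs⟩
      rw [hw] at h3
      exact h3.symm
    · intro c hc1
      obtain ⟨w, hw⟩ := htr b c hb hc1
      obtain ⟨n, hn, hwn⟩ := smul_mk S w
      have hp' : IsPair (S : Subgroup G) ((w : MulAut (S : Subgroup G)) b)
          ((w : MulAut (S : Subgroup G)) • T) ((w : MulAut (S : Subgroup G)) • Q) :=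
        hp.smul (w : MulAut (S : Subgroup G)) hwn
      have hw' : (w : MulAut (S : Subgroup G)) b = c := hw
      rw [hw'] at hp'
      obtain ⟨K', hK', hT'', hQ''⟩ := hp'
      refine ⟨K', hK', ?_, ?_⟩
      · rw [hT'']
        exact (Fusion.card_smul w T).trans h4
      · rw [hQ'']
        exact (Fusion.card_smul w Q).trans h2

end Main

end Cfsg.Agent.Walter.PairsMain
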