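import Mathlib
import Cfsg.Agent.Walter.PairsStr
import Cfsg.Agent.Walter.Irreducible

/-!
# The group of automorphisms of an abelian Sylow 2-subgroup induced by its normalizer
-/

set_option autoImplicit false

namespace Cfsg.Agent.Walter.PairsW

open Subgroup Cfsg
open Cfsg.Agent.Walter.PairsStr
open scoped IsMulCommutative Pointwise

variable {G : Type*} [Group G] [Finite G] (S : Sylow 2 G) [IsMulCommutative (S : Subgroup G)]

/-- `N_G(S)/C_G(S)` has odd order. -/
theorem odd_card : Odd (Nat.card (W S)) := by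
  have : Fact (Nat.Prime 2) := ⟨Nat.prime_two⟩
  rw [← Nat.not_even_iff_odd]
  intro h
  apply S.not_dvd_index
  have h1 : ((S : Subgroup G).normalizerMonoidHom).ker.index = Nat.card (W S) :=
    Subgroup.index_ker _
  have h2 : (S : Subgroup G).subgroupOf (normalizer ((S : Subgroup G) : Set G)) ≤
      ((S : Subgroup G).normalizerMonoidHom).ker := by
    rw [normalizerMonoidHom_ker]
    exact comap_mono (Subgroup.le_centralizer (S : Subgroup G))
  have h3 : Nat.card (W S) ∣
      ((S : Subgroup G).subgroupOf (normalizer ((S : Subgroup G) : Set G))).index := by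
    rw [← h1]; exact index_dvd_of_le h2
  have h4 : ((S : Subgroup G).subgroupOf (normalizer ((S : Subgroup G) : Set G))).index ∣
      (S : Subgroup G).index := relIndex_dvd_index_of_le le_normalizer
  exact (h.two_dvd.trans h3).trans h4

/-- irreducibility, in the form used for the fusion theorem -/
theorem irreducible [IsSimpleGroup G] (hna : ∃ a b : G, a * b ≠ b * a)
    (hPF : Irreducible.ProductFusion S) (Y : Subgroup (S : Subgroup G))
    (hYe : ∀ y ∈ Y, y ^ 2 = 1) (hY : ∀ w : W S, w • Y = Y) :
    Y = ⊥ ∨ ∀ v : (S : Subgroup G), v ^ 2 = 1 → v ∈ Y := by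
  have hS : ∀ x ∈ (S : Subgroup G), ∀ y ∈ (S : Subgroup G), x * y = y * x := fun x hx y hy =>
    congrArg Subtype.val (mul_comm (⟨x, hx⟩ : (S : Subgroup G)) ⟨y, hy⟩)
  have h1 := Irreducible.eq_bot_or_eq hna S hS hPF (U := Y.map (S : Subgroup G).subtype) (by
    rintro _ ⟨y, hy, rfl⟩
    refine ⟨y.2, ?_⟩
    have := congrArg Subtype.val (hYe y hy)
    rw [pow_two] at this
    exact this) (by
    intro n hn
    refine mem_normalizer_fintype ?_
    rintro _ ⟨y, hy, rfl⟩
    let w : W S := ⟨(S : Subgroup G).normalizerMonoidHom ⟨n, hn⟩, ⟨_, rfl⟩⟩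
    have h2 : w • y ∈ Y := by
      rw [← hY w]
      exact Subgroup.smul_mem_pointwise_smul _ _ _ hy
    exact ⟨w • y, h2, rfl⟩)
  rcases h1 with h | h
  · left
    rwa [Subgroup.map_eq_bot_iff_of_injective _ (S : Subgroup G).subtype_injective] at h
  · right
    intro v hv
    have h2 : (v : G) ∈ Y.map (S : Subgroup G).subtype := by
      rw [h]
      refine ⟨v.2, ?_⟩
      have := congrArg Subtype.val hv
      rw [pow_two] at this
      exact this
    obtain ⟨y, hy, hyv⟩ := h2
    have : y = v := Subtype.ext hyv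
    rwa [← this]

end Cfsg.Agent.Walter.PairsW
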