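import Mathlib
import Cfsg.Prelude.Def_Local
import Cfsg.Agent.Walter.ProductU
import Cfsg.Agent.SignalizersComponents.DistinctComponents
import Cfsg.Agent.SignalizersComponents.QuasisimpleQuotient

/-!
# Product case of Walter's theorem: the end
-/

set_option autoImplicit false

namespace Cfsg.Agent.Walter.ProductMain

open Subgroup Cfsg
open Cfsg.Agent.SignalizersComponents
open Cfsg.Agent.Lib.PComponents
open Cfsg.Agent.Walter.ProductBal
open Cfsg.Agent.Walter.ProductCore
open Cfsg.Agent.Walter.ProductComp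
open Cfsg.Agent.Walter.ProductU

variable {G : Type*} [Group G]

/-- `L` is a component of `C_G(b)`. -/
def CompOf (b : G) (L : Subgroup G) : Prop :=
  L ≤ centralizer ({b} : Set G) ∧ IsComponent (L.subgroupOf (centralizer ({b} : Set G)))

theorem CompOf.conj {b : G} {L : Subgroup G} (hL : CompOf b L) (g : G) :
    CompOf (g * b * g⁻¹) (L.map (MulAut.conj g).toMonoidHom) := by
  have h1 := DistinctComponents.isComponent_subgroupOf_conj hL.1 hL.2 g
  rw [DistinctComponents.map_conj_centralizer_singleton] at h1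
  refine ⟨?_, h1⟩
  rw [← DistinctComponents.map_conj_centralizer_singleton]
  exact map_mono hL.1

/-- conjugates by elements of `C(b)` -/
theorem CompOf.conj_mem {b : G} {L : Subgroup G} (hL : CompOf b L) {g : G}
    (hg : g ∈ centralizer ({b} : Set G)) : CompOf b (L.map (MulAut.conj g).toMonoidHom) := by
  have h1 := hL.conj g
  have h2 : g * b * g⁻¹ = b := by
    rw [mem_centralizer_singleton_iff.1 hg, mul_inv_cancel_right]
  rwa [h2] at h1

section

variable [Finite G] {S : Sylow 2 G} {ι : Type*} {A : ι → Subgroup G} {q : ℕ} (h : Blocks S A q)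

include h

omit [Finite G] in
theorem le_cent {b : G} (hb : b ∈ (S : Subgroup G)) :
    (S : Subgroup G) ≤ centralizer ({b} : Set G) := fun _ hx => mem_cen h.sq hx hb

omit h [Finite G] in
theorem sub_comm (hS : ∀ x ∈ (S : Subgroup G), ∀ y ∈ (S : Subgroup G), x * y = y * x)
    {C : Subgroup G} (hC : (S : Subgroup G) ≤ C) :
    ∀ x ∈ (S.subtype hC : Subgroup C), ∀ y ∈ (S.subtype hC : Subgroup C), x * y = y * x :=
  fun x hx y hy => Subtype.ext (hS x hx y hy)

/-- components of `C(b)` with a common involution are equal -/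
theorem CompOf.eq {b : G} (hb : b ∈ (S : Subgroup G)) {K L : Subgroup G} (hK : CompOf b K)
    (hL : CompOf b L) {x : G} (hxK : x ∈ K) (hxL : x ∈ L) (hx2 : x * x = 1) (hx1 : x ≠ 1) :
    K = L := by
  have hle := le_cent h hb
  have h1 := comp_eq_of_mem (S.subtype hle) (sub_comm (fun x hx y hy => h.comm hx hy) hle)
    hK.2 hL.2 (x := ⟨x, hK.1 hxK⟩) hxK hxL (Subtype.ext hx2) (fun h0 => hx1 (congrArg Subtype.val h0))
  have h2 := congrArg (map (centralizer ({b} : Set G)).subtype) h1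
  rwa [subgroupOf_map_subtype, subgroupOf_map_subtype, inf_eq_left.2 hK.1, inf_eq_left.2 hL.1] at h2

variable {U : ι → Subgroup G} (hAU : ∀ i, A i ≤ U i)
  (hUX : ∀ i, U i ≤ centralizer (XX A i : Set G))
  (hUc : ∀ i, ∀ b ∈ XX A i, b ≠ 1 → IsComponent ((U i).subgroupOf (centralizer ({b} : Set G))))

omit h [Finite G] in
include hUX hUc in
theorem compOf_U {i : ι} {b : G} (hb : b ∈ XX A i) (hb1 : b ≠ 1) : CompOf b (U i) :=
  ⟨(hUX i).trans (cent_le hb), hUc i b hb hb1⟩

omit h in
theorem mem_M {g : G} (hg : ∀ i, ∃ j, (U i).map (MulAut.conj g).toMonoidHom = U j) :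
    g ∈ normalizer ((⨆ i, U i : Subgroup G) : Set G) := by
  rw [mem_norm_iff]
  refine eq_of_le_of_card_ge ?_ (RelSylow.card_map_conj (⨆ i, U i) g).ge
  rw [Subgroup.map_iSup]
  refine iSup_le fun i => ?_
  obtain ⟨j, hj⟩ := hg i
  rw [hj]
  exact le_iSup U j

include hAU hUX hUc

theorem conj_U_of_mem {n : G} (hn : n ∈ normalizer ((S : Subgroup G) : Set G)) (i : ι) :
    ∃ j, (A i).map (MulAut.conj n).toMonoidHom = A j ∧
      (U i).map (MulAut.conj n).toMonoidHom = U j := by
  obtain ⟨j, hj⟩ := h.perm n hn i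
  refine ⟨j, hj, ?_⟩
  have hX1 : XX A i ≠ ⊥ := by
    obtain ⟨k, hki, -⟩ := h.exists_third i i
    intro h1
    apply h.A_ne_bot k
    rw [eq_bot_iff, ← h1]
    exact le_XX hki
  obtain ⟨b, hb, hb1⟩ := (bot_or_exists_ne_one _).resolve_left hX1
  have h1 := (compOf_U hUX hUc hb hb1).conj n
  have hb' : n * b * n⁻¹ ∈ XX A j := h.XX_conj hn hj ⟨b, hb, rfl⟩
  have hb1' : n * b * n⁻¹ ≠ 1 := by rwa [Ne, conj_eq_one_iff]
  have h2 := compOf_U hUX hUc hb' hb1'
  obtain ⟨a, ha, ha1⟩ := (bot_or_exists_ne_one _).resolve_left (h.A_ne_bot i)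
  have ha' : n * a * n⁻¹ ∈ A j := by
    rw [← hj]
    exact ⟨a, ha, rfl⟩
  refine CompOf.eq h (h.XX_le j hb') h1 h2 (x := n * a * n⁻¹) ⟨a, hAU i ha, rfl⟩ (hAU j ha')
    (h.sq _ (h.le j ha')) (by rwa [Ne, conj_eq_one_iff])

/-- `C(b)` permutes the `U i` with `b ∈ X i` -/
theorem conj_U {i : ι} {b : G} (hb : b ∈ XX A i) (hb1 : b ≠ 1) {g : G}
    (hg : g ∈ centralizer ({b} : Set G)) :
    ∃ j, (U i).map (MulAut.conj g).toMonoidHom = U j := by
  have hbS := h.XX_le i hb
  have hle := le_cent h hbS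
  have hc := compOf_U hUX hUc hb hb1
  obtain ⟨a, ha, ha1⟩ := (bot_or_exists_ne_one _).resolve_left (h.A_ne_bot i)
  have h2 : 2 ∣ Nat.card ((U i).subgroupOf (centralizer ({b} : Set G))) := by
    have h3 : orderOf (⟨a, hAU i ha⟩ : U i) ∣ Nat.card (U i) := orderOf_dvd_natCard _
    rw [Subgroup.orderOf_mk, orderOf_of_sq h.sq (h.le i ha) ha1] at h3
    rwa [Nat.card_congr (subgroupOfEquivOfLe hc.1).toEquiv]
  obtain ⟨n, hn, hgn⟩ := exists_normalizer_conj (S.subtype hle)
    (sub_comm (fun x hx y hy => h.comm hx hy) hle) hc.2 h2 ⟨g, hg⟩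
  have hnS : (n : G) ∈ normalizer ((S : Subgroup G) : Set G) := by
    rw [mem_normalizer_iff] at hn ⊢
    intro y
    constructor
    · intro hy
      exact (hn ⟨y, hle hy⟩).1 hy
    · intro hy
      have hyC : y ∈ centralizer ({b} : Set G) := by
        have h2 := mul_mem (mul_mem (inv_mem n.2) (hle hy)) n.2
        have h3 : (n : G)⁻¹ * (n * y * (n : G)⁻¹) * n = y := by group
        rwa [h3] at h2
      exact (hn ⟨y, hyC⟩).2 hy
  obtain ⟨j, hj, hjU⟩ := conj_U_of_mem h hAU hUX hUc hnS i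
  refine ⟨j, ?_⟩
  rw [← hjU]
  have key : ∀ c : centralizer ({b} : Set G),
      (((U i).subgroupOf (centralizer ({b} : Set G))).map (MulAut.conj c).toMonoidHom).map
        (centralizer ({b} : Set G)).subtype = (U i).map (MulAut.conj (c : G)).toMonoidHom := by
    intro c
    ext x
    constructor
    · rintro ⟨_, ⟨y, hy, rfl⟩, rfl⟩
      exact ⟨y, hy, rfl⟩
    · rintro ⟨y, hy, rfl⟩
      exact ⟨_, ⟨⟨y, hc.1 hy⟩, hy, rfl⟩, rfl⟩
  rw [← key n, ← hgn, key ⟨g, hg⟩]

theorem normalizer_le_M :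
    normalizer ((S : Subgroup G) : Set G) ≤ normalizer ((⨆ i, U i : Subgroup G) : Set G) := by
  intro n hn
  refine mem_M fun i => ?_
  obtain ⟨j, -, hj⟩ := conj_U_of_mem h hAU hUX hUc hn i
  exact ⟨j, hj⟩

theorem inf_le_M {l i : ι} (hli : i ≠ l) {a c : G} (ha : a ∈ A l) (ha1 : a ≠ 1) (hc : c ∈ A i)
    (hc1 : c ≠ 1) : centralizer ({a} : Set G) ⊓ centralizer ({c} : Set G) ≤
      normalizer ((⨆ i, U i : Subgroup G) : Set G) := by
  rintro g ⟨hga, hgc⟩
  refine mem_M fun j => ?_
  by_cases hj : j = l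
  · rw [hj]
    exact conj_U h hAU hUX hUc (le_XX hli hc) hc1 hgc
  · exact conj_U h hAU hUX hUc (le_XX (Ne.symm hj) ha) ha1 hga

omit hUX in
/-- the image of `U i` in `C(b) / O(C(b))` -/
theorem isComponent_bar {i : ι} {b : G} (hb : b ∈ XX A i) (hb1 : b ≠ 1) :
    IsComponent (bar b (U i)) := by
  refine QuasisimpleQuotient.isComponent_map_mk' (hUc i b hb hb1) ?_
  intro h1
  obtain ⟨a, ha, ha1⟩ := (bot_or_exists_ne_one _).resolve_left (h.A_ne_bot i)
  have hab : a ∈ centralizer ({b} : Set G) := le_cent h (h.XX_le i hb) (h.le i ha)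
  have h2 : (⟨a, hab⟩ : centralizer ({b} : Set G)) ∈ pPrimeCore 2 _ := h1 (hAU i ha)
  have h3 : orderOf (⟨a, hab⟩ : centralizer ({b} : Set G)) ∣
      Nat.card (pPrimeCore 2 ↥(centralizer ({b} : Set G))) := by
    rw [← Subgroup.orderOf_mk _ h2]
    exact orderOf_dvd_natCard _
  rw [Subgroup.orderOf_mk, orderOf_of_sq h.sq (h.le i ha) ha1] at h3
  exact Nat.prime_two.coprime_iff_not_dvd.mp (Lib.Cores.pPrimeCore_coprime 2).symm h3

/-- the groups `C_S(L)` are large in terms of blocks -/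
theorem le_cenS {i : ι} {b : G} (hb : b ∈ XX A i) (hb1 : b ≠ 1) {L : Subgroup (Q b)}
    (hL : IsComponent L) : A i ≤ cenS (S : Subgroup G) b L ∨ XX A i ≤ cenS (S : Subgroup G) b L := by
  have hK := isComponent_bar h hAU hUc hb hb1
  have hle := le_cent h (h.XX_le i hb)
  by_cases hLK : bar b (U i) = L
  · right
    intro x hx
    have hxb := hle (h.XX_le i hx)
    refine mem_cenS.2 ⟨h.XX_le i hx, hxb, ?_⟩
    rw [← hLK, mem_centralizer_iff]
    rintro _ ⟨u, hu, rfl⟩
    rw [← map_mul, ← map_mul]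
    congr 1
    exact Subtype.ext (mem_centralizer_iff.1 (hUX i hu) x hx).symm
  · left
    intro x hx
    have hxb := hle (h.le i hx)
    refine mem_cenS.2 ⟨h.le i hx, hxb, ?_⟩
    exact Components.component_le_centralizer_of_ne hK hL hLK ⟨⟨x, hxb⟩, hAU i hx, rfl⟩

omit hAU hUX hUc in
/-- generation of `O(C(b))` by a block -/
theorem core_le_of {M : Subgroup G} {b : G} (hb : b ∈ (S : Subgroup G)) (i : ι)
    (hM : ∀ c ∈ A i, c ≠ 1 → centralizerPPrimeCore 2 b ⊓ centralizer ({c} : Set G) ≤ M) :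
    centralizerPPrimeCore 2 b ≤ M := by
  have h4 : 2 ^ 2 ≤ Nat.card (A i) := by rw [h.card i]; exact h.four
  refine (CoprimeGen.le_iSup_centralizer_ne_one (elementary h.sq (h.le i)) h4 (core_odd b)
    (le_normalizer_core h.sq hb (h.le i))).trans ?_
  refine iSup_le ?_
  rintro ⟨c, hc, hc1⟩
  exact hM c hc hc1

/-- centralisers of elements of blocks -/
theorem centralizer_block_le {l : ι} {a : G} (ha : a ∈ A l) (ha1 : a ≠ 1) :
    centralizer ({a} : Set G) ≤ normalizer ((⨆ i, U i : Subgroup G) : Set G) := by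
  have haS := h.le l ha
  obtain ⟨i, hil, -⟩ := h.exists_third l l
  have key : ∀ j, j ≠ l → ∀ c ∈ A j, c ≠ 1 →
      centralizer ({a} : Set G) ⊓ centralizer ({c} : Set G) ≤
        normalizer ((⨆ i, U i : Subgroup G) : Set G) := fun j hj c hc hc1 =>
    inf_le_M h hAU hUX hUc hj ha ha1 hc hc1
  refine centralizer_le_of h.sq haS (h.str a haS ha1) (normalizer_le_M h hAU hUX hUc) ?_ ?_
  · refine core_le_of h haS i fun c hc hc1 => ?_
    exact (inf_le_inf_right _ (CoreOfCentralizer.centralizerPPrimeCore_le 2 a)).trans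
      (key i hil c hc hc1)
  · intro L hL
    have haX : a ∈ XX A i := le_XX (Ne.symm hil) ha
    rcases le_cenS h hAU hUX hUc haX ha1 hL with h1 | h1
    · obtain ⟨c, hc, hc1⟩ := (bot_or_exists_ne_one _).resolve_left (h.A_ne_bot i)
      refine (inf_le_inf_left _ (centralizer_le ?_)).trans (key i hil c hc hc1)
      rw [Set.singleton_subset_iff]
      exact h1 hc
    · obtain ⟨k, hki, hkl⟩ := h.exists_third i l
      obtain ⟨c, hc, hc1⟩ := (bot_or_exists_ne_one _).resolve_left (h.A_ne_bot k)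
      refine (inf_le_inf_left _ (centralizer_le ?_)).trans (key k hkl c hc hc1)
      rw [Set.singleton_subset_iff]
      exact h1 (le_XX hki hc)

/-- centralisers of elements of `X i` -/
theorem centralizer_XX_le {i : ι} {b : G} (hb : b ∈ XX A i) (hb1 : b ≠ 1) :
    centralizer ({b} : Set G) ≤ normalizer ((⨆ i, U i : Subgroup G) : Set G) := by
  have hbS := h.XX_le i hb
  refine centralizer_le_of h.sq hbS (h.str b hbS hb1) (normalizer_le_M h hAU hUX hUc) ?_ ?_
  · refine core_le_of h hbS i fun c hc hc1 => ?_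
    exact inf_le_right.trans (centralizer_block_le h hAU hUX hUc hc hc1)
  · intro L hL
    have : ∃ j, ∃ c ∈ A j, c ≠ 1 ∧ c ∈ cenS (S : Subgroup G) b L := by
      rcases le_cenS h hAU hUX hUc hb hb1 hL with h1 | h1
      · obtain ⟨c, hc, hc1⟩ := (bot_or_exists_ne_one _).resolve_left (h.A_ne_bot i)
        exact ⟨i, c, hc, hc1, h1 hc⟩
      · obtain ⟨k, hki, -⟩ := h.exists_third i i
        obtain ⟨c, hc, hc1⟩ := (bot_or_exists_ne_one _).resolve_left (h.A_ne_bot k)
        exact ⟨k, c, hc, hc1, h1 (le_XX hki hc)⟩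
    obtain ⟨j, c, hc, hc1, hcS⟩ := this
    refine inf_le_right.trans (le_trans (centralizer_le ?_)
      (centralizer_block_le h hAU hUX hUc hc hc1))
    rw [Set.singleton_subset_iff]
    exact hcS

/-- centralisers of all elements of `S` -/
theorem centralizer_le_M {b : G} (hb : b ∈ (S : Subgroup G)) (hb1 : b ≠ 1) :
    centralizer ({b} : Set G) ≤ normalizer ((⨆ i, U i : Subgroup G) : Set G) := by
  obtain ⟨i⟩ := h.nonempty
  refine centralizer_le_of h.sq hb (h.str b hb hb1) (normalizer_le_M h hAU hUX hUc) ?_ ?_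
  · refine core_le_of h hb i fun c hc hc1 => ?_
    exact inf_le_right.trans (centralizer_block_le h hAU hUX hUc hc hc1)
  · intro L hL
    have hq : q < Nat.card (XX A i) := by
      have h1 := h.XX_card i
      have h2 := h.four
      nlinarith
    have h1 := inf_ne_bot_of_card (h.XX_le i) (cenS_le (L := L)) hq (h.bound b hb hb1 L hL)
    obtain ⟨d, hd, hd1⟩ := (bot_or_exists_ne_one _).resolve_left h1
    refine inf_le_right.trans (le_trans (centralizer_le ?_)
      (centralizer_XX_le h hAU hUX hUc hd.2 hd1))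
    rw [Set.singleton_subset_iff]
    exact hd.1

/-- distinct `U i` commute -/
theorem U_commute {i j : ι} (hij : i ≠ j) : U i ≤ centralizer (U j : Set G) := by
  obtain ⟨k, hki, hkj⟩ := h.exists_third i j
  obtain ⟨b, hb, hb1⟩ := (bot_or_exists_ne_one _).resolve_left (h.A_ne_bot k)
  have hbi : b ∈ XX A i := le_XX hki hb
  have hbj : b ∈ XX A j := le_XX hkj hb
  have hci := compOf_U hUX hUc hbi hb1
  have hcj := compOf_U hUX hUc hbj hb1
  have hne : (U i).subgroupOf (centralizer ({b} : Set G)) ≠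
      (U j).subgroupOf (centralizer ({b} : Set G)) := by
    intro h1
    have h2 := congrArg (map (centralizer ({b} : Set G)).subtype) h1
    rw [subgroupOf_map_subtype, subgroupOf_map_subtype, inf_eq_left.2 hci.1,
      inf_eq_left.2 hcj.1] at h2
    -- `A j ≤ U j = U i ≤ C(X i)` and `A j ≤ X i`
    obtain ⟨a, ha, ha1⟩ := (bot_or_exists_ne_one _).resolve_left (h.A_ne_bot j)
    have ha2 : a ∈ U i := by rw [h2]; exact hAU j ha
    have ha3 : a ∈ centralizer (U i : Set G) := by
      rw [mem_centralizer_iff]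
      intro u hu
      exact (mem_centralizer_iff.1 (hUX i hu) a (le_XX (Ne.symm hij) ha)).symm
    have hperf : Group.IsPerfect (U i) := by
      have h4 := hci.2.2.1
      exact Group.IsPerfect.ofSurjective (f := (subgroupOfEquivOfLe hci.1).toMonoidHom)
        (subgroupOfEquivOfLe hci.1).surjective
    exact ha1 (eq_one_of_mem_component S (fun x hx y hy => h.comm hx hy) hperf ha2 ha3
      (h.sq a (h.le j ha)))
  have h5 := Components.component_le_centralizer_of_ne hci.2 hcj.2 hne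
  intro u hu
  rw [mem_centralizer_iff]
  intro v hv
  exact congrArg Subtype.val (mem_centralizer_iff.1 (h5 (show (⟨u, hci.1 hu⟩ :
    centralizer ({b} : Set G)) ∈ (U i).subgroupOf _ from hu)) ⟨v, hcj.1 hv⟩ hv)

theorem M_ne_top [IsSimpleGroup G] :
    normalizer ((⨆ i, U i : Subgroup G) : Set G) ≠ ⊤ := by
  intro htop
  obtain ⟨i⟩ := h.nonempty
  obtain ⟨a, ha, ha1⟩ := (bot_or_exists_ne_one _).resolve_left (h.A_ne_bot i)
  have hn : (⨆ i, U i).Normal := normalizer_eq_top_iff.1 htop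
  have h1 : (⨆ i, U i) = ⊤ := by
    refine hn.eq_bot_or_eq_top.resolve_left ?_
    intro h0
    have h2 : a ∈ ⨆ i, U i := le_iSup U i (hAU i ha)
    rw [h0, mem_bot] at h2
    exact ha1 h2
  have h3 : normalizer (U i : Set G) = ⊤ := by
    rw [eq_top_iff, ← h1]
    refine iSup_le fun j => ?_
    by_cases hji : j = i
    · rw [hji]; exact le_normalizer
    · exact (U_commute h hAU hUX hUc hji).trans (centralizer_le_normalizer _)
  have h4 : (U i).Normal := normalizer_eq_top_iff.1 h3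
  have h5 : U i = ⊤ := by
    refine h4.eq_bot_or_eq_top.resolve_left ?_
    intro h0
    have h2 := hAU i ha
    rw [h0, mem_bot] at h2
    exact ha1 h2
  obtain ⟨j, hji, -⟩ := h.exists_third i i
  obtain ⟨c, hc, hc1⟩ := (bot_or_exists_ne_one _).resolve_left (h.A_ne_bot j)
  have hperf : Group.IsPerfect (U i) := by
    have hci := compOf_U hUX hUc (le_XX hji hc) hc1
    have h4 := hci.2.2.1
    exact Group.IsPerfect.ofSurjective (f := (subgroupOfEquivOfLe hci.1).toMonoidHom)
      (subgroupOfEquivOfLe hci.1).surjective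
  refine hc1 (eq_one_of_mem_component S (fun x hx y hy => h.comm hx hy) hperf ?_ ?_
    (h.sq c (h.le j hc)))
  · rw [h5]; trivial
  · rw [mem_centralizer_iff]
    intro u hu
    exact (mem_centralizer_iff.1 (hUX i hu) c (le_XX hji hc)).symm

end

/-- **Product case of Walter's theorem.** -/
theorem exists_stronglyEmbedded [Finite G] [IsSimpleGroup G] {S : Sylow 2 G} {ι : Type*}
    {A : ι → Subgroup G} {q : ℕ} (h : Blocks S A q)
    (hOO : ∀ X : Subgroup G, ¬ 2 ∣ Nat.card X → Group.IsSolvable X)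
    (hSF : ∀ θ : G → Subgroup G, IsSignalizerFunctor 2 (S : Subgroup G) θ →
      (∀ a ∈ (S : Subgroup G), a ≠ 1 → Group.IsSolvable (θ a)) →
      ¬ 2 ∣ Nat.card ↥(⨆ a : {a : G // a ∈ (S : Subgroup G) ∧ a ≠ 1}, θ a)) :
    ∃ M : Subgroup G, IsStronglyEmbedded M := by
  have h4 := h.four
  rcases ProductDelta.stronglyEmbedded_or_delta h.sq (by omega) h.S_card h.q_pow h.bound h.str
    hOO hSF with h1 | hΔ
  · exact h1
  choose U hUX hAU hUp hUb using fun i => h.exists_U i
  have hUc : ∀ i, ∀ b ∈ XX A i, b ≠ 1 →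
      IsComponent ((U i).subgroupOf (centralizer ({b} : Set G))) :=
    fun i b hb hb1 => h.isComponent_U hΔ (hUX i) (hUp i) (hUb i) hb hb1
  refine ⟨normalizer ((⨆ i, U i : Subgroup G) : Set G), ?_⟩
  have h2G : 2 ∣ Nat.card G := by
    obtain ⟨i⟩ := h.nonempty
    obtain ⟨a, ha, ha1⟩ := (bot_or_exists_ne_one _).resolve_left (h.A_ne_bot i)
    rw [← orderOf_of_sq h.sq (h.le i ha) ha1]
    exact orderOf_dvd_natCard a
  refine Embed.isStronglyEmbedded_of_le S (fun x hx y hy => h.comm hx hy)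
    (M_ne_top h hAU hUX hUc) (even_iff_two_dvd.2 h2G) (normalizer_le_M h hAU hUX hUc) ?_
  intro b hb hb2
  have hb1 : b ≠ 1 := by
    rintro rfl
    rw [orderOf_one] at hb2
    omega
  exact centralizer_le_M h hAU hUX hUc hb hb1

end Cfsg.Agent.Walter.ProductMain
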