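import Mathlib
import Cfsg.Prelude.Def_Local
import Cfsg.Agent.SignalizersComponents.SolFunctorTwo

/-!
# The solvable signalizer functor theorem for `p = 2`, in the form used for abelian Sylow 2-subgroups
-/

set_option autoImplicit false

namespace Cfsg.Agent.Walter.SolFun

open Subgroup Cfsg

theorem odd {G : Type*} [Group G] [Finite G] {A : Subgroup G}
    (hcomm : ∀ a ∈ A, ∀ b ∈ A, a * b = b * a) (hsq : ∀ a ∈ A, a * a = 1)
    (hcard : 8 ≤ Nat.card A) {θ : G → Subgroup G} (hθ : IsSignalizerFunctor 2 A θ)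
    (hs : ∀ a ∈ A, a ≠ 1 → Group.IsSolvable (θ a)) :
    ¬ 2 ∣ Nat.card ↥(⨆ a : {a : G // a ∈ A ∧ a ≠ 1}, θ a) :=
  (SignalizersComponents.SolFunctorTwo.solvable_signalizer_functor_two A hcomm
    (fun a ha => by rw [pow_two]; exact hsq a ha) (by norm_num; exact hcard) θ hθ.1 hθ.2.1 hθ.2.2.1
    hs hθ.2.2.2).1

end Cfsg.Agent.Walter.SolFun
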