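import Cfsg.Prelude.Def_CaseTheorems
import Cfsg.Prelude.Def_Classical
import Cfsg.Agent.S1248
import Cfsg.Agent.Lib.Cores
import Cfsg.Agent.ClassicalGeometry.PSL2Basic

/-!
# Simple groups with abelian Sylow 2-subgroups of rank at most two

The inputs are the conclusions of S0516 (Sylow 2-subgroups of simple groups of 2-rank two) and of
S0483 (Gorenstein-Walter), given as hypotheses.
-/

set_option autoImplicit false

namespace Cfsg.Agent.Walter.RankTwo

open Subgroup Cfsg

theorem not_quasiDihedral {S : Type*} [Group S] (hS : ∀ x y : S, x * y = y * x) :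
    ¬ IsQuasiDihedral S := by
  rintro ⟨n, hn, -, x, y, hx, -, hxy⟩
  have h1 : y * x * y⁻¹ = x := by rw [hS y x]; group
  rw [h1] at hxy
  have h2 : x ^ (2 ^ (n - 1) - 2) = 1 := by
    have h4 : 4 ≤ 2 ^ (n - 1) := by
      calc 4 = 2 ^ 2 := rfl
        _ ≤ 2 ^ (n - 1) := Nat.pow_le_pow_right (by norm_num) (by omega)
    have h3 : x ^ (2 ^ (n - 1) - 1) = x ^ (2 ^ (n - 1) - 2) * x := by
      rw [← pow_succ]
      congr 1
      omega
    rw [h3] at hxy
    have h5 : 1 * x = x ^ (2 ^ (n - 1) - 2) * x := by rw [one_mul]; exact hxy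
    exact (mul_right_cancel h5).symm
  have h3 := orderOf_dvd_of_pow_eq_one h2
  rw [hx] at h3
  have h4 : 4 ≤ 2 ^ (n - 1) := by
    calc 4 = 2 ^ 2 := rfl
      _ ≤ 2 ^ (n - 1) := Nat.pow_le_pow_right (by norm_num) (by omega)
  have h5 : 2 ^ n = 2 * 2 ^ (n - 1) := by
    rw [← pow_succ']
    congr 1
    omega
  have h6 := Nat.le_of_dvd (by omega) h3
  omega

theorem not_wreathed {S : Type*} [Group S] (hS : ∀ x y : S, x * y = y * x) : ¬ IsWreathed S := by
  rintro ⟨n, hn, -, x, y, z, hx, -, hxy, -, hz⟩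
  have h1 : z * x * z⁻¹ = x := by rw [hS z x]; group
  rw [h1] at hz
  rw [← hz, inf_idem, zpowers_eq_bot] at hxy
  rw [hxy, orderOf_one] at hx
  have : 2 ^ 2 ≤ 2 ^ n := Nat.pow_le_pow_right (by norm_num) hn
  omega

theorem not_unitary {F : Type*} [Field F] [Fintype F] (hF : Fintype.card F = 16)
    (P : Sylow 2 (Cfsg.PSU 3 F 4))
    (hP : ∀ x y : (P : Subgroup (Cfsg.PSU 3 F 4)), x * y = y * x) : False := by
  obtain ⟨h1, h2, -⟩ := S1248.result hF P
  have h3 : Subgroup.center (P : Subgroup (Cfsg.PSU 3 F 4)) = ⊤ := by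
    rw [eq_top_iff]
    intro x _
    rw [mem_center_iff]
    intro y
    exact hP y x
  have h4 := h2.card_four
  rw [h3, Nat.card_congr (topEquiv (G := (P : Subgroup (Cfsg.PSU 3 F 4)))).toEquiv, h1] at h4
  omega

theorem dihedral_eq_two {n : ℕ} (hn : 2 ≤ n) (h : ∀ x y : DihedralGroup n, x * y = y * x) :
    n = 2 := by
  have h1 := h (DihedralGroup.r 1) (DihedralGroup.sr 0)
  rw [DihedralGroup.r_mul_sr, DihedralGroup.sr_mul_r, DihedralGroup.sr.injEq] at h1
  have h2 : ((2 : ℕ) : ZMod n) = 0 := by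
    push_cast
    linear_combination -h1
  have h3 := (ZMod.natCast_eq_zero_iff 2 n).1 h2
  exact le_antisymm (Nat.le_of_dvd (by norm_num) h3) hn

/-- The Sylow 2-subgroup is a four-group. -/
theorem equiv_dihedral_two {G : Type*} [Group G] [Finite G] (S : Sylow 2 G)
    (hS : ∀ x ∈ (S : Subgroup G), ∀ y ∈ (S : Subgroup G), x * y = y * x)
    {F : Type*} [Field F] [Fintype F] (hF : Fintype.card F = 16) (P : Sylow 2 (Cfsg.PSU 3 F 4))
    (h : (∃ n : ℕ, 2 ≤ n ∧ Nonempty ((S : Subgroup G) ≃* DihedralGroup n)) ∨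
      Cfsg.IsQuasiDihedral (S : Subgroup G) ∨ Cfsg.IsWreathed (S : Subgroup G) ∨
      Nonempty ((S : Subgroup G) ≃* (P : Subgroup (Cfsg.PSU 3 F 4)))) :
    Nonempty ((S : Subgroup G) ≃* DihedralGroup 2) := by
  have hS' : ∀ x y : (S : Subgroup G), x * y = y * x := fun x y => Subtype.ext (hS x x.2 y y.2)
  rcases h with ⟨n, hn, ⟨e⟩⟩ | h | h | ⟨⟨e⟩⟩
  · have h1 : n = 2 := by
      apply dihedral_eq_two hn
      intro x y
      have := congrArg e (hS' (e.symm x) (e.symm y))
      simpa using this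
    subst h1
    exact ⟨e⟩
  · exact absurd h (not_quasiDihedral hS')
  · exact absurd h (not_wreathed hS')
  · exfalso
    apply not_unitary hF P
    intro x y
    have := congrArg e (hS' (e.symm x) (e.symm y))
    simpa using this

/-- Arithmetic: a power of an odd prime `q` with `(q (q² - 1) / 2)₂ = 4`. -/
theorem mod_eight {q : ℕ} (hq : Odd q)
    (h8 : ¬ 8 ∣ q * (q ^ 2 - 1) / 2) : q % 8 = 3 ∨ q % 8 = 5 := by
  have h1 : q % 2 = 1 := Nat.odd_iff.1 hq
  by_contra hcon
  apply h8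
  have h2 : q % 8 = 1 ∨ q % 8 = 7 := by omega
  have h3 : 16 ∣ q ^ 2 - 1 := by
    have h5 : q ^ 2 - 1 = (q + 1) * (q - 1) := by
      have := Nat.sq_sub_sq q 1
      simpa using this
    rw [h5]
    rcases h2 with h2 | h2
    · have h6 : 8 ∣ q - 1 := by omega
      have h7 : 2 ∣ q + 1 := by omega
      exact mul_dvd_mul h7 h6
    · have h6 : 8 ∣ q + 1 := by omega
      have h7 : 2 ∣ q - 1 := by omega
      exact mul_dvd_mul h6 h7
  obtain ⟨k, hk⟩ := h3
  rw [hk]
  have : q * (16 * k) / 2 = 8 * (q * k) := by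
    rw [show q * (16 * k) = (8 * (q * k)) * 2 by ring]
    exact Nat.mul_div_cancel _ (by norm_num)
  rw [this]
  exact dvd_mul_right _ _

theorem dvd_card_alternating : 8 ∣ Nat.card (alternatingGroup (Fin 7)) := by
  have h := nat_card_alternatingGroup (α := Fin 7)
  rw [h]
  simp [Nat.factorial]

/-- Conclusion of the rank two case. -/
theorem psl_of_four {G : Type*} [Group G] [Finite G] (hO : oddCore G = ⊥) (S : Sylow 2 G)
    (hS : Nonempty ((S : Subgroup G) ≃* DihedralGroup 2))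
    (h : (∃ (F : Type) (_ : Field F) (_ : Fintype F), Odd (Fintype.card F) ∧ 3 < Fintype.card F ∧
        Nonempty (G ⧸ Cfsg.oddCore G ≃* Matrix.ProjectiveSpecialLinearGroup (Fin 2) F)) ∨
      Nonempty (G ⧸ Cfsg.oddCore G ≃* alternatingGroup (Fin 7))) :
    ∃ (F : Type) (_ : Field F) (_ : Fintype F), (Fintype.card F % 8 = 3 ∨ Fintype.card F % 8 = 5) ∧
      Nonempty (G ≃* Matrix.ProjectiveSpecialLinearGroup (Fin 2) F) := by
  have h2 : Fact (Nat.Prime 2) := ⟨Nat.prime_two⟩
  let e0 : G ≃* G ⧸ oddCore G :=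
    (QuotientGroup.quotientBot (G := G)).symm.trans (QuotientGroup.quotientMulEquivOfEq hO.symm)
  have hScard : Nat.card (S : Subgroup G) = 4 := by
    obtain ⟨e⟩ := hS
    rw [Nat.card_congr e.toEquiv, DihedralGroup.nat_card]
  have h8 : ¬ 8 ∣ Nat.card G := by
    intro h8
    obtain ⟨k, hk⟩ := IsPGroup.iff_card.1 S.isPGroup'
    have h5 := S.card_eq_multiplicity
    have h6 : 3 ≤ (Nat.card G).factorization 2 := by
      rw [← Nat.Prime.pow_dvd_iff_le_factorization Nat.prime_two Nat.card_pos.ne']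
      exact h8
    rw [hScard] at h5
    have h7 : 2 ^ 3 ≤ 2 ^ (Nat.card G).factorization 2 := Nat.pow_le_pow_right (by norm_num) h6
    omega
  rcases h with ⟨F, iF, iFt, hodd, -, ⟨e⟩⟩ | ⟨⟨e⟩⟩
  · refine ⟨F, iF, iFt, ?_, ⟨e0.trans e⟩⟩
    have hc : Nat.card G = Fintype.card F * (Fintype.card F ^ 2 - 1) / 2 := by
      have := ClassicalGeometry.PSL2Basic.card_PSL2_odd F hodd
      rw [Nat.card_congr (e0.trans e).toEquiv]
      omega
    exact mod_eight hodd (hc ▸ h8)
  · exfalso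
    apply h8
    rw [Nat.card_congr (e0.trans e).toEquiv]
    exact dvd_card_alternating

end Cfsg.Agent.Walter.RankTwo
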