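import Mathlib
import Cfsg.Prelude.Def_Local
import Cfsg.Agent.Walter.PairsFinal
import Cfsg.Agent.Walter.Kill
import Cfsg.Agent.Walter.BalFun
import Cfsg.Agent.Walter.RankTwo
import Cfsg.Agent.Walter.Main
import Cfsg.Agent.Walter.SolFun

/-!
# Simple groups with abelian Sylow 2-subgroups: assembly of the induction step

`step`: the induction step `Main.Step` from
* `OddSolvable`: the odd order theorem; `FusionThm`: product fusion;
* `BenderThm`, `SEThm`: Bender's theorem;
* `RankTwoThm`: simple groups with Sylow 2-subgroups of rank two;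
* `LastThm`: the case where all involution centralizers are core-free of type B.
-/

set_option autoImplicit false

namespace Cfsg.Agent.Walter.StepMain

open Subgroup Cfsg
open Cfsg.Agent.SignalizersComponents Cfsg.Agent.SignalizersComponents.Components
open Cfsg.Agent.Walter.Types Cfsg.Agent.Walter.TypeSylow Cfsg.Agent.Walter.PairsGroup
open Cfsg.Agent.Walter.CentB (TypeB)
open scoped commutatorElement

universe u

/-- Bender's theorem for groups with abelian Sylow 2-subgroups. -/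
def SEThm : Prop :=
  ∀ (L : Type u) [Group L] [Finite L] [IsSimpleGroup L], (∃ a b : L, a * b ≠ b * a) →
    ∀ S : Sylow 2 L, (∀ a ∈ (S : Subgroup L), ∀ b ∈ (S : Subgroup L), a * b = b * a) →
      ∀ H : Subgroup L, IsStronglyEmbedded H → IsEvenType L

/-- The commutator part of the product fusion theorem (`TwoFusion.ClosedCommutator.commutator_le`). -/
def FusionThm : Prop :=
  ∀ (G : Type u) [Group G] [Finite G] (S : Sylow 2 G), Irreducible.ProductFusion S

/-- The case of 2-rank two. -/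
def RankTwoThm : Prop :=
  ∀ (L : Type u) [Group L] [Finite L] [IsSimpleGroup L], (∃ a b : L, a * b ≠ b * a) →
    ∀ S : Sylow 2 L, (∀ a ∈ (S : Subgroup L), ∀ b ∈ (S : Subgroup L), a * b = b * a) →
      PRankLE 2 2 L → IsOddType L

/-- The last case: type B without cores. -/
def LastThm : Prop :=
  ∀ (G : Type u) [Group G] [Finite G] [IsSimpleGroup G], (∃ a b : G, a * b ≠ b * a) →
    ∀ S : Sylow 2 G, TypeSylow.Ind.{u} (Nat.card G) →
      (∀ t ∈ (S : Subgroup G), t ≠ 1 → Setup.Data S t) → BalFun.AllB S →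
      (∀ t ∈ (S : Subgroup G), t ≠ 1 → centralizerPPrimeCore 2 t = ⊥) → WType G

section comp

variable {Y : Type*} [Group Y] [Finite Y] {T : Sylow 2 Y} {K : Subgroup Y}

/-- Type B from the existence of a component `K` with `|T ∩ K| = 4`. -/
theorem typeB (hO : pPrimeCore 2 Y = ⊥)
    (hT : ∀ a ∈ (T : Subgroup Y), ∀ b ∈ (T : Subgroup Y), a * b = b * a)
    (hsq : ∀ a ∈ (T : Subgroup Y), a * a = 1) (h8 : Nat.card (T : Subgroup Y) = 8)
    (hK : IsComponent K) (h4 : Nat.card ((T : Subgroup Y) ⊓ K : Subgroup Y) = 4)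
    (hB : AutFacts.Bender K) : TypeB T K := by
  obtain ⟨h1, h2, h3, h4', h5⟩ := AbTypes.of_isComponent hO hT (by omega) hK
  have hc : Nat.card (pCore 2 Y) = 2 := by
    rw [h4, h8] at h5
    omega
  refine ⟨hO, hT, hsq, hK, h1, h4, ?_, hB⟩
  have hn : (pCore 2 Y).Normal := Lib.Cores.pCore_normal 2
  intro z hz
  rw [mem_center_iff]
  intro g
  by_cases hz1 : z = 1
  · rw [hz1, mul_one, one_mul]
  have h6 : g * z * g⁻¹ ∈ pCore 2 Y := hn.conj_mem z hz g
  have h7 : g * z * g⁻¹ ≠ 1 := by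
    rw [Ne, conj_eq_one_iff]; exact hz1
  have h8 : g * z * g⁻¹ = z := by
    have := Nat.card_eq_two_iff' (⟨1, one_mem _⟩ : pCore 2 Y)
    obtain ⟨y, -, hy⟩ := this.1 hc
    have e1 := hy ⟨z, hz⟩ (fun h => hz1 (congrArg Subtype.val h))
    have e2 := hy ⟨_, h6⟩ (fun h => h7 (congrArg Subtype.val h))
    exact congrArg Subtype.val (e2.trans e1.symm)
  exact (mul_inv_eq_iff_eq_mul.1 h8)

end comp

section G

variable {G : Type u} [Group G] [Finite G]

theorem allB [IsSimpleGroup G] {S : Sylow 2 G}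
    (hS : ∀ a ∈ (S : Subgroup G), ∀ b ∈ (S : Subgroup G), a * b = b * a)
    (hBT : BalLocal.BenderThm.{u})
    (h : ∀ t ∈ (S : Subgroup G), t ≠ 1 → Setup.Data S t ∧
      ∃ (T : Sylow 2 (CQ t)) (K : Subgroup (CQ t)),
        (T : Subgroup (CQ t)) = ((S : Subgroup G).subgroupOf (centralizer ({t} : Set G))).map
          (QuotientGroup.mk' (pPrimeCore 2 (centralizer ({t} : Set G)))) ∧
        IsComponent K ∧ Nat.card ((T : Subgroup (CQ t)) ⊓ K : Subgroup (CQ t)) = 4) :
    BalFun.AllB S := by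
  intro t ht ht1
  obtain ⟨hd, T, K, hT, hK, h4⟩ := h t ht ht1
  refine ⟨T, K, hT, ?_⟩
  have hO : pPrimeCore 2 (CQ t) = ⊥ := Lib.Cores.pPrimeCore_quotient_pPrimeCore 2
  have hc : ∀ a ∈ (T : Subgroup (CQ t)), ∀ b ∈ (T : Subgroup (CQ t)), a * b = b * a := by
    intro a ha b hb
    rw [hT] at ha hb
    obtain ⟨x, hx, rfl⟩ := ha
    obtain ⟨y, hy, rfl⟩ := hb
    rw [← map_mul, ← map_mul]
    congr 1
    exact Subtype.ext (hS _ (mem_subgroupOf.1 hx) _ (mem_subgroupOf.1 hy))
  have hsq : ∀ a ∈ (T : Subgroup (CQ t)), a * a = 1 := by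
    intro a ha
    rw [hT] at ha
    obtain ⟨x, hx, rfl⟩ := ha
    rw [← map_mul, show x * x = 1 from Subtype.ext (hd.sq _ (mem_subgroupOf.1 hx)), map_one]
  have hs := AbStruct.isSimpleGroup hO hc hK
  refine typeB hO hc hsq (BalFun.card_T hd ht hT) hK h4 ?_
  refine hBT K hs ?_
  by_contra hcon
  push Not at hcon
  exact AbStruct.not_comm hK ⟨⟨hcon⟩⟩

/-- Without components `S` covers `O_2(C(s)/O(C(s)))`. -/
theorem centralMod {S : Sylow 2 G}
    (hS : ∀ a ∈ (S : Subgroup G), ∀ b ∈ (S : Subgroup G), a * b = b * a) {T : Subgroup G}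
    (hT : T ≤ (S : Subgroup G))
    (hno : ∀ b ∈ (S : Subgroup G), b ≠ 1 → ∀ K : Subgroup (CQ b), ¬ IsComponent K) :
    Embed.CentralMod S T := by
  intro s hs hs2 c hc x hx t ht
  have hSc : IsMulCommutative (S : Subgroup G) := ⟨⟨fun a b => Subtype.ext (hS a a.2 b b.2)⟩⟩
  have hs1 : s ≠ 1 := by
    rintro rfl
    rw [orderOf_one] at hs2
    omega
  obtain ⟨P, hP⟩ := PairsStr.exists_sylow S ⟨s, hs⟩
  have hPc : ∀ a ∈ (P : Subgroup (CQ s)), ∀ b ∈ (P : Subgroup (CQ s)), a * b = b * a := by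
    intro a ha b hb
    rw [hP] at ha hb
    obtain ⟨x, rfl⟩ := ha
    obtain ⟨y, rfl⟩ := hb
    rw [← map_mul, ← map_mul, show x * y = y * x from Subtype.ext (hS _ x.2 _ y.2)]
  have hO : pPrimeCore 2 (CQ s) = ⊥ := Lib.Cores.pPrimeCore_quotient_pPrimeCore 2
  have h1 := AbStruct.sylow_eq hO hPc
  haveI : IsEmpty {K : Subgroup (CQ s) // IsComponent K} := ⟨fun K => hno s hs hs1 K.1 K.2⟩
  rw [iSup_of_empty, sup_bot_eq] at h1
  have hn : (P : Subgroup (CQ s)).Normal := by
    rw [h1]; exact Lib.Cores.pCore_normal 2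
  have hle : (S : Subgroup G) ≤ centralizer ({s} : Set G) := fun s' hs' =>
    mem_centralizer_singleton_iff.2 (hS _ hs' _ hs)
  set c' : centralizer ({s} : Set G) := ⟨c, hc⟩ with hc'
  set x' : centralizer ({s} : Set G) := ⟨x, hle hx⟩ with hx'
  set t' : centralizer ({s} : Set G) := ⟨t, hle (hT ht)⟩ with ht'
  have e1 : QuotientGroup.mk' (pPrimeCore 2 (centralizer ({s} : Set G))) x' ∈ (P : Subgroup (CQ s)) := by
    rw [hP]
    exact ⟨⟨x, hx⟩, rfl⟩
  have e2 : QuotientGroup.mk' (pPrimeCore 2 (centralizer ({s} : Set G))) t' ∈ (P : Subgroup (CQ s)) := by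
    rw [hP]
    exact ⟨⟨t, hT ht⟩, rfl⟩
  have e3 := hn.conj_mem _ e1 (QuotientGroup.mk' (pPrimeCore 2 (centralizer ({s} : Set G))) c')
  have e4 := hPc _ e3 _ e2
  rw [← map_inv, ← map_mul, ← map_mul] at e4
  have e5 : QuotientGroup.mk' (pPrimeCore 2 (centralizer ({s} : Set G))) ⁅c' * x' * c'⁻¹, t'⁆ = 1 := by
    rw [map_commutatorElement, commutatorElement_eq_one_iff_mul_comm]
    exact e4
  have e6 : ⁅c' * x' * c'⁻¹, t'⁆ ∈ pPrimeCore 2 (centralizer ({s} : Set G)) :=
    (QuotientGroup.eq_one_iff _).1 e5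
  exact ⟨_, e6, rfl⟩

theorem pRankLE {S : Sylow 2 G}
    (hS : ∀ a ∈ (S : Subgroup G), ∀ b ∈ (S : Subgroup G), a * b = b * a)
    (hcard : Nat.card (ThreePrime.AbelianBasic.om (S : Subgroup G) hS) < 8) : PRankLE 2 2 G := by
  intro A hA hA2
  have hAp : IsPGroup 2 A := fun a => ⟨1, by
    rw [pow_one]
    exact Subtype.ext (hA2 a a.2)⟩
  obtain ⟨P, hP⟩ := hAp.exists_le_sylow
  obtain ⟨g, hg⟩ := MulAction.exists_smul_eq G P S
  have h1 : A.map (MulAut.conj g).toMonoidHom ≤ ThreePrime.AbelianBasic.om (S : Subgroup G) hS := by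
    rintro _ ⟨a, ha, rfl⟩
    refine ⟨?_, ?_⟩
    · rw [← hg, Sylow.coe_subgroup_smul]
      exact Subgroup.smul_mem_pointwise_smul (S := (P : Subgroup G)) (m := a) (a := MulAut.conj g) (hP ha)
    · have h2 := hA2 a ha
      rw [pow_two] at h2
      rw [← map_mul, h2, map_one]
  have h2 := Subgroup.card_dvd_of_le h1
  rw [Subgroup.card_map_of_injective (MulAut.conj g).injective] at h2
  obtain ⟨n, hn⟩ := IsPGroup.iff_card.1 hAp
  have h3 := Nat.le_of_dvd Nat.card_pos h2
  rw [hn] at h3 ⊢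
  have h4 : 2 ^ n < 2 ^ 3 := by omega
  have h5 : n < 3 := (Nat.pow_lt_pow_iff_right (by norm_num)).1 h4
  exact Nat.pow_le_pow_right (by norm_num) (by omega)

/-- **The induction step.** -/
theorem step (hOS : BalLocal.OddSolvable.{u}) (hPF : FusionThm.{u}) (hBT : BalLocal.BenderThm.{u})
    (hSE : SEThm.{u}) (hR : RankTwoThm.{u}) (hL : LastThm.{u}) : Main.Step.{u} := by
  intro G _ _ hsimp hna S hS hind
  have hna' : ∃ a b : G, a * b ≠ b * a := by
    by_contra hcon
    push Not at hcon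
    exact hna ⟨⟨hcon⟩⟩
  have hOO : ∀ X : Subgroup G, ¬ 2 ∣ Nat.card X → Group.IsSolvable X := fun X hX => hOS X hX
  by_cases hM : ∃ M : Subgroup G, IsStronglyEmbedded M
  · obtain ⟨M, hM⟩ := hM
    exact Or.inl (hSE G hna' S hS M hM)
  by_cases hcomp : ∃ b ∈ (S : Subgroup G), b ≠ 1 ∧ ∃ K : Subgroup (CQ b), IsComponent K
  · have hd := PairsFinal.data_of_component hna' S hS hind (hPF G S) hOO hM hcomp
    have hB := allB hS hBT hd
    refine hL G hna' S hind (fun t ht ht1 => (hd t ht ht1).1) hB ?_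
    intro t ht ht1
    obtain ⟨T, K, hT, hK⟩ := hB t ht ht1
    exact Kill.core_eq_bot (hd t ht ht1).1 hOO hind rfl hT hK
      (fun _ => BalFun.fun_of_allB hna' (hd t ht ht1).1 hOS hBT hind hB)
  · push Not at hcomp
    by_cases h8 : 8 ≤ Nat.card (ThreePrime.AbelianBasic.om (S : Subgroup G) hS)
    · exfalso
      apply hM
      set T := ThreePrime.AbelianBasic.om (S : Subgroup G) hS with hTdef
      have hTS : T ≤ (S : Subgroup G) := fun x hx => hx.1
      have hTsq : ∀ t ∈ T, t * t = 1 := fun x hx => hx.2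
      refine Embed.exists_isStronglyEmbedded hS hTS (centralMod hS hTS hcomp) hna' hTsq h8 ?_ ?_
      · intro n hn
        rw [mem_normalizer_iff] at hn ⊢
        intro x
        change (x ∈ (S : Subgroup G) ∧ x * x = 1) ↔ (n * x * n⁻¹ ∈ (S : Subgroup G) ∧ _)
        have h3 := hn x
        have h4 : n * x * n⁻¹ * (n * x * n⁻¹) = 1 ↔ x * x = 1 := by
          have : n * x * n⁻¹ * (n * x * n⁻¹) = n * (x * x) * n⁻¹ := by group
          rw [this, conj_eq_one_iff]
        rw [h4]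
        exact and_congr_left' h3
      · intro hbal
        refine SolFun.odd (A := T) (fun a ha b hb => hS a (hTS ha) b (hTS hb)) hTsq h8
          (θ := fun a => centralizerPPrimeCore 2 a) ⟨?_, ?_, ?_, hbal⟩ ?_
        · intro a _ _
          exact Embed.core_le a
        · intro a _ _
          exact Setup.OO_odd _
        · intro a ha _ b hb x hx
          exact Embed.conj_mem_core (mem_centralizer_singleton_iff.2 (hS b (hTS hb) a (hTS ha))) hx
        · intro a _ _
          exact hOO _ (Setup.OO_odd _)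
    · exact Or.inr (Or.inl (hR G hna' S hS (pRankLE hS (by omega))))

end G

end Cfsg.Agent.Walter.StepMain
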