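import Mathlib
import Cfsg.Prelude.Def_Local
import Cfsg.Agent.Walter.FieldG
import Cfsg.Agent.Walter.FieldZero
import Cfsg.Agent.Walter.StepMain

/-!
# The last case without field automorphisms

In the setting `Set5 S`, if `O(C(S)) = 1` then `G` is of Janko-Ree type. `lastThm` is `StepMain.LastThm` from
the nonexistence of field automorphisms.
-/

set_option autoImplicit false

namespace Cfsg.Agent.Walter.LastCase

open Subgroup Cfsg
open Cfsg.Agent.Walter.Types Cfsg.Agent.Walter.FieldG

universe u

theorem wType_of_phi {G : Type u} [Group G] [Finite G] {S : Sylow 2 G} (H5 : Set5 S) (hΦ : PhiG S = ⊥) :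
    WType G := by
  obtain ⟨t, ht, ht1⟩ := H5.ne
  obtain ⟨K, hK, hW⟩ := H5.typeB t ht ht1
  have h := H5.data t ht ht1
  exact Or.inr (Or.inr (FieldZero.isJR h hK hW (FieldZero.eq_one_of_OO h hΦ)))

/-- the nonexistence of field automorphisms -/
def NoFieldThm : Prop :=
  ∀ (G : Type u) [Group G] [Finite G] [IsSimpleGroup G], (∃ a b : G, a * b ≠ b * a) →
    ∀ S : Sylow 2 G, TypeSylow.Ind.{u} (Nat.card G) → Set5 S → PhiG S = ⊥

theorem lastThm (hOS : BalLocal.OddSolvable.{u}) (hBT : BalLocal.BenderThm.{u}) (hN : NoFieldThm.{u}) :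
    StepMain.LastThm.{u} := by
  intro G _ _ _ hna S hind hdata hB hcore
  have H5 : Set5 S := set5 hna hOS hBT hind hdata hB hcore
  exact wType_of_phi H5 (hN G hna S hind H5)

end Cfsg.Agent.Walter.LastCase
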