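import Cfsg.Agent.S0118
import Cfsg.Agent.S0025
import Cfsg.Agent.Walter.QdAbelian
import Cfsg.Agent.Lib.InvolutionKernel

/-!
# No field automorphisms of order three (Walter, step (5)): the local part

`t` is an involution of a finite group `G` with abelian Sylow 2-subgroups, `C(t) = ⟨t⟩ × E`, `U ≤ L ⊴ E` the
Sylow 3-subgroup of `L = PSL(2, 3^n)`, `D = N_E(U)`.
-/

set_option autoImplicit false

namespace Cfsg.Agent.Walter.NoFieldThree

open Subgroup Cfsg
open Cfsg.Agent.Walter.QdAbelian (AbTwo)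

universe u

variable {G : Type u} [Group G]

/-- An involutory map without fixed points inverts. -/
theorem inv_of_fix [Finite G] {t : G} (ht : t * t = 1) {Z : Subgroup G}
    (htZ : ∀ z ∈ Z, t * z * t⁻¹ ∈ Z) (hfix : ∀ z ∈ Z, z * t = t * z → z = 1) :
    ∀ z ∈ Z, t * z * t⁻¹ = z⁻¹ := by
  have hti : t⁻¹ = t := inv_eq_of_mul_eq_one_left ht
  let f : Z → Z := fun z => ⟨(z : G)⁻¹ * (t * z * t⁻¹), mul_mem (inv_mem z.2) (htZ _ z.2)⟩
  have hf : Function.Injective f := by
    intro y z hyz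
    have h1 : (y : G)⁻¹ * (t * y * t⁻¹) = (z : G)⁻¹ * (t * z * t⁻¹) := congrArg Subtype.val hyz
    have h2 : (z : G) * (y : G)⁻¹ = 1 := by
      refine hfix _ (mul_mem z.2 (inv_mem y.2)) ?_
      have h3 : (z : G) * (y : G)⁻¹ * (t * y * t⁻¹) = t * z * t⁻¹ := by
        rw [mul_assoc, h1]; group
      calc (z : G) * (y : G)⁻¹ * t = (z * (y : G)⁻¹ * (t * y * t⁻¹)) * (t * (y : G)⁻¹) := by group
        _ = t * z * t⁻¹ * (t * (y : G)⁻¹) := by rw [h3]
        _ = t * (z * (y : G)⁻¹) := by group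
    exact Subtype.ext (mul_inv_eq_one.1 h2).symm
  intro z hz
  obtain ⟨y, hy⟩ := Finite.surjective_of_injective hf ⟨z, hz⟩
  have h1 : (y : G)⁻¹ * (t * y * t⁻¹) = z := congrArg Subtype.val hy
  rw [← h1, hti]
  have h2 : ∀ a b : G, t * (a⁻¹ * (t * a * t)) * t = (a⁻¹ * (t * a * t))⁻¹ := by
    intro a _
    rw [mul_inv_rev, inv_inv, mul_inv_rev, mul_inv_rev, hti]
    calc t * (a⁻¹ * (t * a * t)) * t = t * a⁻¹ * t * a * (t * t) := by group
      _ = t * (a⁻¹ * t) * a := by rw [ht]; group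
  exact h2 _ 1

theorem card_mul_relIndex {A C : Subgroup G} (h : A ≤ C) :
    Nat.card A * A.relIndex C = Nat.card C := by
  rw [relIndex, ← card_mul_index (A.subgroupOf C), Nat.card_congr (subgroupOfEquivOfLe h).toEquiv]

/-- A `3`-element. -/
abbrev El (y : G) : Prop := IsPGroup 3 (zpowers y)

theorem el_of_mem {Z : Subgroup G} (hZ : IsPGroup 3 Z) {y : G} (hy : y ∈ Z) : El y :=
  hZ.to_le (by rwa [zpowers_le])

theorem El.conj {y : G} (hy : El y) (g : G) : El (g * y * g⁻¹) := by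
  have h1 : zpowers (g * y * g⁻¹) = (zpowers y).map (MulAut.conj g).toMonoidHom := by
    rw [MonoidHom.map_zpowers]; rfl
  show IsPGroup 3 (zpowers (g * y * g⁻¹))
  rw [h1]
  exact hy.map _

theorem El.exists_pow {y : G} (hy : El y) : ∃ k : ℕ, y ^ 3 ^ k = 1 := by
  obtain ⟨k, hk⟩ := hy ⟨y, mem_zpowers y⟩
  exact ⟨k, congrArg Subtype.val hk⟩

theorem El.sq_eq_one {y : G} (hy : El y) (h : y * y = 1) : y = 1 := by
  obtain ⟨k, hk⟩ := hy.exists_pow
  have h1 : orderOf y ∣ 3 ^ k := orderOf_dvd_of_pow_eq_one hk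
  have h2 : orderOf y ∣ 2 := orderOf_dvd_of_pow_eq_one (by rw [sq]; exact h)
  have h3 : orderOf y ∣ 1 := by
    have : Nat.Coprime (3 ^ k) 2 := Nat.Coprime.pow_left _ (by norm_num)
    rw [← Nat.Coprime.gcd_eq_one this]
    exact Nat.dvd_gcd h1 h2
  exact orderOf_eq_one_iff.1 (Nat.dvd_one.1 h3)

/-- The local data around an involution `t`. -/
structure Hyp (t : G) (E L U D : Subgroup G) (w h : G) (r : ℕ) : Prop where
  hab : AbTwo G
  ht : t * t = 1
  ht1 : t ≠ 1
  isConj : ∀ a : G, a * a = 1 → a ≠ 1 → ∃ g, g * t * g⁻¹ = a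
  cE : ∀ e ∈ E, e * t = t * e
  cent : ∀ g, g * t = t * g → g ∈ E ∨ t * g ∈ E
  tE : t ∉ E
  /-- no real 3-elements in `E` -/
  nr : ∀ y ∈ E, El y → y ≠ 1 → ∀ e ∈ E, e * y * e⁻¹ ≠ y⁻¹
  LE : L ≤ E
  /-- `L` normalises no nontrivial 3-subgroup of `E` -/
  LX : ∀ X ≤ E, IsPGroup 3 X → (∀ l ∈ L, ∀ x ∈ X, l * x * l⁻¹ ∈ X) → X = ⊥
  wL : w ∈ L
  hw : w * w = 1
  hw1 : w ≠ 1
  wh : w * h * w⁻¹ = h⁻¹
  UL : U ≤ L
  U1 : U ≠ ⊥
  U3 : IsPGroup 3 U
  Uc : ∀ a ∈ U, ∀ b ∈ U, a * b = b * a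
  memD : ∀ g, g ∈ D ↔ g ∈ E ∧ ∀ u, u ∈ U ↔ g * u * g⁻¹ ∈ U
  Dodd : Odd (Nat.card D)
  gen : ∀ g ∈ E, g ∉ D → ∀ N : Subgroup G, U ≤ N → (∀ u ∈ U, g * u * g⁻¹ ∈ N) → L ≤ N
  CU : ∀ d ∈ D, (∀ u ∈ U, d * u = u * d) → d ∈ U
  hD : h ∈ D
  hr : r.Prime
  hhr : h ^ r = 1
  hh1 : h ≠ 1
  ch3 : ∀ y ∈ E, y * h = h * y → El y → y = 1
  ch2 : ∀ y ∈ E, y * h = h * y → y * y = 1 → y = 1

namespace Hyp

variable {t : G} {E L U D : Subgroup G} {w h : G} {r : ℕ} (H : Hyp t E L U D w h r)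
include H

theorem ti : t⁻¹ = t := inv_eq_of_mul_eq_one_left H.ht

theorem DE : D ≤ E := fun g hg => ((H.memD g).1 hg).1

theorem UE : U ≤ E := H.UL.trans H.LE

theorem UD : U ≤ D := by
  intro g hg
  rw [H.memD]
  refine ⟨H.UE hg, fun u => ⟨fun hu => mul_mem (mul_mem hg hu) (inv_mem hg), fun hu => ?_⟩⟩
  have : u = g⁻¹ * (g * u * g⁻¹) * g := by group
  rw [this]
  exact mul_mem (mul_mem (inv_mem hg) hu) hg

theorem Dnorm {d u : G} (hd : d ∈ D) (hu : u ∈ U) : d * u * d⁻¹ ∈ U := (((H.memD d).1 hd).2 u).1 hu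

/-- 3-elements commuting with `t` lie in `E`. -/
theorem mem_E {y : G} (hy : El y) (hyt : y * t = t * y) : y ∈ E := by
  rcases H.cent y hyt with h1 | h1
  · exact h1
  · exfalso
    obtain ⟨k, hk⟩ := hy.exists_pow
    have h2 : (t * y) ^ 3 ^ k = t := by
      have hc : Commute t y := hyt.symm
      rw [hc.mul_pow, hk, mul_one]
      have h3 : Odd (3 ^ k) := Odd.pow (by decide)
      obtain ⟨m, hm⟩ := h3
      rw [hm, pow_succ, pow_mul, sq, H.ht, one_pow, one_mul]
    apply H.tE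
    rw [← h2]
    exact pow_mem h1 _

/-- a nontrivial 3-element `y` commuting with the involution `a` is not inverted by an element commuting with `a` -/
theorem nonreal {y a b : G} (hy : El y) (ha : a * a = 1) (ha1 : a ≠ 1) (hya : y * a = a * y)
    (hba : b * a = a * b) (hby : b * y * b⁻¹ = y⁻¹) : y = 1 := by
  obtain ⟨g, rfl⟩ := H.isConj a ha ha1
  by_contra hy1
  set y' := g⁻¹ * y * g with hy'
  set b' := g⁻¹ * b * g with hb'
  have e1 : y' * t = t * y' := by
    rw [hy']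
    calc g⁻¹ * y * g * t = g⁻¹ * (y * (g * t * g⁻¹)) * g := by group
      _ = g⁻¹ * ((g * t * g⁻¹) * y) * g := by rw [hya]
      _ = _ := by group
  have e2 : b' * t = t * b' := by
    rw [hb']
    calc g⁻¹ * b * g * t = g⁻¹ * (b * (g * t * g⁻¹)) * g := by group
      _ = g⁻¹ * ((g * t * g⁻¹) * b) * g := by rw [hba]
      _ = _ := by group
  have e3 : b' * y' * b'⁻¹ = y'⁻¹ := by
    rw [hy', hb']
    calc g⁻¹ * b * g * (g⁻¹ * y * g) * (g⁻¹ * b * g)⁻¹ = g⁻¹ * (b * y * b⁻¹) * g := by group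
      _ = g⁻¹ * y⁻¹ * g := by rw [hby]
      _ = _ := by group
  have hel : El y' := by
    have := hy.conj g⁻¹
    rwa [inv_inv] at this
  have hne : y' ≠ 1 := by
    intro h1
    apply hy1
    have : y = g * y' * g⁻¹ := by rw [hy']; group
    rw [this, h1]; group
  have hyE : y' ∈ E := H.mem_E hel e1
  rcases H.cent b' e2 with h1 | h1
  · exact H.nr y' hyE hel hne b' h1 e3
  · refine H.nr y' hyE hel hne (t * b') h1 ?_
    calc t * b' * y' * (t * b')⁻¹ = t * (b' * y' * b'⁻¹) * t⁻¹ := by group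
      _ = t * y'⁻¹ * t⁻¹ := by rw [e3]
      _ = y'⁻¹ := by
        have hc : Commute y' t := e1
        rw [← hc.inv_left.eq, mul_inv_cancel_right]

theorem wt : w * t = t * w := H.cE w (H.LE H.wL)

/-- A 3-subgroup normalised by `t` and `w`, with `C(t) = 1`, is trivial. -/
theorem eq_bot_of_fix [Finite G] {Z : Subgroup G} (hZ : IsPGroup 3 Z)
    (htZ : ∀ z ∈ Z, t * z * t⁻¹ ∈ Z) (hwZ : ∀ z ∈ Z, w * z * w⁻¹ ∈ Z)
    (hfix : ∀ z ∈ Z, z * t = t * z → z = 1) : Z = ⊥ := by
  have hwt := H.wt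
  have hinv := inv_of_fix H.ht htZ hfix
  have hwinv : ∀ z ∈ Z, w * z * w⁻¹ = z⁻¹ := by
    refine inv_of_fix H.hw hwZ ?_
    intro z hz hzw
    exact H.nonreal (el_of_mem hZ hz) H.hw H.hw1 hzw hwt.symm (hinv z hz)
  have htw : t * w * (t * w) = 1 := by
    calc t * w * (t * w) = t * (w * t) * w := by group
      _ = (t * t) * (w * w) := by rw [hwt]; group
      _ = 1 := by rw [H.ht, H.hw, one_mul]
  have htw1 : t * w ≠ 1 := by
    intro h1
    apply H.tE
    have : t = w⁻¹ := mul_eq_one_iff_eq_inv.1 h1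
    rw [this]
    exact inv_mem (H.LE H.wL)
  have h2inv : ∀ z ∈ Z, t * w * z * (t * w)⁻¹ = z⁻¹ := by
    refine inv_of_fix htw ?_ ?_
    · intro z hz
      have : t * w * z * (t * w)⁻¹ = t * (w * z * w⁻¹) * t⁻¹ := by group
      rw [this]
      exact htZ _ (hwZ _ hz)
    · intro z hz hzw
      refine H.nonreal (el_of_mem hZ hz) htw htw1 hzw ?_ (hinv z hz)
      calc t * (t * w) = t * (w * t) := by rw [hwt]
        _ = t * w * t := by group
  rw [eq_bot_iff]
  intro z hz
  rw [mem_bot]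
  refine (el_of_mem hZ hz).sq_eq_one ?_
  have e1 : t * w * z * (t * w)⁻¹ = z := by
    have : t * w * z * (t * w)⁻¹ = t * (w * z * w⁻¹) * t⁻¹ := by group
    rw [this, hwinv z hz, hinv _ (inv_mem hz), inv_inv]
  have e2 := h2inv z hz
  rw [e1] at e2
  nth_rw 1 [e2]
  group

/-- `L` normalises no `t`-invariant nontrivial 3-subgroup. -/
theorem not_le [Finite G] {Z : Subgroup G} (hZ : IsPGroup 3 Z) (hZ1 : Z ≠ ⊥)
    (htZ : ∀ z ∈ Z, t * z * t⁻¹ ∈ Z) : ¬ L ≤ normalizer (Z : Set G) := by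
  intro hL
  have hLn : ∀ l ∈ L, ∀ z ∈ Z, l * z * l⁻¹ ∈ Z := fun l hl z hz => (mem_normalizer_iff.1 (hL hl) z).1 hz
  have h1 : Z ⊓ centralizer {t} = ⊥ := by
    refine H.LX _ ?_ (hZ.to_le inf_le_left) ?_
    · rintro y ⟨hy, hyt⟩
      exact H.mem_E (el_of_mem hZ hy) (mem_centralizer_singleton_iff.1 hyt)
    · rintro l hl y ⟨hy, hyt⟩
      refine ⟨hLn l hl y hy, mem_centralizer_singleton_iff.2 ?_⟩
      have hlt := H.cE l (H.LE hl)
      have hc1 : Commute l t := hlt
      have hc2 : Commute y t := mem_centralizer_singleton_iff.1 hyt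
      exact ((hc1.mul_left hc2).mul_left hc1.inv_left)
  refine hZ1 (H.eq_bot_of_fix hZ htZ (hLn w H.wL) ?_)
  intro z hz hzt
  have : z ∈ Z ⊓ centralizer {t} := ⟨hz, mem_centralizer_singleton_iff.2 hzt⟩
  rw [h1, mem_bot] at this
  exact this

/-- If `t ∈ N` and `N ∩ E` has odd order, then `N = B⟨t⟩` with `B` of odd order. -/
theorem kernel [Finite G] (N : Subgroup G) (htN : t ∈ N) (hodd : Odd (Nat.card ↥(N ⊓ E))) :
    ∃ B : Subgroup G, B ≤ N ∧ Odd (Nat.card B) ∧ (∀ g ∈ N, ∀ b ∈ B, g * b * g⁻¹ ∈ B) ∧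
      (∀ g ∈ N, g ∈ B ∨ t * g ∈ B) ∧ (∀ x ∈ N, x ∈ B ↔ Odd (orderOf x)) ∧
      (∀ g ∈ B, g * t = t * g → g ∈ E) ∧ N ⊓ E ≤ B := by
  classical
  set t' : N := ⟨t, htN⟩ with ht'
  have ht2 : t' * t' = 1 := Subtype.ext H.ht
  have ht1 : t' ≠ 1 := fun h1 => H.ht1 (congrArg Subtype.val h1)
  -- the centralizer
  have hcard : Nat.card (centralizer ({t'} : Set N)) = 2 * Nat.card ↥(N ⊓ E) := by
    have h1 : (centralizer ({t'} : Set N)).map N.subtype = N ⊓ centralizer {t} := by
      ext x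
      constructor
      · rintro ⟨y, hy, rfl⟩
        refine ⟨y.2, mem_centralizer_singleton_iff.2 ?_⟩
        exact congrArg Subtype.val (mem_centralizer_singleton_iff.1 hy)
      · rintro ⟨hx1, hx2⟩
        refine ⟨⟨x, hx1⟩, mem_centralizer_singleton_iff.2 (Subtype.ext ?_), rfl⟩
        exact mem_centralizer_singleton_iff.1 hx2
    have h2 : Nat.card (centralizer ({t'} : Set N)) = Nat.card ↥(N ⊓ centralizer {t}) := by
      rw [← h1]
      exact Nat.card_congr (equivMapOfInjective _ _ N.subtype_injective).toEquiv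
    have h3 : N ⊓ E ≤ N ⊓ centralizer {t} :=
      inf_le_inf_left _ (fun e he => mem_centralizer_singleton_iff.2 (H.cE e he))
    have h4 : (N ⊓ E).relIndex (N ⊓ centralizer {t}) = 2 := by
      have htC : t ∈ N ⊓ centralizer {t} := ⟨htN, mem_centralizer_singleton_iff.2 rfl⟩
      rw [relIndex, index_eq_two_iff]
      refine ⟨⟨t, htC⟩, ?_⟩
      rintro ⟨b, hb1, hb2⟩
      have hbt : b * t = t * b := mem_centralizer_singleton_iff.1 hb2
      simp only [mem_subgroupOf, coe_mul, mem_inf]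
      rcases H.cent b hbt with h5 | h5
      · right
        refine ⟨⟨hb1, h5⟩, fun h6 => H.tE ?_⟩
        have : t = b⁻¹ * (b * t) := by group
        rw [this]
        exact mul_mem (inv_mem h5) h6.2
      · left
        rw [hbt]
        refine ⟨⟨mul_mem htN hb1, h5⟩, fun h6 => H.tE ?_⟩
        have : t = (t * b) * b⁻¹ := by group
        rw [this]
        exact mul_mem h5 (inv_mem h6.2)
    rw [h2, ← card_mul_relIndex h3, h4, mul_comm]
  obtain ⟨K, hKn, hKodd, hKi, hKmem⟩ := Lib.InvolutionKernel.exists_odd_index_two ht2 ht1 (by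
    rw [hcard]
    rintro ⟨k, hk⟩
    obtain ⟨m, hm⟩ := hodd
    omega)
  have hB : ∀ x : N, (x : G) ∈ K.map N.subtype ↔ x ∈ K := by
    intro x
    constructor
    · rintro ⟨y, hy, hyx⟩
      have : y = x := Subtype.ext hyx
      rwa [← this]
    · exact fun hx => ⟨x, hx, rfl⟩
  have hchar : ∀ x ∈ N, x ∈ K.map N.subtype ↔ Odd (orderOf x) := by
    intro x hx
    rw [hB ⟨x, hx⟩, hKmem, orderOf_mk]
  have htB : t ∉ K.map N.subtype := by
    rw [hchar t htN, orderOf_eq_prime (p := 2) (by rw [sq]; exact H.ht) H.ht1]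
    decide
  have hNE : N ⊓ E ≤ K.map N.subtype := by
    rintro x ⟨hx1, hx2⟩
    rw [hchar x hx1]
    have h1 : orderOf x ∣ Nat.card ↥(N ⊓ E) := by
      rw [← orderOf_mk x (show x ∈ N ⊓ E from ⟨hx1, hx2⟩)]
      exact orderOf_dvd_natCard _
    exact Odd.of_dvd_nat hodd h1
  refine ⟨K.map N.subtype, map_subtype_le K, ?_, ?_, ?_, hchar, ?_, hNE⟩
  · rwa [← Nat.card_congr (equivMapOfInjective K _ N.subtype_injective).toEquiv]
  · rintro g hg _ ⟨b, hb, rfl⟩
    exact ⟨⟨g, hg⟩ * b * ⟨g, hg⟩⁻¹, hKn.conj_mem b hb _, rfl⟩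
  · intro g hg
    by_cases h1 : (⟨g, hg⟩ : N) ∈ K
    · exact Or.inl ⟨_, h1, rfl⟩
    · right
      have h2 : t' ∉ K := fun h3 => htB ⟨t', h3, rfl⟩
      exact ⟨t' * ⟨g, hg⟩, (mul_mem_iff_of_index_two hKi).2 ⟨fun h3 => absurd h3 h2,
        fun h3 => absurd h3 h1⟩, rfl⟩
  · intro g hg hgt
    rcases H.cent g hgt with h1 | h1
    · exact h1
    · exfalso
      apply htB
      have hgN : g ∈ N := map_subtype_le K hg
      have h2 : t * g ∈ K.map N.subtype := hNE ⟨mul_mem htN hgN, h1⟩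
      have : t = (t * g) * g⁻¹ := by group
      rw [this]
      exact mul_mem h2 (inv_mem hg)

theorem th : t * h = h * t := (H.cE h (H.DE H.hD)).symm

/-- `C_G(h)` is a `3'`-group. -/
theorem fpf [Finite G] {y : G} (hy : El y) (hyh : y * h = h * y) : y = 1 := by
  classical
  have h3 : Fact (Nat.Prime 3) := ⟨Nat.prime_three⟩
  have h2 : Fact (Nat.Prime 2) := ⟨Nat.prime_two⟩
  have hhE := H.DE H.hD
  have htC : t ∈ centralizer {h} := mem_centralizer_singleton_iff.2 H.th
  have hodd : Odd (Nat.card ↥(centralizer {h} ⊓ E)) := by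
    rw [← Nat.not_even_iff_odd]
    intro he
    obtain ⟨x, hx⟩ := exists_prime_orderOf_dvd_card' (G := ↥(centralizer {h} ⊓ E)) 2 he.two_dvd
    have hx1 : (x : G) * x = 1 := by
      have := pow_orderOf_eq_one x
      rw [hx, sq] at this
      exact congrArg Subtype.val this
    have hx2 := H.ch2 x x.2.2 (mem_centralizer_singleton_iff.1 x.2.1) hx1
    have hx3 : x = 1 := Subtype.ext hx2
    rw [hx3, orderOf_one] at hx
    omega
  obtain ⟨B, hBN, hBodd, hBn, -, hBmem, hBt, -⟩ := H.kernel (centralizer {h}) htC hodd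
  -- the four-group
  have hA2 : ∀ a ∈ closure ({t, w} : Set G), a * a = 1 ∧ a * t = t * a ∧ a * w = w * a := by
    intro a ha
    induction ha using closure_induction with
    | mem x hx =>
      rcases hx with rfl | rfl
      · exact ⟨H.ht, rfl, H.wt.symm⟩
      · exact ⟨H.hw, H.wt, rfl⟩
    | one => simp
    | mul x y hx hy h1 h2 =>
      obtain ⟨a1, a2, a3⟩ := h1
      obtain ⟨b1, b2, b3⟩ := h2
      have hc : x * y = y * x := by
        have : y ∈ centralizer ({x} : Set G) := by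
          have hle : closure ({t, w} : Set G) ≤ centralizer ({x} : Set G) := by
            rw [closure_le]
            rintro _ (rfl | rfl)
            · exact mem_centralizer_singleton_iff.2 a2.symm
            · exact mem_centralizer_singleton_iff.2 a3.symm
          exact hle hy
        exact (mem_centralizer_singleton_iff.1 this).symm
      refine ⟨?_, ?_, ?_⟩
      · calc x * y * (x * y) = x * (y * x) * y := by group
          _ = (x * x) * (y * y) := by rw [← hc]; group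
          _ = 1 := by rw [a1, b1, one_mul]
      · rw [mul_assoc, b2, ← mul_assoc, a2, mul_assoc]
      · rw [mul_assoc, b3, ← mul_assoc, a3, mul_assoc]
    | inv x hx h1 =>
      obtain ⟨a1, a2, a3⟩ := h1
      have : x⁻¹ = x := inv_eq_of_mul_eq_one_left a1
      rw [this]
      exact ⟨a1, a2, a3⟩
  have hwB : ∀ b ∈ B, w * b * w⁻¹ ∈ B := by
    intro b hb
    have hbC : b * h = h * b := mem_centralizer_singleton_iff.1 (hBN hb)
    have h1 : w * b * w⁻¹ ∈ centralizer {h} := by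
      rw [mem_centralizer_singleton_iff]
      have hc : Commute (w * b * w⁻¹) (w * h * w⁻¹) := by
        show w * b * w⁻¹ * (w * h * w⁻¹) = w * h * w⁻¹ * (w * b * w⁻¹)
        calc w * b * w⁻¹ * (w * h * w⁻¹) = w * (b * h) * w⁻¹ := by group
          _ = w * (h * b) * w⁻¹ := by rw [hbC]
          _ = _ := by group
      rw [H.wh] at hc
      have := hc.inv_right
      rw [inv_inv] at this
      exact this
    rw [hBmem _ h1]
    have h2 : orderOf (w * b * w⁻¹) = orderOf b := by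
      have := orderOf_injective (MulAut.conj w).toMonoidHom (MulAut.conj w).injective b
      simpa using this
    rw [h2]
    exact (hBmem b (hBN hb)).1 hb
  have hAB : closure ({t, w} : Set G) ≤ normalizer (B : Set G) := by
    rw [closure_le]
    have key : ∀ a : G, a * a = 1 → (∀ b ∈ B, a * b * a⁻¹ ∈ B) → a ∈ normalizer (B : Set G) := by
      intro a ha hab
      rw [mem_normalizer_iff]
      intro b
      refine ⟨hab b, fun hb => ?_⟩
      have hai : a⁻¹ = a := inv_eq_of_mul_eq_one_left ha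
      have := hab _ hb
      rw [hai] at this
      have e : a * (a * b * a) * a = b := by
        calc a * (a * b * a) * a = (a * a) * b * (a * a) := by group
          _ = b := by rw [ha]; group
      rwa [e] at this
    rintro _ (rfl | rfl)
    · exact key _ H.ht (fun b hb => hBn _ htC b hb)
    · exact key _ H.hw hwB
  have hAp : IsPGroup 2 (closure ({t, w} : Set G)) := by
    rintro ⟨a, ha⟩
    refine ⟨1, Subtype.ext ?_⟩
    simp only [pow_one]
    show a ^ 2 = 1
    rw [sq]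
    exact (hA2 a ha).1
  have hcop : (Nat.card (closure ({t, w} : Set G))).Coprime (Nat.card B) := by
    obtain ⟨n, hn⟩ := IsPGroup.iff_card.1 hAp
    rw [hn]
    exact Nat.Coprime.pow_left _ (Nat.coprime_two_left.2 hBodd)
  have hAsol : Group.IsSolvable (closure ({t, w} : Set G)) := by
    have := hAp.isNilpotent
    infer_instance
  obtain ⟨P, -, hP⟩ := S0025.result (closure ({t, w} : Set G)) B hAB hcop (Or.inl hAsol) 3 ⊥ bot_le
    IsPGroup.of_bot (by rw [normalizer_eq_top_iff.2 inferInstance]; exact le_top)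
  have hPp : IsPGroup 3 ((P : Subgroup B).map B.subtype) := P.isPGroup'.map _
  have hPn : ∀ a ∈ closure ({t, w} : Set G), ∀ z ∈ (P : Subgroup B).map B.subtype,
      a * z * a⁻¹ ∈ (P : Subgroup B).map B.subtype :=
    fun a ha z hz => (mem_normalizer_iff.1 (hP ha) z).1 hz
  have hbot : (P : Subgroup B).map B.subtype = ⊥ := by
    refine H.eq_bot_of_fix hPp (hPn t (subset_closure (by simp))) (hPn w (subset_closure (by simp))) ?_
    intro z hz hzt
    have hel := el_of_mem hPp hz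
    have hzB : z ∈ B := map_subtype_le _ hz
    exact H.ch3 z (H.mem_E hel hzt) (mem_centralizer_singleton_iff.1 (hBN hzB)) hel
  have hP1 : Nat.card P = 1 := by
    have h4 : (P : Subgroup B) = ⊥ := (map_eq_bot_iff_of_injective _ B.subtype_injective).1 hbot
    rw [h4]; exact card_bot
  have h3B : ¬ 3 ∣ Nat.card B := by
    intro hd
    have h4 := P.card_eq_multiplicity
    rw [hP1] at h4
    have h5 : 0 < (Nat.card B).factorization 3 :=
      Nat.Prime.factorization_pos_of_dvd Nat.prime_three Nat.card_pos.ne' hd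
    have h6 : 1 < 3 ^ (Nat.card B).factorization 3 := Nat.one_lt_pow h5.ne' (by norm_num)
    omega
  -- conclusion
  obtain ⟨k, hk⟩ := hy.exists_pow
  obtain ⟨j, -, hj⟩ := (Nat.dvd_prime_pow Nat.prime_three).1 (orderOf_dvd_of_pow_eq_one hk)
  have hyC : y ∈ centralizer {h} := mem_centralizer_singleton_iff.2 hyh
  have hyB : y ∈ B := by
    rw [hBmem y hyC, hj]
    exact Odd.pow (by decide)
  have h7 : orderOf y ∣ Nat.card B := by
    rw [← orderOf_mk y hyB]
    exact orderOf_dvd_natCard _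
  rcases Nat.eq_zero_or_pos j with h8 | h8
  · rw [h8, pow_zero, orderOf_eq_one_iff] at hj
    exact hj
  · exfalso
    apply h3B
    rw [hj] at h7
    exact (dvd_pow_self 3 h8.ne').trans h7

end Hyp

end Cfsg.Agent.Walter.NoFieldThree
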