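import Mathlib
import Cfsg.Prelude.Def_Local
import Cfsg.Agent.Walter.FieldE
import Cfsg.Agent.Walter.FieldZero
import Cfsg.Agent.CharDeep.PowerDegrees

/-!
# The `p`-subgroups of `C(t)` when `p` does not divide `|K|`
-/

set_option autoImplicit false
set_option linter.unusedSectionVars false
set_option linter.unusedVariables false

namespace Cfsg.Agent.Walter.FieldHH

open Subgroup Cfsg
open Cfsg.Agent.SignalizersComponents Cfsg.Agent.SignalizersComponents.Components
open Cfsg.Agent.Walter.Types Cfsg.Agent.Walter.BalLocal Cfsg.Agent.Walter.OddCoreIn Cfsg.Agent.Walter.Cover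
open Cfsg.Agent.Walter.CentB (TypeB)
open Cfsg.Agent.Walter.FieldX Cfsg.Agent.Walter.FieldY Cfsg.Agent.Walter.FieldPSL Cfsg.Agent.Walter.FieldG
open Cfsg.Agent.Walter.FieldCore Cfsg.Agent.Walter.FieldCard Cfsg.Agent.Walter.FieldQuot
open Cfsg.Agent.Walter.Setup (Data)

universe u

/-- in a cyclic group the elements of order `p` generate the same subgroup -/
theorem mem_zpowers_of_cyclic {A : Type*} [Group A] [Finite A] [hc : IsCyclic A] {p : ℕ} (hp : 0 < p) {x y : A}
    (hx : orderOf x = p) (hy : y ^ p = 1) : y ∈ zpowers x := by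
  classical
  have hfin : Fintype A := Fintype.ofFinite A
  have h1 := IsCyclic.card_pow_eq_one_le (α := A) hp
  have h2 : (Finset.univ.filter (fun a : A => a ∈ zpowers x)) ⊆ Finset.univ.filter (fun a : A => a ^ p = 1) := by
    intro a ha
    rw [Finset.mem_filter] at ha ⊢
    refine ⟨ha.1, ?_⟩
    obtain ⟨n, rfl⟩ := mem_zpowers_iff.1 ha.2
    rw [← zpow_natCast, ← zpow_mul, mul_comm, zpow_mul, zpow_natCast, ← hx, pow_orderOf_eq_one, one_zpow]
  have h3 : (Finset.univ.filter (fun a : A => a ∈ zpowers x)).card = p := by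
    have h4 : Nat.card (zpowers x) = p := by rw [Nat.card_zpowers, hx]
    rw [← h4, Nat.card_eq_fintype_card, Fintype.card_subtype]
  have h5 := Finset.eq_of_subset_of_card_le h2 (by rw [h3]; exact h1)
  have h6 : y ∈ Finset.univ.filter (fun a : A => a ^ p = 1) := by
    rw [Finset.mem_filter]
    exact ⟨Finset.mem_univ _, hy⟩
  rw [← h5, Finset.mem_filter] at h6
  exact h6.2

/-- a central element of order `p` is not in the derived subgroup when the Sylow `p`-subgroups are abelian -/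
theorem not_mem_commutator {H : Type*} [Group H] [Finite H] {p : ℕ} [hp : Fact p.Prime] (P : Sylow p H)
    (hP : ∀ a ∈ (P : Subgroup H), ∀ b ∈ (P : Subgroup H), a * b = b * a) {x : H} (hx : x ∈ center H)
    (hxo : orderOf x = p) : x ∉ commutator H := by
  intro h1
  let _ : CommGroup (P : Subgroup H) :=
    { (inferInstance : Group (P : Subgroup H)) with
      mul_comm := fun a b => Subtype.ext (hP a a.2 b b.2) }
  let f : H →* (P : Subgroup H) := MonoidHom.transfer (MonoidHom.id (P : Subgroup H))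
  have key : ∀ (k : ℕ) (g₀ : H), g₀⁻¹ * x ^ k * g₀ ∈ (P : Subgroup H) → g₀⁻¹ * x ^ k * g₀ = x ^ k := by
    intro k g₀ _
    have h2 : x ^ k ∈ center H := pow_mem hx k
    rw [mul_assoc, ← mem_center_iff.1 h2 g₀, inv_mul_cancel_left]
  have h2 : f x = ⟨x ^ (P : Subgroup H).index, MonoidHom.transfer_eq_pow_aux x key⟩ :=
    MonoidHom.transfer_eq_pow (MonoidHom.id (P : Subgroup H)) x key
  have h3 : f x = 1 := Abelianization.commutator_subset_ker f h1
  rw [h2] at h3
  have h4 : x ^ (P : Subgroup H).index = 1 := congrArg Subtype.val h3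
  have h5 := orderOf_dvd_of_pow_eq_one h4
  rw [hxo] at h5
  exact P.not_dvd_index h5

theorem dvd_index_commutator {H : Type*} [Group H] [Finite H] {p : ℕ} [hp : Fact p.Prime] {x : H}
    (hxo : orderOf x = p) (hx : x ∉ commutator H) : p ∣ (commutator H).index := by
  have h1 : orderOf (QuotientGroup.mk' (commutator H) x) = p := by
    refine orderOf_eq_prime ?_ ?_
    · rw [← map_pow, ← hxo, pow_orderOf_eq_one, map_one]
    · intro h2
      exact hx ((QuotientGroup.eq_one_iff x).1 h2)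
  rw [index_eq_card, ← h1]
  exact orderOf_dvd_natCard _

variable {G : Type u} [Group G] [Finite G] {S : Sylow 2 G} {t x : G} {K : Subgroup (C t)} {p : ℕ} [hp : Fact p.Prime]
  (H5 : Set5 S)

include H5

/-- the `p`-subgroups of `C(t)` are conjugate to subgroups of `Φ` -/
theorem exists_conj_t (ht : t ∈ (S : Subgroup G)) (ht1 : t ≠ 1) (hp2 : p ≠ 2) (hpK : ¬ p ∣ Nat.card K)
    (hK : TypeB (S.subtype ((H5.data t ht ht1).le_centralizer ht)) K) (hW : WType K)
    {R : Subgroup G} (hR : IsPGroup p R) (hRt : R ≤ centralizer ({t} : Set G)) :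
    ∃ g : G, ∀ r ∈ R, g * r * g⁻¹ ∈ PhiG S := by
  have h := H5.data t ht ht1
  let P : Sylow p (PhiG S) := default
  -- `P` in `C t`
  let P1 : Subgroup (C t) := (((P : Subgroup (PhiG S)).map (PhiG S).subtype).subgroupOf (C t))
  have hPle : (P : Subgroup (PhiG S)).map (PhiG S).subtype ≤ C t := by
    rintro _ ⟨y, -, rfl⟩
    exact PhiG_le_C h y.2
  have hP1card : Nat.card P1 = Nat.card (P : Subgroup (PhiG S)) := by
    rw [Nat.card_congr (subgroupOfEquivOfLe hPle).toEquiv, Subgroup.card_map_of_injective (PhiG S).subtype_injective]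
  have hC := FieldCard.card_C H5 ht ht1 hK hW
  have hcard : Nat.card P1 = p ^ (Nat.card (C t)).factorization p := by
    rw [hP1card, P.card_eq_multiplicity, hC, mul_assoc, Nat.factorization_mul (by norm_num)
      (Nat.mul_ne_zero Nat.card_pos.ne' Nat.card_pos.ne'), Nat.factorization_mul Nat.card_pos.ne' Nat.card_pos.ne']
    congr 1
    rw [Finsupp.add_apply, Finsupp.add_apply, Nat.factorization_eq_zero_of_not_dvd hpK,
      Nat.factorization_eq_zero_of_not_dvd (n := 2) (p := p), zero_add, zero_add]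
    intro h1
    exact hp2 ((Nat.prime_dvd_prime_iff_eq hp.out Nat.prime_two).1 h1)
  let P2 : Sylow p (C t) := Sylow.ofCard P1 hcard
  have hP2 : (P2 : Subgroup (C t)) = P1 := rfl
  have hR1 : IsPGroup p (R.subgroupOf (C t)) := hR.comap_of_injective (C t).subtype (C t).subtype_injective
  obtain ⟨R1, hR1le⟩ := hR1.exists_le_sylow
  obtain ⟨g, hg⟩ := MulAction.exists_smul_eq (C t) R1 P2
  refine ⟨g, ?_⟩
  intro r hr
  have h1 : (⟨r, hRt hr⟩ : C t) ∈ (R1 : Subgroup (C t)) := hR1le (mem_subgroupOf.2 hr)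
  have h2 : g * ⟨r, hRt hr⟩ * g⁻¹ ∈ (P2 : Subgroup (C t)) := by
    rw [← hg, Sylow.coe_subgroup_smul]
    exact ⟨⟨r, hRt hr⟩, h1, rfl⟩
  rw [hP2] at h2
  obtain ⟨y, -, hy⟩ := mem_subgroupOf.1 h2
  have h3 : ((y : PhiG S) : G) = (g : G) * r * (g : G)⁻¹ := hy
  rw [← h3]
  exact y.2

theorem exists_conj_v (ht : t ∈ (S : Subgroup G)) (ht1 : t ≠ 1) (hp2 : p ≠ 2) (hpK : ¬ p ∣ Nat.card K)
    (hK : TypeB (S.subtype ((H5.data t ht ht1).le_centralizer ht)) K) (hW : WType K)
    {v : G} (hv : orderOf v = 2) {R : Subgroup G} (hR : IsPGroup p R) (hRt : R ≤ centralizer ({v} : Set G)) :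
    ∃ g : G, ∀ r ∈ R, g * r * g⁻¹ ∈ PhiG S := by
  obtain ⟨a, rfl⟩ := FieldZero.exists_conj (H5.data t ht ht1) hv
  have hR' : IsPGroup p (R.map (MulAut.conj a⁻¹).toMonoidHom) := hR.map _
  obtain ⟨g, hg⟩ := exists_conj_t H5 ht ht1 hp2 hpK hK hW hR' (by
    rintro _ ⟨r, hr, rfl⟩
    rw [mem_centralizer_singleton_iff]
    have h1 := mem_centralizer_singleton_iff.1 (hRt hr)
    change a⁻¹ * r * a⁻¹⁻¹ * t = t * (a⁻¹ * r * a⁻¹⁻¹)
    rw [inv_inv]
    calc a⁻¹ * r * a * t = a⁻¹ * (r * (a * t * a⁻¹)) * a := by group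
      _ = a⁻¹ * ((a * t * a⁻¹) * r) * a := by rw [h1]
      _ = t * (a⁻¹ * r * a) := by group)
  refine ⟨g * a⁻¹, ?_⟩
  intro r hr
  have h1 := hg (a⁻¹ * r * a⁻¹⁻¹) ⟨r, hr, rfl⟩
  have h2 : g * a⁻¹ * r * (g * a⁻¹)⁻¹ = g * (a⁻¹ * r * a⁻¹⁻¹) * g⁻¹ := by group
  rw [h2]
  exact h1

/-- (H4c) -/
theorem H4c (ht : t ∈ (S : Subgroup G)) (ht1 : t ≠ 1) (hp2 : p ≠ 2) (hpK : ¬ p ∣ Nat.card K)
    (hK : TypeB (S.subtype ((H5.data t ht ht1).le_centralizer ht)) K) (hW : WType K) :
    ∀ v : G, orderOf v = 2 → ∀ R : Subgroup G, IsPGroup p R → R ≤ centralizer ({v} : Set G) → IsCyclic R := by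
  intro v hv R hR hRv
  obtain ⟨g, hg⟩ := exists_conj_v H5 ht ht1 hp2 hpK hK hW hv hR hRv
  have hc := FieldE.isCyclic_PhiG H5
  let f : R →* PhiG S :=
    { toFun := fun r => ⟨g * r * g⁻¹, hg r r.2⟩
      map_one' := by
        apply Subtype.ext
        change g * ((1 : R) : G) * g⁻¹ = 1
        rw [Subgroup.coe_one, mul_one, mul_inv_cancel]
      map_mul' := by
        intro a b
        apply Subtype.ext
        change g * ((a * b : R) : G) * g⁻¹ = g * a * g⁻¹ * (g * b * g⁻¹)
        rw [Subgroup.coe_mul]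
        group }
  refine isCyclic_of_injective f ?_
  intro a b hab
  have h1 : g * (a : G) * g⁻¹ = g * b * g⁻¹ := congrArg Subtype.val hab
  exact Subtype.ext (mul_left_cancel (mul_right_cancel h1))

/-- (H4) -/
theorem H4 (ht : t ∈ (S : Subgroup G)) (ht1 : t ≠ 1) (hp2 : p ≠ 2) (hpK : ¬ p ∣ Nat.card K)
    (hK : TypeB (S.subtype ((H5.data t ht ht1).le_centralizer ht)) K) (hW : WType K)
    (hx : x ∈ PhiG S) (hxo : orderOf x = p) :
    ∀ v : G, orderOf v = 2 → ∀ y, y * v = v * y → orderOf y = p → ∃ g : G, g * y * g⁻¹ ∈ zpowers x := by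
  intro v hv y hyv hy
  have hR : IsPGroup p (zpowers y) := IsPGroup.of_card (n := 1) (by rw [Nat.card_zpowers, hy, pow_one])
  obtain ⟨g, hg⟩ := exists_conj_v H5 ht ht1 hp2 hpK hK hW hv hR (by
    rw [zpowers_le]
    exact mem_centralizer_singleton_iff.2 hyv)
  refine ⟨g, ?_⟩
  have h1 := hg y (mem_zpowers y)
  have hc := FieldE.isCyclic_PhiG H5
  have h2 : (⟨g * y * g⁻¹, h1⟩ : PhiG S) ∈ zpowers (⟨x, hx⟩ : PhiG S) := by
    refine mem_zpowers_of_cyclic hp.out.pos (by rw [Subgroup.orderOf_mk, hxo]) ?_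
    apply Subtype.ext
    change (g * y * g⁻¹) ^ p = 1
    rw [conj_pow, ← hy, pow_orderOf_eq_one, mul_one, mul_inv_cancel]
  obtain ⟨n, hn⟩ := mem_zpowers_iff.1 h2
  exact mem_zpowers_iff.2 ⟨n, congrArg Subtype.val hn⟩

omit hp in
/-- `C(x) / E_x` is abelian -/
theorem commutator_le (hx : x ∈ PhiG S) {K1 : Subgroup (Q x)} (hK1 : K1.Normal) (hW1 : WType K1)
    (hcard : Nat.card (C x) = Nat.card K1 * Nat.card (PhiG S)) : commutator (C x) ≤ K1.comap (pr x) := by
  have hQ := card_Q H5 hx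
  have hidx : K1.index * orderOf x = Nat.card (PhiG S) := by
    have h1 := K1.card_mul_index
    have h2 : Nat.card K1 * (K1.index * orderOf x) = Nat.card K1 * Nat.card (PhiG S) := by
      rw [← mul_assoc, h1, hQ, hcard]
    exact Nat.eq_of_mul_eq_mul_left Nat.card_pos h2
  have hodd : ¬ 2 ∣ K1.index := by
    intro h1
    exact PhiG_odd S (h1.trans ⟨_, hidx.symm⟩)
  -- `T̄ ≤ K₁`
  have hTK : (TQ hx : Subgroup (Q x)) ≤ K1 := by
    intro s hs
    by_contra hne
    have h2 : QuotientGroup.mk' K1 s ≠ 1 := by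
      intro h3
      exact hne ((QuotientGroup.eq_one_iff s).1 h3)
    have h3 : orderOf (QuotientGroup.mk' K1 s) = 2 := by
      refine orderOf_eq_prime ?_ h2
      rw [pow_two, ← map_mul, TQ_sq H5 hx s hs, map_one]
    have h4 := orderOf_dvd_natCard (QuotientGroup.mk' K1 s)
    rw [h3] at h4
    exact hodd (by rw [index_eq_card]; exact h4)
  -- the image of `Φ`
  set B : Subgroup (Q x) := ((PhiG S).subgroupOf (C x)).map (pr x) with hB
  have hPhiC : PhiG S ≤ C x := by
    intro y hy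
    exact mem_centralizer_singleton_iff.2 (comm_Phi H5 hy hx)
  have hBcard : Nat.card B * orderOf x = Nat.card (PhiG S) := by
    have h1 := card_map_mul (pr x) (H := (PhiG S).subgroupOf (C x)) (by
      intro z hz
      exact mem_subgroupOf.2 ((zpowers_le.2 hx) ((pr_eq_one H5 hx).1 hz)))
    rw [card_ker H5 hx, Nat.card_congr (subgroupOfEquivOfLe hPhiC).toEquiv] at h1
    exact h1
  have hinf : K1 ⊓ B = ⊥ := by
    rw [eq_bot_iff]
    rintro z ⟨hzK, y, hy, rfl⟩
    have hyP : (y : G) ∈ PhiG S := mem_subgroupOf.1 hy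
    have h1 : pr x y ∈ (TQ hx : Subgroup (Q x)) := by
      refine FieldTri.selfc hW1 hTK (mem_inf.2 ⟨hzK, ?_⟩)
      rw [mem_centralizer_iff]
      intro s hs
      rw [SetLike.mem_coe, coe_TQ] at hs
      obtain ⟨s', hs', rfl⟩ := hs
      rw [← map_mul, ← map_mul]
      congr 1
      exact Subtype.ext (mem_centralizer_iff.1 (PhiG_le S hyP) s' (mem_sub.1 hs'))
    rw [mem_bot]
    have h2 := TQ_sq H5 hx _ h1
    have h3 : (pr x y) ^ orderOf y = 1 := by rw [← map_pow, pow_orderOf_eq_one, map_one]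
    obtain ⟨j, hj⟩ : Odd (orderOf y) := by
      rw [← Subgroup.orderOf_coe]
      exact Nat.not_even_iff_odd.1 fun h => orderOf_odd hyP h.two_dvd
    rw [hj, pow_add, pow_mul, pow_two, h2, one_pow, one_mul, pow_one] at h3
    exact h3
  have hsup : K1 ⊔ B = ⊤ := by
    have h1 : K1.relIndex (K1 ⊔ B) = K1.relIndex B := by rw [sup_comm, relIndex_sup_right]
    have h2 : K1.relIndex B = Nat.card B := by
      rw [← inf_relIndex_right, hinf, relIndex_bot_left]
    have h3 := relIndex_mul_card (A := K1) (B := K1 ⊔ B) le_sup_left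
    rw [h1, h2] at h3
    refine Subgroup.eq_top_of_card_eq _ ?_
    have h4 := K1.index_mul_card
    have h5 : Nat.card B = K1.index := by
      have h6 : Nat.card B * orderOf x = K1.index * orderOf x := by rw [hBcard, hidx]
      exact Nat.eq_of_mul_eq_mul_right (orderOf_pos x) h6
    rw [← h3, h5, h4]
  have hBc : IsMulCommutative B := by
    refine ⟨⟨?_⟩⟩
    rintro ⟨_, a, ha, rfl⟩ ⟨_, b, hb, rfl⟩
    apply Subtype.ext
    change pr x a * pr x b = pr x b * pr x a
    rw [← map_mul, ← map_mul]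
    congr 1
    exact Subtype.ext (comm_Phi H5 (mem_subgroupOf.1 ha) (mem_subgroupOf.1 hb))
  have h1 : commutator (Q x) ≤ K1 := Subgroup.Normal.commutator_le_of_self_sup_commutative_eq_top hsup hBc
  rw [← map_le_iff_le_comap]
  refine le_trans ?_ h1
  rw [commutator_def, commutator_def, map_commutator]
  exact commutator_mono le_top le_top

/-- (H5). `φ` generates the Sylow `p`-subgroup of `Φ` and the Sylow `p`-subgroups of `C(φ)` are abelian. -/
theorem H5' (hind : TypeSylow.Ind.{u} (Nat.card G)) (ht : t ∈ (S : Subgroup G)) (ht1 : t ≠ 1)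
    (hK : TypeB (S.subtype ((H5.data t ht ht1).le_centralizer ht)) K) (hW : WType K)
    {F : Type} [Field F] [Fintype F] (h8 : Fintype.card F % 8 = 3 ∨ Fintype.card F % 8 = 5)
    (M : Model (S.subtype ((H5.data t ht ht1).le_centralizer ht)) K F)
    {φ : G} (hφ : φ ∈ PhiG S) (hφg : ¬ p ∣ Nat.card (PhiG S) / orderOf φ) (hx : x ∈ zpowers φ) (hxo : orderOf x = p)
    (hlt : Nat.card (C x) < Nat.card G)
    {T : Subgroup G} (hT : IsPGroup p T) (hTab : ∀ a ∈ T, ∀ b ∈ T, a * b = b * a) (hTφ : ∀ a ∈ T, a * φ = φ * a)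
    (hφp : ∃ b, φ ^ p ^ b = 1)
    (hSyl : ∀ R : Subgroup G, IsPGroup p R → zpowers φ ⊔ T ≤ R → R ≤ centralizer ({φ} : Set G) →
      R ≤ zpowers φ ⊔ T) :
    ∃ N : Subgroup (centralizer ({x} : Set G)), N.Normal ∧ N.index = p := by
  have hxP : x ∈ PhiG S := (zpowers_le.2 hφ) hx
  have hφc : 0 < orderOf φ := orderOf_pos φ
  have hxφ : p ∣ orderOf φ := by
    have h1 := orderOf_dvd_natCard (⟨x, hx⟩ : zpowers φ)
    rwa [Subgroup.orderOf_mk, hxo, Nat.card_zpowers] at h1
  refine CharDeep.PowerDegrees.exists_normal_index_eq_prime hp.out ?_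
  by_cases hcase : orderOf φ = p
  · -- `φ` generates `⟨x⟩`
    have hz : zpowers x = zpowers φ := by
      refine Subgroup.eq_of_le_of_card_ge (zpowers_le.2 hx) ?_
      rw [Nat.card_zpowers, Nat.card_zpowers, hcase, hxo]
    have hCeq : centralizer ({x} : Set G) = centralizer ({φ} : Set G) := by
      have e1 : ∀ a : G, centralizer ((zpowers a : Subgroup G) : Set G) = centralizer {a} := by
        intro a
        rw [zpowers_eq_closure, centralizer_closure]
      rw [← e1 x, ← e1 φ, hz]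
    set P0 : Subgroup G := zpowers φ ⊔ T with hP0
    have hTC : T ≤ centralizer (zpowers φ : Set G) := by
      intro a ha
      rw [mem_centralizer_iff]
      intro z hz'
      obtain ⟨n, rfl⟩ := mem_zpowers_iff.1 hz'
      exact ((show Commute a φ from hTφ a ha).symm.zpow_left n).eq
    have hzC : zpowers φ ≤ centralizer (T : Set G) := by
      intro z hz'
      rw [mem_centralizer_iff]
      intro a ha
      exact (mem_centralizer_iff.1 (hTC ha) z hz').symm
    have hmemP : ∀ a ∈ P0, ∃ z ∈ zpowers φ, ∃ b ∈ T, z * b = a := by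
      intro a ha
      have h1 : T ≤ normalizer (zpowers φ : Set G) := hTC.trans (centralizer_le_normalizer _)
      rw [hP0, sup_comm, ← SetLike.mem_coe, Subgroup.coe_mul_of_left_le_normalizer_right _ _ h1] at ha
      obtain ⟨b, hb, z, hz', rfl⟩ := ha
      exact ⟨z, hz', b, hb, (mem_centralizer_iff.1 (hTC hb) z hz')⟩
    have hab : ∀ a ∈ P0, ∀ b ∈ P0, a * b = b * a := by
      intro a ha b hb
      obtain ⟨z, hz1, a', ha', rfl⟩ := hmemP a ha
      obtain ⟨w, hw1, b', hb', rfl⟩ := hmemP b hb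
      have h1 : Commute z w := by
        obtain ⟨n, rfl⟩ := mem_zpowers_iff.1 hz1
        obtain ⟨m, rfl⟩ := mem_zpowers_iff.1 hw1
        exact (Commute.refl φ).zpow_zpow n m
      have h2 : Commute z b' := mem_centralizer_iff.1 (hTC hb') z hz1
      have h3 : Commute a' w := (mem_centralizer_iff.1 (hTC ha') w hw1).symm
      have h4 : Commute a' b' := hTab a' ha' b' hb'
      exact ((h1.mul_right h2).mul_left (h3.mul_right h4)).eq
    have hP0p : IsPGroup p P0 := by
      intro a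
      obtain ⟨z, hz1, b, hb, hzb⟩ := hmemP a a.2
      obtain ⟨k, hk⟩ := hφp
      obtain ⟨l, hl⟩ := hT ⟨b, hb⟩
      have hl' : b ^ p ^ l = 1 := congrArg Subtype.val hl
      have hzk : z ^ p ^ k = 1 := by
        obtain ⟨n, rfl⟩ := mem_zpowers_iff.1 hz1
        rw [← zpow_natCast, ← zpow_mul, mul_comm, zpow_mul, zpow_natCast, hk, one_zpow]
      refine ⟨k + l, Subtype.ext ?_⟩
      change (a : G) ^ p ^ (k + l) = 1
      have h2 : Commute z b := mem_centralizer_iff.1 (hTC hb) z hz1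
      rw [← hzb, h2.mul_pow, pow_add, pow_mul z, hzk, one_pow, mul_comm (p ^ k), pow_mul b, hl', one_pow, one_mul]
    have hP0C : P0 ≤ centralizer ({x} : Set G) := by
      rw [hCeq]
      intro a ha
      exact mem_centralizer_singleton_iff.2 (hab a ha φ (mem_sup_left (mem_zpowers φ)))
    -- `P0` is a Sylow subgroup of `C(x)`
    have hP1 : IsPGroup p (P0.subgroupOf (centralizer ({x} : Set G))) :=
      hP0p.comap_of_injective _ (centralizer ({x} : Set G)).subtype_injective
    obtain ⟨P, hP⟩ := hP1.exists_le_sylow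
    have hPle : (P : Subgroup (centralizer ({x} : Set G))).map (centralizer ({x} : Set G)).subtype ≤ P0 := by
      refine hSyl _ (P.isPGroup'.map _) ?_ ?_
      · intro a ha
        exact ⟨⟨a, hP0C ha⟩, hP (mem_subgroupOf.2 ha), rfl⟩
      · rw [← hCeq]
        rintro _ ⟨a, -, rfl⟩
        exact a.2
    refine dvd_index_commutator (x := (⟨x, mem_centralizer_singleton_iff.2 rfl⟩ : centralizer ({x} : Set G)))
      (by rw [Subgroup.orderOf_mk, hxo]) ?_
    refine not_mem_commutator P ?_ ?_ (by rw [Subgroup.orderOf_mk, hxo])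
    · intro a ha b hb
      exact Subtype.ext (hab _ (hPle ⟨a, ha, rfl⟩) _ (hPle ⟨b, hb, rfl⟩))
    · rw [mem_center_iff]
      intro g
      exact Subtype.ext (mem_centralizer_singleton_iff.1 g.2)
  · -- `p² ∣ |Φ|`
    have hφd : orderOf φ ∣ Nat.card (PhiG S) := by
      have h3 := card_dvd_of_le ((zpowers_le.2 hφ) : zpowers φ ≤ PhiG S)
      rwa [Nat.card_zpowers] at h3
    have hmain := FieldTri.main H5 hind ht ht1 hxP hlt hK hW h8 M
    rcases hmain with ⟨-, hPhi, -⟩ | ⟨-, K1, hK1n, -, -, hJ, -, hcard⟩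
    · exfalso
      apply hcase
      have h1 : Nat.card (PhiG S) = p := by rw [hPhi, Nat.card_zpowers, hxo]
      rw [h1] at hφd
      rcases (Nat.dvd_prime hp.out).1 hφd with h2 | h2
      · rw [h2] at hxφ
        exact absurd (Nat.dvd_one.1 hxφ) hp.out.one_lt.ne'
      · exact h2
    · have hle := commutator_le H5 hxP hK1n (Or.inr (Or.inr hJ)) hcard
      have hidx : (K1.comap (pr x)).index * p = Nat.card (PhiG S) := by
        rw [index_comap_of_surjective _ (pr_surj x)]
        have h1 := K1.card_mul_index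
        have hQ := card_Q H5 hxP
        have h2 : Nat.card K1 * (K1.index * p) = Nat.card K1 * Nat.card (PhiG S) := by
          rw [← mul_assoc, h1, ← hcard, ← hQ, hxo]
        exact Nat.eq_of_mul_eq_mul_left Nat.card_pos h2
      refine dvd_trans ?_ (index_dvd_of_le hle)
      -- `p ^ 2 ∣ orderOf φ`
      obtain ⟨b, hb⟩ := hφp
      obtain ⟨k, -, hk⟩ := (Nat.dvd_prime_pow hp.out).1 (orderOf_dvd_of_pow_eq_one hb)
      have hk2 : 2 ≤ k := by
        rcases k with _ | _ | k
        · rw [hk, pow_zero] at hxφ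
          exact absurd (Nat.dvd_one.1 hxφ) hp.out.one_lt.ne'
        · exact absurd (by rw [hk]; norm_num) hcase
        · omega
      have h1 : p ^ 2 ∣ Nat.card (PhiG S) := by
        refine dvd_trans ?_ hφd
        rw [hk]
        exact pow_dvd_pow p hk2
      rw [← hidx, pow_two] at h1
      exact Nat.dvd_of_mul_dvd_mul_right hp.out.pos h1

end Cfsg.Agent.Walter.FieldHH
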