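import Mathlib
import Cfsg.Agent.Lib.NormalAbelian

/-!
# Eigenvalues of an automorphism of a nilpotent group

`α` is an endomorphism of a finite nilpotent group. "`g` is an eigenvector for `c`" means `α g = g ^ c`.
If there are no nontrivial eigenvectors for `c` in the normal `α`-invariant subgroup `Y`, then eigenvectors for `c` in
`X / Y` lift to eigenvectors in `X`, and the lift is unique.
-/

set_option autoImplicit false

namespace Cfsg.Agent.Walter.LocEig

open Subgroup

universe u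

/-- on a central subgroup without eigenvectors, `z ↦ z ^ c (α z)⁻¹` is onto. -/
theorem exists_central {X : Type u} [Group X] [Finite X] (α : X →* X) {N : Subgroup X}
    (hNc : N ≤ center X) (hα : ∀ z ∈ N, α z ∈ N) (c : ℕ) (hno : ∀ z ∈ N, α z = z ^ c → z = 1)
    {z : X} (hz : z ∈ N) : ∃ y ∈ N, y ^ c * (α y)⁻¹ = z := by
  have hcomm : ∀ a ∈ N, ∀ b : X, a * b = b * a := fun a ha b =>
    ((mem_center_iff.1 (hNc ha)) b).symm
  let f : N →* N :=
    { toFun := fun y => ⟨(y : X) ^ c * (α y)⁻¹, N.mul_mem (N.pow_mem y.2 c) (N.inv_mem (hα y y.2))⟩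
      map_one' := by
        apply Subtype.ext
        simp
      map_mul' := by
        intro a b
        apply Subtype.ext
        change ((a : X) * b) ^ c * (α ((a : X) * b))⁻¹ =
          ((a : X) ^ c * (α a)⁻¹) * ((b : X) ^ c * (α b)⁻¹)
        have h1 : Commute (a : X) b := hcomm a a.2 b
        rw [h1.mul_pow, map_mul, mul_inv_rev]
        have h2 : Commute ((b : X) ^ c) ((α a)⁻¹) := by
          apply Commute.pow_left
          exact hcomm b b.2 _
        have h3 : (α b)⁻¹ * (α a)⁻¹ = (α a)⁻¹ * (α b)⁻¹ :=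
          hcomm _ (N.inv_mem (hα b b.2)) _
        rw [h3]
        calc (a : X) ^ c * (b : X) ^ c * ((α a)⁻¹ * (α b)⁻¹)
            = (a : X) ^ c * ((b : X) ^ c * (α a)⁻¹) * (α b)⁻¹ := by group
          _ = (a : X) ^ c * ((α a)⁻¹ * (b : X) ^ c) * (α b)⁻¹ := by rw [h2.eq]
          _ = _ := by group }
  have hinj : Function.Injective f := by
    rw [injective_iff_map_eq_one]
    intro y hy
    have h1 : (y : X) ^ c * (α y)⁻¹ = 1 := congrArg Subtype.val hy
    exact Subtype.ext (hno y y.2 (mul_inv_eq_one.1 h1).symm)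
  obtain ⟨y, hy⟩ := (Finite.injective_iff_surjective.1 hinj) ⟨z, hz⟩
  exact ⟨y, y.2, congrArg Subtype.val hy⟩

theorem main : ∀ (m : ℕ) (X : Type u) [Group X] [Finite X] [Group.IsNilpotent X] (α : X →* X)
    (_ : Function.Surjective α) (Y : Subgroup X) [Y.Normal] (_ : ∀ y ∈ Y, α y ∈ Y) (c : ℕ)
    (_ : ∀ y ∈ Y, α y = y ^ c → y = 1), Nat.card Y ≤ m →
    (∀ x : X, α x * (x ^ c)⁻¹ ∈ Y → ∃ y ∈ Y, α (x * y) = (x * y) ^ c) ∧
    (∀ g g' : X, α g = g ^ c → α g' = g' ^ c → g⁻¹ * g' ∈ Y → g = g') := by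
  intro m
  induction m with
  | zero =>
    intro X _ _ _ α _ Y _ _ c _ hm
    have : 0 < Nat.card Y := Nat.card_pos
    omega
  | succ m ih =>
    intro X _ _ _ α hs Y _ hY c hno hm
    by_cases hbot : Y = ⊥
    · subst hbot
      constructor
      · intro x hx
        refine ⟨1, one_mem _, ?_⟩
        rw [mem_bot, mul_inv_eq_one] at hx
        rw [mul_one]; exact hx
      · intro g g' _ _ h
        rw [mem_bot, inv_mul_eq_one] at h
        exact h
    set N := Y ⊓ center X with hN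
    have hNne : N ≠ ⊥ := Lib.NormalAbelian.normal_inf_center_ne_bot Y hbot
    have hNc : N ≤ center X := inf_le_right
    have hNn : N.Normal := by rw [hN]; infer_instance
    have hαN : ∀ z ∈ N, α z ∈ N := by
      intro z hz
      refine ⟨hY z hz.1, ?_⟩
      change α z ∈ center X
      rw [mem_center_iff]
      intro g
      obtain ⟨g', rfl⟩ := hs g
      rw [← map_mul, ← map_mul, (mem_center_iff.1 hz.2) g']
    have hnoN : ∀ z ∈ N, α z = z ^ c → z = 1 := fun z hz => hno z hz.1
    let α' : X ⧸ N →* X ⧸ N := QuotientGroup.map N N α (fun z hz => hαN z hz)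
    have hs' : Function.Surjective α' := by
      intro q
      obtain ⟨x, rfl⟩ := QuotientGroup.mk_surjective q
      obtain ⟨x', rfl⟩ := hs x
      exact ⟨(x' : X ⧸ N), rfl⟩
    have hα' : ∀ x : X, α' (x : X ⧸ N) = ((α x : X) : X ⧸ N) := fun x => rfl
    let Y' : Subgroup (X ⧸ N) := Y.map (QuotientGroup.mk' N)
    have hY'n : Y'.Normal := Subgroup.Normal.map inferInstance _ (QuotientGroup.mk'_surjective N)
    have hY' : ∀ y ∈ Y', α' y ∈ Y' := by
      rintro _ ⟨y, hy, rfl⟩
      exact ⟨α y, hY y hy, rfl⟩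
    -- adjusting by an element of `N`
    have hadj : ∀ x : X, α' (x : X ⧸ N) = (x : X ⧸ N) ^ c → ∃ z ∈ N, α (x * z) = (x * z) ^ c := by
      intro x hx
      rw [hα', ← QuotientGroup.mk_pow, eq_comm, QuotientGroup.eq] at hx
      obtain ⟨z, hz, hz2⟩ := exists_central α hNc hαN c hnoN hx
      refine ⟨z, hz, ?_⟩
      have hzx : Commute x z := (mem_center_iff.1 (hNc hz)) x
      rw [map_mul, hzx.mul_pow]
      have h1 : α z = ((x ^ c)⁻¹ * α x)⁻¹ * z ^ c := by
        rw [← hz2]; group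
      rw [h1]; group
    have hno' : ∀ y ∈ Y', α' y = y ^ c → y = 1 := by
      rintro _ ⟨y, hy, rfl⟩ hyc
      obtain ⟨z, hz, hz2⟩ := hadj y hyc
      have h1 := hno (y * z) (Y.mul_mem hy hz.1) hz2
      have h2 : y = z⁻¹ := eq_inv_of_mul_eq_one_left h1
      rw [h2]
      change ((z⁻¹ : X) : X ⧸ N) = 1
      rw [QuotientGroup.eq_one_iff]
      exact N.inv_mem hz
    have hcard : Nat.card Y' ≤ m := by
      let f : Y →* X ⧸ N := (QuotientGroup.mk' N).comp Y.subtype
      have hr : f.range = Y' := by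
        rw [MonoidHom.range_comp, range_subtype]
      have h1 : Nat.card f.ker * f.ker.index = Nat.card Y := f.ker.card_mul_index
      rw [Subgroup.index_ker, hr] at h1
      have h4 : 1 < Nat.card f.ker := by
        rw [Subgroup.one_lt_card_iff_ne_bot]
        obtain ⟨⟨z, hz⟩, hz1⟩ := (Subgroup.ne_bot_iff_exists_ne_one).1 hNne
        intro hb
        have hzk : (⟨z, hz.1⟩ : Y) ∈ f.ker := by
          rw [MonoidHom.mem_ker]
          change ((z : X) : X ⧸ N) = 1
          rw [QuotientGroup.eq_one_iff]; exact hz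
        rw [hb, mem_bot] at hzk
        exact hz1 (Subtype.ext (congrArg (fun q : Y => (q : X)) hzk))
      have h5 : 0 < Nat.card Y' := Nat.card_pos
      nlinarith
    obtain ⟨ih1, ih2⟩ := ih (X ⧸ N) α' hs' Y' hY' c hno' hcard
    constructor
    · intro x hx
      obtain ⟨y', hy', hxy⟩ := ih1 (x : X ⧸ N) (by
        rw [hα', ← QuotientGroup.mk_pow, ← QuotientGroup.mk_inv, ← QuotientGroup.mk_mul]
        exact ⟨_, hx, rfl⟩)
      obtain ⟨y, hy, rfl⟩ := hy'
      obtain ⟨z, hz, hz2⟩ := hadj (x * y) hxy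
      exact ⟨y * z, Y.mul_mem hy hz.1, by rw [← mul_assoc]; exact hz2⟩
    · intro g g' hg hg' hgg
      have h1 : (g : X ⧸ N) = (g' : X ⧸ N) := by
        apply ih2
        · rw [hα', hg]; rfl
        · rw [hα', hg']; rfl
        · exact ⟨_, hgg, rfl⟩
      rw [QuotientGroup.eq] at h1
      have h2 : g' = g * (g⁻¹ * g') := by group
      have h3 : Commute g (g⁻¹ * g') := (mem_center_iff.1 (hNc h1)) g
      have h4 : α (g⁻¹ * g') = (g⁻¹ * g') ^ c := by
        have h5 := hg'
        rw [h2, map_mul, h3.mul_pow, hg] at h5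
        exact mul_left_cancel h5
      have h5 := hnoN _ h1 h4
      rw [inv_mul_eq_one] at h5
      exact h5

section Use

variable {X : Type u} [Group X] [Finite X] [Group.IsNilpotent X] (α : X →* X)
  (hs : Function.Surjective α) {Y : Subgroup X} [Y.Normal] (hY : ∀ y ∈ Y, α y ∈ Y) {c : ℕ}

include hs hY

theorem lift (hno : ∀ y ∈ Y, α y = y ^ c → y = 1) {x : X} (hx : α x * (x ^ c)⁻¹ ∈ Y) :
    ∃ y ∈ Y, α (x * y) = (x * y) ^ c :=
  (main (Nat.card Y) X α hs Y hY c hno le_rfl).1 x hx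

theorem unique (hno : ∀ y ∈ Y, α y = y ^ c → y = 1) {g g' : X} (hg : α g = g ^ c)
    (hg' : α g' = g' ^ c) (h : g⁻¹ * g' ∈ Y) : g = g' :=
  (main (Nat.card Y) X α hs Y hY c hno le_rfl).2 g g' hg hg' h

/-- if `X` has no eigenvectors for `c`, neither has `X / Y`. -/
theorem mem_of_no (hno : ∀ y : X, α y = y ^ c → y = 1) {x : X} (hx : α x * (x ^ c)⁻¹ ∈ Y) :
    x ∈ Y := by
  obtain ⟨y, hy, h⟩ := lift α hs hY (fun y _ => hno y) hx
  have h1 := hno _ h
  rw [mul_eq_one_iff_eq_inv] at h1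
  rw [h1]; exact Y.inv_mem hy

end Use

end Cfsg.Agent.Walter.LocEig
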