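import Mathlib
import Cfsg.Agent.Walter.LocEig

/-!
# Eigenspace decomposition on an abelian group

`V` is a finite abelian `p`-group, `α` an endomorphism with `α ^ r = 1`, `κ` an `r`-th root of unity modulo the exponent
of `V`, `κ ≢ 1 [MOD p]`, `r` a prime. If `κ` is the only eigenvalue of `α` then `α` is the power map `v ↦ v ^ κ`.
-/

set_option autoImplicit false

namespace Cfsg.Agent.Walter.LocComp

open Finset

section Arith

theorem pow_modEq_iff {p r κ : ℕ} (hr : r.Prime) (hκr : κ ^ r ≡ 1 [MOD p])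
    (hκ1 : ¬ κ ≡ 1 [MOD p]) {j : ℕ} (hj : κ ^ j ≡ 1 [MOD p]) : r ∣ j := by
  have h1 : ((κ : ZMod p)) ^ r = 1 := by
    have := (ZMod.natCast_eq_natCast_iff _ _ _).2 hκr
    push_cast at this; exact this
  have h2 : ((κ : ZMod p)) ^ j = 1 := by
    have := (ZMod.natCast_eq_natCast_iff _ _ _).2 hj
    push_cast at this; exact this
  have h3 : orderOf (κ : ZMod p) = r := by
    refine orderOf_eq_prime h1 ?_ (hp := ⟨hr⟩)
    intro h
    apply hκ1
    rw [← ZMod.natCast_eq_natCast_iff]
    push_cast; exact h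
  rw [← h3]
  exact orderOf_dvd_of_pow_eq_one h2

end Arith

section Main

variable {V : Type*} [CommGroup V] {p r κ : ℕ} (α : V →* V)

/-- the component of `v` for the eigenvalue `κ ^ i` -/
def Phi (r κ i : ℕ) (v : V) : V := ∏ j ∈ range r, ((α ^[j]) v) ^ (κ ^ ((r - i) * j))

variable {α}

theorem pow_pow_kappa (hκ : ∀ v : V, v ^ (κ ^ r) = v) (v : V) (n : ℕ) : v ^ (κ ^ (r * n)) = v := by
  induction n with
  | zero => simp
  | succ n ih =>
    rw [Nat.mul_succ, pow_add, pow_mul v, ih, hκ]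

theorem Phi_eigen (hα : ∀ v, (α ^[r]) v = v) (hκ : ∀ v : V, v ^ (κ ^ r) = v) {i : ℕ} (hi : i ≤ r)
    (v : V) : α (Phi α r κ i v) = (Phi α r κ i v) ^ (κ ^ i) := by
  unfold Phi
  rw [map_prod, ← Finset.prod_pow]
  set f : ℕ → V := fun j => ((α ^[j]) v) ^ (κ ^ ((r - i) * j + i)) with hf
  have h1 : ∀ j, α (((α ^[j]) v) ^ (κ ^ ((r - i) * j))) = f (j + 1) := by
    intro j
    rw [map_pow, hf]
    change (α ((α ^[j]) v)) ^ (κ ^ ((r - i) * j)) = ((α ^[j + 1]) v) ^ (κ ^ ((r - i) * (j + 1) + i))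
    rw [Function.iterate_succ_apply']
    have h2 : (r - i) * (j + 1) + i = r + (r - i) * j := by
      rw [Nat.mul_succ]; omega
    rw [h2, pow_add κ r, pow_mul _ (κ ^ r) (κ ^ ((r - i) * j)), hκ]
  have h2 : ∀ j, (((α ^[j]) v) ^ (κ ^ ((r - i) * j))) ^ (κ ^ i) = f j := by
    intro j
    rw [hf, ← pow_mul, ← pow_add]
  rw [Finset.prod_congr rfl (fun j _ => h1 j), Finset.prod_congr rfl (fun j _ => h2 j)]
  have h3 := Finset.prod_range_succ f r
  rw [Finset.prod_range_succ'] at h3
  have h4 : f r = f 0 := by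
    rw [hf]
    change ((α ^[r]) v) ^ (κ ^ ((r - i) * r + i)) = ((α ^[0]) v) ^ (κ ^ ((r - i) * 0 + i))
    rw [hα, Function.iterate_zero, Nat.mul_zero, Nat.zero_add, id, pow_add, pow_mul,
      mul_comm (r - i) r, pow_pow_kappa hκ]
  rw [h4] at h3
  exact mul_right_cancel h3

theorem main (hr : r.Prime) (hp : p.Prime) (hrp : r ≠ p) (hV : ∀ v : V, ∃ n : ℕ, v ^ (p ^ n) = 1)
    (hα : ∀ v, (α ^[r]) v = v) (hκ : ∀ v : V, v ^ (κ ^ r) = v) (hκr : κ ^ r ≡ 1 [MOD p])
    (hκ1 : ¬ κ ≡ 1 [MOD p]) (h0 : ∀ v, ∏ j ∈ range r, (α ^[j]) v = 1)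
    (hT : ∀ i, 2 ≤ i → i < r → ∀ v, α v = v ^ (κ ^ i) → v = 1) (v : V) : α v = v ^ κ := by
  -- coprime powers are injective
  have hinj : ∀ (w : V) (m : ℕ), ¬ p ∣ m → w ^ m = 1 → w = 1 := by
    intro w m hm hw
    obtain ⟨n, hn⟩ := hV w
    have h1 : orderOf w ∣ Nat.gcd (p ^ n) m :=
      Nat.dvd_gcd (orderOf_dvd_of_pow_eq_one hn) (orderOf_dvd_of_pow_eq_one hw)
    rw [Nat.Coprime.pow_left n ((Nat.Prime.coprime_iff_not_dvd hp).2 hm), Nat.dvd_one] at h1
    exact orderOf_eq_one_iff.1 h1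
  have hr2 := hr.two_le
  -- the product of all components
  have hprod : ∏ i ∈ range r, Phi α r κ i v = v ^ r := by
    unfold Phi
    rw [Finset.prod_comm]
    have h1 : ∀ j ∈ range r, ∏ i ∈ range r, ((α ^[j]) v) ^ (κ ^ ((r - i) * j)) =
        if j = 0 then v ^ r else 1 := by
      intro j hj
      rw [mem_range] at hj
      by_cases hj0 : j = 0
      · subst hj0
        simp
      rw [if_neg hj0]
      set u := (α ^[j]) v with hu
      rw [Finset.prod_pow_eq_pow_sum]
      set E := ∑ i ∈ range r, κ ^ ((r - i) * j) with hE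
      -- `u ^ E` is fixed by the power `κ ^ j`
      have h2 : (u ^ E) ^ (κ ^ j) = u ^ E := by
        have h3 : E * κ ^ j + κ ^ j = E + κ ^ (r * j) * κ ^ j := by
          have e1 : E * κ ^ j = ∑ i ∈ range r, κ ^ ((r - i) * j + j) := by
            rw [hE, Finset.sum_mul]
            refine Finset.sum_congr rfl fun i _ => ?_
            rw [pow_add]
          have e2 := Finset.sum_range_succ' (fun i => κ ^ ((r + 1 - i) * j)) r
          have e3 := Finset.sum_range_succ (fun i => κ ^ ((r + 1 - i) * j)) r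
          have e4 : ∀ i ∈ range r, κ ^ ((r + 1 - (i + 1)) * j) = κ ^ ((r - i) * j) := by
            intro i _; congr 2; omega
          have e5 : ∀ i ∈ range r, κ ^ ((r + 1 - i) * j) = κ ^ ((r - i) * j + j) := by
            intro i hi
            rw [mem_range] at hi
            congr 1
            have : r + 1 - i = (r - i) + 1 := by omega
            rw [this, Nat.succ_mul]
          rw [Finset.sum_congr rfl e4] at e2
          rw [Finset.sum_congr rfl e5] at e3
          rw [e1]
          have e6 : κ ^ ((r + 1 - r) * j) = κ ^ j := by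
            congr 1
            have : r + 1 - r = 1 := by omega
            rw [this, one_mul]
          have e7 : κ ^ ((r + 1 - 0) * j) = κ ^ (r * j) * κ ^ j := by
            rw [← pow_add]; congr 1
            rw [Nat.sub_zero, Nat.succ_mul]
          rw [e6] at e3
          rw [e7] at e2
          rw [← e3, e2]
        have h4 : u ^ (E * κ ^ j + κ ^ j) = u ^ (E + κ ^ (r * j) * κ ^ j) := by rw [h3]
        rw [pow_add, pow_add, pow_mul u (κ ^ (r * j)), pow_pow_kappa hκ] at h4
        rw [← pow_mul]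
        exact mul_right_cancel h4
      -- so it is trivial
      by_cases hκ0 : κ ^ j = 0
      · rw [hκ0, pow_zero] at h2
        exact h2.symm
      have h5 : (u ^ E) ^ (κ ^ j - 1) = 1 := by
        have h6 : κ ^ j = (κ ^ j - 1) + 1 := by omega
        rw [h6, pow_succ] at h2
        exact mul_eq_right.1 h2
      refine hinj _ _ ?_ h5
      intro hd
      have h6 : κ ^ j ≡ 1 [MOD p] := by
        have := (Nat.modEq_iff_dvd' (n := p) (a := 1) (b := κ ^ j) (by omega)).2 hd
        exact this.symm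
      have h7 := pow_modEq_iff hr hκr hκ1 h6
      exact hj0 (Nat.eq_zero_of_dvd_of_lt h7 hj)
    rw [Finset.prod_congr rfl h1, Finset.prod_ite_eq' (range r) 0 (fun _ => v ^ r)]
    rw [if_pos (mem_range.2 hr.pos)]
  have h1 : ∏ i ∈ range r, Phi α r κ i v = Phi α r κ 1 v := by
    refine Finset.prod_eq_single 1 ?_ ?_
    · intro i hi hi1
      rw [mem_range] at hi
      rcases Nat.lt_or_ge i 2 with h | h
      · have h2 : i = 0 := by omega
        subst h2
        unfold Phi
        rw [← h0 v]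
        refine Finset.prod_congr rfl fun j _ => ?_
        rw [Nat.sub_zero, pow_pow_kappa hκ]
      · exact hT i h hi _ (Phi_eigen hα hκ hi.le v)
    · intro h
      exact absurd (mem_range.2 (by omega)) h
  rw [h1] at hprod
  have h2 := Phi_eigen (i := 1) hα hκ (by omega) v
  rw [hprod, pow_one, map_pow] at h2
  -- `α v` and `v ^ κ` have the same `r`-th power
  have h3 : (α v * (v ^ κ)⁻¹) ^ r = 1 := by
    rw [mul_pow, h2, inv_pow, ← pow_mul, ← pow_mul, mul_comm r κ, mul_inv_cancel]
  have h4 := hinj _ r (by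
    intro hd
    exact hrp ((Nat.prime_dvd_prime_iff_eq hp hr).1 hd).symm) h3
  rw [mul_inv_eq_one] at h4
  exact h4

end Main

end Cfsg.Agent.Walter.LocComp
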