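import Mathlib
import Cfsg.Agent.Lib.ThompsonPQ
import Cfsg.Agent.Walter.LocComp

/-!
# The automisers of `Q = T ⟨x⟩`

`Q` is a finite `p`-group, `Q = T ⟨x⟩` with `T` abelian and normal, `α` is an automorphism of `Q` which fixes `x` and
is the power map `t ↦ t ^ κ` on `T`, where `κ` has prime order `r ≥ 3` modulo `p`; `C_T(x) = ⟨a⟩ ≠ 1` is cyclic.
-/

set_option autoImplicit false
set_option linter.unusedSectionVars false

namespace Cfsg.Agent.Walter.LocAut

open Subgroup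

/-- Thompson's `A × B` lemma for automorphisms: a `p'`-automorphism `β` of the `p`-group `Q` which fixes `x` and
centralizes `C_Q(x)` is trivial. -/
theorem eq_one_of_fix {Q : Type*} [Group Q] [Finite Q] {p : ℕ} [Fact p.Prime] (hQ : IsPGroup p Q)
    {x : Q} {β : MulAut Q} (hβ : (orderOf β).Coprime p) (hx : β x = x)
    (h : ∀ y : Q, y * x = x * y → β y = y) : β = 1 := by
  let Γ := Q ⋊[MonoidHom.id (MulAut Q)] (MulAut Q)
  have : Finite Γ := Finite.of_equiv _ (SemidirectProduct.equivProd).symm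
  let i : Q →* Γ := SemidirectProduct.inl
  let j : MulAut Q →* Γ := SemidirectProduct.inr
  have hij : ∀ (γ : MulAut Q) (y : Q), j γ * i y * (j γ)⁻¹ = i (γ y) := by
    intro γ y
    have := SemidirectProduct.inl_aut (φ := MonoidHom.id (MulAut Q)) γ y
    rw [← map_inv]
    exact this.symm
  have hji : Function.Injective i := SemidirectProduct.inl_injective
  have hU : IsPGroup p i.range := by
    rintro ⟨_, y, rfl⟩
    obtain ⟨k, hk⟩ := hQ y
    refine ⟨k, Subtype.ext ?_⟩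
    change (i y) ^ p ^ k = 1
    rw [← map_pow, hk, map_one]
  have hfix : ∀ (γ : MulAut Q) (y : Q), γ y = y ↔ j γ * i y = i y * j γ := by
    intro γ y
    rw [← mul_inv_eq_iff_eq_mul, hij]
    exact ⟨fun h => by rw [h], fun h => hji h⟩
  have key := Lib.ThompsonPQ.thompson_p_times_q (G := Γ) p (zpowers (i x)) (zpowers (j β)) i.range
    (hU.to_le (by rw [zpowers_le]; exact ⟨x, rfl⟩))
    (by
      rw [Nat.card_zpowers]
      exact Nat.Coprime.coprime_dvd_left (orderOf_map_dvd j β) hβ)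
    hU
    (by
      rw [zpowers_le, mem_centralizer_iff]
      intro z hz
      obtain ⟨k, rfl⟩ := mem_zpowers_iff.1 hz
      have h1 : Commute (j β) (i x) := (hfix β x).1 hx
      exact h1.zpow_left k)
    (by
      rw [zpowers_le]
      exact le_normalizer ⟨x, rfl⟩)
    (by
      rw [zpowers_le, mem_normalizer_iff]
      intro z
      constructor
      · rintro ⟨y, rfl⟩
        exact ⟨β y, (hij β y).symm⟩
      · rintro ⟨y, hy⟩
        refine ⟨β⁻¹ y, ?_⟩
        have h1 := hij β (β⁻¹ y)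
        rw [MulAut.apply_inv_self, hy] at h1
        exact mul_left_cancel (mul_right_cancel h1))
    (by
      rintro _ ⟨⟨y, rfl⟩, hy⟩
      have hy1 : y * x = x * y := by
        have := (mem_centralizer_iff.1 hy) (i x) (mem_zpowers _)
        rw [← map_mul, ← map_mul] at this
        exact (hji this).symm
      rw [mem_centralizer_iff]
      intro z hz
      obtain ⟨k, rfl⟩ := mem_zpowers_iff.1 hz
      have h1 : Commute (j β) (i y) := (hfix β y).1 (h y hy1)
      exact h1.zpow_left k)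
  ext y
  have h1 := (mem_centralizer_iff.1 (key (mem_zpowers (j β)))) (i y) ⟨y, rfl⟩
  exact (hfix β y).2 h1.symm

/-- The setting. -/
structure Data {Q : Type*} [Group Q] (p r κ : ℕ) (T : Subgroup Q) (x a : Q) (α : MulAut Q) : Prop where
  hQ : IsPGroup p Q
  r3 : 3 ≤ r
  hrp : r ≠ p
  κr : κ ^ r ≡ 1 [MOD p]
  κ1 : ¬ κ ≡ 1 [MOD p]
  κe : ∀ g : Q, g ^ (κ ^ r) = g
  Tcomm : ∀ s ∈ T, ∀ t ∈ T, s * t = t * s
  Tn : T.Normal
  αT : ∀ t ∈ T, α t = t ^ κ
  αx : α x = x
  gen : ∀ g : Q, ∃ t ∈ T, ∃ k : ℤ, g = t * x ^ k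
  disj : T ⊓ zpowers x = ⊥
  aT : a ∈ T
  a1 : a ≠ 1
  cent : ∀ t ∈ T, t * x = x * t ↔ t ∈ zpowers a

namespace Data

variable {Q : Type*} [Group Q] [Finite Q] {p r κ : ℕ} [hp : Fact p.Prime] [hr : Fact r.Prime]
  {T : Subgroup Q} {x a : Q} {α : MulAut Q}

omit [Finite Q] hr in
/-- a power `t ^ (c - 1)` prime to `p` -/
theorem eq_one_of_pow_eq (h : Data p r κ T x a α) {c : ℕ} (hc : ¬ c ≡ 1 [MOD p]) {t : Q}
    (ht : t ^ c = t) : t = 1 := by
  obtain ⟨n, hn⟩ := h.hQ t
  have hc0 : c = 0 ∨ 1 ≤ c := by omega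
  rcases hc0 with rfl | hc1
  · rw [pow_zero] at ht; exact ht.symm
  have h5 : t ^ (c - 1) = 1 := by
    have h6 : c = (c - 1) + 1 := by omega
    rw [h6, pow_succ] at ht
    exact mul_eq_right.1 ht
  have h1 : orderOf t ∣ Nat.gcd (p ^ n) (c - 1) :=
    Nat.dvd_gcd (orderOf_dvd_of_pow_eq_one hn) (orderOf_dvd_of_pow_eq_one h5)
  have h2 : ¬ p ∣ c - 1 := fun hd => hc ((Nat.modEq_iff_dvd' hc1).2 hd).symm
  rw [Nat.Coprime.pow_left n ((Nat.Prime.coprime_iff_not_dvd hp.out).2 h2), Nat.dvd_one] at h1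
  exact orderOf_eq_one_iff.1 h1

omit [Finite Q] hr in
/-- `C_Q(α) = ⟨x⟩` -/
theorem fix_iff (h : Data p r κ T x a α) (y : Q) : α y = y ↔ y ∈ zpowers x := by
  constructor
  · intro hy
    obtain ⟨t, ht, k, rfl⟩ := h.gen y
    rw [map_mul, map_zpow, h.αx, h.αT t ht] at hy
    have h1 := mul_right_cancel hy
    rw [h.eq_one_of_pow_eq h.κ1 h1, one_mul]
    exact zpow_mem (mem_zpowers x) k
  · intro hy
    obtain ⟨k, rfl⟩ := mem_zpowers_iff.1 hy
    rw [map_zpow, h.αx]

omit [Finite Q] hr in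
/-- two elements which commute with `x`: `C_Q(x) = ⟨a⟩ ⟨x⟩` -/
theorem cent_gen (h : Data p r κ T x a α) {y : Q} (hy : y * x = x * y) :
    ∃ i k : ℤ, y = a ^ i * x ^ k := by
  obtain ⟨t, ht, k, rfl⟩ := h.gen y
  have h1 : t * x = x * t := by
    have h2 : Commute (t * x ^ k) x := hy
    have h3 : Commute (x ^ k) x := (Commute.refl x).zpow_left k
    have h4 := h2.mul_left h3.inv_left
    rw [mul_inv_cancel_right] at h4
    exact h4
  obtain ⟨i, hi⟩ := mem_zpowers_iff.1 ((h.cent t ht).1 h1)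
  exact ⟨i, k, by rw [hi]⟩

omit hr in
/-- a `p'`-automorphism fixing `x` and `a` is trivial -/
theorem eq_one (h : Data p r κ T x a α) {β : MulAut Q} (hβ : (orderOf β).Coprime p) (hx : β x = x)
    (ha : β a = a) : β = 1 := by
  refine eq_one_of_fix h.hQ hβ hx ?_
  intro y hy
  obtain ⟨i, k, rfl⟩ := h.cent_gen hy
  rw [map_mul, map_zpow, map_zpow, hx, ha]

omit [Finite Q] in
/-- `T = [Q, α]`: elements `t ∈ T` are `κ`-eigenvectors, and conversely -/
theorem mem_T_iff (h : Data p r κ T x a α) (y : Q) : y ∈ T ↔ α y = y ^ κ := by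
  constructor
  · exact h.αT y
  · intro hy
    obtain ⟨t, ht, k, rfl⟩ := h.gen y
    -- modulo `T`
    have := h.Tn
    have h1 : ((α (t * x ^ k) : Q) : Q ⧸ T) = (((t * x ^ k) ^ κ : Q) : Q ⧸ T) := by rw [hy]
    have ht' : ((t : Q) : Q ⧸ T) = 1 := (QuotientGroup.eq_one_iff t).2 ht
    have h2 : ((t ^ κ : Q) : Q ⧸ T) = 1 := (QuotientGroup.eq_one_iff _).2 (T.pow_mem ht κ)
    rw [map_mul, map_zpow, h.αx, h.αT t ht, QuotientGroup.mk_mul, h2, one_mul,
      QuotientGroup.mk_pow, QuotientGroup.mk_mul, ht', one_mul, ← QuotientGroup.mk_pow] at h1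
    have h3 : (x ^ k)⁻¹ * (x ^ k) ^ κ ∈ T := QuotientGroup.eq.1 h1
    have h4 : (x ^ k)⁻¹ * (x ^ k) ^ κ ∈ zpowers x :=
      mul_mem (inv_mem (zpow_mem (mem_zpowers x) k)) (pow_mem (zpow_mem (mem_zpowers x) k) κ)
    have h5 : (x ^ k)⁻¹ * (x ^ k) ^ κ ∈ T ⊓ zpowers x := ⟨h3, h4⟩
    rw [h.disj, mem_bot, inv_mul_eq_one] at h5
    rw [h.eq_one_of_pow_eq h.κ1 h5.symm, mul_one]
    exact ht

omit [Finite Q] in
/-- `α ^ j` on `T` -/
theorem pow_apply (h : Data p r κ T x a α) (j : ℕ) {t : Q} (ht : t ∈ T) :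
    (α ^ j) t = t ^ (κ ^ j) := by
  induction j with
  | zero => simp
  | succ j ih =>
    rw [pow_succ', MulAut.mul_apply, ih, map_pow, h.αT t ht, ← pow_mul, pow_succ']

omit [Finite Q] in
theorem pow_r (h : Data p r κ T x a α) : α ^ r = 1 := by
  ext y
  obtain ⟨t, ht, k, rfl⟩ := h.gen y
  have h1 : (α ^ r) x = x := by
    have : ∀ j : ℕ, (α ^ j) x = x := by
      intro j
      induction j with
      | zero => simp
      | succ j ih => rw [pow_succ', MulAut.mul_apply, ih, h.αx]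
    exact this r
  rw [map_mul, map_zpow, h1, h.pow_apply r ht, h.κe]
  rfl

omit [Finite Q] in
theorem orderOf_eq (h : Data p r κ T x a α) : orderOf α = r := by
  refine orderOf_eq_prime h.pow_r ?_
  intro h1
  apply h.a1
  refine h.eq_one_of_pow_eq h.κ1 ?_
  rw [← h.αT a h.aT, h1]
  rfl

omit [Finite Q] hr in
/-- an automorphism that preserves `T` and fixes `x` commutes with `α` -/
theorem commute_of (h : Data p r κ T x a α) {β : MulAut Q} (hT : ∀ t ∈ T, β t ∈ T) (hx : β x = x) :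
    β * α = α * β := by
  ext y
  obtain ⟨t, ht, k, rfl⟩ := h.gen y
  simp only [MulAut.mul_apply, map_mul, map_zpow, h.αx, hx, h.αT t ht, h.αT _ (hT t ht), map_pow]

omit [Finite Q] in
/-- an automorphism commuting with `α` preserves `T` -/
theorem map_T (h : Data p r κ T x a α) {β : MulAut Q} (hβ : β * α = α * β) {t : Q} (ht : t ∈ T) :
    β t ∈ T := by
  rw [h.mem_T_iff]
  have h1 : α (β t) = β (α t) := by
    rw [← MulAut.mul_apply, ← hβ, MulAut.mul_apply]
  rw [h1, h.αT t ht, map_pow]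

omit [Finite Q] hr in
/-- an automorphism commuting with `α` preserves `⟨x⟩` -/
theorem map_x (h : Data p r κ T x a α) {β : MulAut Q} (hβ : β * α = α * β) {y : Q}
    (hy : y ∈ zpowers x) : β y ∈ zpowers x := by
  rw [← h.fix_iff]
  have h1 : α (β y) = β (α y) := by
    rw [← MulAut.mul_apply, ← hβ, MulAut.mul_apply]
  rw [h1, (h.fix_iff y).2 hy]

end Data

end Cfsg.Agent.Walter.LocAut
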