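import Mathlib
import Cfsg.Agent.Walter.GlaubermanFusion
import Cfsg.Agent.Walter.QdAbelian
import Cfsg.Agent.PLocal.OffenderStep
import Cfsg.Agent.PLocal.ThompsonJA

/-!
# Theorem T

`p` odd, `X` finite without section `Qd(p)`, `T < P ∈ Syl_p(X)`, `T` abelian, `P / T` cyclic, `[P, N_X(P)] ≤ T`:
then `P` is not contained in the derived subgroup of `X`.
-/

set_option autoImplicit false

namespace Cfsg.Agent.Walter.LocT

open Subgroup Cfsg
open Cfsg.Agent.Lib.Involves (Involves)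
open Cfsg.Agent.PLocal
open scoped commutatorElement

universe u

section fix

variable {G : Type*} [Group G] [Finite G] {p : ℕ} [hpf : Fact p.Prime]

/-- If `c` and `c ^ p` have the same fixed points on the abelian `p`-group `A`, then `c` centralises `A`. -/
theorem comm_of_pow_fix {A : Subgroup G} (hA : IsPGroup p A) (hab : ∀ x ∈ A, ∀ y ∈ A, x * y = y * x) {c : G}
    (hc : IsPGroup p (zpowers c)) (hn : ∀ a ∈ A, c * a * c⁻¹ ∈ A)
    (h : ∀ a ∈ A, c ^ p * a = a * c ^ p → c * a = a * c) : ∀ a ∈ A, c * a = a * c := by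
  have key : ∀ a ∈ A, ∀ u : G, c * a * c⁻¹ = a * u → c * u = u * c → u ^ p = 1 → u = 1 := by
    intro a ha u hau hcu hup
    have h1 : ∀ n : ℕ, c ^ n * a = a * u ^ n * c ^ n := by
      intro n
      induction n with
      | zero => simp
      | succ n ih =>
        have h2 : c * a = a * u * c := by rw [← hau]; group
        have h3 : c * u ^ n = u ^ n * c := (Commute.pow_right (show Commute c u from hcu) n).eq
        calc c ^ (n + 1) * a = c * (c ^ n * a) := by rw [pow_succ']; group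
          _ = (c * a) * u ^ n * c ^ n := by rw [ih]; group
          _ = a * u * (c * u ^ n) * c ^ n := by rw [h2]; group
          _ = a * u ^ (n + 1) * c ^ (n + 1) := by rw [h3, pow_succ' u, pow_succ' c]; group
    have h4 := h1 p
    rw [hup, mul_one] at h4
    have h5 := h a ha h4
    have h6 : c * a * c⁻¹ = a := by rw [h5]; group
    rw [h6] at hau
    simpa using hau.symm
  let K : Subgroup G :=
    { carrier := {x | ∃ a ∈ A, x = a⁻¹ * (c * a * c⁻¹)}
      mul_mem' := by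
        rintro _ _ ⟨a, ha, rfl⟩ ⟨b, hb, rfl⟩
        refine ⟨a * b, mul_mem ha hb, ?_⟩
        have h1 : (c * a * c⁻¹) * b⁻¹ = b⁻¹ * (c * a * c⁻¹) := hab _ (hn a ha) _ (inv_mem hb)
        have h2 : a⁻¹ * b⁻¹ = b⁻¹ * a⁻¹ := hab _ (inv_mem ha) _ (inv_mem hb)
        calc a⁻¹ * (c * a * c⁻¹) * (b⁻¹ * (c * b * c⁻¹)) = a⁻¹ * ((c * a * c⁻¹) * b⁻¹) * (c * b * c⁻¹) := by group
          _ = (a⁻¹ * b⁻¹) * (c * a * c⁻¹) * (c * b * c⁻¹) := by rw [h1]; group
          _ = (a * b)⁻¹ * (c * (a * b) * c⁻¹) := by rw [h2]; group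
      one_mem' := ⟨1, one_mem _, by simp⟩
      inv_mem' := by
        rintro _ ⟨a, ha, rfl⟩
        refine ⟨a⁻¹, inv_mem ha, ?_⟩
        have h1 : (c * a * c⁻¹)⁻¹ * a = a * (c * a * c⁻¹)⁻¹ := hab _ (inv_mem (hn a ha)) _ ha
        calc (a⁻¹ * (c * a * c⁻¹))⁻¹ = (c * a * c⁻¹)⁻¹ * a := by group
          _ = a⁻¹⁻¹ * (c * a⁻¹ * c⁻¹) := by rw [h1]; group }
  have hKA : K ≤ A := by
    rintro _ ⟨a, ha, rfl⟩
    exact mul_mem (inv_mem ha) (hn a ha)
  by_contra hcon
  push Not at hcon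
  obtain ⟨a, ha, hca⟩ := hcon
  have hKne : K ≠ ⊥ := by
    intro hK
    have h1 : a⁻¹ * (c * a * c⁻¹) ∈ K := ⟨a, ha, rfl⟩
    rw [hK, mem_bot] at h1
    apply hca
    have h2 : c * a * c⁻¹ = a := by
      have := congrArg (a * ·) h1
      simpa [mul_assoc] using this
    calc c * a = (c * a * c⁻¹) * c := by group
      _ = a * c := by rw [h2]
  have hcK : c ∈ normalizer (K : Set G) := by
    refine mem_normalizer_fintype ?_
    rintro _ ⟨b, hb, rfl⟩
    exact ⟨c * b * c⁻¹, hn b hb, by group⟩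
  have hfix := OffenderStep.inf_centralizer_ne_bot K (zpowers c) (hA.to_le hKA) hc (by rwa [zpowers_le]) hKne
  have hvex : ∃ v ∈ K ⊓ centralizer (zpowers c : Set G), v ≠ 1 := by
    by_contra hno
    push Not at hno
    exact hfix ((eq_bot_iff_forall _).2 hno)
  obtain ⟨v, ⟨hvK, hvc⟩, hv1⟩ := hvex
  have hcv : c * v = v * c := mem_centralizer_iff.1 hvc c (mem_zpowers c)
  obtain ⟨k, hk⟩ := (IsPGroup.iff_orderOf.1 hA) ⟨v, hKA hvK⟩
  rw [Subgroup.orderOf_mk] at hk
  rcases k with _ | k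
  · rw [pow_zero, orderOf_eq_one_iff] at hk
    exact hv1 hk
  have hvK' : v ^ p ^ k ∈ K := pow_mem hvK _
  obtain ⟨b, hb, hvb⟩ := hvK'
  have h1 : c * b * c⁻¹ = b * v ^ p ^ k := by rw [hvb]; group
  have h2 : c * v ^ p ^ k = v ^ p ^ k * c := (Commute.pow_right (show Commute c v from hcv) _).eq
  have h3 := key b hb _ h1 h2 (by rw [← pow_mul, ← pow_succ, ← hk, pow_orderOf_eq_one])
  have h4 : orderOf v ∣ p ^ k := orderOf_dvd_of_pow_eq_one h3
  rw [hk] at h4
  have h5 := Nat.le_of_dvd (pow_pos hpf.out.pos _) h4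
  exact absurd h5 (not_le.2 (Nat.pow_lt_pow_right hpf.out.one_lt (Nat.lt_succ_self k)))

omit [Finite G] hpf in
theorem zpowers_pow_isPGroup {c : G} (hc : IsPGroup p (zpowers c)) (n : ℕ) : IsPGroup p (zpowers (c ^ n)) :=
  hc.to_le (by rw [zpowers_le]; exact pow_mem (mem_zpowers c) n)

/-- `p ^ m |C_A(c)| ≤ |A|` if `c ^ (p ^ (m - 1))` does not centralise `A`. -/
theorem card_fix_le {A : Subgroup G} (hA : IsPGroup p A) (hab : ∀ x ∈ A, ∀ y ∈ A, x * y = y * x) (m : ℕ) :
    ∀ c : G, IsPGroup p (zpowers c) → (∀ a ∈ A, c * a * c⁻¹ ∈ A) →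
      (∀ j, j < m → ¬ ∀ a ∈ A, c ^ p ^ j * a = a * c ^ p ^ j) →
      p ^ m * Nat.card (A ⊓ centralizer {c} : Subgroup G) ≤ Nat.card A := by
  induction m with
  | zero =>
    intro c _ _ _
    rw [pow_zero, one_mul]
    exact card_le_of_le inf_le_left
  | succ m ih =>
    intro c hc hn hmin
    have hnp : ∀ n : ℕ, ∀ a ∈ A, c ^ n * a * (c ^ n)⁻¹ ∈ A := by
      intro n
      induction n with
      | zero => intro a ha; simpa using ha
      | succ n ihn =>
        intro a ha
        have := hn _ (ihn a ha)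
        rw [pow_succ']
        convert this using 1
        group
    have h1 := ih (c ^ p) (zpowers_pow_isPGroup hc p) (hnp p) (fun j hj h => hmin (j + 1) (by omega) (by
      intro a ha
      have := h a ha
      rwa [← pow_mul, ← pow_succ'] at this))
    have h2 : A ⊓ centralizer {c} < A ⊓ centralizer {c ^ p} := by
      refine lt_of_le_of_ne ?_ ?_
      · refine inf_le_inf_left _ ?_
        intro x hx
        rw [mem_centralizer_singleton_iff] at hx ⊢
        exact (Commute.pow_right (show Commute x c from hx) p).eq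
      · intro he
        refine hmin 0 (by omega) ?_
        rw [pow_zero, pow_one]
        refine comm_of_pow_fix hA hab hc hn fun a ha h => ?_
        have h3 : a ∈ A ⊓ centralizer {c ^ p} := ⟨ha, mem_centralizer_singleton_iff.2 h.symm⟩
        rw [← he] at h3
        exact (mem_centralizer_singleton_iff.1 h3.2).symm
    have h3 := OffenderStep.mul_card_le_of_lt (hA.to_le inf_le_left) h2
    calc p ^ (m + 1) * Nat.card (A ⊓ centralizer {c} : Subgroup G) =
        p ^ m * (p * Nat.card (A ⊓ centralizer {c} : Subgroup G)) := by ring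
      _ ≤ p ^ m * Nat.card (A ⊓ centralizer {c ^ p} : Subgroup G) := Nat.mul_le_mul_left _ h3
      _ ≤ Nat.card A := h1

/-- A normal abelian subgroup `A ≥ C_P(A)` with `P / A` cyclic is an abelian subgroup of `P` of largest order. -/
theorem mem_maxAbelianIn {P A : Subgroup G} (hP : IsPGroup p P) (hAP : A ≤ P)
    (hab : ∀ x ∈ A, ∀ y ∈ A, x * y = y * x) (hn : ∀ x ∈ P, ∀ a ∈ A, x * a * x⁻¹ ∈ A)
    (hC : P ⊓ centralizer (A : Set G) ≤ A) (x₀ : G) (hx₀ : x₀ ∈ P)
    (hcyc : ∀ g ∈ P, ∃ k : ℤ, ∃ t ∈ A, g = x₀ ^ k * t) : A ∈ ThompsonJA.maxAbelianIn P := by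
  rw [ThompsonJA.mem_maxAbelianIn]
  refine ⟨hAP, (ThompsonJA.isMulCommutative_iff A).2 hab, fun B hBP hB => ?_⟩
  have hBc := (ThompsonJA.isMulCommutative_iff B).1 hB
  -- the quotient `P / A`
  have hAn : (A.subgroupOf P).Normal := ⟨fun a ha x => hn x x.2 a ha⟩
  let ψ : B →* P ⧸ A.subgroupOf P := (QuotientGroup.mk' _).comp (inclusion hBP)
  have hψ : ∀ b : B, ψ b = QuotientGroup.mk' _ (inclusion hBP b) := fun b => rfl
  have hcycQ : IsCyclic (P ⧸ A.subgroupOf P) := by
    refine ⟨QuotientGroup.mk' _ ⟨x₀, hx₀⟩, fun y => ?_⟩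
    obtain ⟨g, rfl⟩ := QuotientGroup.mk'_surjective _ y
    obtain ⟨k, t, ht, hg⟩ := hcyc g g.2
    refine ⟨k, ?_⟩
    change _ ^ k = _
    rw [← map_zpow]
    symm
    rw [← inv_mul_eq_one, ← map_inv, ← map_mul, QuotientGroup.mk'_apply, QuotientGroup.eq_one_iff, mem_subgroupOf]
    have : (((g⁻¹ * (⟨x₀, hx₀⟩ : P) ^ k : P)) : G) = t⁻¹ := by
      push_cast
      rw [hg]; group
    rw [this]
    exact inv_mem ht
  obtain ⟨⟨y, hy⟩, hgen⟩ := (inferInstance : IsCyclic ψ.range).exists_generator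
  obtain ⟨c, rfl⟩ := hy
  have hker : ∀ b : B, ψ b = 1 ↔ (b : G) ∈ A := by
    intro b
    rw [hψ, QuotientGroup.mk'_apply, QuotientGroup.eq_one_iff, mem_subgroupOf]
    rfl
  have hcP : (c : G) ∈ P := hBP c.2
  have hcp : IsPGroup p (zpowers (c : G)) := hP.to_le (by rwa [zpowers_le])
  -- the order of `c` modulo `A`
  obtain ⟨m, hm, hmin⟩ : ∃ m : ℕ, (∀ a ∈ A, (c : G) ^ p ^ m * a = a * (c : G) ^ p ^ m) ∧
      ∀ j, j < m → ¬ ∀ a ∈ A, (c : G) ^ p ^ j * a = a * (c : G) ^ p ^ j := by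
    classical
    have hex : ∃ m : ℕ, ∀ a ∈ A, (c : G) ^ p ^ m * a = a * (c : G) ^ p ^ m := by
      obtain ⟨k, hk⟩ := hP ⟨c, hcP⟩
      refine ⟨k, fun a _ => ?_⟩
      have : (c : G) ^ p ^ k = 1 := congrArg Subtype.val hk
      rw [this, one_mul, mul_one]
    exact ⟨Nat.find hex, Nat.find_spec hex, fun j hj => Nat.find_min hex hj⟩
  have hcA : (c : G) ^ p ^ m ∈ A := by
    exact hC ⟨pow_mem hcP _, mem_centralizer_iff.2 fun a ha => (hm a ha).symm⟩
  have h1 := card_fix_le (hP.to_le hAP) hab m c hcp (fun a ha => hn c hcP a ha) hmin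
  -- `|B : A ∩ B| ≤ p ^ m`
  have h2 : Nat.card ψ.range ≤ p ^ m := by
    have h3 : orderOf (⟨ψ c, ⟨c, rfl⟩⟩ : ψ.range) ∣ p ^ m := by
      apply orderOf_dvd_of_pow_eq_one
      apply Subtype.ext
      change ψ c ^ p ^ m = 1
      rw [← map_pow, hker]
      exact hcA
    rw [orderOf_eq_card_of_forall_mem_zpowers hgen] at h3
    exact Nat.le_of_dvd (pow_pos hpf.out.pos _) h3
  have h4 : Nat.card ψ.ker ≤ Nat.card (A ⊓ centralizer {(c : G)} : Subgroup G) := by
    have h5 : ψ.ker.map B.subtype ≤ A ⊓ centralizer {(c : G)} := by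
      rintro _ ⟨b, hb, rfl⟩
      exact ⟨(hker b).1 hb, mem_centralizer_singleton_iff.2 (hBc b b.2 c c.2)⟩
    calc Nat.card ψ.ker = Nat.card (ψ.ker.map B.subtype) :=
          (ThompsonJA.card_map_of_injective B.subtype B.subtype_injective ψ.ker).symm
      _ ≤ _ := card_le_of_le h5
  have h6 : Nat.card B = Nat.card ψ.ker * Nat.card ψ.range := by
    rw [← Nat.card_congr (QuotientGroup.quotientKerEquivRange ψ).toEquiv, mul_comm]
    exact card_eq_card_quotient_mul_card_subgroup ψ.ker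
  calc Nat.card B = Nat.card ψ.ker * Nat.card ψ.range := h6
    _ ≤ Nat.card (A ⊓ centralizer {(c : G)} : Subgroup G) * p ^ m := Nat.mul_le_mul h4 h2
    _ = p ^ m * Nat.card (A ⊓ centralizer {(c : G)} : Subgroup G) := mul_comm _ _
    _ ≤ Nat.card A := h1

/-- Burnside: abelian Sylow subgroups. -/
theorem abelian_case (P : Sylow p G) (hab : ∀ x ∈ (P : Subgroup G), ∀ y ∈ (P : Subgroup G), x * y = y * x)
    (T : Subgroup G) (hN : ∀ n ∈ normalizer ((P : Subgroup G) : Set G), ∀ g ∈ (P : Subgroup G),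
      n * g * n⁻¹ * g⁻¹ ∈ T) : _root_.commutator G ⊓ (P : Subgroup G) ≤ T := by
  have hcomm : IsMulCommutative P := ⟨⟨fun x y => Subtype.ext (hab x x.2 y y.2)⟩⟩
  rw [Subgroup.commutator_inf_eq_focalSubgroup, focalSubgroup_def, closure_le]
  rintro g ⟨hg, x, hx, u, rfl⟩
  rw [commutatorElement_def] at hg
  have h1 : u * x⁻¹ * u⁻¹ ∈ (P : Subgroup G) := by
    have := mul_mem (inv_mem hx) hg
    convert this using 1
    group
  obtain ⟨n, hn, hnx⟩ := P.conj_eq_normalizer_conj_of_mem x⁻¹ u⁻¹ (inv_mem hx) (by rwa [inv_inv])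
  rw [inv_inv] at hnx
  have h2 := hN n⁻¹ (inv_mem hn) x⁻¹ (inv_mem hx)
  rw [inv_inv, inv_inv] at h2
  have h3 : (n⁻¹ * x⁻¹ * n) * x = x * (n⁻¹ * x⁻¹ * n) := by
    refine hab _ ?_ _ hx
    rw [← hnx]; exact h1
  change ⁅x, u⁆ ∈ T
  have h4 : ⁅x, u⁆ = n⁻¹ * x⁻¹ * n * x := by
    rw [h3, ← hnx, commutatorElement_def]
    group
  rw [h4]
  exact h2

/-- Frattini: elements normalising the image of a Sylow subgroup. -/
theorem exists_normalizer {H : Type*} [Group H] (π : G →* H) (hπ : Function.Surjective π) (P : Sylow p G) {y : H}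
    (hy : y ∈ normalizer (((P : Subgroup G).map π : Subgroup H) : Set H)) :
    ∃ n ∈ normalizer ((P : Subgroup G) : Set G), π n = y := by
  obtain ⟨g, rfl⟩ := hπ y
  let K : Subgroup G := ((P : Subgroup G).map π).comap π
  have h1 : (P : Subgroup G) ≤ K := le_comap_map _ _
  have h2 : ((g • P : Sylow p G) : Subgroup G) ≤ K := by
    intro x hx
    rw [Sylow.coe_subgroup_smul] at hx
    obtain ⟨z, hz, rfl⟩ := hx
    change π (g * z * g⁻¹) ∈ (P : Subgroup G).map π
    rw [map_mul, map_mul, map_inv]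
    exact (mem_normalizer_iff.1 hy (π z)).1 (mem_map_of_mem π hz)
  obtain ⟨k, hk⟩ := MulAction.exists_smul_eq K (P.subtype h1) ((g • P : Sylow p G).subtype h2)
  have hk' : ∀ x : G, x ∈ (P : Subgroup G) → (k : G) * x * (k : G)⁻¹ ∈ ((g • P : Sylow p G) : Subgroup G) := by
    intro x hx
    have h3 : (⟨x, h1 hx⟩ : K) ∈ (P.subtype h1 : Subgroup K) := hx
    have h4 : k * ⟨x, h1 hx⟩ * k⁻¹ ∈ ((k • P.subtype h1 : Sylow p K) : Subgroup K) := by
      rw [Sylow.coe_subgroup_smul]
      exact ⟨_, h3, rfl⟩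
    rw [hk] at h4
    exact h4
  have hkg : (k : G)⁻¹ * g ∈ normalizer ((P : Subgroup G) : Set G) := by
    rw [← inv_mem_iff]
    refine mem_normalizer_fintype ?_
    intro x hx
    have h5 := hk' x hx
    rw [Sylow.coe_subgroup_smul] at h5
    obtain ⟨z, hz, hzx⟩ := h5
    have h6 : g * z * g⁻¹ = (k : G) * x * (k : G)⁻¹ := hzx
    have h7 : ((k : G)⁻¹ * g)⁻¹ * x * ((k : G)⁻¹ * g)⁻¹⁻¹ = z := by
      calc ((k : G)⁻¹ * g)⁻¹ * x * ((k : G)⁻¹ * g)⁻¹⁻¹ = g⁻¹ * ((k : G) * x * (k : G)⁻¹) * g := by group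
        _ = z := by rw [← h6]; group
    rw [h7]
    exact hz
  obtain ⟨a, ha, hak⟩ : π (k : G) ∈ (P : Subgroup G).map π := k.2
  refine ⟨a * ((k : G)⁻¹ * g), mul_mem (le_normalizer ha) hkg, ?_⟩
  rw [map_mul, map_mul, map_inv, hak, mul_inv_cancel_left]

/-- Focal subgroup theorem: a subgroup `M ≥ P` controlling fusion in `P`. -/
theorem le_map_commutator (P : Sylow p G) (M : Subgroup G) (hPM : (P : Subgroup G) ≤ M)
    (hctrl : ∀ x g : G, x ∈ (P : Subgroup G) → g * x * g⁻¹ ∈ (P : Subgroup G) → ∃ n ∈ M, g * x * g⁻¹ = n * x * n⁻¹) :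
    _root_.commutator G ⊓ (P : Subgroup G) ≤ (_root_.commutator M).map M.subtype := by
  rw [Subgroup.commutator_inf_eq_focalSubgroup, focalSubgroup_def, closure_le]
  rintro g ⟨hg, x, hx, u, rfl⟩
  rw [commutatorElement_def] at hg
  have h1 : u * x⁻¹ * u⁻¹ ∈ (P : Subgroup G) := by
    have := mul_mem (inv_mem hx) hg
    convert this using 1
    group
  obtain ⟨n, hn, hnx⟩ := hctrl x⁻¹ u (inv_mem hx) h1
  refine ⟨⁅(⟨x, hPM hx⟩ : M), ⟨n, hn⟩⁆, ?_, ?_⟩
  · rw [_root_.commutator_def]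
    exact commutator_mem_commutator (mem_top _) (mem_top _)
  · change x * n * x⁻¹ * n⁻¹ = ⁅x, u⁆
    rw [commutatorElement_def]
    calc x * n * x⁻¹ * n⁻¹ = x * (n * x⁻¹ * n⁻¹) := by group
      _ = x * u * x⁻¹ * u⁻¹ := by rw [← hnx]; group

end fix

section main

variable {p : ℕ} [hpf : Fact p.Prime]

theorem main_aux (hp : p ≠ 2) (n : ℕ) : ∀ (X : Type u) [Group X] [Finite X], Nat.card X ≤ n →
    ¬ Involves X ↥(Cfsg.qd p) → ∀ (P : Sylow p X) (T : Subgroup X), T ≤ (P : Subgroup X) → T ≠ (P : Subgroup X) →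
    (∀ a ∈ T, ∀ b ∈ T, a * b = b * a) → ∀ x₀ ∈ (P : Subgroup X),
    (∀ g ∈ (P : Subgroup X), ∃ k : ℤ, ∃ t ∈ T, g = x₀ ^ k * t) →
    (∀ n ∈ normalizer ((P : Subgroup X) : Set X), ∀ g ∈ (P : Subgroup X), n * g * n⁻¹ * g⁻¹ ∈ T) →
    ¬ (P : Subgroup X) ≤ _root_.commutator X := by
  induction n with
  | zero =>
    intro X _ _ hn
    exact absurd hn (by have : 0 < Nat.card X := Nat.card_pos; omega)
  | succ n ih =>
    intro X _ _ hcard hfree P T hTP hne hT x₀ hx₀ hcyc hN hle
    have hPne : (P : Subgroup X) ≠ ⊥ := by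
      intro h
      apply hne
      rw [h] at hTP ⊢
      exact le_bot_iff.1 hTP
    set Z := centerThompsonAOf (P : Subgroup X) with hZ
    have hZP : Z ≤ (P : Subgroup X) := ThompsonJA.centerThompsonAOf_le _
    have hPM : (P : Subgroup X) ≤ normalizer (Z : Set X) :=
      le_normalizer.trans (ThompsonJA.normalizer_le_normalizer_centerThompsonAOf _)
    have hZne : Z ≠ ⊥ := ThompsonJA.centerThompsonAOf_ne_bot _ P.isPGroup' hPne
    by_cases hM : normalizer (Z : Set X) = ⊤
    swap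
    · -- `N(Z) < X`
      set M := normalizer (Z : Set X) with hMdef
      have hMcard : Nat.card M ≤ n := by
        have h1 : Nat.card M < Nat.card X := by
          have h2 := ConjFunctor.card_lt_card_of_lt (lt_top_iff_ne_top.2 hM)
          rwa [Subgroup.card_top] at h2
        omega
      refine ih M hMcard (fun h => hfree (Lib.Involves.of_subgroup h)) (P.subtype hPM) (T.subgroupOf M) ?_ ?_ ?_
        ⟨x₀, hPM hx₀⟩ ?_ ?_ ?_ ?_
      · intro x hx
        exact hTP hx
      · intro h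
        apply hne
        apply le_antisymm hTP
        intro x hx
        have : (⟨x, hPM hx⟩ : M) ∈ T.subgroupOf M := by
          rw [h]; exact hx
        exact this
      · intro a ha b hb
        exact Subtype.ext (hT a ha b hb)
      · exact hx₀
      · intro g hg
        obtain ⟨k, t, ht, hg'⟩ := hcyc g hg
        exact ⟨k, ⟨t, hPM (hTP ht)⟩, ht, Subtype.ext (by push_cast; exact hg')⟩
      · intro m hm g hg
        refine hN m ?_ g hg
        rw [mem_normalizer_iff] at hm ⊢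
        intro x
        constructor
        · intro hx
          exact (hm ⟨x, hPM hx⟩).1 hx
        · intro hx
          have h1 : (m : X)⁻¹ * ((m : X) * x * (m : X)⁻¹) * (m : X) ∈ M :=
            mul_mem (mul_mem (inv_mem m.2) (hPM hx)) m.2
          have h2 : (m : X)⁻¹ * ((m : X) * x * (m : X)⁻¹) * (m : X) = x := by group
          rw [h2] at h1
          exact (hm ⟨x, h1⟩).2 hx
      · -- the focal subgroup
        intro x hx
        obtain ⟨y, hy, hyx⟩ := le_map_commutator P M hPM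
          (fun x g hx hg => GlaubermanFusion.fusion_elem hp hfree P hx hg)
          (show (x : X) ∈ _root_.commutator X ⊓ (P : Subgroup X) from ⟨hle hx, hx⟩)
        have : y = x := Subtype.ext hyx
        rwa [← this]
    -- `Z` is normal
    have hZn : Z.Normal := normalizer_eq_top_iff.1 hM
    have hTn : ∀ x ∈ (P : Subgroup X), ∀ t ∈ T, x * t * x⁻¹ ∈ T := by
      intro x hx t ht
      have h1 := mul_mem (hN x (le_normalizer hx) t (hTP ht)) ht
      have h2 : x * t * x⁻¹ * t⁻¹ * t = x * t * x⁻¹ := by group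
      rwa [h2] at h1
    -- `A = C_P(T)` is a maximal abelian subgroup
    set A : Subgroup X := (P : Subgroup X) ⊓ centralizer (T : Set X) with hA
    have hTA : T ≤ A := le_inf hTP fun t ht => mem_centralizer_iff.2 fun s hs => hT s hs t ht
    have hAab : ∀ x ∈ A, ∀ y ∈ A, x * y = y * x := by
      rintro x ⟨hxP, hxT⟩ y ⟨hyP, hyT⟩
      obtain ⟨i, t, ht, rfl⟩ := hcyc x hxP
      obtain ⟨j, s, hs, rfl⟩ := hcyc y hyP
      have h1 : ∀ r ∈ T, r * (x₀ ^ i * t) = x₀ ^ i * t * r := fun r hr => mem_centralizer_iff.1 hxT r hr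
      have h2 : ∀ r ∈ T, r * (x₀ ^ j * s) = x₀ ^ j * s * r := fun r hr => mem_centralizer_iff.1 hyT r hr
      have h3 : ∀ r ∈ T, Commute r (x₀ ^ i) := by
        intro r hr
        have e1 : Commute r (x₀ ^ i * t) := h1 r hr
        have e2 : Commute r t := hT r hr t ht
        have := e1.mul_right e2.inv_right
        rwa [mul_inv_cancel_right] at this
      have h4 : ∀ r ∈ T, Commute r (x₀ ^ j) := by
        intro r hr
        have e1 : Commute r (x₀ ^ j * s) := h2 r hr
        have e2 : Commute r s := hT r hr s hs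
        have := e1.mul_right e2.inv_right
        rwa [mul_inv_cancel_right] at this
      have h5 : Commute (x₀ ^ i) (x₀ ^ j) := (Commute.refl x₀).zpow_zpow i j
      have h6 : Commute (x₀ ^ i * t) (x₀ ^ j * s) :=
        (h5.mul_right (h3 s hs).symm).mul_left ((h4 t ht).mul_right (hT t ht s hs))
      exact h6.eq
    have hAmax : A ∈ ThompsonJA.maxAbelianIn (P : Subgroup X) := by
      refine mem_maxAbelianIn P.isPGroup' inf_le_left hAab ?_ ?_ x₀ hx₀ ?_
      · rintro x hx a ⟨haP, haT⟩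
        refine ⟨(P : Subgroup X).mul_mem ((P : Subgroup X).mul_mem hx haP) ((P : Subgroup X).inv_mem hx), mem_centralizer_iff.2 fun t ht => ?_⟩
        have h1 := mem_centralizer_iff.1 haT (x⁻¹ * t * x) (by
          have := hTn x⁻¹ (inv_mem hx) t ht
          rwa [inv_inv] at this)
        calc t * (x * a * x⁻¹) = x * (x⁻¹ * t * x * a) * x⁻¹ := by group
          _ = x * (a * (x⁻¹ * t * x)) * x⁻¹ := by rw [h1]
          _ = x * a * x⁻¹ * t := by group
      · exact inf_le_inf_left _ (centralizer_le (by exact_mod_cast hTA))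
      · intro g hg
        obtain ⟨k, t, ht, hg'⟩ := hcyc g hg
        exact ⟨k, t, hTA ht, hg'⟩
    have hAJ := ThompsonJA.le_thompsonSubgroupAOf hAmax
    have hZT : ∀ z ∈ Z, ∀ t ∈ T, t * z = z * t := fun z hz t ht =>
      mem_centralizer_iff.1 (ThompsonJA.centerThompsonAOf_le_centralizer _ hz) t (hAJ (hTA ht))
    -- `X / C(Z)`
    have hPD : (P : Subgroup X) ≤ centralizer (Z : Set X) := by
      set D : Subgroup X := centralizer (Z : Set X) with hD
      have hDn : D.Normal := by rw [hD]; infer_instance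
      have hTD : T ≤ D := fun t ht => mem_centralizer_iff.2 fun z hz => (hZT z hz t ht).symm
      let π : X →* X ⧸ D := QuotientGroup.mk' D
      have hπ : Function.Surjective π := QuotientGroup.mk'_surjective D
      let Q : Sylow p (X ⧸ D) := P.mapSurjective hπ
      have hQ : (Q : Subgroup (X ⧸ D)) = (P : Subgroup X).map π := rfl
      have hπT : ∀ t ∈ T, π t = 1 := fun t ht => (QuotientGroup.eq_one_iff t).2 (hTD ht)
      have hQab : ∀ x ∈ (Q : Subgroup (X ⧸ D)), ∀ y ∈ (Q : Subgroup (X ⧸ D)), x * y = y * x := by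
        rw [hQ]
        rintro _ ⟨x, hx, rfl⟩ _ ⟨y, hy, rfl⟩
        obtain ⟨i, t, ht, rfl⟩ := hcyc x hx
        obtain ⟨j, s, hs, rfl⟩ := hcyc y hy
        rw [map_mul, map_mul, hπT t ht, hπT s hs, mul_one, mul_one, map_zpow, map_zpow]
        exact ((Commute.refl (π x₀)).zpow_zpow i j).eq
      have h1 := abelian_case Q hQab ⊥ (by
        intro y hy g hg
        obtain ⟨m, hm, rfl⟩ := exists_normalizer π hπ P hy
        obtain ⟨x, hx, rfl⟩ := hg
        rw [mem_bot, ← map_inv, ← map_inv, ← map_mul, ← map_mul, ← map_mul]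
        exact hπT _ (hN m hm x hx))
      intro x hx
      have h2 : π x ∈ _root_.commutator (X ⧸ D) ⊓ (Q : Subgroup (X ⧸ D)) := by
        refine ⟨?_, mem_map_of_mem π hx⟩
        have h3 := mem_map_of_mem π (hle hx)
        rw [_root_.commutator_def, map_commutator] at h3
        rw [_root_.commutator_def]
        exact commutator_mono le_top le_top h3
      exact (QuotientGroup.eq_one_iff x).1 (mem_bot.1 (h1 h2))
    have hZc : ∀ z ∈ Z, ∀ x ∈ (P : Subgroup X), z * x = x * z := fun z hz x hx =>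
      mem_centralizer_iff.1 (hPD hx) z hz
    by_cases hTZ : T ⊔ Z = (P : Subgroup X)
    · -- `P` abelian
      have hform : ∀ x ∈ (P : Subgroup X), ∃ t ∈ T, ∃ z ∈ Z, x = t * z := by
        intro x hx
        rw [← hTZ, mem_sup_of_normal_right] at hx
        obtain ⟨t, ht, z, hz, h⟩ := hx
        exact ⟨t, ht, z, hz, h.symm⟩
      have hPab : ∀ x ∈ (P : Subgroup X), ∀ y ∈ (P : Subgroup X), x * y = y * x := by
        intro x hx y hy
        obtain ⟨t, ht, z, hz, rfl⟩ := hform x hx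
        have h1 : ∀ y ∈ (P : Subgroup X), Commute t y := by
          intro y hy
          obtain ⟨s, hs, w, hw, rfl⟩ := hform y hy
          exact (show Commute t s from hT t ht s hs).mul_right (hZc w hw t (hTP ht)).symm
        exact ((h1 y hy).mul_left (hZc z hz y hy)).eq
      have h1 := abelian_case P hPab T hN
      exact hne (le_antisymm hTP fun x hx => h1 ⟨hle hx, hx⟩)
    · -- pass to `X / Z`
      let π : X →* X ⧸ Z := QuotientGroup.mk' Z
      have hπ : Function.Surjective π := QuotientGroup.mk'_surjective Z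
      have hcardq : Nat.card (X ⧸ Z) ≤ n := by
        have h1 : Nat.card Z * Nat.card (X ⧸ Z) = Nat.card X := by
          rw [mul_comm]
          exact (Subgroup.card_eq_card_quotient_mul_card_subgroup _).symm
        have h2 : 1 < Nat.card Z := by
          rw [Subgroup.one_lt_card_iff_ne_bot]; exact hZne
        have h3 : 0 < Nat.card (X ⧸ Z) := Nat.card_pos
        nlinarith
      have hQ : ((P.mapSurjective hπ : Sylow p (X ⧸ Z)) : Subgroup (X ⧸ Z)) = (P : Subgroup X).map π := rfl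
      refine ih (X ⧸ Z) hcardq (fun h => hfree (Lib.Involves.of_quotient h)) (P.mapSurjective hπ) (T.map π) ?_ ?_ ?_
        (π x₀) ?_ ?_ ?_ ?_
      · exact map_mono hTP
      · intro h
        apply hTZ
        have h1 := congrArg (Subgroup.comap π) (h.trans hQ)
        rw [comap_map_eq, comap_map_eq, QuotientGroup.ker_mk'] at h1
        rw [h1, sup_eq_left.2 hZP]
      · rintro _ ⟨a, ha, rfl⟩ _ ⟨b, hb, rfl⟩
        rw [← map_mul, hT a ha b hb, map_mul]
      · exact mem_map_of_mem π hx₀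
      · rintro _ ⟨g, hg, rfl⟩
        obtain ⟨k, t, ht, rfl⟩ := hcyc g hg
        exact ⟨k, π t, mem_map_of_mem π ht, by rw [map_mul, map_zpow]⟩
      · rintro y hy _ ⟨g, hg, rfl⟩
        obtain ⟨m, hm, rfl⟩ := exists_normalizer π hπ P hy
        have := mem_map_of_mem π (hN m hm g hg)
        rwa [map_mul, map_mul, map_mul, map_inv, map_inv] at this
      · rintro _ ⟨x, hx, rfl⟩
        have h3 := mem_map_of_mem π (hle hx)
        rw [_root_.commutator_def, map_commutator] at h3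
        rw [_root_.commutator_def]
        exact commutator_mono le_top le_top h3

/-- **Theorem T.** -/
theorem main_of_not_involves {X : Type*} [Group X] [Finite X] (hp : p ≠ 2) (hfree : ¬ Involves X ↥(Cfsg.qd p))
    (P : Sylow p X) (T : Subgroup X) (hTP : T ≤ (P : Subgroup X)) (hne : T ≠ (P : Subgroup X))
    (hT : ∀ a ∈ T, ∀ b ∈ T, a * b = b * a) (x₀ : X) (hx₀ : x₀ ∈ (P : Subgroup X))
    (hcyc : ∀ g ∈ (P : Subgroup X), ∃ k : ℤ, ∃ t ∈ T, g = x₀ ^ k * t)
    (hN : ∀ n ∈ normalizer ((P : Subgroup X) : Set X), ∀ g ∈ (P : Subgroup X), n * g * n⁻¹ * g⁻¹ ∈ T) :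
    ¬ (P : Subgroup X) ≤ _root_.commutator X :=
  main_aux hp (Nat.card X) X le_rfl hfree P T hTP hne hT x₀ hx₀ hcyc hN

/-- **Theorem T**, for groups with abelian Sylow 2-subgroups. -/
theorem main {X : Type*} [Group X] [Finite X] (hp : p ≠ 2) (hab : QdAbelian.AbTwo X)
    (P : Sylow p X) (T : Subgroup X) (hTP : T ≤ (P : Subgroup X)) (hne : T ≠ (P : Subgroup X))
    (hT : ∀ a ∈ T, ∀ b ∈ T, a * b = b * a) (x₀ : X) (hx₀ : x₀ ∈ (P : Subgroup X))
    (hcyc : ∀ g ∈ (P : Subgroup X), ∃ k : ℤ, ∃ t ∈ T, g = x₀ ^ k * t)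
    (hN : ∀ n ∈ normalizer ((P : Subgroup X) : Set X), ∀ g ∈ (P : Subgroup X), n * g * n⁻¹ * g⁻¹ ∈ T) :
    ¬ (P : Subgroup X) ≤ _root_.commutator X :=
  main_of_not_involves hp (QdAbelian.not_involves_qd hab hp) P T hTP hne hT x₀ hx₀ hcyc hN

end main

end Cfsg.Agent.Walter.LocT
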