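import Cfsg.Agent.Walter.NoFieldLocalMain
import Cfsg.Agent.S0205

/-!
# The abstract local theorem: no field automorphisms
-/

set_option autoImplicit false

namespace Cfsg.Agent.Walter.NoFieldLocal

open Subgroup Cfsg

/-- `G` a finite group whose 2-elements have order at most 2, `p` an odd prime, `φ` a `p`-element, `x ∈ ⟨φ⟩` of order
`p`, `T` a nontrivial abelian `p`-subgroup of `C(φ)` such that `⟨φ⟩T` is a maximal `p`-subgroup of `C(φ)`, `h ∈ C(φ)` of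
odd order acting on `T` as the power map `α`, `α ^ 2` not `1` modulo `p`; `N(⟨y⟩) = C(y)` for `1 ≠ y ∈ ⟨φ⟩`; the
`p`-subgroups of centralizers of involutions are cyclic and their elements of order `p` are conjugate into `⟨x⟩`;
`C(x)` has a normal subgroup of index `p`. Then `G` is not perfect. -/
theorem no_field_local {G : Type*} [Group G] [Finite G] {p : ℕ} [Fact p.Prime]
    (hp2 : p ≠ 2) (hS : ∀ a : G, (∃ k, a ^ 2 ^ k = 1) → a * a = 1) {φ x h : G}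
    {T : Subgroup G} {α : ℕ} (hφ : ∃ b, φ ^ p ^ b = 1) (hx : x ∈ zpowers φ) (hxo : orderOf x = p)
    (hT : IsPGroup p T) (hT1 : T ≠ ⊥) (hTab : ∀ a ∈ T, ∀ b ∈ T, a * b = b * a) (hTφ : ∀ a ∈ T, a * φ = φ * a)
    (hSyl : ∀ R : Subgroup G, IsPGroup p R → zpowers φ ⊔ T ≤ R → R ≤ centralizer {φ} → R ≤ zpowers φ ⊔ T)
    (hhφ : h * φ = φ * h) (hhT : ∀ a ∈ T, h * a * h⁻¹ = a ^ α) (hho : Odd (orderOf h))
    (hα : ¬ α ^ 2 ≡ 1 [MOD p])
    (H2 : ∀ y ∈ zpowers φ, y ≠ 1 → ∀ g : G, g * y * g⁻¹ ∈ zpowers y → g * y = y * g)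
    (H4c : ∀ v : G, orderOf v = 2 → ∀ R : Subgroup G, IsPGroup p R → R ≤ centralizer {v} → IsCyclic R)
    (H4 : ∀ v : G, orderOf v = 2 → ∀ y, y * v = v * y → orderOf y = p → ∃ g : G, g * y * g⁻¹ ∈ zpowers x)
    (H5 : ∃ K : Subgroup (centralizer ({x} : Set G)), K.Normal ∧ K.index = p) : commutator G ≠ ⊤ :=
  no_field_local_aux (fun _ _ _ hK => Cfsg.Agent.S0205.result hK) hp2 hS hφ hx hxo hT hT1 hTab hTφ hSyl hhφ hhT hho hα
    H2 H4c H4 H5

end Cfsg.Agent.Walter.NoFieldLocal
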