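import Cfsg.Agent.Walter.NoFieldLocalPair
import Cfsg.Agent.PLocal.PConstrained

/-!
# The local data: basic facts

`φ` a `p`-element, `T` an abelian `p`-subgroup of `C(φ)` such that `⟨φ⟩T` is a maximal `p`-subgroup of `C(φ)`, `h` an
`r`-element (`r ≠ p`) centralising `φ` and acting as the power map `α` on `T`, `N(⟨y⟩) = C(y)` for `1 ≠ y ∈ ⟨φ⟩`.
-/

set_option autoImplicit false

namespace Cfsg.Agent.Walter.NoFieldLocal

open Subgroup

structure LocData {N : Type*} [Group N] (p r α : ℕ) (φ h : N) (T O : Subgroup N) : Prop where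
  φp : IsPGroup p (zpowers φ)
  φ1 : φ ≠ 1
  Tp : IsPGroup p T
  T1 : T ≠ ⊥
  Tab : ∀ a ∈ T, ∀ b ∈ T, a * b = b * a
  Tφ : ∀ a ∈ T, a * φ = φ * a
  syl : ∀ R : Subgroup N, IsPGroup p R → zpowers φ ⊔ T ≤ R → R ⊓ centralizer {φ} ≤ zpowers φ ⊔ T
  hφ : h * φ = φ * h
  hT : ∀ a ∈ T, h * a * h⁻¹ = a ^ α
  hr : ∃ a : ℕ, orderOf h = r ^ a
  rp : r ≠ p
  α0 : ¬ p ∣ α
  α2 : ¬ α ^ 2 ≡ 1 [MOD p]
  H2 : ∀ y ∈ zpowers φ, y ≠ 1 → ∀ g : N, g * y * g⁻¹ ∈ zpowers y → g * y = y * g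
  On : O.Normal
  Oo : Odd (Nat.card O)
  hO : h ∈ O

section Basic

variable {N : Type*} [Group N] {p : ℕ} [hpf : Fact p.Prime]

theorem eq_one_of_pow_eq {x : N} {k : ℕ} (hx : x ^ p ^ k = 1) {a b : ℕ} (hab : ¬ a ≡ b [MOD p])
    (h : x ^ a = x ^ b) : x = 1 := by
  obtain ⟨j, _, hj⟩ := (Nat.dvd_prime_pow hpf.out).1 (orderOf_dvd_of_pow_eq_one hx)
  have h1 : a ≡ b [MOD orderOf x] := pow_eq_pow_iff_modEq.1 h
  rcases Nat.eq_zero_or_pos j with h0 | h0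
  · rw [h0, pow_zero] at hj
    exact orderOf_eq_one_iff.1 hj
  · exfalso
    apply hab
    refine h1.of_dvd ?_
    rw [hj]
    exact dvd_pow_self p h0.ne'

theorem eq_one_of_pow_eq' {P : Subgroup N} (hP : IsPGroup p P) {x : N} (hx : x ∈ P) {a b : ℕ}
    (hab : ¬ a ≡ b [MOD p]) (h : x ^ a = x ^ b) : x = 1 := by
  obtain ⟨k, hk⟩ := hP ⟨x, hx⟩
  exact eq_one_of_pow_eq (k := k) (congrArg Subtype.val hk) hab h

theorem mem_sup_zpowers {φ : N} {T : Subgroup N} (hT : ∀ a ∈ T, a * φ = φ * a) {y : N}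
    (hy : y ∈ zpowers φ ⊔ T) : ∃ i : ℤ, ∃ t ∈ T, y = φ ^ i * t := by
  have h1 : zpowers φ ≤ normalizer (T : Set N) := by
    rw [zpowers_le, mem_normalizer_iff]
    intro t
    constructor
    · intro ht
      rw [← hT t ht, mul_inv_cancel_right]
      exact ht
    · intro ht
      have h2 := hT _ ht
      have h3 : t = φ * t * φ⁻¹ := by
        have h4 : φ * t = φ * (φ * t * φ⁻¹) := by
          calc φ * t = φ * t * φ⁻¹ * φ := by group
            _ = φ * (φ * t * φ⁻¹) := h2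
        exact mul_left_cancel h4
      rw [h3]; exact ht
  obtain ⟨a, ⟨i, rfl⟩, t, ht, rfl⟩ := exists_mul_of_mem_sup h1 hy
  exact ⟨i, t, ht, rfl⟩

omit hpf in
/-- weights of an abelian group `A ≤ ⟨φ⟩ T` -/
theorem wt_abelian {α : ℕ} {h φ : N} {T A : Subgroup N} (hAp : IsPGroup p A)
    (hA : ∀ a ∈ A, ∃ i : ℤ, ∃ t ∈ T, a = φ ^ i * t) (hTab : ∀ a ∈ T, ∀ b ∈ T, a * b = b * a)
    (hTφ : ∀ a ∈ T, a * φ = φ * a) (hφ : h * φ = φ * h) (hT : ∀ a ∈ T, h * a * h⁻¹ = a ^ α) :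
    Wt p α h ⊥ A := by
  intro B' C' _ hBC hC hhB hhC hCB hne
  have hcommT : ∀ a ∈ T, ∀ i : ℤ, Commute a (φ ^ i) := fun a ha i => Commute.zpow_right (hTφ a ha) i
  have hAc : ∀ a ∈ A, ∀ b ∈ A, Commute a b := by
    intro a ha b hb
    obtain ⟨i, t, ht, rfl⟩ := hA a ha
    obtain ⟨j, s, hs, rfl⟩ := hA b hb
    have c1 := hcommT t ht j
    have c2 := hcommT s hs i
    have c3 : Commute t s := hTab t ht s hs
    have c4 : Commute (φ ^ i) (φ ^ j) := (Commute.refl φ).zpow_zpow i j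
    exact (c4.mul_right c2.symm).mul_left (c1.mul_right c3)
  obtain ⟨c, hc, hcB, hcp⟩ : ∃ c ∈ C', c ∉ B' ∧ c ^ p ∈ B' := by
    obtain ⟨x, hx, hxB⟩ := SetLike.not_le_iff_exists.1 hne
    obtain ⟨k, hk⟩ := hAp ⟨x, hC hx⟩
    have hk' : x ^ p ^ k = 1 := congrArg Subtype.val hk
    have hex : ∃ k, x ^ p ^ k ∈ B' := ⟨k, by rw [hk']; exact one_mem _⟩
    classical
    obtain ⟨m, hm, hmin⟩ := Nat.findX hex
    have hm0 : m ≠ 0 := by
      rintro rfl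
      rw [pow_zero, pow_one] at hm
      exact hxB hm
    obtain ⟨m', rfl⟩ := Nat.exists_eq_succ_of_ne_zero hm0
    refine ⟨x ^ p ^ m', pow_mem hx _, hmin m' (Nat.lt_succ_self _), ?_⟩
    rw [← pow_mul, ← pow_succ]
    exact hm
  obtain ⟨i, t, ht, hct⟩ := hA c (hC hc)
  have hhφ : h * φ ^ i * h⁻¹ = φ ^ i := by
    have h1 : Commute h φ := hφ
    rw [(h1.zpow_right i).eq, mul_inv_cancel_right]
  have hcc : h * c * h⁻¹ * c⁻¹ = t ^ α * t⁻¹ := by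
    have h1 : h * c * h⁻¹ = φ ^ i * t ^ α := by
      rw [hct, ← hT t ht]
      calc h * (φ ^ i * t) * h⁻¹ = (h * φ ^ i * h⁻¹) * (h * t * h⁻¹) := by group
        _ = _ := by rw [hhφ]
    rw [h1, hct]
    have h2 : Commute (t ^ α * t⁻¹) (φ ^ i) :=
      hcommT _ (mul_mem (pow_mem ht α) (inv_mem ht)) i
    calc φ ^ i * t ^ α * (φ ^ i * t)⁻¹ = φ ^ i * (t ^ α * t⁻¹) * (φ ^ i)⁻¹ := by group
      _ = (t ^ α * t⁻¹) * φ ^ i * (φ ^ i)⁻¹ := by rw [h2.eq]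
      _ = _ := by group
  by_cases hcB' : t ^ α * t⁻¹ ∈ B'
  · refine ⟨c, hc, hcB, hcp, 1, Or.inl rfl, ?_⟩
    rw [pow_one, hcc]; exact hcB'
  · have hg : t ^ α * t⁻¹ ∈ C' := by
      rw [← hcc]
      exact mul_mem ((mem_normalizer_iff.1 hhC c).1 hc) (inv_mem hc)
    refine ⟨t ^ α * t⁻¹, hg, hcB', ?_, α, Or.inr rfl, ?_⟩
    · rw [← hcc]
      have h1 : Commute (h * c * h⁻¹) c⁻¹ :=
        hAc _ (hC ((mem_normalizer_iff.1 hhC c).1 hc)) _ (inv_mem (hC hc))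
      rw [h1.mul_pow, conj_pow]
      refine mul_mem ((mem_normalizer_iff.1 hhB _).1 hcp) ?_
      rw [inv_pow]; exact inv_mem hcp
    · rw [hT _ (mul_mem (pow_mem ht α) (inv_mem ht)), mul_inv_cancel]
      exact one_mem _

end Basic

section PairIn

universe u

variable {N : Type u} [Group N] [Finite N] {p : ℕ} [hpf : Fact p.Prime]

/-- the pair theorem inside a group -/
theorem pair_in {α : ℕ} (hα0 : ¬ p ∣ α) (hα2 : ¬ α ^ 2 ≡ 1 [MOD p]) {R T : Subgroup N} {h φ : N}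
    (hRp : IsPGroup p R) (hhR : h ∈ normalizer (R : Set N)) (hh : (orderOf h).Coprime p) (hφR : φ ∈ R)
    (hhφ : h * φ = φ * h) (hCh : ∀ r ∈ R, h * r = r * h → r ∈ zpowers φ)
    (hTab : ∀ a ∈ T, ∀ b ∈ T, a * b = b * a) (hTφ : ∀ a ∈ T, a * φ = φ * a)
    (hT : ∀ a ∈ T, h * a * h⁻¹ = a ^ α) (hTR : T ≤ R) (hCφ : R ⊓ centralizer {φ} ≤ zpowers φ ⊔ T) :
    ∃ M : Subgroup N, M ≤ R ∧ R ≤ normalizer (M : Set N) ∧ (∀ a ∈ M, ∀ b ∈ M, a * b = b * a) ∧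
      (∃ γ : ℕ, γ ≡ α [MOD p] ∧ ∀ m ∈ M, h * m * h⁻¹ = m ^ γ) ∧ ∀ r ∈ R, ∃ m ∈ M, ∃ i : ℤ, r = m * φ ^ i := by
  set X : Subgroup N := R ⊔ zpowers h with hX
  have hRX : R ≤ X := le_sup_left
  have hhX : h ∈ X := mem_sup_right (mem_zpowers h)
  have hXn : X ≤ normalizer (R : Set N) := sup_le le_normalizer (zpowers_le.2 hhR)
  set R' : Subgroup X := R.subgroupOf X with hR'
  set h' : X := ⟨h, hhX⟩ with hh'
  set φ' : X := ⟨φ, hRX hφR⟩ with hφ'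
  have hR'n : R'.Normal := (normal_subgroupOf_iff_le_normalizer hRX).2 hXn
  have hR'p : IsPGroup p R' := hRp.comap_subtype
  have hgen : R' ⊔ zpowers h' = ⊤ := by
    have h1 : zpowers h' = (zpowers h).subgroupOf X := by
      ext x
      rw [mem_subgroupOf, mem_zpowers_iff, mem_zpowers_iff]
      exact exists_congr fun k => by
        rw [Subtype.ext_iff]; rfl
    rw [h1, hR', ← subgroupOf_sup hRX (zpowers_le.2 hhX), ← hX, subgroupOf_self]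
  obtain ⟨M', hM'R, hM'n, hM'c, ⟨γ, hγ, hM'γ⟩, hM'g⟩ := pair_aux p α hα0 hα2 (Nat.card X) rfl R' hR'n hR'p h' φ'
    hgen (by rw [hh', Subgroup.orderOf_mk]; exact hh) (show φ ∈ R from hφR) (Subtype.ext hhφ)
    (by
      intro r hr hcomm
      obtain ⟨k, hk⟩ := hCh r hr (congrArg Subtype.val hcomm)
      exact ⟨k, Subtype.ext hk⟩)
    (by
      refine wt_abelian (T := T.subgroupOf X) (φ := φ') (hR'p.to_inf_left) ?_ ?_ ?_ (Subtype.ext hhφ) ?_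
      · intro a ha
        have h1 : (a : N) ∈ R ⊓ centralizer {φ} := by
          refine mem_inf.2 ⟨ha.1, ?_⟩
          rw [mem_centralizer_singleton_iff]
          exact congrArg Subtype.val (mem_centralizer_singleton_iff.1 ha.2)
        obtain ⟨i, t, ht, hit⟩ := mem_sup_zpowers hTφ (hCφ h1)
        exact ⟨i, ⟨t, hRX (hTR ht)⟩, ht, Subtype.ext hit⟩
      · intro a ha b hb
        exact Subtype.ext (hTab a ha b hb)
      · intro a ha
        exact Subtype.ext (hTφ a ha)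
      · intro a ha
        exact Subtype.ext (hT a ha))
  have hmem : ∀ {m : N}, m ∈ M'.map X.subtype → ∃ hm : m ∈ X, (⟨m, hm⟩ : X) ∈ M' := by
    rintro _ ⟨m, hm, rfl⟩
    exact ⟨m.2, hm⟩
  refine ⟨M'.map X.subtype, ?_, ?_, ?_, ⟨γ, hγ, ?_⟩, ?_⟩
  · rintro _ ⟨m, hm, rfl⟩
    exact hM'R hm
  · intro r hr
    refine normalizer_of_conj_le ?_
    rintro _ ⟨m, hm, rfl⟩
    exact ⟨⟨r, hRX hr⟩ * m * ⟨r, hRX hr⟩⁻¹, hM'n.conj_mem m hm _, rfl⟩
  · intro a ha b hb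
    obtain ⟨ha1, ha2⟩ := hmem ha
    obtain ⟨hb1, hb2⟩ := hmem hb
    exact congrArg Subtype.val (hM'c _ ha2 _ hb2)
  · intro m hm
    obtain ⟨hm1, hm2⟩ := hmem hm
    exact congrArg Subtype.val (hM'γ _ hm2)
  · intro r hr
    obtain ⟨m, hm, i, hi⟩ := hM'g ⟨r, hRX hr⟩ hr
    exact ⟨m, mem_map_of_mem _ hm, i, congrArg Subtype.val hi⟩

end PairIn

section Facts

variable {N : Type*} [Group N] [Finite N] {p r α : ℕ} [hpf : Fact p.Prime] [hrf : Fact r.Prime]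
  {φ h : N} {T O : Subgroup N}

omit [Finite N] hpf hrf in
theorem LocData.Yp (L : LocData p r α φ h T O) : IsPGroup p (zpowers φ ⊔ T : Subgroup N) := by
  refine IsPGroup.to_sup_of_normal_right' L.φp L.Tp ?_
  rw [zpowers_le, mem_normalizer_iff]
  intro t
  constructor
  · intro ht
    rw [← L.Tφ t ht, mul_inv_cancel_right]
    exact ht
  · intro ht
    have h3 : t = φ * t * φ⁻¹ := by
      have h4 : φ * t = φ * (φ * t * φ⁻¹) := by
        calc φ * t = φ * t * φ⁻¹ * φ := by group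
          _ = φ * (φ * t * φ⁻¹) := L.Tφ _ ht
      exact mul_left_cancel h4
    rw [h3]; exact ht

omit [Finite N] in
theorem LocData.hp (L : LocData p r α φ h T O) : (orderOf h).Coprime p := by
  obtain ⟨a, ha⟩ := L.hr
  rw [ha]
  exact Nat.Coprime.pow_left a ((Nat.coprime_primes hrf.out hpf.out).2 L.rp)

omit [Finite N] hpf hrf in
theorem LocData.α1 (L : LocData p r α φ h T O) : ¬ α ≡ 1 [MOD p] := fun h => L.α2 (by simpa using h.pow 2)

omit hrf in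
/-- F2 -/
theorem LocData.fix_mem (L : LocData p r α φ h T O) {R : Subgroup N} (hR : IsPGroup p R)
    (hYR : zpowers φ ⊔ T ≤ R) {x : N} (hx : x ∈ R) (hc : h * x = x * h) : x ∈ zpowers φ := by
  set Ψ : Subgroup N := R ⊓ centralizer {h} with hΨ
  have hΨp : IsPGroup p Ψ := hR.to_inf_left
  have hφΨ : φ ∈ Ψ := mem_inf.2 ⟨hYR (mem_sup_left (mem_zpowers φ)), mem_centralizer_singleton_iff.2 L.hφ.symm⟩
  have hxΨ : x ∈ Ψ := mem_inf.2 ⟨hx, mem_centralizer_singleton_iff.2 hc.symm⟩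
  by_contra hxφ
  have hnil : Group.IsNilpotent Ψ := hΨp.isNilpotent
  have hlt : (zpowers φ).subgroupOf Ψ < ⊤ := by
    rw [lt_top_iff_ne_top]
    intro h1
    exact hxφ ((h1 ▸ mem_top (⟨x, hxΨ⟩ : Ψ) : (⟨x, hxΨ⟩ : Ψ) ∈ (zpowers φ).subgroupOf Ψ))
  obtain ⟨y, hyN, hyφ⟩ := SetLike.exists_of_lt (Group.normalizerCondition_of_isNilpotent _ hlt)
  have h1 : (y : N) * φ * (y : N)⁻¹ ∈ zpowers φ := by
    have h2 := (mem_normalizer_iff.1 hyN (⟨φ, hφΨ⟩ : Ψ)).1 (mem_zpowers φ)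
    exact h2
  have h2 : (y : N) * φ = φ * y := L.H2 φ (mem_zpowers φ) L.φ1 y h1
  have h3 : (y : N) ∈ zpowers φ ⊔ T :=
    L.syl R hR hYR (mem_inf.2 ⟨(mem_inf.1 y.2).1, mem_centralizer_singleton_iff.2 h2⟩)
  obtain ⟨i, t, ht, hit⟩ := mem_sup_zpowers L.Tφ h3
  have h4 : (y : N) * h = h * y := mem_centralizer_singleton_iff.1 (mem_inf.1 y.2).2
  have hhφ : Commute h (φ ^ i) := Commute.zpow_right L.hφ i
  have h5 : t ^ α = t ^ 1 := by
    rw [← L.hT t ht, pow_one]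
    have h6 : h * (φ ^ i * t) = φ ^ i * t * h := by rw [← hit, h4]
    have h7 : φ ^ i * (h * t) = φ ^ i * (t * h) := by
      rw [← mul_assoc, ← hhφ.eq, mul_assoc, h6, mul_assoc]
    have h8 := mul_left_cancel h7
    rw [h8, mul_inv_cancel_right]
  have h6 : t = 1 := eq_one_of_pow_eq' L.Tp ht L.α1 h5
  apply hyφ
  change (y : N) ∈ zpowers φ
  rw [hit, h6, mul_one]
  exact zpow_mem (mem_zpowers φ) i

end Facts

end Cfsg.Agent.Walter.NoFieldLocal
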