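import Cfsg.Agent.Walter.NoFieldLocalBase

/-!
# Four-groups acting on abelian `p`-subgroups; normalizers without four-groups are solvable
-/

set_option autoImplicit false

namespace Cfsg.Agent.Walter.NoFieldLocal

open Subgroup Cfsg

section Cyclic

/-- In a finite cyclic group an element whose order divides that of `b` is a power of `b`. -/
theorem mem_zpowers_of_orderOf_dvd' {C : Type*} [Group C] [Finite C] [IsCyclic C] {a b : C}
    (h : orderOf a ∣ orderOf b) : a ∈ Subgroup.zpowers b := by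
  classical
  have := Fintype.ofFinite C
  have h1 : (Finset.univ.filter (fun x : C => x ^ orderOf b = 1)).card ≤ orderOf b :=
    IsCyclic.card_pow_eq_one_le (orderOf_pos b)
  have h2 : (Finset.univ.filter (fun x : C => x ∈ Subgroup.zpowers b)).card = orderOf b := by
    rw [← Nat.card_zpowers, ← Fintype.card_subtype, Nat.card_eq_fintype_card]
  have h3 : Finset.univ.filter (fun x : C => x ∈ Subgroup.zpowers b) ⊆
      Finset.univ.filter (fun x : C => x ^ orderOf b = 1) := by
    intro x hx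
    rw [Finset.mem_filter] at hx ⊢
    exact ⟨Finset.mem_univ _, orderOf_dvd_iff_pow_eq_one.mp (orderOf_dvd_of_mem_zpowers hx.2)⟩
  have h4 := Finset.eq_of_subset_of_card_le h3 (by rw [h2]; exact h1)
  have h5 : a ∈ Finset.univ.filter (fun x : C => x ^ orderOf b = 1) :=
    Finset.mem_filter.mpr ⟨Finset.mem_univ _, orderOf_dvd_iff_pow_eq_one.mp h⟩
  rw [← h4, Finset.mem_filter] at h5
  exact h5.2

variable {G : Type*} [Group G] [Finite G] {p : ℕ} [hpf : Fact p.Prime]

theorem mem_zpowers_of_cyclic {A : Subgroup G} (hA : IsCyclic A) {a c : G} (ha : a ∈ A) (hc : c ∈ A)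
    (hco : orderOf c = p) (hap : a ^ p = 1) : a ∈ zpowers c := by
  have h1 := mem_zpowers_of_orderOf_dvd' (C := A) (a := ⟨a, ha⟩) (b := ⟨c, hc⟩) (by
    rw [Subgroup.orderOf_mk, Subgroup.orderOf_mk, hco]
    exact orderOf_dvd_of_pow_eq_one hap)
  obtain ⟨k, hk⟩ := h1
  exact ⟨k, congrArg Subtype.val hk⟩

/-- a nontrivial `p`-subgroup contains an element of order `p` -/
theorem exists_orderOf_eq {A : Subgroup G} (hA : IsPGroup p A) (hne : A ≠ ⊥) : ∃ c ∈ A, orderOf c = p := by
  have : Nontrivial A := (Subgroup.nontrivial_iff_ne_bot A).2 hne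
  obtain ⟨n, hn, hcard⟩ := hA.nontrivial_iff_card.1 this
  have hd : p ∣ Nat.card A := by rw [hcard]; exact dvd_pow_self p hn.ne'
  obtain ⟨c, hc⟩ := exists_prime_orderOf_dvd_card' p hd
  exact ⟨c, c.2, by rw [← hc, Subgroup.orderOf_coe]⟩

end Cyclic

section Four

variable {G : Type*} [Group G] [Finite G] {p : ℕ} [hpf : Fact p.Prime] {φ x : G}

/-- an involution normalising a cyclic `p`-group whose elements of order `p` are conjugate into `⟨x⟩` centralises it -/
theorem inv_centralizes (hp2 : p ≠ 2) (hx : x ∈ zpowers φ)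
    (H2 : ∀ y ∈ zpowers φ, y ≠ 1 → ∀ g : G, g * y * g⁻¹ ∈ zpowers y → g * y = y * g)
    {A : Subgroup G} (hAp : IsPGroup p A) (hAc : IsCyclic A)
    (H4 : ∀ y ∈ A, orderOf y = p → ∃ g : G, g * y * g⁻¹ ∈ zpowers x) {z : G} (hz : z * z = 1)
    (hzA : ∀ a ∈ A, z * a * z⁻¹ ∈ A) : ∀ a ∈ A, z * a = a * z := by
  intro a ha
  by_cases hA1 : A = ⊥
  · rw [hA1, mem_bot] at ha
    rw [ha, mul_one, one_mul]
  obtain ⟨c, hc, hco⟩ := exists_orderOf_eq hAp hA1
  have hc1 : c ≠ 1 := by
    rintro rfl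
    rw [orderOf_one] at hco
    exact hpf.out.one_lt.ne hco
  have hzc : z * c = c * z := by
    obtain ⟨g, hg⟩ := H4 c hc hco
    have hgφ : g * c * g⁻¹ ∈ zpowers φ := (zpowers_le.2 hx) hg
    have hne : g * c * g⁻¹ ≠ 1 := fun h => hc1 (by
      have := conj_eq_one_iff.1 h
      exact this)
    have h1 : z * c * z⁻¹ ∈ zpowers c := by
      refine mem_zpowers_of_cyclic hAc (hzA c hc) hc hco ?_
      rw [conj_pow, ← hco, pow_orderOf_eq_one, mul_one, mul_inv_cancel]
    have h2 : (g * z * g⁻¹) * (g * c * g⁻¹) * (g * z * g⁻¹)⁻¹ ∈ zpowers (g * c * g⁻¹) := by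
      obtain ⟨i, hi⟩ := h1
      have hi' : c ^ i = z * c * z⁻¹ := hi
      refine ⟨i, ?_⟩
      change (g * c * g⁻¹) ^ i = _
      rw [conj_zpow, hi']
      group
    have h3 := H2 _ hgφ hne _ h2
    have h4 : g * (z * c) * g⁻¹ = g * (c * z) * g⁻¹ := by
      calc g * (z * c) * g⁻¹ = (g * z * g⁻¹) * (g * c * g⁻¹) := by group
        _ = (g * c * g⁻¹) * (g * z * g⁻¹) := h3
        _ = g * (c * z) * g⁻¹ := by group
    exact mul_left_cancel (mul_right_cancel h4)
  -- `b = [z, a]` is inverted by `z`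
  have hzi : z⁻¹ = z := inv_eq_of_mul_eq_one_right hz
  have hcomm : ∀ a ∈ A, ∀ b ∈ A, a * b = b * a := by
    intro a ha b hb
    have := (IsCyclic.commGroup (α := A)).mul_comm ⟨a, ha⟩ ⟨b, hb⟩
    exact congrArg Subtype.val this
  set b := z * a * z⁻¹ * a⁻¹ with hb
  have hbA : b ∈ A := mul_mem (hzA a ha) (inv_mem ha)
  have hzb : z * b * z⁻¹ = b⁻¹ := by
    have h1 : z * b * z⁻¹ = a * (z * a * z⁻¹)⁻¹ := by
      calc z * b * z⁻¹ = (z * z) * a * (z * z)⁻¹ * (z * a * z⁻¹)⁻¹ := by rw [hb]; group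
        _ = a * (z * a * z⁻¹)⁻¹ := by rw [hz]; group
    rw [h1, hb]; group
  by_contra hne
  have hb1 : b ≠ 1 := by
    intro h1
    apply hne
    rw [hb, mul_inv_eq_one, mul_inv_eq_iff_eq_mul] at h1
    exact h1
  -- a power of `b` of order `p`
  obtain ⟨k, hk⟩ := hAp ⟨b, hbA⟩
  have hk' : b ^ p ^ k = 1 := congrArg Subtype.val hk
  classical
  obtain ⟨m, hm, hmin⟩ := Nat.findX (⟨k, hk'⟩ : ∃ k : ℕ, b ^ p ^ k = 1)
  have hm0 : m ≠ 0 := by
    rintro rfl
    rw [pow_zero, pow_one] at hm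
    exact hb1 hm
  obtain ⟨m', rfl⟩ := Nat.exists_eq_succ_of_ne_zero hm0
  set d := b ^ p ^ m' with hd
  have hd1 : d ≠ 1 := hmin m' (Nat.lt_succ_self _)
  have hdp : d ^ p = 1 := by rw [hd, ← pow_mul, ← pow_succ]; exact hm
  have hdc : d ∈ zpowers c := mem_zpowers_of_cyclic hAc (pow_mem hbA _) hc hco hdp
  have hzd : z * d * z⁻¹ = d := by
    obtain ⟨i, hi⟩ := hdc
    have hi' : c ^ i = d := hi
    have h1 : Commute z c := hzc
    rw [← hi', (h1.zpow_right i).eq, mul_inv_cancel_right]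
  have hzd' : z * d * z⁻¹ = d⁻¹ := by
    rw [hd, ← conj_pow, hzb, inv_pow]
  have h2 : d ^ 2 = 1 := by
    rw [hzd] at hzd'
    rw [pow_two]
    nth_rw 2 [hzd']
    exact mul_inv_cancel d
  have h3 : orderOf d ∣ Nat.gcd 2 p := Nat.dvd_gcd (orderOf_dvd_of_pow_eq_one h2) (orderOf_dvd_of_pow_eq_one hdp)
  rw [(Nat.coprime_primes Nat.prime_two hpf.out).2 (Ne.symm hp2)] at h3
  exact hd1 (orderOf_eq_one_iff.1 (Nat.dvd_one.1 h3))

/-- a four-group normalising an abelian `p`-group centralises it -/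
theorem four_centralizes (hp2 : p ≠ 2) (hx : x ∈ zpowers φ)
    (H2 : ∀ y ∈ zpowers φ, y ≠ 1 → ∀ g : G, g * y * g⁻¹ ∈ zpowers y → g * y = y * g)
    (H4c : ∀ v : G, orderOf v = 2 → ∀ R : Subgroup G, IsPGroup p R → R ≤ centralizer {v} → IsCyclic R)
    (H4 : ∀ v : G, orderOf v = 2 → ∀ y, y * v = v * y → orderOf y = p → ∃ g : G, g * y * g⁻¹ ∈ zpowers x)
    {A : Subgroup G} (hAp : IsPGroup p A) (hAab : ∀ a ∈ A, ∀ b ∈ A, a * b = b * a) {u v : G}
    (hu : orderOf u = 2) (hv : orderOf v = 2) (huv : orderOf (u * v) = 2) (hc : u * v = v * u)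
    (huA : ∀ a ∈ A, u * a * u⁻¹ ∈ A) (hvA : ∀ a ∈ A, v * a * v⁻¹ ∈ A) : A ≤ centralizer {u} := by
  have sq : ∀ w : G, orderOf w = 2 → w * w = 1 := fun w hw => by
    rw [← pow_two, ← hw, pow_orderOf_eq_one]
  have hu2 := sq u hu
  have hv2 := sq v hv
  -- `u` centralises `C_A(w)` for every `w ∈ {u, v, uv}`
  have key : ∀ w : G, orderOf w = 2 → u * w = w * u → ∀ a ∈ A, a * w = w * a → u * a = a * u := by
    intro w hw huw a ha haw
    set Aw : Subgroup G := A ⊓ centralizer {w} with hAw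
    refine inv_centralizes hp2 hx H2 (A := Aw) hAp.to_inf_left
      (H4c w hw Aw hAp.to_inf_left inf_le_right) ?_ hu2 ?_ a
      (mem_inf.2 ⟨ha, mem_centralizer_singleton_iff.2 haw⟩)
    · intro y hy hyo
      exact H4 w hw y (mem_centralizer_singleton_iff.1 (mem_inf.1 hy).2) hyo
    · intro b hb
      obtain ⟨hbA, hbw⟩ := mem_inf.1 hb
      refine mem_inf.2 ⟨huA b hbA, mem_centralizer_singleton_iff.2 ?_⟩
      have h1 := mem_centralizer_singleton_iff.1 hbw
      have h2 : u⁻¹ * w = w * u⁻¹ := by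
        rw [inv_mul_eq_iff_eq_mul, ← mul_assoc, huw, mul_inv_cancel_right]
      calc u * b * u⁻¹ * w = u * b * (u⁻¹ * w) := by group
        _ = u * (b * w) * u⁻¹ := by rw [h2]; group
        _ = (u * w) * b * u⁻¹ := by rw [h1]; group
        _ = w * (u * b * u⁻¹) := by rw [huw]; group
  intro a ha
  rw [mem_centralizer_singleton_iff]
  have hui : u⁻¹ = u := inv_eq_of_mul_eq_one_right hu2
  have hvi : v⁻¹ = v := inv_eq_of_mul_eq_one_right hv2
  obtain ⟨au, hau⟩ : ∃ au, au = u * a * u⁻¹ := ⟨_, rfl⟩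
  obtain ⟨av, hav⟩ : ∃ av, av = v * a * v⁻¹ := ⟨_, rfl⟩
  have hauA : au ∈ A := hau ▸ huA a ha
  have havA : av ∈ A := hav ▸ hvA a ha
  have q1 : u * au * u⁻¹ = a := by
    calc u * au * u⁻¹ = (u * u) * a * (u * u)⁻¹ := by rw [hau]; group
      _ = a := by rw [hu2]; group
  have q2 : v * av * v⁻¹ = a := by
    calc v * av * v⁻¹ = (v * v) * a * (v * v)⁻¹ := by rw [hav]; group
      _ = a := by rw [hv2]; group
  -- the three products
  have e1 : (a * au) * u = u * (a * au) := by
    have h1 : u * (a * au) * u⁻¹ = a * au := by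
      calc u * (a * au) * u⁻¹ = (u * a * u⁻¹) * (u * au * u⁻¹) := by group
        _ = au * a := by rw [q1, ← hau]
        _ = a * au := hAab _ hauA _ ha
    exact (mul_inv_eq_iff_eq_mul.1 h1).symm
  have e2 : (a * av) * v = v * (a * av) := by
    have h1 : v * (a * av) * v⁻¹ = a * av := by
      calc v * (a * av) * v⁻¹ = (v * a * v⁻¹) * (v * av * v⁻¹) := by group
        _ = av * a := by rw [q2, ← hav]
        _ = a * av := hAab _ havA _ ha
    exact (mul_inv_eq_iff_eq_mul.1 h1).symm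
  have e3 : (au * av) * (u * v) = (u * v) * (au * av) := by
    have h1 : (u * v) * (au * av) * (u * v)⁻¹ = au * av := by
      have h2 : (u * v) * au * (u * v)⁻¹ = av := by
        calc (u * v) * au * (u * v)⁻¹ = (v * u) * au * (v * u)⁻¹ := by rw [hc]
          _ = v * (u * au * u⁻¹) * v⁻¹ := by group
          _ = av := by rw [q1, ← hav]
      have h3 : (u * v) * av * (u * v)⁻¹ = au := by
        calc (u * v) * av * (u * v)⁻¹ = u * (v * av * v⁻¹) * u⁻¹ := by group
          _ = au := by rw [q2, ← hau]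
      calc (u * v) * (au * av) * (u * v)⁻¹ = ((u * v) * au * (u * v)⁻¹) * ((u * v) * av * (u * v)⁻¹) := by group
        _ = av * au := by rw [h2, h3]
        _ = au * av := hAab _ havA _ hauA
    exact (mul_inv_eq_iff_eq_mul.1 h1).symm
  have f1 := key u hu rfl _ (mul_mem ha hauA) e1
  have f2 := key v hv hc _ (mul_mem ha havA) e2
  have f3 := key (u * v) huv (by rw [mul_assoc, ← hc]) _ (mul_mem hauA havA) e3
  have f4 : Commute u (a ^ 2) := by
    have h1 : a ^ 2 = (a * au) * (a * av) * (au * av)⁻¹ := by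
      have c1 : au * a = a * au := hAab _ hauA _ ha
      calc a ^ 2 = a * (a * au) * au⁻¹ := by rw [pow_two, mul_assoc, mul_assoc, mul_inv_cancel, mul_one]
        _ = a * (au * a) * au⁻¹ := by rw [c1]
        _ = (a * au) * (a * av) * (au * av)⁻¹ := by group
    rw [h1]
    have g1 : Commute u (a * au) := f1
    have g2 : Commute u (a * av) := f2
    have g3 : Commute u (au * av) := f3
    exact (g1.mul_right g2).mul_right g3.inv_right
  -- `a` is a power of `a ^ 2`
  obtain ⟨k, hk⟩ := hAp ⟨a, ha⟩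
  have hk' : a ^ p ^ k = 1 := congrArg Subtype.val hk
  have hodd : Odd (p ^ k) := (hpf.out.odd_of_ne_two hp2).pow
  obtain ⟨m, hm⟩ := hodd
  have h5 : a = (a ^ 2) ^ (m + 1) := by
    rw [← pow_mul]
    have : 2 * (m + 1) = p ^ k + 1 := by rw [hm]; ring
    rw [this, pow_succ, hk', one_mul]
  have h6 : Commute u a := by
    rw [h5]; exact f4.pow_right _
  exact h6.symm

end Four

section Solv

variable {N : Type*} [Group N] [Finite N]

/-- a group with at most one involution in a Sylow 2-subgroup has a normal subgroup of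
odd order containing all elements of odd order -/
theorem exists_odd_normal (hFT : ∀ O : Subgroup N, Odd (Nat.card O) → Group.IsSolvable O) (hS : ∀ S : Sylow 2 N, ∀ a ∈ (S : Subgroup N), ∀ b ∈ (S : Subgroup N), a ≠ 1 → b ≠ 1 →
    a = b) : Group.IsSolvable N ∧ ∃ O : Subgroup N, O.Normal ∧ Odd (Nat.card O) ∧
      ∀ x : N, Odd (orderOf x) → x ∈ O := by
  obtain ⟨S⟩ : Nonempty (Sylow 2 N) := inferInstance
  have hSc : normalizer ((S : Subgroup N) : Set N) ≤ centralizer ((S : Subgroup N) : Set N) := by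
    intro n hn
    rw [mem_centralizer_iff]
    intro s hs
    by_cases hs1 : s = 1
    · rw [hs1, one_mul, mul_one]
    · have h1 : n * s * n⁻¹ = s := hS S _ ((mem_normalizer_iff.1 hn s).1 hs) _ hs
        (fun h => hs1 (conj_eq_one_iff.1 h)) hs1
      exact (mul_inv_eq_iff_eq_mul.1 h1).symm
  set f := MonoidHom.transferSylow S hSc with hf
  have hcomp := MonoidHom.ker_transferSylow_isComplement' S hSc
  have hodd : Odd (Nat.card f.ker) := by
    have h1 : (S : Subgroup N).index = Nat.card f.ker := hcomp.index_eq_card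
    rw [← h1]
    have h2 := S.not_dvd_index
    rw [← Nat.not_even_iff_odd]
    exact fun h => h2 h.two_dvd
  have hker : Group.IsSolvable f.ker := hFT _ hodd
  have hSs : Group.IsSolvable (S : Subgroup N) := by
    have : Group.IsNilpotent (S : Subgroup N) := S.isPGroup'.isNilpotent
    infer_instance
  refine ⟨?_, f.ker, inferInstance, hodd, fun x hx => ?_⟩
  · exact Group.isSolvable_of_ker_le_range f.ker.subtype f (by rw [range_subtype])
  · rw [MonoidHom.mem_ker]
    obtain ⟨k, hk⟩ := S.isPGroup' (f x)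
    have h1 : orderOf (f x) ∣ Nat.gcd (orderOf x) (2 ^ k) :=
      Nat.dvd_gcd (orderOf_map_dvd f x) (orderOf_dvd_of_pow_eq_one hk)
    have h2 : Nat.gcd (orderOf x) (2 ^ k) = 1 := (Nat.Coprime.pow_right k hx.coprime_two_right)
    rw [h2] at h1
    exact orderOf_eq_one_iff.1 (Nat.dvd_one.1 h1)

end Solv

end Cfsg.Agent.Walter.NoFieldLocal
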