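import Cfsg.Agent.Walter.NoFieldLocalSolv
import Cfsg.Agent.Walter.NoFieldLocalFour
import Cfsg.Agent.Walter.QdAbelian
import Cfsg.Agent.S0118
import Cfsg.Agent.S1242

/-!
# Fusion and transfer for `N(Z(J(P)))`
-/

set_option autoImplicit false

namespace Cfsg.Agent.Walter.NoFieldLocal

open Subgroup Cfsg
open scoped commutatorElement Pointwise

section Syl

variable {G : Type*} [Group G] [Finite G] {p : ℕ} [hpf : Fact p.Prime]

theorem exists_conj_mem_sylow (P : Sylow p G) {N : Subgroup G} (hPN : (P : Subgroup G) ≤ N) {g : G} (hg : g ∈ N)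
    (hgp : ∃ k : ℕ, orderOf g = p ^ k) : ∃ k ∈ N, k * g * k⁻¹ ∈ (P : Subgroup G) := by
  obtain ⟨k, hk⟩ := hgp
  have h1 : IsPGroup p (zpowers (⟨g, hg⟩ : N)) := by
    refine IsPGroup.of_card (n := k) ?_
    rw [Nat.card_zpowers, Subgroup.orderOf_mk, hk]
  obtain ⟨Q, hQ⟩ := h1.exists_le_sylow
  obtain ⟨y, hy⟩ := MulAction.exists_smul_eq N Q (P.subtype hPN)
  refine ⟨y, y.2, ?_⟩
  have h2 : (y * ⟨g, hg⟩ * y⁻¹ : N) ∈ (P.subtype hPN : Subgroup N) := by
    rw [← hy, Sylow.coe_subgroup_smul]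
    exact ⟨⟨g, hg⟩, hQ (mem_zpowers _), rfl⟩
  rw [Sylow.coe_subtype, mem_subgroupOf] at h2
  exact h2

theorem fusion (hp2 : p ≠ 2) (hfree : ¬ ∃ (H K : Subgroup G) (_hK : (K.subgroupOf H).Normal),
    Nonempty ((H ⧸ K.subgroupOf H) ≃* Matrix.SpecialLinearGroup (Fin 2) (ZMod p))) (P : Sylow p G) :
    ∀ g ∈ normalizer (centerThompsonOf p (P : Subgroup G) : Set G), (∃ k : ℕ, orderOf g = p ^ k) → ∀ a : G,
      a * g * a⁻¹ ∈ normalizer (centerThompsonOf p (P : Subgroup G) : Set G) →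
      ∃ h ∈ normalizer (centerThompsonOf p (P : Subgroup G) : Set G), h * g * h⁻¹ = a * g * a⁻¹ := by
  set N := normalizer (centerThompsonOf p (P : Subgroup G) : Set G) with hN
  have hPN : (P : Subgroup G) ≤ N :=
    le_normalizer.trans (PLocal.ZJElem.normalizer_le_normalizer_centerThompsonOf p _)
  intro g hg hgp a ha
  obtain ⟨k1, hk1, h1⟩ := exists_conj_mem_sylow P hPN hg hgp
  obtain ⟨k2, hk2, h2⟩ := exists_conj_mem_sylow P hPN ha (by
    obtain ⟨k, hk⟩ := hgp
    exact ⟨k, by rw [← hk]; exact (MulAut.conj a).orderOf_eq g⟩)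
  obtain ⟨n, hn, hn'⟩ := S0118.result hp2 hfree P {k1 * g * k1⁻¹} (by
    rintro _ rfl
    exact h1) ((k2 * a * k1⁻¹)⁻¹) (by
    rintro _ ⟨_, rfl, rfl⟩
    have h3 : (k2 * a * k1⁻¹)⁻¹⁻¹ * (k1 * g * k1⁻¹) * (k2 * a * k1⁻¹)⁻¹ = k2 * (a * g * a⁻¹) * k2⁻¹ := by group
    change (k2 * a * k1⁻¹)⁻¹⁻¹ * (k1 * g * k1⁻¹) * (k2 * a * k1⁻¹)⁻¹ ∈ (P : Subgroup G)
    rw [h3]
    exact h2)
  have h4 := hn' _ rfl
  refine ⟨k2⁻¹ * n⁻¹ * k1, mul_mem (mul_mem (inv_mem hk2) (inv_mem hn)) hk1, ?_⟩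
  calc k2⁻¹ * n⁻¹ * k1 * g * (k2⁻¹ * n⁻¹ * k1)⁻¹ = k2⁻¹ * (n⁻¹ * (k1 * g * k1⁻¹) * n) * k2 := by group
    _ = k2⁻¹ * ((k2 * a * k1⁻¹)⁻¹⁻¹ * (k1 * g * k1⁻¹) * (k2 * a * k1⁻¹)⁻¹) * k2 := by rw [h4]
    _ = a * g * a⁻¹ := by group

/-- the normalizer of `Z(J(P))` has no abelian `p`-quotient if `G` is perfect -/
theorem no_quot (hp2 : p ≠ 2) (hfree : ¬ ∃ (H K : Subgroup G) (_hK : (K.subgroupOf H).Normal),
    Nonempty ((H ⧸ K.subgroupOf H) ≃* Matrix.SpecialLinearGroup (Fin 2) (ZMod p))) (hperf : commutator G = ⊤)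
    (P : Sylow p G) (K : Subgroup (normalizer (centerThompsonOf p (P : Subgroup G) : Set G))) [hK : K.Normal]
    (hc : commutator (normalizer (centerThompsonOf p (P : Subgroup G) : Set G)) ≤ K)
    (hp : ∀ x : normalizer (centerThompsonOf p (P : Subgroup G) : Set G), ∃ k : ℕ, x ^ p ^ k ∈ K) : K = ⊤ := by
  have hPN : (P : Subgroup G) ≤ normalizer (centerThompsonOf p (P : Subgroup G) : Set G) :=
    le_normalizer.trans (PLocal.ZJElem.normalizer_le_normalizer_centerThompsonOf p _)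
  have hidx : Nat.Coprime p (normalizer (centerThompsonOf p (P : Subgroup G) : Set G)).index := by
    rw [Nat.Prime.coprime_iff_not_dvd hpf.out]
    intro h
    exact P.not_dvd_index (h.trans (index_dvd_of_le hPN))
  have h1 := S1242.result (p := p) _ hidx (fusion hp2 hfree P)
  rw [hperf, sup_top_eq, top_inf_eq] at h1
  have h2 : (pResidual p (normalizer (centerThompsonOf p (P : Subgroup G) : Set G)) ⊔
      commutator (normalizer (centerThompsonOf p (P : Subgroup G) : Set G))) = ⊤ := by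
    rw [eq_top_iff]
    intro x _
    have h3 : (x : G) ∈ (pResidual p (normalizer (centerThompsonOf p (P : Subgroup G) : Set G)) ⊔
      commutator (normalizer (centerThompsonOf p (P : Subgroup G) : Set G))).map
        (normalizer (centerThompsonOf p (P : Subgroup G) : Set G)).subtype := by
      rw [← h1]; exact x.2
    obtain ⟨y, hy, hyx⟩ := h3
    have h4 : y = x := Subtype.ext hyx
    rw [← h4]; exact hy
  rw [eq_top_iff, ← h2]
  refine sup_le ?_ hc
  rw [pResidual, closure_le]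
  intro g hg
  obtain ⟨k, hk⟩ := hp g
  have h3 : (QuotientGroup.mk' K g) ^ p ^ k = 1 := by
    rw [← map_pow]
    exact (QuotientGroup.eq_one_iff _).2 hk
  have h4 : orderOf (QuotientGroup.mk' K g) ∣ Nat.gcd (orderOf g) (p ^ k) :=
    Nat.dvd_gcd (orderOf_map_dvd _ g) (orderOf_dvd_of_pow_eq_one h3)
  have h5 : Nat.gcd (orderOf g) (p ^ k) = 1 := Nat.Coprime.pow_right k hg
  rw [h5] at h4
  exact (QuotientGroup.eq_one_iff g).1 (orderOf_eq_one_iff.1 (Nat.dvd_one.1 h4))

/-- the case `N(Z(J(P))) ≤ C(c)` with `c` conjugate to a generator of `⟨x⟩` -/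
theorem false_of_le_centralizer {x : G} (hxo : orderOf x = p) (P : Sylow p G) {N : Subgroup G}
    (hPN : (P : Subgroup G) ≤ N)
    (hN : ∀ K : Subgroup N, K.Normal → commutator N ≤ K → (∀ x : N, ∃ k : ℕ, x ^ p ^ k ∈ K) → K = ⊤)
    (H5 : ∃ K : Subgroup (centralizer ({x} : Set G)), K.Normal ∧ K.index = p) {c g : G}
    (hco : orderOf c = p) (hc : N ≤ centralizer {c}) (hg : g * c * g⁻¹ ∈ zpowers x) : False := by
  obtain ⟨K, hK, hKi⟩ := H5
  have hxc : x ∈ zpowers (g * c * g⁻¹) := by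
    have h1 : zpowers (g * c * g⁻¹) ≤ zpowers x := zpowers_le.2 hg
    have h2 : Nat.card (zpowers (g * c * g⁻¹)) = Nat.card (zpowers x) := by
      rw [Nat.card_zpowers, Nat.card_zpowers, hxo, ← hco]
      exact (MulAut.conj g).orderOf_eq c
    have h3 := Subgroup.eq_of_le_of_card_ge h1 h2.ge
    rw [h3]; exact mem_zpowers x
  have hτ : ∀ n : N, g * n * g⁻¹ ∈ centralizer ({x} : Set G) := by
    intro n
    rw [mem_centralizer_singleton_iff]
    obtain ⟨j, hj⟩ := hxc
    have hj' : (g * c * g⁻¹) ^ j = x := hj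
    have h1 : Commute (g * n * g⁻¹) (g * c * g⁻¹) := by
      have h2 : (n : G) * c = c * n := mem_centralizer_singleton_iff.1 (hc n.2)
      calc (g * n * g⁻¹) * (g * c * g⁻¹) = g * (n * c) * g⁻¹ := by group
        _ = g * (c * n) * g⁻¹ := by rw [h2]
        _ = (g * c * g⁻¹) * (g * n * g⁻¹) := by group
    rw [← hj']
    exact (h1.zpow_right j).eq
  let τ : N →* centralizer ({x} : Set G) :=
    ((MulAut.conj g).toMonoidHom.comp N.subtype).codRestrict (centralizer ({x} : Set G)) hτ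
  have hKn : (K.comap τ).Normal := hK.comap τ
  have hcomm : commutator (centralizer ({x} : Set G)) ≤ K := by
    have h1 : Nat.card (centralizer ({x} : Set G) ⧸ K) = p := hKi
    have h2 : IsCyclic (centralizer ({x} : Set G) ⧸ K) := isCyclic_of_prime_card h1
    rw [_root_.commutator_def, Subgroup.commutator_le]
    intro a _ b _
    rw [← QuotientGroup.eq_one_iff]
    have h3 : ∀ a b : centralizer ({x} : Set G) ⧸ K, a * b = b * a := fun a b =>
      (IsCyclic.commGroup (α := centralizer ({x} : Set G) ⧸ K)).mul_comm a b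
    have h4 : ((⁅a, b⁆ : centralizer ({x} : Set G)) : centralizer ({x} : Set G) ⧸ K) =
      (a : centralizer ({x} : Set G) ⧸ K) * b * (a : centralizer ({x} : Set G) ⧸ K)⁻¹ *
        (b : centralizer ({x} : Set G) ⧸ K)⁻¹ := rfl
    rw [h4, h3 (a : centralizer ({x} : Set G) ⧸ K) b]
    group
  have htop := hN (K.comap τ) hKn (by
    rw [_root_.commutator_def, Subgroup.commutator_le]
    intro a _ b _
    rw [mem_comap, map_commutatorElement]
    exact hcomm (commutator_mem_commutator (mem_top _) (mem_top _))) (fun n => ⟨1, by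
      rw [pow_one, mem_comap, map_pow, ← hKi]
      exact K.pow_index_mem (τ n)⟩)
  -- then `P^g ≤ K`
  have h1 : Nat.card (P : Subgroup G) ∣ Nat.card K := by
    let f : (P : Subgroup G) →* K := ((τ.comp (Subgroup.inclusion hPN))).codRestrict K (fun y => by
      have : (Subgroup.inclusion hPN y) ∈ K.comap τ := by rw [htop]; trivial
      exact this)
    have hf : Function.Injective f := by
      rw [injective_iff_map_eq_one]
      intro y hy
      have h2 : g * (y : G) * g⁻¹ = 1 := congrArg (fun z : K => ((z : centralizer ({x} : Set G)) : G)) hy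
      exact Subtype.ext (conj_eq_one_iff.1 h2)
    exact Subgroup.card_dvd_of_injective f hf
  have h2 : Nat.card K * p = Nat.card (centralizer ({x} : Set G)) := by
    rw [← hKi]; exact K.card_mul_index
  have h3 : Nat.card (P : Subgroup G) * p ∣ Nat.card (P : Subgroup G) * (P : Subgroup G).index := by
    rw [(P : Subgroup G).card_mul_index]
    refine (Nat.mul_dvd_mul_right h1 p).trans ?_
    rw [h2]
    exact Subgroup.card_subgroup_dvd_card _
  exact P.not_dvd_index (Nat.dvd_of_mul_dvd_mul_left Nat.card_pos h3)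

end Syl

end Cfsg.Agent.Walter.NoFieldLocal
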