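import Cfsg.Agent.Walter.NoFieldLocalFus

/-!
# The abstract local theorem: no field automorphisms
-/

set_option autoImplicit false

namespace Cfsg.Agent.Walter.NoFieldLocal

open Subgroup Cfsg
open scoped commutatorElement

section Num

/-- an exponent `α` of odd multiplicative order with `α ^ 2 ≠ 1` modulo `p`: some odd prime `r ≠ p` such that raising
to an exponent prime to `r` keeps the property -/
theorem exists_prime_exponent {p α k : ℕ} [hpf : Fact p.Prime] (hk : Odd k) (hαk : α ^ k ≡ 1 [MOD p])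
    (hα2 : ¬ α ^ 2 ≡ 1 [MOD p]) :
    ∃ r : ℕ, r.Prime ∧ r ≠ p ∧ r ≠ 2 ∧ ∀ m : ℕ, ¬ r ∣ m → ¬ (α ^ m) ^ 2 ≡ 1 [MOD p] := by
  have hk0 : 0 < k := hk.pos
  have hcast : ∀ j : ℕ, α ^ j ≡ 1 [MOD p] ↔ (α : ZMod p) ^ j = 1 := by
    intro j
    rw [← ZMod.natCast_eq_natCast_iff]
    push_cast
    exact Iff.rfl
  set e := orderOf (α : ZMod p) with he
  have hek : e ∣ k := orderOf_dvd_of_pow_eq_one ((hcast k).1 hαk)
  have heo : Odd e := hk.of_dvd_nat hek
  have he1 : e ≠ 1 := by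
    intro h1
    apply hα2
    rw [hcast]
    rw [orderOf_eq_one_iff.1 h1, one_pow]
  have hα0 : (α : ZMod p) ≠ 0 := by
    intro h0
    have h1 := (hcast k).1 hαk
    rw [h0, zero_pow hk0.ne'] at h1
    exact zero_ne_one h1
  have hep : e ∣ p - 1 := orderOf_dvd_of_pow_eq_one (ZMod.pow_card_sub_one_eq_one hα0)
  refine ⟨e.minFac, Nat.minFac_prime he1, ?_, ?_, ?_⟩
  · intro h1
    have h2 : e.minFac ∣ p - 1 := (Nat.minFac_dvd e).trans hep
    rw [h1] at h2
    have h3 := Nat.le_of_dvd (by have := hpf.out.two_le; omega) h2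
    have := hpf.out.pos
    omega
  · intro h1
    have h2 : 2 ∣ e := h1 ▸ Nat.minFac_dvd e
    exact (Nat.not_even_iff_odd.2 heo) (even_iff_two_dvd.2 h2)
  · intro m hm h1
    rw [← pow_mul, hcast] at h1
    have h2 : e ∣ m * 2 := orderOf_dvd_of_pow_eq_one h1
    have h3 : e ∣ m := (heo.coprime_two_right).dvd_of_dvd_mul_right h2
    exact hm ((Nat.minFac_dvd e).trans h3)

end Num

universe u

section Main

variable {G : Type u} [Group G] [Finite G] {p : ℕ} [hpf : Fact p.Prime]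

theorem no_field_local_aux (hFT : ∀ (K : Type u) [Group K] [Finite K], Odd (Nat.card K) → Group.IsSolvable K)
    (hp2 : p ≠ 2) (hS : ∀ a : G, (∃ k, a ^ 2 ^ k = 1) → a * a = 1) {φ x h : G}
    {T : Subgroup G} {α : ℕ} (hφ : ∃ b, φ ^ p ^ b = 1) (hx : x ∈ zpowers φ) (hxo : orderOf x = p)
    (hT : IsPGroup p T) (hT1 : T ≠ ⊥) (hTab : ∀ a ∈ T, ∀ b ∈ T, a * b = b * a) (hTφ : ∀ a ∈ T, a * φ = φ * a)
    (hSyl : ∀ R : Subgroup G, IsPGroup p R → zpowers φ ⊔ T ≤ R → R ≤ centralizer {φ} → R ≤ zpowers φ ⊔ T)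
    (hhφ : h * φ = φ * h) (hhT : ∀ a ∈ T, h * a * h⁻¹ = a ^ α) (hho : Odd (orderOf h))
    (hα : ¬ α ^ 2 ≡ 1 [MOD p])
    (H2 : ∀ y ∈ zpowers φ, y ≠ 1 → ∀ g : G, g * y * g⁻¹ ∈ zpowers y → g * y = y * g)
    (H4c : ∀ v : G, orderOf v = 2 → ∀ R : Subgroup G, IsPGroup p R → R ≤ centralizer {v} → IsCyclic R)
    (H4 : ∀ v : G, orderOf v = 2 → ∀ y, y * v = v * y → orderOf y = p → ∃ g : G, g * y * g⁻¹ ∈ zpowers x)
    (H5 : ∃ K : Subgroup (centralizer ({x} : Set G)), K.Normal ∧ K.index = p) : commutator G ≠ ⊤ := by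
  intro hperf
  have hp1 := hpf.out.one_lt
  have hφ1 : φ ≠ 1 := by
    rintro rfl
    rw [zpowers_one_eq_bot, mem_bot] at hx
    rw [hx, orderOf_one] at hxo
    omega
  have hφp : IsPGroup p (zpowers φ) := by
    obtain ⟨b, hb⟩ := hφ
    obtain ⟨j, _, hj⟩ := (Nat.dvd_prime_pow hpf.out).1 (orderOf_dvd_of_pow_eq_one hb)
    exact IsPGroup.of_card (n := j) (by rw [Nat.card_zpowers, hj])
  -- an element of order `p` of `T`
  obtain ⟨τ, hτT, hτo⟩ := exists_orderOf_eq hT hT1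
  have hτ1 : τ ≠ 1 := by
    rintro rfl
    rw [orderOf_one] at hτo
    omega
  have hτp : τ ^ p = 1 := by rw [← hτo, pow_orderOf_eq_one]
  have hα0 : ¬ p ∣ α := by
    rintro ⟨c, hc⟩
    have h1 := hhT τ hτT
    rw [hc, pow_mul, hτp, one_pow] at h1
    exact hτ1 (conj_eq_one_iff.1 h1)
  have hconj : ∀ j : ℕ, h ^ j * τ * (h ^ j)⁻¹ = τ ^ (α ^ j) := by
    intro j
    induction j with
    | zero => simp
    | succ j ih =>
      have h1 : h ^ (j + 1) * τ * (h ^ (j + 1))⁻¹ = h * (h ^ j * τ * (h ^ j)⁻¹) * h⁻¹ := by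
        rw [pow_succ' h j]; group
      rw [h1, ih, ← conj_pow, hhT τ hτT, ← pow_mul, ← pow_succ']
  have hαk : α ^ orderOf h ≡ 1 [MOD p] := by
    have h1 := hconj (orderOf h)
    rw [pow_orderOf_eq_one, one_mul, inv_one, mul_one] at h1
    exact (modEq_of_pow_eq_pow hτp hτ1 (by rw [pow_one]; exact h1)).symm
  obtain ⟨r, hr, hrp, hr2, hrm⟩ := exists_prime_exponent hho hαk hα
  have hrf : Fact r.Prime := ⟨hr⟩
  -- the Sylow subgroup
  have hYT : zpowers φ ≤ normalizer (T : Set G) := by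
    rw [zpowers_le]
    refine normalizer_of_conj_le fun t ht => ?_
    rw [← hTφ t ht, mul_inv_cancel_right]
    exact ht
  have hYp : IsPGroup p (zpowers φ ⊔ T : Subgroup G) := IsPGroup.to_sup_of_normal_right' hφp hT hYT
  have hYC : zpowers φ ⊔ T ≤ centralizer {φ} := by
    refine sup_le (zpowers_le.2 (mem_centralizer_singleton_iff.2 rfl)) fun t ht => ?_
    exact mem_centralizer_singleton_iff.2 (hTφ t ht)
  obtain ⟨P, hYP⟩ := hYp.exists_le_sylow
  -- no section `SL(2,p)`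
  have hab : QdAbelian.AbTwo G := by
    intro S hSp a ha b hb
    have h2 : ∀ c ∈ S, c * c = 1 := by
      intro c hc
      refine hS c ?_
      obtain ⟨k, hk⟩ := hSp ⟨c, hc⟩
      exact ⟨k, congrArg Subtype.val hk⟩
    have h3 := h2 _ (mul_mem ha hb)
    have h4 : a⁻¹ = a := inv_eq_of_mul_eq_one_right (h2 a ha)
    have h5 : b⁻¹ = b := inv_eq_of_mul_eq_one_right (h2 b hb)
    calc a * b = (a * b)⁻¹ := (inv_eq_of_mul_eq_one_right h3).symm
      _ = b⁻¹ * a⁻¹ := mul_inv_rev a b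
      _ = b * a := by rw [h4, h5]
  have hfree := QdAbelian.not_exists_sl hab hp2
  set A : Subgroup G := centerThompsonOf p (P : Subgroup G) with hA
  have hAP : A ≤ (P : Subgroup G) := PLocal.ZJElem.centerThompsonOf_le p _
  have hAp : IsPGroup p A := P.isPGroup'.to_le hAP
  have hAab : ∀ a ∈ A, ∀ b ∈ A, a * b = b * a := fun a ha b hb =>
    PLocal.ZJElem.centerThompsonOf_comm ha hb
  have hPN : (P : Subgroup G) ≤ normalizer (A : Set G) :=
    le_normalizer.trans (PLocal.ZJElem.normalizer_le_normalizer_centerThompsonOf p _)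
  have hPbot : (P : Subgroup G) ≠ ⊥ := by
    intro h1
    have h2 : φ ∈ (P : Subgroup G) := hYP (mem_sup_left (mem_zpowers φ))
    rw [h1, mem_bot] at h2
    exact hφ1 h2
  have hA1 : A ≠ ⊥ := S0118.centerThompsonOf_ne_bot P.isPGroup' hPbot
  have hNq : ∀ K : Subgroup (normalizer (A : Set G)), K.Normal → commutator (normalizer (A : Set G)) ≤ K →
      (∀ x : normalizer (A : Set G), ∃ k : ℕ, x ^ p ^ k ∈ K) → K = ⊤ := fun K hK hc hq => by
    have := hK
    exact no_quot hp2 hfree hperf P K hc hq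
  obtain ⟨N, hN⟩ : ∃ N : Subgroup G, N = normalizer (A : Set G) := ⟨_, rfl⟩
  rw [← hN] at hPN hNq
  -- `h` may be taken in `N`
  obtain ⟨n, hn, hnY⟩ : ∃ n ∈ N, ∀ a ∈ zpowers φ ⊔ T, n * a * n⁻¹ = h * a * h⁻¹ := by
    have h1 : ∀ a ∈ zpowers φ ⊔ T, h * a * h⁻¹ ∈ (P : Subgroup G) := by
      intro a ha
      obtain ⟨i, t, ht, rfl⟩ := mem_sup_zpowers hTφ ha
      have h2 : h * φ ^ i * h⁻¹ = φ ^ i := by
        have h3 : Commute h φ := hhφ
        rw [(h3.zpow_right i).eq, mul_inv_cancel_right]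
      have h3 : h * (φ ^ i * t) * h⁻¹ = φ ^ i * t ^ α := by
        rw [← hhT t ht]
        calc h * (φ ^ i * t) * h⁻¹ = (h * φ ^ i * h⁻¹) * (h * t * h⁻¹) := by group
          _ = _ := by rw [h2]
      rw [h3]
      exact hYP (mul_mem (mem_sup_left (zpow_mem (mem_zpowers φ) i)) (mem_sup_right (pow_mem ht α)))
    obtain ⟨n, hn, hn'⟩ := S0118.result hp2 hfree P ((zpowers φ ⊔ T : Subgroup G) : Set G) hYP h⁻¹ (by
      rintro _ ⟨a, ha, rfl⟩
      change h⁻¹⁻¹ * a * h⁻¹ ∈ (P : Subgroup G)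
      rw [inv_inv]
      exact h1 a ha)
    refine ⟨n⁻¹, by rw [hN]; exact inv_mem hn, fun a ha => ?_⟩
    have h2 := hn' a ha
    rw [inv_inv] at h2 ⊢
    exact h2
  obtain ⟨k, m, hm, hkm⟩ := Nat.exists_eq_pow_mul_and_not_dvd (n := orderOf n) (orderOf_pos _).ne' r hr.ne_one
  set n2 := n ^ m with hn2
  have hn2N : n2 ∈ N := pow_mem hn m
  have hn2o : orderOf n2 = r ^ k := by
    have hm0 : m ≠ 0 := by
      rintro rfl
      exact hm (dvd_zero r)
    rw [hn2, orderOf_pow, hkm, Nat.gcd_eq_right (Dvd.intro_left _ rfl), Nat.mul_div_cancel _ (Nat.pos_of_ne_zero hm0)]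
  have hn2φ : n2 * φ = φ * n2 := by
    have h1 : n * φ * n⁻¹ = φ := by
      rw [hnY φ (mem_sup_left (mem_zpowers φ)), hhφ, mul_inv_cancel_right]
    have h2 : Commute n φ := mul_inv_eq_iff_eq_mul.1 h1
    exact (h2.pow_left m).eq
  have hn2T : ∀ a ∈ T, n2 * a * n2⁻¹ = a ^ (α ^ m) := by
    intro a ha
    have h1 : ∀ j : ℕ, n ^ j * a * (n ^ j)⁻¹ = a ^ (α ^ j) := by
      intro j
      induction j with
      | zero => simp
      | succ j ih =>
        have h2 : n ^ (j + 1) * a * (n ^ (j + 1))⁻¹ = n * (n ^ j * a * (n ^ j)⁻¹) * n⁻¹ := by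
          rw [pow_succ' n j]; group
        rw [h2, ih, hnY _ (mem_sup_right (pow_mem ha _)), hhT _ (pow_mem ha _), ← pow_mul, ← pow_succ]
    exact h1 m
  have hα0m : ¬ p ∣ α ^ m := fun h1 => hα0 (hpf.out.dvd_of_dvd_pow h1)
  by_cases hfour : ∃ u ∈ N, ∃ v ∈ N, orderOf u = 2 ∧ orderOf v = 2 ∧ orderOf (u * v) = 2 ∧ u * v = v * u
  · -- a four-group in `N`
    obtain ⟨u, hu, v, hv, huo, hvo, huvo, huv⟩ := hfour
    have hNA : ∀ g ∈ N, ∀ a ∈ A, g * a * g⁻¹ ∈ A := by
      intro g hg a ha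
      rw [hN] at hg
      exact (mem_normalizer_iff.1 hg a).1 ha
    have hAu : A ≤ centralizer {u} :=
      four_centralizes hp2 hx H2 H4c H4 hAp hAab huo hvo huvo huv (hNA u hu) (hNA v hv)
    have hAc : IsCyclic A := H4c u huo A hAp hAu
    obtain ⟨c, hcA, hco⟩ := exists_orderOf_eq hAp hA1
    have hc1 : c ≠ 1 := by
      rintro rfl
      rw [orderOf_one] at hco
      omega
    obtain ⟨g, hg⟩ := H4 u huo c (mem_centralizer_singleton_iff.1 (hAu hcA)) hco
    refine false_of_le_centralizer hxo P hPN hNq H5 hco ?_ hg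
    intro y hy
    rw [mem_centralizer_singleton_iff]
    have h1 : y * c * y⁻¹ ∈ zpowers c := by
      refine mem_zpowers_of_cyclic hAc (hNA y hy c hcA) hcA hco ?_
      rw [conj_pow, ← hco, pow_orderOf_eq_one, mul_one, mul_inv_cancel]
    have h2 : (g * y * g⁻¹) * (g * c * g⁻¹) * (g * y * g⁻¹)⁻¹ ∈ zpowers (g * c * g⁻¹) := by
      obtain ⟨i, hi⟩ := h1
      have hi' : c ^ i = y * c * y⁻¹ := hi
      refine ⟨i, ?_⟩
      change (g * c * g⁻¹) ^ i = _
      rw [conj_zpow, hi']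
      group
    have h3 := H2 _ ((zpowers_le.2 hx) hg) (fun h => hc1 (conj_eq_one_iff.1 h)) _ h2
    have h4 : g * (y * c) * g⁻¹ = g * (c * y) * g⁻¹ := by
      calc g * (y * c) * g⁻¹ = (g * y * g⁻¹) * (g * c * g⁻¹) := by group
        _ = (g * c * g⁻¹) * (g * y * g⁻¹) := h3
        _ = g * (c * y) * g⁻¹ := by group
    exact mul_left_cancel (mul_right_cancel h4)
  · -- `N` is solvable
    have hφN : φ ∈ N := hPN (hYP (mem_sup_left (mem_zpowers φ)))
    have hTN : T ≤ N := le_sup_right.trans (hYP.trans hPN)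
    obtain ⟨hsol, O, hOn, hOo, hOodd⟩ := exists_odd_normal (N := N) (fun O hO => hFT O hO) (by
      intro S a ha b hb ha1 hb1
      by_contra hab
      apply hfour
      have h2 : ∀ c ∈ (S : Subgroup N), (c : G) * c = 1 := by
        intro c hc
        refine hS c ?_
        obtain ⟨k, hk⟩ := S.isPGroup' ⟨c, hc⟩
        exact ⟨k, congrArg (fun z : (S : Subgroup N) => ((z : N) : G)) hk⟩
      have ho : ∀ c ∈ (S : Subgroup N), c ≠ 1 → orderOf (c : G) = 2 := by
        intro c hc hc1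
        refine orderOf_eq_prime (by rw [pow_two]; exact h2 c hc) fun h => hc1 (Subtype.ext h)
      have hcomm : (a : G) * b = b * a := by
        have h3 := h2 _ (mul_mem ha hb)
        have h4 : (a : G)⁻¹ = a := inv_eq_of_mul_eq_one_right (h2 a ha)
        have h5 : (b : G)⁻¹ = b := inv_eq_of_mul_eq_one_right (h2 b hb)
        calc (a : G) * b = ((a : G) * b)⁻¹ := (inv_eq_of_mul_eq_one_right h3).symm
          _ = (b : G)⁻¹ * (a : G)⁻¹ := mul_inv_rev _ _
          _ = b * a := by rw [h4, h5]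
      refine ⟨a, a.2, b, b.2, ho a ha ha1, ho b hb hb1, ho _ (mul_mem ha hb) ?_, hcomm⟩
      intro h1
      apply hab
      have h3 : (a : G) * b = 1 := congrArg Subtype.val h1
      have h4 : (b : G)⁻¹ = b := inv_eq_of_mul_eq_one_right (h2 b hb)
      apply Subtype.ext
      rw [← h4]
      exact eq_inv_of_mul_eq_one_left h3)
    have hinj : ∀ {a b : N}, (a : G) = b → a = b := fun h => Subtype.ext h
    have L : LocData p r (α ^ m) (⟨φ, hφN⟩ : N) (⟨n2, hn2N⟩ : N) (T.subgroupOf N) O := by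
      refine
        { φp := ?_
          φ1 := fun h1 => hφ1 (congrArg Subtype.val h1)
          Tp := hT.comap_subtype
          T1 := ?_
          Tab := fun a ha b hb => hinj (hTab a ha b hb)
          Tφ := fun a ha => hinj (hTφ a ha)
          syl := ?_
          hφ := hinj hn2φ
          hT := fun a ha => hinj (hn2T a ha)
          hr := ⟨k, by rw [Subgroup.orderOf_mk, hn2o]⟩
          rp := hrp
          α0 := hα0m
          α2 := hrm m hm
          H2 := ?_
          On := hOn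
          Oo := hOo
          hO := ?_ }
      · have h1 : IsPGroup p ((zpowers φ).subgroupOf N) := hφp.comap_subtype
        refine h1.to_le ?_
        rw [zpowers_le]
        exact mem_zpowers φ
      · intro h1
        have h2 : (⟨τ, hTN hτT⟩ : N) ∈ T.subgroupOf N := hτT
        rw [h1, mem_bot] at h2
        exact hτ1 (congrArg Subtype.val h2)
      · intro R hR hYR y hy
        obtain ⟨hyR, hyC⟩ := mem_inf.1 hy
        have hYmem : ∀ z : N, (z : G) ∈ zpowers φ ⊔ T → z ∈ zpowers (⟨φ, hφN⟩ : N) ⊔ T.subgroupOf N := by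
          intro z hz
          obtain ⟨i, t, ht, hit⟩ := mem_sup_zpowers hTφ hz
          have h1 : z = (⟨φ, hφN⟩ : N) ^ i * ⟨t, hTN ht⟩ := hinj hit
          rw [h1]
          exact mul_mem (mem_sup_left (zpow_mem (mem_zpowers _) i)) (mem_sup_right ht)
        refine hYmem y (hSyl (R.map N.subtype ⊓ centralizer {φ}) ((hR.map _).to_inf_left) ?_ inf_le_right ?_)
        · refine le_inf (fun z hz => ?_) hYC
          have hzN : z ∈ N := hPN (hYP hz)
          exact ⟨⟨z, hzN⟩, hYR (hYmem ⟨z, hzN⟩ hz), rfl⟩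
        · refine mem_inf.2 ⟨⟨y, hyR, rfl⟩, mem_centralizer_singleton_iff.2 ?_⟩
          exact congrArg Subtype.val (mem_centralizer_singleton_iff.1 hyC)
      · intro y hy hy1 g hg
        obtain ⟨i, rfl⟩ := hy
        refine hinj (H2 _ (zpow_mem (mem_zpowers φ) i) (fun h1 => hy1 (hinj h1)) g ?_)
        obtain ⟨j, hj⟩ := hg
        exact ⟨j, congrArg Subtype.val hj⟩
      · refine hOodd _ ?_
        rw [Subgroup.orderOf_mk, hn2o]
        exact (hr.odd_of_ne_two hr2).pow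
    obtain ⟨K, hK, hφK, hc, hpK⟩ := end_solvable L hsol
    apply hφK
    rw [hNq K hK hc hpK]
    trivial

end Main

end Cfsg.Agent.Walter.NoFieldLocal
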