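import Mathlib
import Cfsg.Agent.OddOrderLocal.GLTwoOdd
import Cfsg.Agent.PLocal.PConstrained
import Cfsg.Agent.Lib.BenderMaximal
import Cfsg.Agent.Lib.Cores
import Cfsg.Agent.Walter.NoFieldLocalPair

/-!
# The reflection step

`B` acts faithfully on an elementary abelian `p`-group `V`, `O_p(B) = 1`, `h` of odd order prime to `p` in a solvable
normal subgroup of odd order acts as `1` on the line `⟨v₁⟩` and as the power map `α` modulo this line, and no
`B`-conjugate of `v₁` is an `α`-eigenvector. Then `h` is central in `B`.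
-/

set_option autoImplicit false

namespace Cfsg.Agent.Walter.NoFieldLocal

open Subgroup Cfsg

section Act

variable {V : Type*} [CommGroup V] {B : Type*} [Group B] (act : B →* MulAut V)

/-- the action on an invariant subgroup -/
def resAct (V0 : Subgroup V) (A : Subgroup B) (hA : ∀ a ∈ A, ∀ v ∈ V0, act a v ∈ V0) : A →* MulAut V0 where
  toFun a :=
    { toFun := fun v => ⟨act a v, hA a a.2 v v.2⟩
      invFun := fun v => ⟨act (a : B)⁻¹ v, hA _ (inv_mem a.2) v v.2⟩
      left_inv := fun v => Subtype.ext (by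
        change act (a : B)⁻¹ (act a v) = v
        rw [← MulAut.mul_apply, ← map_mul, inv_mul_cancel, map_one]; rfl)
      right_inv := fun v => Subtype.ext (by
        change act a (act (a : B)⁻¹ v) = v
        rw [← MulAut.mul_apply, ← map_mul, mul_inv_cancel, map_one]; rfl)
      map_mul' := fun v w => Subtype.ext (by
        change act a (v * w) = act a v * act a w
        rw [map_mul]) }
  map_one' := by
    ext v
    change act 1 v = v
    rw [map_one]; rfl
  map_mul' a b := by
    ext v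
    change act (a * b) v = act a (act b v)
    rw [map_mul]; rfl

theorem resAct_apply (V0 : Subgroup V) (A : Subgroup B) (hA : ∀ a ∈ A, ∀ v ∈ V0, act a v ∈ V0) (a : A) (v : V0) :
    ((resAct act V0 A hA a v : V0) : V) = act a v := rfl

theorem comm_on [Finite V] [Finite B] {p : ℕ} [Fact p.Prime] {A : Subgroup B} (hAo : Odd (Nat.card A))
    (hAs : Group.IsSolvable A) (hAp : (Nat.card A).Coprime p) (hV : ∀ v : V, v ^ p = 1) {V0 : Subgroup V}
    (hV0 : Nat.card V0 ≤ p ^ 2) (hA : ∀ a ∈ A, ∀ v ∈ V0, act a v ∈ V0) {a b : B} (ha : a ∈ A) (hb : b ∈ A)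
    {v : V} (hv : v ∈ V0) : act a (act b v) = act b (act a v) := by
  set ρ := resAct act V0 A hA with hρ
  let a' : A := ⟨a, ha⟩
  let b' : A := ⟨b, hb⟩
  have h1 : a' * b' * a'⁻¹ * b'⁻¹ ∈ commutator A :=
    Subgroup.commutator_mem_commutator (mem_top _) (mem_top _)
  have h2 : ρ (a' * b' * a'⁻¹ * b'⁻¹) ^ p = 1 :=
    OddOrderLocal.GLTwoOdd.mulAut_pow_eq_one_of_mem_commutator hAs hAo
      (fun x y => mul_comm x y) (fun x => Subtype.ext (by simpa using hV x)) hV0 ρ h1
  have h3 : ρ (a' * b' * a'⁻¹ * b'⁻¹) = 1 := by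
    have h4 : orderOf (ρ (a' * b' * a'⁻¹ * b'⁻¹)) ∣ Nat.gcd (Nat.card A) p :=
      Nat.dvd_gcd ((orderOf_map_dvd ρ _).trans (orderOf_dvd_natCard _)) (orderOf_dvd_of_pow_eq_one h2)
    rw [hAp] at h4
    exact orderOf_eq_one_iff.1 (Nat.dvd_one.1 h4)
  have h5 : ρ (a' * b') = ρ (b' * a') := by
    have h6 : a' * b' = (a' * b' * a'⁻¹ * b'⁻¹) * (b' * a') := by group
    rw [h6, map_mul, h3, one_mul]
  have h7 := congrArg (fun f : MulAut V0 => ((f ⟨v, hv⟩ : V0) : V)) h5
  simp only [hρ, resAct_apply] at h7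
  change act (a * b) v = act (b * a) v at h7
  rw [map_mul, map_mul] at h7
  exact h7

end Act

section Refl

variable {V : Type*} [CommGroup V] {p : ℕ} [hpf : Fact p.Prime] {B : Type*} [Group B]
  {act : B →* MulAut V}

omit hpf in
theorem act_inv_apply (g : B) (v : V) : act g (act g⁻¹ v) = v := by
  rw [← MulAut.mul_apply, ← map_mul, mul_inv_cancel, map_one]; rfl

omit hpf in
theorem act_inv_apply' (g : B) (v : V) : act g⁻¹ (act g v) = v := by
  rw [← MulAut.mul_apply, ← map_mul, inv_mul_cancel, map_one]; rfl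

omit hpf in
theorem act_conj_apply (g h : B) (v : V) : act (g * h * g⁻¹) v = act g (act h (act g⁻¹ v)) := by
  rw [map_mul, map_mul]; rfl

/-- data of the reflection step -/
structure ReflHyp (act : B →* MulAut V) (p α : ℕ) (h : B) (v1 : V) : Prop where
  exp : ∀ v : V, v ^ p = 1
  fix : act h v1 = v1
  ne : ¬ α ≡ 1 [MOD p]
  sc : ∀ v, ∃ i : ℤ, act h v = v ^ α * v1 ^ i
  cf : ∀ g, act h (act g v1) ≠ (act g v1) ^ α

variable {α : ℕ} {h : B} {v1 : V}

theorem zpow_mem_of_not_dvd {v w : V} (hv : v ^ p = 1) {k : ℤ} (hk : ¬ (p : ℤ) ∣ k) (h : v ^ k ∈ zpowers w) :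
    v ∈ zpowers w := by
  have h1 : IsCoprime (p : ℤ) k := (Nat.prime_iff_prime_int.1 hpf.out).irreducible.coprime_iff_not_dvd.2 hk
  obtain ⟨a, b, hab⟩ := h1
  have h2 : v = (v ^ k) ^ b := by
    calc v = v ^ (a * p + b * k) := by rw [hab, zpow_one]
      _ = (v ^ (p : ℤ)) ^ a * (v ^ k) ^ b := by rw [zpow_add, mul_comm a, zpow_mul, mul_comm b, zpow_mul]
      _ = (v ^ k) ^ b := by rw [zpow_natCast, hv, one_zpow, one_mul]
  rw [h2]
  exact zpow_mem h b

theorem ReflHyp.fix_mem (H : ReflHyp act p α h v1) {v : V} (hv : act h v = v) : v ∈ zpowers v1 := by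
  obtain ⟨i, hi⟩ := H.sc v
  rw [hv] at hi
  refine zpow_mem_of_not_dvd (H.exp v) (k := (1 : ℤ) - α) ?_ ?_
  · intro hd
    apply H.ne
    rw [← Int.natCast_modEq_iff, Int.modEq_iff_dvd]
    exact_mod_cast hd
  · refine ⟨i, ?_⟩
    change v1 ^ i = v ^ ((1 : ℤ) - α)
    rw [zpow_sub, zpow_one, zpow_natCast, eq_mul_inv_iff_mul_eq, mul_comm]
    exact hi.symm

omit hpf in
theorem ReflHyp.sc' (H : ReflHyp act p α h v1) (g : B) (v : V) :
    ∃ i : ℤ, act (g * h * g⁻¹) v = v ^ α * (act g v1) ^ i := by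
  obtain ⟨i, hi⟩ := H.sc (act g⁻¹ v)
  refine ⟨i, ?_⟩
  rw [act_conj_apply, hi, map_mul, map_pow, map_zpow, act_inv_apply]

theorem ReflHyp.fix_mem' (H : ReflHyp act p α h v1) {g : B} {v : V} (hv : act (g * h * g⁻¹) v = v) :
    v ∈ zpowers (act g v1) := by
  rw [act_conj_apply] at hv
  have h1 : act h (act g⁻¹ v) = act g⁻¹ v := by
    have := congrArg (act g⁻¹) hv
    rwa [act_inv_apply'] at this
  obtain ⟨j, hj⟩ := H.fix_mem h1
  refine ⟨j, ?_⟩
  have h2 := congrArg (act g) hj
  simp only [act_inv_apply] at h2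
  rw [← h2]
  change (act g v1) ^ j = act g (v1 ^ j)
  rw [map_zpow]

omit hpf in
theorem ReflHyp.fix' (H : ReflHyp act p α h v1) (g : B) : act (g * h * g⁻¹) (act g v1) = act g v1 := by
  rw [act_conj_apply, act_inv_apply', H.fix]

/-- commuting reflections have the same line -/
theorem ReflHyp.line (H : ReflHyp act p α h v1) {g : B}
    (hc : act h (act (g * h * g⁻¹) (act g v1)) = act (g * h * g⁻¹) (act h (act g v1))) :
    act g v1 ∈ zpowers v1 := by
  rw [H.fix' g] at hc
  obtain ⟨j, hj⟩ := H.fix_mem' hc.symm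
  obtain ⟨i, hi⟩ := H.sc (act g v1)
  have hj' : act h (act g v1) = (act g v1) ^ j := hj.symm
  by_cases hd : (p : ℤ) ∣ j - α
  · exfalso
    apply H.cf g
    obtain ⟨c, hc'⟩ := hd
    have h1 : j = p * c + α := by linarith
    rw [hj', h1, zpow_add, zpow_mul, zpow_natCast, H.exp, one_zpow, one_mul, zpow_natCast]
  · refine zpow_mem_of_not_dvd (H.exp _) hd ⟨i, ?_⟩
    change v1 ^ i = (act g v1) ^ (j - α)
    rw [zpow_sub, zpow_natCast, eq_mul_inv_iff_mul_eq, mul_comm, ← hi, hj']

/-- conjugate reflections with the same line and a `p'`-quotient are equal -/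
theorem ReflHyp.eq_of_line (H : ReflHyp act p α h v1) (hinj : Function.Injective act) {g : B}
    (hl : act g v1 ∈ zpowers v1) (hz : (orderOf (h⁻¹ * (g * h * g⁻¹))).Coprime p) : g * h * g⁻¹ = h := by
  obtain ⟨k, hk⟩ := hl
  have hk' : act g v1 = v1 ^ k := hk.symm
  have hv1 : act h⁻¹ v1 = v1 := by
    have := congrArg (act h⁻¹) H.fix
    rw [act_inv_apply'] at this
    exact this.symm
  have h1 : ∀ v, ∃ e : ℤ, act (h⁻¹ * (g * h * g⁻¹)) v = v * v1 ^ e := by
    intro v
    obtain ⟨i, hi⟩ := H.sc' g v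
    obtain ⟨j, hj⟩ := H.sc v
    refine ⟨k * i - j, ?_⟩
    have h2 : act (g * h * g⁻¹) v = act h v * v1 ^ (k * i - j) := by
      rw [hi, hj, hk', ← zpow_mul, mul_assoc, ← zpow_add]
      congr 2
      ring
    rw [map_mul, MulAut.mul_apply, h2, map_mul, act_inv_apply', map_zpow, hv1]
  have hzv : act (h⁻¹ * (g * h * g⁻¹)) v1 = v1 := by
    obtain ⟨i, hi⟩ := H.sc' g v1
    -- `v1` lies on the line of `act g v1`
    have hne : act g v1 ≠ 1 := by
      intro h0
      apply H.cf g
      rw [h0, map_one, one_pow]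
    have h3 : v1 ∈ zpowers (act g v1) := by
      refine zpow_mem_of_not_dvd (H.exp v1) (k := k) ?_ ?_
      · rintro ⟨c, hc⟩
        apply hne
        rw [hk', hc, zpow_mul, zpow_natCast, H.exp, one_zpow]
      · rw [← hk']; exact mem_zpowers _
    obtain ⟨m, hm⟩ := h3
    have hm' : v1 = (act g v1) ^ m := hm.symm
    have h4 : act (g * h * g⁻¹) v1 = v1 := by
      calc act (g * h * g⁻¹) v1 = act (g * h * g⁻¹) ((act g v1) ^ m) := by rw [← hm']
        _ = (act (g * h * g⁻¹) (act g v1)) ^ m := map_zpow _ _ _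
        _ = v1 := by rw [H.fix' g, ← hm']
    rw [map_mul, MulAut.mul_apply, h4, hv1]
  set z := h⁻¹ * (g * h * g⁻¹) with hzdef
  have hzp : act (z ^ p) = 1 := by
    ext v
    obtain ⟨e, he⟩ := h1 v
    have h5 : ∀ n : ℕ, act (z ^ n) v = v * v1 ^ (n * e) := by
      intro n
      induction n with
      | zero => simp
      | succ n ih =>
        rw [pow_succ', map_mul, MulAut.mul_apply, ih, map_mul, he, map_zpow, hzv, mul_assoc, ← zpow_add]
        congr 2
        push_cast
        ring
    have h6 := h5 p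
    rw [zpow_mul, zpow_natCast, H.exp, one_zpow, mul_one] at h6
    exact h6
  have hz1 : z = 1 := by
    have h7 : z ^ p = 1 := hinj (by rw [hzp, map_one])
    have h8 : orderOf z ∣ Nat.gcd (orderOf z) p := Nat.dvd_gcd dvd_rfl (orderOf_dvd_of_pow_eq_one h7)
    rw [hz] at h8
    exact orderOf_eq_one_iff.1 (Nat.dvd_one.1 h8)
  rw [hzdef] at hz1
  exact (inv_mul_eq_one.1 hz1).symm

end Refl

section Main

variable {V : Type*} [CommGroup V] [Finite V] {p : ℕ} [hpf : Fact p.Prime] {B : Type*} [Group B] [Finite B]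
  {act : B →* MulAut V} {α : ℕ} {h : B} {v1 : V}

omit hpf [Finite B] in
theorem orderOf_coprime_of_mem {A : Subgroup B} (hA : (Nat.card A).Coprime p) {x : B} (hx : x ∈ A) :
    (orderOf x).Coprime p := by
  refine Nat.Coprime.coprime_dvd_left ?_ hA
  have := orderOf_dvd_natCard (⟨x, hx⟩ : A)
  rwa [Subgroup.orderOf_mk] at this

/-- the reflection step -/
theorem ReflHyp.central (H : ReflHyp act p α h v1) (hinj : Function.Injective act)
    (hcore : ∀ K : Subgroup B, K.Normal → IsPGroup p K → K = ⊥) (O : Subgroup B) (hO : O.Normal)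
    (hOo : Odd (Nat.card O)) (hOs : Group.IsSolvable O) (hhO : h ∈ O) (hhp : (orderOf h).Coprime p) (g : B) :
    g * h = h * g := by
  set E : Subgroup B := (fittingSubgroup O).map O.subtype with hE
  have hEO : E ≤ O := map_subtype_le _
  have hEn : E.Normal := by
    have := Lib.Cores.fittingSubgroup_characteristic (G := O)
    rw [hE]; infer_instance
  have hEp : (Nat.card E).Coprime p := by
    rw [Nat.coprime_comm, Nat.Prime.coprime_iff_not_dvd hpf.out]
    intro hd
    obtain ⟨x, hx⟩ := exists_prime_orderOf_dvd_card' p hd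
    have h1 : IsPGroup p (zpowers (x : B)) := by
      refine IsPGroup.of_card (n := 1) ?_
      rw [Nat.card_zpowers, Subgroup.orderOf_coe, hx, pow_one]
    have h2 := Lib.BenderMaximal.le_map_pCore_of_le_fitting h1 (zpowers_le.2 x.2)
    have h3 : ((pCore p O).map O.subtype).Normal := by
      have := Lib.Cores.pCore_characteristic (G := O) p
      infer_instance
    have h4 := hcore _ h3 ((Lib.Cores.pCore_isPGroup p).map _)
    rw [h4] at h2
    have h5 : (x : B) = 1 := mem_bot.1 (h2 (mem_zpowers _))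
    have h6 : orderOf x = 1 := by
      rw [← Subgroup.orderOf_coe, h5, orderOf_one]
    rw [h6] at hx
    exact hpf.out.one_lt.ne hx
  -- step 1
  have step1 : ∀ u ∈ E, u * h * u⁻¹ = h := by
    intro u hu
    set A : Subgroup B := zpowers h ⊔ E with hA
    have hAO : A ≤ O := sup_le (zpowers_le.2 hhO) hEO
    have hAodd : Odd (Nat.card A) := hOo.of_dvd_nat (Subgroup.card_dvd_of_le hAO)
    have hAp : (Nat.card A).Coprime p := by
      refine Nat.Coprime.coprime_dvd_left (PLocal.PConstrained.card_sup_dvd _ _) ?_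
      rw [Nat.card_zpowers]
      exact hhp.mul_left hEp
    have hhA : h ∈ A := mem_sup_left (mem_zpowers h)
    have huA : u ∈ A := mem_sup_right hu
    have hh'A : u * h * u⁻¹ ∈ A := mul_mem (mul_mem huA hhA) (inv_mem huA)
    set A0 : Subgroup B := closure {h, u * h * u⁻¹} with hA0
    have hA0A : A0 ≤ A := by
      rw [hA0, closure_le]
      rintro x (rfl | rfl)
      · exact hhA
      · exact hh'A
    set V0 : Subgroup V := zpowers v1 ⊔ zpowers (act u v1) with hV0
    have hV0c : Nat.card V0 ≤ p ^ 2 := by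
      refine (Nat.le_of_dvd ?_ (PLocal.PConstrained.card_sup_dvd _ _)).trans ?_
      · exact Nat.mul_pos Nat.card_pos Nat.card_pos
      · rw [Nat.card_zpowers, Nat.card_zpowers, pow_two]
        exact Nat.mul_le_mul (orderOf_le_of_pow_eq_one hpf.out.pos (H.exp _))
          (orderOf_le_of_pow_eq_one hpf.out.pos (H.exp _))
    let S : Subgroup B :=
      { carrier := {a | ∀ v, act a v ∈ V0 ↔ v ∈ V0}
        mul_mem' := fun {a b} ha hb v => by
          rw [map_mul, MulAut.mul_apply, ha, hb]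
        one_mem' := fun v => by rw [map_one]; rfl
        inv_mem' := fun {a} ha v => by
          have := ha (act a⁻¹ v)
          rw [act_inv_apply] at this
          exact this.symm }
    have hS : ∀ a : B, (∀ v ∈ V0, act a v ∈ V0) → a ∈ S := by
      intro a ha
      have h1 : ∀ n : ℕ, ∀ v ∈ V0, act (a ^ n) v ∈ V0 := by
        intro n
        induction n with
        | zero => intro v hv; simpa using hv
        | succ n ih =>
          intro v hv
          rw [pow_succ', map_mul, MulAut.mul_apply]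
          exact ha _ (ih v hv)
      intro v
      refine ⟨fun hv => ?_, ha v⟩
      have h2 := h1 (orderOf a - 1) _ hv
      rw [← MulAut.mul_apply, ← map_mul, ← pow_succ, Nat.sub_add_cancel (orderOf_pos a), pow_orderOf_eq_one,
        map_one] at h2
      exact h2
    have hA0S : A0 ≤ S := by
      rw [hA0, closure_le]
      rintro x (rfl | rfl)
      · refine hS _ fun v hv => ?_
        obtain ⟨i, hi⟩ := H.sc v
        rw [hi]
        exact mul_mem (pow_mem hv _) (zpow_mem (mem_sup_left (mem_zpowers _)) _)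
      · refine hS _ fun v hv => ?_
        obtain ⟨i, hi⟩ := H.sc' u v
        rw [hi]
        exact mul_mem (pow_mem hv _) (zpow_mem (mem_sup_right (mem_zpowers _)) _)
    have hA0s : Group.IsSolvable A0 := by
      have h1 : Function.Injective (Subgroup.inclusion (hA0A.trans hAO)) := Subgroup.inclusion_injective _
      exact Group.isSolvable_of_isSolvable_injective h1
    have hc := comm_on act (hAodd.of_dvd_nat (Subgroup.card_dvd_of_le hA0A)) hA0s
      (Nat.Coprime.coprime_dvd_left (Subgroup.card_dvd_of_le hA0A) hAp) H.exp hV0c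
      (fun a ha v hv => (hA0S ha v).2 hv) (subset_closure (Or.inl rfl) : h ∈ A0)
      (subset_closure (Or.inr rfl) : u * h * u⁻¹ ∈ A0) (v := act u v1) (mem_sup_right (mem_zpowers _))
    refine H.eq_of_line hinj (H.line hc) (orderOf_coprime_of_mem hAp ?_)
    exact mul_mem (inv_mem hhA) hh'A
  have hhE : h ∈ E := by
    refine Lib.BenderMaximal.inf_centralizer_fitting_le hOs (mem_inf.2 ⟨hhO, ?_⟩)
    rw [mem_centralizer_iff]
    intro u hu
    exact mul_inv_eq_iff_eq_mul.1 (step1 u hu)
  have hh'E : g * h * g⁻¹ ∈ E := hEn.conj_mem h hhE g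
  have h1 : (g * h * g⁻¹) * h = h * (g * h * g⁻¹) := mul_inv_eq_iff_eq_mul.1 (step1 _ hh'E)
  have h2 : act h (act (g * h * g⁻¹) (act g v1)) = act (g * h * g⁻¹) (act h (act g v1)) := by
    have h4 := congrArg (fun x => act x (act g v1)) h1
    simp only [map_mul act (g * h * g⁻¹) h, map_mul act h (g * h * g⁻¹), MulAut.mul_apply] at h4
    exact h4.symm
  have h3 := H.eq_of_line hinj (H.line h2) (orderOf_coprime_of_mem hEp (mul_mem (inv_mem hhE) hh'E))
  exact mul_inv_eq_iff_eq_mul.1 h3

end Main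

end Cfsg.Agent.Walter.NoFieldLocal
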