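import Mathlib

/-!
# Weights of an element acting on sections of a group

`Wt p α h B A`: every nontrivial `h`-invariant section between `B` and `A` contains an element of order
dividing `p` on which `h` acts as the power map with exponent `1` or `α`.
-/

set_option autoImplicit false

namespace Cfsg.Agent.Walter.NoFieldLocal

open Subgroup
open scoped Pointwise

variable {X : Type*} [Group X]

/-- weights of `h` on `A / B` lie in `{1, α}` -/
def Wt (p α : ℕ) (h : X) (B A : Subgroup X) : Prop :=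
  ∀ B' C' : Subgroup X, B ≤ B' → B' ≤ C' → C' ≤ A → h ∈ normalizer (B' : Set X) →
    h ∈ normalizer (C' : Set X) → C' ≤ normalizer (B' : Set X) → ¬ C' ≤ B' →
    ∃ g ∈ C', g ∉ B' ∧ g ^ p ∈ B' ∧ ∃ s : ℕ, (s = 1 ∨ s = α) ∧ h * g * h⁻¹ * (g ^ s)⁻¹ ∈ B'

theorem mem_normalizer_inf {h : X} {A B : Subgroup X} (hA : h ∈ normalizer (A : Set X))
    (hB : h ∈ normalizer (B : Set X)) : h ∈ normalizer ((A ⊓ B : Subgroup X) : Set X) := by
  rw [mem_normalizer_iff] at *
  intro n
  rw [mem_inf, mem_inf, hA n, hB n]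

theorem mem_normalizer_sup {h : X} {A B : Subgroup X} (hA : h ∈ normalizer (A : Set X))
    (hB : h ∈ normalizer (B : Set X)) : h ∈ normalizer ((A ⊔ B : Subgroup X) : Set X) := by
  rw [mem_normalizer_iff_map_conj_eq] at *
  rw [Subgroup.map_sup, hA, hB]

theorem exists_mul_of_mem_sup {A B : Subgroup X} (h : A ≤ normalizer (B : Set X)) {x : X}
    (hx : x ∈ A ⊔ B) : ∃ a ∈ A, ∃ b ∈ B, x = a * b := by
  have h1 : ((A ⊔ B : Subgroup X) : Set X) = (A : Set X) * B := Subgroup.coe_mul_of_left_le_normalizer_right A B h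
  have h2 : x ∈ (A : Set X) * B := by rw [← h1]; exact hx
  obtain ⟨a, ha, b, hb, hab⟩ := h2
  exact ⟨a, ha, b, hb, hab.symm⟩

theorem exists_mul_pow {A : Subgroup X} {c a : X} (hc : c ∈ normalizer (A : Set X)) (ha : a ∈ A) (n : ℕ) :
    ∃ b ∈ A, (c * a) ^ n = c ^ n * b := by
  induction n with
  | zero => exact ⟨1, one_mem _, by simp⟩
  | succ n ih =>
    obtain ⟨b, hb, hn⟩ := ih
    refine ⟨c⁻¹ * b * c * a, mul_mem ?_ ha, ?_⟩
    · have := (mem_normalizer_iff''.1 hc b).1 hb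
      exact this
    · rw [pow_succ, hn, pow_succ]; group

theorem Wt.mono {p α : ℕ} {h : X} {B A B₁ A₁ : Subgroup X} (hw : Wt p α h B A) (hB : B ≤ B₁) (hA : A₁ ≤ A) :
    Wt p α h B₁ A₁ := fun B' C' h1 h2 h3 h4 h5 h6 h7 =>
  hw B' C' (hB.trans h1) h2 (h3.trans hA) h4 h5 h6 h7

theorem Wt.trans {p α : ℕ} {h : X} {B A E : Subgroup X} (hBA : B ≤ A) (hAE : A ≤ E)
    (hE : E ≤ normalizer (A : Set X)) (hh : h ∈ normalizer (A : Set X))
    (h1 : Wt p α h B A) (h2 : Wt p α h A E) : Wt p α h B E := by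
  intro B' C' hB hBC hC hhB hhC hCB hne
  by_cases hc : C' ⊓ A ≤ B'
  · have key : ∀ y ∈ C', y ∈ B' ⊔ A → y ∈ B' := by
      intro y hy hyBA
      obtain ⟨b, hb, a, ha, rfl⟩ := exists_mul_of_mem_sup ((hBC.trans hC).trans hE) hyBA
      refine mul_mem hb (hc ⟨?_, ha⟩)
      have := mul_mem (inv_mem (hBC hb)) hy
      rwa [inv_mul_cancel_left] at this
    obtain ⟨g, hg, hgB, hgp, s, hs, hgs⟩ := h2 (B' ⊔ A) (C' ⊔ A) le_sup_right
      (sup_le_sup_right hBC A) (sup_le hC hAE) (mem_normalizer_sup hhB hh)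
      (mem_normalizer_sup hhC hh)
      (sup_le (fun c hc' => mem_normalizer_sup (hCB hc') (hE (hC hc')))
        (le_sup_right.trans le_normalizer))
      (fun hle => hne fun c hc' => key c hc' (hle (le_sup_left (a := C') hc')))
    obtain ⟨c, hcC, a, ha, rfl⟩ := exists_mul_of_mem_sup (hC.trans hE) hg
    have hcN : c ∈ normalizer (A : Set X) := hE (hC hcC)
    have haBA : ∀ a ∈ A, a ∈ B' ⊔ A := fun a ha => mem_sup_right ha
    refine ⟨c, hcC, fun hcB => hgB (mul_mem (mem_sup_left hcB) (haBA a ha)), ?_, s, hs, ?_⟩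
    · refine key _ (pow_mem hcC p) ?_
      obtain ⟨b, hb, hbp⟩ := exists_mul_pow hcN ha p
      rw [hbp] at hgp
      have := mul_mem hgp (inv_mem (haBA b hb))
      rwa [mul_inv_cancel_right] at this
    · refine key _ (mul_mem ((mem_normalizer_iff.1 hhC c).1 hcC) (inv_mem (pow_mem hcC s))) ?_
      obtain ⟨b, hb, hbp⟩ := exists_mul_pow hcN ha s
      rw [hbp] at hgs
      have h3 : h * (c * a) * h⁻¹ * (c ^ s * b)⁻¹ =
          (h * c * h⁻¹ * (c ^ s)⁻¹) * (c ^ s * (h * a * h⁻¹ * b⁻¹) * (c ^ s)⁻¹) := by group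
      rw [h3] at hgs
      have h4 : c ^ s * (h * a * h⁻¹ * b⁻¹) * (c ^ s)⁻¹ ∈ A := by
        refine (mem_normalizer_iff.1 (pow_mem hcN s) _).1 (mul_mem ?_ (inv_mem hb))
        exact (mem_normalizer_iff.1 hh a).1 ha
      have := mul_mem hgs (inv_mem (haBA _ h4))
      rwa [mul_inv_cancel_right] at this
  · obtain ⟨g, hg, hgB, hgp, s, hs, hgs⟩ := h1 (B' ⊓ A) (C' ⊓ A) (le_inf hB hBA)
      (inf_le_inf_right A hBC) inf_le_right (mem_normalizer_inf hhB hh) (mem_normalizer_inf hhC hh)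
      (fun c hc' => mem_normalizer_inf (hCB hc'.1) (le_normalizer hc'.2))
      (fun hle => hc fun c hc' => (hle hc').1)
    exact ⟨g, hg.1, fun h' => hgB ⟨h', hg.2⟩, hgp.1, s, hs, hgs.1⟩

/-- weights pass to the image under a homomorphism -/
theorem Wt.map {p α : ℕ} {h : X} {B A : Subgroup X} {Y : Type*} [Group Y] (f : X →* Y)
    (hf : Function.Surjective f) (hB : f.ker ≤ B) (hBA : B ≤ A) (hw : Wt p α h B A) :
    Wt p α (f h) (B.map f) (A.map f) := by
  intro B' C' hB' hBC hC hhB hhC hCB hne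
  have hN : ∀ {K : Subgroup Y} {x : X}, f x ∈ normalizer (K : Set Y) →
      x ∈ normalizer ((K.comap f : Subgroup X) : Set X) := by
    intro K x hx
    rw [mem_normalizer_iff] at *
    intro n
    rw [mem_comap, mem_comap, hx, map_mul, map_mul, map_inv]
  obtain ⟨g, hg, hgB, hgp, s, hs, hgs⟩ := hw (B'.comap f) (C'.comap f)
    (fun b hb => hB' (mem_map_of_mem f hb)) (comap_mono hBC)
    (fun c hc => by
      obtain ⟨a, ha, hac⟩ := hC (show f c ∈ C' from hc)
      have h1 : a⁻¹ * c ∈ f.ker := by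
        rw [MonoidHom.mem_ker, map_mul, map_inv, hac, inv_mul_cancel]
      have := mul_mem ha (hBA (hB h1))
      rwa [mul_inv_cancel_left] at this)
    (hN hhB) (hN hhC) (fun c hc => hN (hCB hc))
    (fun hle => hne fun c hc => by
      obtain ⟨x, rfl⟩ := hf c
      exact hle (show x ∈ C'.comap f from hc))
  refine ⟨f g, hg, hgB, by rw [← map_pow]; exact hgp, s, hs, ?_⟩
  have := hgs
  rw [mem_comap] at this
  simpa using this

end Cfsg.Agent.Walter.NoFieldLocal
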